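import Cfsg.Agent.Lib.Spor.Fi22Mult.ThreeData

/-!
The test of the labels on a range of points.
-/

set_option autoImplicit false
set_option maxRecDepth 100000
set_option maxHeartbeats 0
set_option Elab.async false

namespace CfsgLib.Spor.Fi22Mult.Three

open CfsgLib.Spor.TC CfsgLib.Spor.MonoCover

theorem range7722 : dat.RangeOK 7722 8580 := Dat.RangeOK.of_test _ (by decide +kernel)

theorem range8580 : dat.RangeOK 8580 9438 := Dat.RangeOK.of_test _ (by decide +kernel)

theorem range9438 : dat.RangeOK 9438 10296 := Dat.RangeOK.of_test _ (by decide +kernel)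

theorem range10296 : dat.RangeOK 10296 11154 := Dat.RangeOK.of_test _ (by decide +kernel)

theorem range11154 : dat.RangeOK 11154 12012 := Dat.RangeOK.of_test _ (by decide +kernel)

theorem range12012 : dat.RangeOK 12012 12870 := Dat.RangeOK.of_test _ (by decide +kernel)

theorem range12870 : dat.RangeOK 12870 13728 := Dat.RangeOK.of_test _ (by decide +kernel)

theorem range13728 : dat.RangeOK 13728 14586 := Dat.RangeOK.of_test _ (by decide +kernel)

theorem range14586 : dat.RangeOK 14586 15444 := Dat.RangeOK.of_test _ (by decide +kernel)

theorem file1 : dat.RangeOK 7722 15444 :=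
  (Dat.RangeOK.append _ (Dat.RangeOK.append _ (Dat.RangeOK.append _ (Dat.RangeOK.append _ (Dat.RangeOK.append _ (Dat.RangeOK.append _ (Dat.RangeOK.append _ (Dat.RangeOK.append _ range7722 range8580) range9438) range10296) range11154) range12012) range12870) range13728) range14586)

end CfsgLib.Spor.Fi22Mult.Three
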