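import Cfsg.Agent.Lib.Spor.Fi22Mult.ThreeData

/-!
The test of the labels on a range of points.
-/

set_option autoImplicit false
set_option maxRecDepth 100000
set_option maxHeartbeats 0
set_option Elab.async false

namespace CfsgLib.Spor.Fi22Mult.Three

open CfsgLib.Spor.TC CfsgLib.Spor.MonoCover

theorem range15444 : dat.RangeOK 15444 16302 := Dat.RangeOK.of_test _ (by decide +kernel)

theorem range16302 : dat.RangeOK 16302 17160 := Dat.RangeOK.of_test _ (by decide +kernel)

theorem range17160 : dat.RangeOK 17160 18018 := Dat.RangeOK.of_test _ (by decide +kernel)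

theorem range18018 : dat.RangeOK 18018 18876 := Dat.RangeOK.of_test _ (by decide +kernel)

theorem range18876 : dat.RangeOK 18876 19734 := Dat.RangeOK.of_test _ (by decide +kernel)

theorem range19734 : dat.RangeOK 19734 20592 := Dat.RangeOK.of_test _ (by decide +kernel)

theorem range20592 : dat.RangeOK 20592 21450 := Dat.RangeOK.of_test _ (by decide +kernel)

theorem range21450 : dat.RangeOK 21450 22308 := Dat.RangeOK.of_test _ (by decide +kernel)

theorem range22308 : dat.RangeOK 22308 23166 := Dat.RangeOK.of_test _ (by decide +kernel)

theorem file2 : dat.RangeOK 15444 23166 :=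
  (Dat.RangeOK.append _ (Dat.RangeOK.append _ (Dat.RangeOK.append _ (Dat.RangeOK.append _ (Dat.RangeOK.append _ (Dat.RangeOK.append _ (Dat.RangeOK.append _ (Dat.RangeOK.append _ range15444 range16302) range17160) range18018) range18876) range19734) range20592) range21450) range22308)

end CfsgLib.Spor.Fi22Mult.Three
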