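import Cfsg.Agent.Lib.Spor.Fi22Mult.ThreeData

/-!
The test of the labels on a range of points.
-/

set_option autoImplicit false
set_option maxRecDepth 100000
set_option maxHeartbeats 0
set_option Elab.async false

namespace CfsgLib.Spor.Fi22Mult.Three

open CfsgLib.Spor.TC CfsgLib.Spor.MonoCover

theorem range23166 : dat.RangeOK 23166 24024 := Dat.RangeOK.of_test _ (by decide +kernel)

theorem range24024 : dat.RangeOK 24024 24882 := Dat.RangeOK.of_test _ (by decide +kernel)

theorem range24882 : dat.RangeOK 24882 25740 := Dat.RangeOK.of_test _ (by decide +kernel)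

theorem range25740 : dat.RangeOK 25740 26598 := Dat.RangeOK.of_test _ (by decide +kernel)

theorem range26598 : dat.RangeOK 26598 27456 := Dat.RangeOK.of_test _ (by decide +kernel)

theorem range27456 : dat.RangeOK 27456 28314 := Dat.RangeOK.of_test _ (by decide +kernel)

theorem range28314 : dat.RangeOK 28314 29172 := Dat.RangeOK.of_test _ (by decide +kernel)

theorem range29172 : dat.RangeOK 29172 30030 := Dat.RangeOK.of_test _ (by decide +kernel)

theorem range30030 : dat.RangeOK 30030 30888 := Dat.RangeOK.of_test _ (by decide +kernel)

theorem file3 : dat.RangeOK 23166 30888 :=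
  (Dat.RangeOK.append _ (Dat.RangeOK.append _ (Dat.RangeOK.append _ (Dat.RangeOK.append _ (Dat.RangeOK.append _ (Dat.RangeOK.append _ (Dat.RangeOK.append _ (Dat.RangeOK.append _ range23166 range24024) range24882) range25740) range26598) range27456) range28314) range29172) range30030)

end CfsgLib.Spor.Fi22Mult.Three
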