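import Cfsg.Agent.Lib.Spor.Fi22Mult.ThreeData

/-!
The test of the labels on a range of points.
-/

set_option autoImplicit false
set_option maxRecDepth 100000
set_option maxHeartbeats 0
set_option Elab.async false

namespace CfsgLib.Spor.Fi22Mult.Three

open CfsgLib.Spor.TC CfsgLib.Spor.MonoCover

theorem range30888 : dat.RangeOK 30888 31746 := Dat.RangeOK.of_test _ (by decide +kernel)

theorem range31746 : dat.RangeOK 31746 32604 := Dat.RangeOK.of_test _ (by decide +kernel)

theorem range32604 : dat.RangeOK 32604 33462 := Dat.RangeOK.of_test _ (by decide +kernel)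

theorem range33462 : dat.RangeOK 33462 34320 := Dat.RangeOK.of_test _ (by decide +kernel)

theorem range34320 : dat.RangeOK 34320 35178 := Dat.RangeOK.of_test _ (by decide +kernel)

theorem range35178 : dat.RangeOK 35178 36036 := Dat.RangeOK.of_test _ (by decide +kernel)

theorem range36036 : dat.RangeOK 36036 36894 := Dat.RangeOK.of_test _ (by decide +kernel)

theorem range36894 : dat.RangeOK 36894 37752 := Dat.RangeOK.of_test _ (by decide +kernel)

theorem range37752 : dat.RangeOK 37752 38610 := Dat.RangeOK.of_test _ (by decide +kernel)

theorem file4 : dat.RangeOK 30888 38610 :=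
  (Dat.RangeOK.append _ (Dat.RangeOK.append _ (Dat.RangeOK.append _ (Dat.RangeOK.append _ (Dat.RangeOK.append _ (Dat.RangeOK.append _ (Dat.RangeOK.append _ (Dat.RangeOK.append _ range30888 range31746) range32604) range33462) range34320) range35178) range36036) range36894) range37752)

end CfsgLib.Spor.Fi22Mult.Three
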