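import Cfsg.Agent.Lib.Spor.Fi22Mult.ThreeData

/-!
The test of the labels on a range of points.
-/

set_option autoImplicit false
set_option maxRecDepth 100000
set_option maxHeartbeats 0
set_option Elab.async false

namespace CfsgLib.Spor.Fi22Mult.Three

open CfsgLib.Spor.TC CfsgLib.Spor.MonoCover

theorem range38610 : dat.RangeOK 38610 39468 := Dat.RangeOK.of_test _ (by decide +kernel)

theorem range39468 : dat.RangeOK 39468 40326 := Dat.RangeOK.of_test _ (by decide +kernel)

theorem range40326 : dat.RangeOK 40326 41184 := Dat.RangeOK.of_test _ (by decide +kernel)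

theorem range41184 : dat.RangeOK 41184 42042 := Dat.RangeOK.of_test _ (by decide +kernel)

theorem range42042 : dat.RangeOK 42042 42900 := Dat.RangeOK.of_test _ (by decide +kernel)

theorem range42900 : dat.RangeOK 42900 43758 := Dat.RangeOK.of_test _ (by decide +kernel)

theorem range43758 : dat.RangeOK 43758 44616 := Dat.RangeOK.of_test _ (by decide +kernel)

theorem range44616 : dat.RangeOK 44616 45474 := Dat.RangeOK.of_test _ (by decide +kernel)

theorem range45474 : dat.RangeOK 45474 46332 := Dat.RangeOK.of_test _ (by decide +kernel)

theorem file5 : dat.RangeOK 38610 46332 :=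
  (Dat.RangeOK.append _ (Dat.RangeOK.append _ (Dat.RangeOK.append _ (Dat.RangeOK.append _ (Dat.RangeOK.append _ (Dat.RangeOK.append _ (Dat.RangeOK.append _ (Dat.RangeOK.append _ range38610 range39468) range40326) range41184) range42042) range42900) range43758) range44616) range45474)

end CfsgLib.Spor.Fi22Mult.Three
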