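import Cfsg.Agent.Lib.Spor.Fi22Mult.ThreeData

/-!
The test of the labels on a range of points.
-/

set_option autoImplicit false
set_option maxRecDepth 100000
set_option maxHeartbeats 0
set_option Elab.async false

namespace CfsgLib.Spor.Fi22Mult.Three

open CfsgLib.Spor.TC CfsgLib.Spor.MonoCover

theorem range46332 : dat.RangeOK 46332 47190 := Dat.RangeOK.of_test _ (by decide +kernel)

theorem range47190 : dat.RangeOK 47190 48048 := Dat.RangeOK.of_test _ (by decide +kernel)

theorem range48048 : dat.RangeOK 48048 48906 := Dat.RangeOK.of_test _ (by decide +kernel)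

theorem range48906 : dat.RangeOK 48906 49764 := Dat.RangeOK.of_test _ (by decide +kernel)

theorem range49764 : dat.RangeOK 49764 50622 := Dat.RangeOK.of_test _ (by decide +kernel)

theorem range50622 : dat.RangeOK 50622 51480 := Dat.RangeOK.of_test _ (by decide +kernel)

theorem range51480 : dat.RangeOK 51480 52338 := Dat.RangeOK.of_test _ (by decide +kernel)

theorem range52338 : dat.RangeOK 52338 53196 := Dat.RangeOK.of_test _ (by decide +kernel)

theorem range53196 : dat.RangeOK 53196 54054 := Dat.RangeOK.of_test _ (by decide +kernel)

theorem file6 : dat.RangeOK 46332 54054 :=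
  (Dat.RangeOK.append _ (Dat.RangeOK.append _ (Dat.RangeOK.append _ (Dat.RangeOK.append _ (Dat.RangeOK.append _ (Dat.RangeOK.append _ (Dat.RangeOK.append _ (Dat.RangeOK.append _ range46332 range47190) range48048) range48906) range49764) range50622) range51480) range52338) range53196)

end CfsgLib.Spor.Fi22Mult.Three
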