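import Cfsg.Agent.Lib.Spor.Fi22Mult.ThreeData

/-!
The test of the labels on a range of points.
-/

set_option autoImplicit false
set_option maxRecDepth 100000
set_option maxHeartbeats 0
set_option Elab.async false

namespace CfsgLib.Spor.Fi22Mult.Three

open CfsgLib.Spor.TC CfsgLib.Spor.MonoCover

theorem range54054 : dat.RangeOK 54054 54912 := Dat.RangeOK.of_test _ (by decide +kernel)

theorem range54912 : dat.RangeOK 54912 55770 := Dat.RangeOK.of_test _ (by decide +kernel)

theorem range55770 : dat.RangeOK 55770 56628 := Dat.RangeOK.of_test _ (by decide +kernel)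

theorem range56628 : dat.RangeOK 56628 57486 := Dat.RangeOK.of_test _ (by decide +kernel)

theorem range57486 : dat.RangeOK 57486 58344 := Dat.RangeOK.of_test _ (by decide +kernel)

theorem range58344 : dat.RangeOK 58344 59202 := Dat.RangeOK.of_test _ (by decide +kernel)

theorem range59202 : dat.RangeOK 59202 60060 := Dat.RangeOK.of_test _ (by decide +kernel)

theorem range60060 : dat.RangeOK 60060 60918 := Dat.RangeOK.of_test _ (by decide +kernel)

theorem range60918 : dat.RangeOK 60918 61776 := Dat.RangeOK.of_test _ (by decide +kernel)

theorem file7 : dat.RangeOK 54054 61776 :=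
  (Dat.RangeOK.append _ (Dat.RangeOK.append _ (Dat.RangeOK.append _ (Dat.RangeOK.append _ (Dat.RangeOK.append _ (Dat.RangeOK.append _ (Dat.RangeOK.append _ (Dat.RangeOK.append _ range54054 range54912) range55770) range56628) range57486) range58344) range59202) range60060) range60918)

end CfsgLib.Spor.Fi22Mult.Three
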