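import Cfsg.Agent.Lib.Spor.Fi22Mult.ThreeRange0
import Cfsg.Agent.Lib.Spor.Fi22Mult.ThreeRange1
import Cfsg.Agent.Lib.Spor.Fi22Mult.ThreeRange2
import Cfsg.Agent.Lib.Spor.Fi22Mult.ThreeRange3
import Cfsg.Agent.Lib.Spor.Fi22Mult.ThreeRange4
import Cfsg.Agent.Lib.Spor.Fi22Mult.ThreeRange5
import Cfsg.Agent.Lib.Spor.Fi22Mult.ThreeRange6
import Cfsg.Agent.Lib.Spor.Fi22Mult.ThreeRange7
import Cfsg.Agent.Lib.Spor.MonoCover.Group

/-!
The tables pass the tests.
-/

set_option autoImplicit false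
set_option maxRecDepth 100000
set_option maxHeartbeats 0
set_option Elab.async false

namespace CfsgLib.Spor.Fi22Mult.Three

open CfsgLib.Spor.TC CfsgLib.Spor.MonoCover

theorem checked : dat.Checked :=
  ⟨(Dat.RangeOK.append _ (Dat.RangeOK.append _ (Dat.RangeOK.append _ (Dat.RangeOK.append _ (Dat.RangeOK.append _ (Dat.RangeOK.append _ (Dat.RangeOK.append _ file0 file1) file2) file3) file4) file5) file6) file7), by decide +kernel⟩

end CfsgLib.Spor.Fi22Mult.Three
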