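import Cfsg.Agent.Lib.Spor.Fi22Mult.TwoAll
import Cfsg.Agent.Lib.Spor.Fi22Mult.ThreeAll
import Cfsg.Agent.Lib.Spor.Fi22.Order

/-!
The double and the triple cover of Fi22.
-/

set_option autoImplicit false
set_option maxRecDepth 100000

namespace CfsgLib.Spor.Fi22Mult

open CfsgLib.Spor.TC CfsgLib.Spor.MonoCover

theorem two_cover : ∃ (Γ : Type) (_ : Group Γ) (_ : Finite Γ) (σ : Γ →* Cfsg.Spor.Fi22),
    Cfsg.IsStemExtension σ ∧ Nat.card σ.ker = 2 := by
  obtain ⟨e, -⟩ := Fi22.exists_equiv_gen
  haveI : IsSimpleGroup (Pres Two.dat.k Two.dat.rels) := Fi22.simple_fi22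
  have he : ((([1, 2, 3, 4, 5, 6, 7], 9), 1) : PowRel × ℕ) ∈ Two.dat.relShift := by decide +kernel
  have he0 : ((([0, 1, 2, 3, 4, 5, 7], 9), 0) : PowRel × ℕ) ∈ Two.dat.relShift := by decide +kernel
  have hb : ∀ x y : ℕ, x < 9 → y < 9 → ((([x, y], 3), 0) : PowRel × ℕ) ∈ Two.dat.relShift →
      Abelianization.of (gam Two.checked x) = Abelianization.of (gam Two.checked y) := by
    intro x y _ _ hm
    have h1 : ev (gam Two.checked) [x, y] ^ 3 = 1 := Subtype.ext (by
      rw [Subgroup.coe_pow, ev_gam]
      exact (ev_rel Two.checked hm).trans (pow_zero _))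
    have h2 := congrArg (Abelianization.of) h1
    simp only [ev, List.map_cons, List.map_nil, List.prod_cons, List.prod_nil, mul_one, map_pow, map_mul,
      map_one] at h2
    have hx : Abelianization.of (gam Two.checked x) * Abelianization.of (gam Two.checked x) = 1 := by
      rw [← map_mul, gam_sq, map_one]
    have hy : Abelianization.of (gam Two.checked y) * Abelianization.of (gam Two.checked y) = 1 := by
      rw [← map_mul, gam_sq, map_one]
    generalize Abelianization.of (gam Two.checked x) = a at hx h2 ⊢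
    generalize Abelianization.of (gam Two.checked y) = b at hy h2 ⊢
    have h3 : a * b = 1 := by
      calc a * b = (a * b) ^ 3 * ((a * a) * (b * b))⁻¹ := by
            rw [mul_mul_mul_comm a a b b, ← pow_two, show (3 : ℕ) = 1 + 2 from rfl, pow_add, pow_one,
              mul_inv_cancel_right]
        _ = 1 := by rw [h2, hx, hy, mul_one, inv_one, mul_one]
    calc a = a * (b * b) := by rw [hy, mul_one]
      _ = b := by rw [← mul_assoc, h3, one_mul]
  refine exists_stem Two.checked (shift_mem Two.checked he rfl) Nat.prime_two (x := 0) (c := 0) (by decide)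
    (by decide) (by decide +kernel) e ?_
  rw [← Abelianization.ker_of, MonoidHom.mem_ker]
  set θ := (Abelianization.of : Cover Two.checked →* _)
  have c01 := hb 0 1 (by decide) (by decide) (by decide +kernel)
  have c12 := hb 1 2 (by decide) (by decide) (by decide +kernel)
  have c23 := hb 2 3 (by decide) (by decide) (by decide +kernel)
  have c34 := hb 3 4 (by decide) (by decide) (by decide +kernel)
  have c45 := hb 4 5 (by decide) (by decide) (by decide +kernel)
  have c56 := hb 5 6 (by decide) (by decide) (by decide +kernel)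
  have c37 := hb 3 7 (by decide) (by decide) (by decide +kernel)
  have hW : ev (gam Two.checked) [1, 2, 3, 4, 5, 6, 7] ^ 9 = zed Two.checked (shift_mem Two.checked he rfl) :=
    Subtype.ext (by rw [Subgroup.coe_pow, ev_gam]; exact (ev_rel Two.checked he).trans (pow_one _))
  have hV : ev (gam Two.checked) [0, 1, 2, 3, 4, 5, 7] ^ 9 = 1 :=
    Subtype.ext (by rw [Subgroup.coe_pow, ev_gam]; exact (ev_rel Two.checked he0).trans (pow_zero _))
  rw [← hW, ← map_one θ, ← hV]
  simp only [ev, List.map_cons, List.map_nil, List.prod_cons, List.prod_nil, mul_one, map_pow, map_mul, θ,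
    c01, c12, c23, c34, c45, c56, ← c37]

theorem three_cover : ∃ (Γ : Type) (_ : Group Γ) (_ : Finite Γ) (σ : Γ →* Cfsg.Spor.Fi22),
    Cfsg.IsStemExtension σ ∧ Nat.card σ.ker = 3 := by
  obtain ⟨e, -⟩ := Fi22.exists_equiv_gen
  haveI : IsSimpleGroup (Pres Three.dat.k Three.dat.rels) := Fi22.simple_fi22
  have he : ((([3, 2, 1, 3, 4, 5, 3, 7, 8], 10), 1) : PowRel × ℕ) ∈ Three.dat.relShift := by decide +kernel
  refine exists_stem Three.checked (shift_mem Three.checked he rfl) Nat.prime_three (x := 0) (c := 8) (by decide)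
    (by decide) (by decide +kernel) e ?_
  rw [← Abelianization.ker_of, MonoidHom.mem_ker]
  set θ := (Abelianization.of : Cover Three.checked →* _)
  have hall : ∀ g : Cover Three.checked, θ g ^ 2 = 1 := fun g => by
    have hg : g ∈ Subgroup.closure (gam Three.checked '' Set.Iio Three.dat.k) := by rw [closure_gam]; trivial
    refine Subgroup.closure_induction ?_ (by simp) (fun a b _ _ ha hb => by rw [map_mul, mul_pow, ha, hb, one_mul])
      (fun a _ ha => by rw [map_inv, inv_pow, ha, inv_one]) hg
    rintro _ ⟨x, -, rfl⟩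
    rw [← map_pow, pow_two, gam_sq, map_one]
  set z := zed Three.checked (shift_mem Three.checked he rfl)
  have h3 : θ z ^ 3 = 1 := by
    rw [← map_pow, show z ^ 3 = 1 from zed_pow Three.checked _, map_one]
  rw [show θ z = θ z ^ 3 * (θ z ^ 2)⁻¹ by group, h3, hall, inv_one, mul_one]

end CfsgLib.Spor.Fi22Mult
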