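import Cfsg.Agent.Lib.Spor.SchurCert.ActBridge
import Cfsg.Agent.Lib.Spor.Fi22.ActH.Data
import Cfsg.Agent.Lib.Spor.Fi22Mult.ChainData
import Cfsg.Agent.Lib.Spor.SchurCert.LinPacked
import Cfsg.Agent.Lib.Spor.SchurCert.StrictChecks

/-!
The certificate at the prime 3: a polycyclic sequence of a Sylow subgroup and conjugations killing the tails.
-/

set_option autoImplicit false
set_option maxRecDepth 100000
set_option maxHeartbeats 0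
set_option Elab.async false

namespace CfsgLib.Spor.Fi22Mult.P3

open CfsgLib.Spor.TC CfsgLib.Spor.ActCert CfsgLib.Spor.SchurCert

/-- The Sylow elements. -/
def sw : List (List ℕ) := [
    [7, 8, 4, 2, 3, 7, 5, 4, 3, 2, 1, 7, 8, 1, 2, 3, 7, 6, 5, 4, 3, 2, 1, 0, 1, 2, 3, 4, 5, 6, 7, 3, 2, 1, 8, 7, 4, 3, 1, 2, 0, 1, 0, 1, 0, 2, 1, 3, 4, 8, 4, 3, 7, 5, 4, 3, 1, 2, 0, 1, 0, 1, 0, 2, 1, 3, 4, 5, 7, 3, 4, 3, 7, 5, 4, 3, 1, 2, 0, 1, 0, 1, 0, 2, 1, 3, 4, 5, 7, 3, 8, 1, 2, 3, 7, 5, 4, 3, 2, 1, 0, 1, 2, 3, 4, 5, 7, 3, 2, 1, 7, 8, 3, 7, 4, 3, 1, 2, 0, 1, 0, 1, 0, 2, 1, 3, 4, 7, 3, 8, 7, 8, 7, 4, 2, 3, 1, 2, 0, 1, 0, 1, 0, 2, 1, 3, 2, 4, 6, 5, 4, 2, 3, 1, 2, 0, 1, 0, 1, 0, 2, 1, 3, 2, 4, 5, 6, 4, 2, 3, 1, 2, 0, 1, 0, 1, 0, 2, 1, 3, 2, 4, 7, 8, 2, 3, 4, 1, 2, 3, 7, 5, 4, 3, 2, 1, 0, 1, 2, 3, 4, 5, 7, 3, 2, 1, 4, 3, 2, 8, 7, 6, 5, 4, 2, 3, 1,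 2, 0, 1, 0, 1, 0, 2, 1, 3, 2, 4, 5, 6, 7, 8, 5, 4, 2, 3, 1, 2, 0, 1, 0, 1, 0, 2, 1, 3, 2, 4, 5, 8, 3, 7, 2, 3, 1, 2, 0, 1, 0, 1, 0, 2, 1, 3, 2, 7, 3, 8, 3, 4, 2, 3, 7, 8, 1, 2, 3, 7, 4, 3, 2, 1, 0, 1, 2, 3, 4, 7, 3, 2, 1, 8, 7, 1, 2, 0, 1, 0, 1, 0, 2, 1, 3, 2, 4, 3, 5, 3, 4, 2, 3, 1, 2, 0, 1, 0, 1, 0, 2, 1, 3, 2, 4, 3, 5, 3, 7, 2, 3, 1, 2, 0, 1, 0, 1, 0, 2, 1, 3, 2, 7, 4, 2, 3, 7, 8, 1, 2, 3, 7, 4, 3, 2, 1, 0, 1, 2, 3, 4, 7, 3, 2, 1, 8, 7, 3, 2, 4, 3, 6, 5, 3, 4, 2, 3, 1, 2, 0, 1, 0, 1, 0, 2, 1, 3, 2, 4, 3, 5, 6, 8, 3, 7, 2, 3, 1, 2, 0, 1, 0, 1, 0, 2, 1, 3, 2, 7, 3, 8, 3, 4, 2, 3, 1, 2, 0, 1, 0, 1, 0, 2, 1, 3, 2, 4, 3, 5, 3, 4, 2, 3, 1, 2, 0, 1, 0, 1, 0, 2, 1, 3, 2, 4, 3, 5],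
    [8, 6, 5, 4, 3, 7, 4, 5, 2, 3, 4, 1, 2, 3, 7, 8, 4, 5, 2, 3, 4, 1, 2, 3, 7, 6, 5, 4, 7, 5, 4, 3, 2, 1, 0, 1, 2, 3, 4, 5, 7, 3, 2, 1, 7, 8, 3, 7, 4, 3, 1, 2, 0, 1, 0, 1, 0, 2, 1, 3, 4, 7, 3, 8, 7, 4, 3, 1, 2, 0, 1, 0, 1, 0, 2, 1, 3, 4, 1, 2, 3, 7, 5, 4, 3, 2, 1, 0, 1, 2, 3, 4, 5, 7, 3, 2, 1, 8, 3, 7, 5, 4, 3, 1, 2, 0, 1, 0, 1, 0, 2, 1, 3, 4, 5, 7, 3, 8, 4, 3, 1, 2, 0, 1, 0, 1, 0, 2, 1, 3, 4, 7, 8, 1, 2, 3, 7, 6, 5, 4, 3, 2, 1, 0, 1, 2, 3, 4, 5, 6, 7, 3, 2, 1, 8, 7, 4, 5, 3, 4, 2, 3, 1, 2, 0, 1, 0, 1, 0, 2, 1, 3, 2, 4, 3, 5, 4, 8, 7, 4, 2, 3, 1, 2, 0, 1, 0, 1, 0, 2, 1, 3, 2, 4, 7, 8, 3, 4, 2, 3, 1, 2, 0, 1, 0, 1, 0, 2, 1, 3, 2, 4, 3, 7, 4, 2, 3, 1, 2, 0, 1, 0, 1, 0, 2, 1, 3, 2, 4, 7, 3, 4, 2, 3, 7, 8, 1, 2, 3, 7, 4, 3, 2, 1, 0, 1, 2, 3, 4, 7, 3, 2, 1, 8, 7, 3, 2, 4, 3, 5, 3, 4, 2, 3, 1, 2, 0, 1, 0, 1, 0, 2, 1, 3, 2, 4, 3, 5, 3,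 4, 2, 3, 1, 2, 0, 1, 0, 1, 0, 2, 1, 3, 2, 4, 3, 6, 5, 3, 4, 2, 3, 1, 2, 0, 1, 0, 1, 0, 2, 1, 3, 2, 4, 3, 5, 6, 8, 3, 7, 2, 3, 1, 2, 0, 1, 0, 1, 0, 2, 1, 3, 2, 7, 3, 8, 3, 4, 2, 3, 7, 8, 1, 2, 3, 7, 4, 3, 2, 1, 0, 1, 2, 3, 4, 7, 3, 2, 1, 8, 7, 3, 2, 4, 3, 6, 5, 3, 4, 2, 3, 1, 2, 0, 1, 0, 1, 0, 2, 1, 3, 2, 4, 3, 5, 6, 8, 3, 7, 2, 3, 1, 2, 0, 1, 0, 1, 0, 2, 1, 3, 2, 7, 3, 8],
    [4, 2, 3, 7, 8, 7, 3, 4, 2, 3, 7, 5, 4, 3, 2, 1, 7, 8, 1, 2, 3, 7, 6, 5, 4, 3, 2, 1, 0, 1, 2, 3, 4, 5, 6, 7, 3, 2, 1, 8, 7, 8, 4, 3, 7, 5, 4, 3, 1, 2, 0, 1, 0, 1, 0, 2, 1, 3, 4, 5, 7, 3, 4, 8, 1, 2, 3, 7, 5, 4, 3, 2, 1, 0, 1, 2, 3, 4, 5, 7, 3, 2, 1, 4, 3, 1, 2, 0, 1, 0, 1, 0, 2, 1, 3, 4, 7, 8, 1, 2, 3, 7, 6, 5, 4, 3, 2, 1, 0, 1, 2, 3, 4, 5, 6, 7, 3, 2, 1, 8, 7, 8, 3, 7, 5, 4, 3, 1, 2, 0, 1, 0, 1, 0, 2, 1, 3, 4, 5, 7, 3, 8, 7, 8, 3, 7, 4, 3, 1, 2, 0, 1, 0,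 1, 0, 2, 1, 3, 4, 7, 3, 8, 7, 8, 7, 4, 2, 3, 1, 2, 0, 1, 0, 1, 0, 2, 1, 3, 2, 4, 7, 8, 2, 3, 4, 1, 2, 3, 7, 5, 4, 3, 2, 1, 0, 1, 2, 3, 4, 5, 7, 3, 2, 1, 4, 3, 2, 8, 7, 4, 2, 3, 1, 2, 0, 1, 0, 1, 0, 2, 1, 3, 2, 4, 6, 5, 4, 2, 3, 1, 2, 0, 1, 0, 1, 0, 2, 1, 3, 2, 4, 5, 6, 7, 8, 7, 4, 2, 3, 1, 2, 0, 1, 0, 1, 0, 2, 1, 3, 2, 4, 7, 5, 4, 2, 3, 1, 2, 0, 1, 0, 1, 0, 2, 1, 3, 2, 4, 5, 6, 5, 3, 4, 2, 3, 1, 2, 0, 1, 0, 1, 0, 2, 1, 3, 2, 4, 3, 5, 6, 3, 4, 2, 3, 1, 2, 0, 1, 0, 1, 0, 2, 1, 3, 2, 4, 3, 5, 3, 4, 2, 3, 1, 2, 0, 1, 0, 1, 0, 2, 1, 3, 2, 4, 3, 5, 3, 4, 2, 3, 7, 8, 1, 2, 3, 7, 4, 3, 2, 1, 0, 1, 2, 3, 4, 7, 3, 2, 1, 8, 7, 3, 2, 4, 3, 6, 5, 3, 4, 2, 3, 1, 2, 0, 1, 0, 1, 0, 2, 1, 3, 2, 4, 3, 5, 6, 3, 7, 2, 3, 1, 2, 0, 1, 0, 1, 0, 2, 1, 3, 2, 7, 4, 2, 3, 7, 8, 1, 2, 3, 7, 4, 3, 2, 1, 0, 1, 2, 3, 4, 7, 3, 2, 1, 8, 7, 3, 2, 4, 3, 8, 3, 7,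 2, 3, 1, 2, 0, 1, 0, 1, 0, 2, 1, 3, 2, 7, 3, 8, 5, 3, 4, 2, 3, 1, 2, 0, 1, 0, 1, 0, 2, 1, 3, 2, 4, 3, 5],
    [3, 7, 6, 4, 5, 2, 3, 4, 1, 2, 3, 7, 8, 4, 5, 2, 3, 4, 1, 2, 3, 7, 6, 5, 4, 7, 5, 4, 3, 2, 1, 0, 1, 2, 3, 4, 5, 7, 3, 2, 1, 8, 4, 3, 7, 5, 4, 3, 1, 2, 0, 1, 0, 1, 0, 2, 1, 3, 4, 5, 7, 3, 4, 8, 1, 2, 3, 7, 5, 4, 3, 2, 1, 0, 1, 2, 3, 4, 5, 7, 3, 2, 1, 7, 8, 3, 7, 4, 3, 1, 2, 0, 1, 0, 1, 0, 2, 1, 3, 4, 7, 3, 8, 7, 4, 3, 1, 2, 0, 1, 0, 1, 0, 2, 1, 3, 4, 7, 8, 1, 2, 3, 7, 6, 5, 4, 3, 2, 1, 0, 1, 2, 3, 4, 5, 6, 7, 3, 2, 1, 8, 7, 1, 2, 3, 7, 5, 4, 3, 2, 1, 0, 1, 2, 3, 4, 5, 7, 3, 2, 1, 5, 4, 2, 3, 1, 2, 0, 1, 0, 1, 0, 2, 1, 3, 2, 4, 5, 4, 5, 3, 4, 2, 3, 1, 2, 0, 1, 0, 1, 0, 2, 1, 3, 2, 4, 3, 5, 4, 8, 7, 4, 2, 3, 1, 2, 0, 1, 0, 1, 0, 2, 1, 3, 2, 4, 6, 5, 4, 2, 3, 1, 2, 0, 1, 0, 1, 0, 2, 1, 3, 2, 4, 5, 6, 4, 2, 3, 1, 2, 0, 1, 0,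 1, 0, 2, 1, 3, 2, 4, 7, 8, 2, 3, 4, 1, 2, 3, 7, 5, 4, 3, 2, 1, 0, 1, 2, 3, 4, 5, 7, 3, 2, 1, 4, 3, 2, 8, 7, 4, 2, 3, 1, 2, 0, 1, 0, 1, 0, 2, 1, 3, 2, 4, 7, 8, 5, 4, 2, 3, 1, 2, 0, 1, 0, 1, 0, 2, 1, 3, 2, 4, 5, 6, 5, 3, 4, 2, 3, 1, 2, 0, 1, 0, 1, 0, 2, 1, 3, 2, 4, 3, 5, 6, 3, 4, 2, 3, 7, 8, 1, 2, 3, 7, 4, 3, 2, 1, 0, 1, 2, 3, 4, 7, 3, 2, 1, 8, 7, 3, 2, 4, 3, 6, 5, 3, 4, 2, 3, 1, 2, 0, 1, 0, 1, 0, 2, 1, 3, 2, 4, 3, 5, 6, 8, 3, 7, 2, 3, 1, 2, 0, 1, 0, 1, 0, 2, 1, 3, 2, 7, 3, 8, 3, 4, 2, 3, 1, 2, 0, 1, 0, 1, 0, 2, 1, 3, 2, 4, 3, 5, 3, 4, 2, 3, 1, 2, 0, 1, 0, 1, 0, 2, 1, 3, 2, 4, 3, 5, 3, 4, 2, 3, 7, 8, 1, 2, 3, 7, 4, 3, 2, 1, 0, 1, 2, 3, 4, 7, 3, 2, 1, 8, 7, 3, 2, 4, 3, 6, 5, 3, 4, 2, 3, 1, 2, 0, 1, 0, 1, 0, 2, 1, 3, 2, 4, 3, 5, 6, 3, 7, 2, 3, 1, 2, 0, 1, 0, 1, 0, 2, 1, 3, 2, 7, 3],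
    [3, 4, 2, 3, 7, 8, 4, 1, 2, 3, 7, 5, 4, 3, 2, 1, 8, 3, 7, 5, 4, 3, 1, 2, 0, 1, 0, 1, 0, 2, 1, 3, 4, 5, 7, 3, 8, 4, 3, 1, 2, 0, 1, 0, 1, 0, 2, 1, 3, 4, 7, 8, 1, 2, 3, 7, 6, 5, 4, 3, 2, 1, 0, 1, 2, 3, 4, 5, 6, 7, 3, 2, 1, 8, 7, 8, 3, 7, 5, 4, 3, 1, 2, 0, 1, 0, 1, 0, 2, 1, 3, 4, 5, 7, 3, 8, 4, 3, 1, 2, 0, 1, 0, 1, 0, 2, 1, 3, 4, 3, 4, 2, 3, 1, 2, 0, 1, 0, 1, 0, 2, 1, 3, 2, 4, 3, 4, 5, 3, 4, 2, 3, 1, 2, 0, 1, 0, 1, 0, 2, 1, 3, 2, 4, 3, 5, 4, 7, 4, 2, 3, 1, 2, 0, 1, 0, 1, 0, 2, 1, 3, 2, 4, 7, 8, 7, 4, 2, 3, 1, 2, 0, 1, 0, 1, 0, 2, 1, 3, 2, 4, 7, 8, 2, 3, 4, 1, 2, 3, 7, 5, 4, 3, 2, 1, 0, 1, 2, 3, 4, 5, 7, 3, 2, 1, 4, 3, 2, 8, 7, 6, 5, 4, 2, 3, 1, 2, 0, 1, 0, 1, 0, 2, 1, 3, 2, 4, 5, 6, 7, 8, 5, 4, 2, 3, 1, 2, 0, 1, 0, 1, 0, 2, 1, 3, 2, 4, 5, 8, 3, 7, 2, 3, 1, 2, 0, 1, 0, 1, 0, 2, 1, 3, 2, 7, 3, 8, 3, 4, 2, 3, 7, 8, 1, 2, 3, 7, 4, 3,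 2, 1, 0, 1, 2, 3, 4, 7, 3, 2, 1, 8, 7, 3, 2, 4, 3, 6, 5, 3, 4, 2, 3, 1, 2, 0, 1, 0, 1, 0, 2, 1, 3, 2, 4, 3, 5, 6, 3, 7, 2, 3, 1, 2, 0, 1, 0, 1, 0, 2, 1, 3, 2, 7, 4, 2, 3, 7, 8, 1, 2, 3, 7, 4, 3, 2, 1, 0, 1, 2, 3, 4, 7, 3, 2, 1, 8, 7, 3, 2, 4, 3, 8, 3, 7, 2, 3, 1, 2, 0, 1, 0, 1, 0, 2, 1, 3, 2, 7, 3, 8, 3, 4, 2, 3, 1, 2, 0, 1, 0, 1, 0, 2, 1, 3, 2, 4, 3],
    [6, 5, 4, 2, 3, 7, 8, 7, 3, 4, 1, 2, 3, 7, 6, 5, 4, 3, 2, 1, 8, 4, 3, 7, 5, 4, 3, 1, 2, 0, 1, 0, 1, 0, 2, 1, 3, 4, 5, 7, 3, 4, 8, 4, 3, 1, 2, 0, 1, 0, 1, 0, 2, 1, 3, 4, 1, 2, 3, 7, 5, 4, 3, 2, 1, 0, 1, 2, 3, 4, 5, 7, 3, 2, 1, 8, 3, 7, 5, 4, 3, 1, 2, 0, 1, 0, 1, 0, 2, 1, 3, 4, 5, 7, 3, 8, 7, 8, 1, 2, 3, 7, 6, 5, 4, 3, 2, 1, 0, 1, 2, 3, 4, 5, 6, 7, 3, 2, 1, 8, 7, 8, 4, 3, 7, 5, 4, 3, 1, 2, 0, 1, 0, 1, 0, 2, 1, 3, 4, 5, 7, 3, 4, 8, 3, 4, 2, 3, 1, 2, 0, 1, 0, 1, 0, 2, 1, 3, 2, 4,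 3, 8, 7, 4, 2, 3, 1, 2, 0, 1, 0, 1, 0, 2, 1, 3, 2, 4, 6, 5, 4, 2, 3, 1, 2, 0, 1, 0, 1, 0, 2, 1, 3, 2, 4, 5, 6, 4, 2, 3, 1, 2, 0, 1, 0, 1, 0, 2, 1, 3, 2, 4, 7, 8, 2, 3, 4, 1, 2, 3, 7, 5, 4, 3, 2, 1, 0, 1, 2, 3, 4, 5, 7, 3, 2, 1, 4, 3, 2, 8, 7, 4, 2, 3, 1, 2, 0, 1, 0, 1, 0, 2, 1, 3, 2, 4, 7, 8, 5, 4, 2, 3, 1, 2, 0, 1, 0, 1, 0, 2, 1, 3, 2, 4, 5, 3, 4, 2, 3, 1, 2, 0, 1, 0, 1, 0, 2, 1, 3, 2, 4, 3, 5, 3, 4, 2, 3, 1, 2, 0, 1, 0, 1, 0, 2, 1, 3, 2, 4, 3, 5, 3, 4, 2, 3, 7, 8, 1, 2, 3, 7, 4, 3, 2, 1, 0, 1, 2, 3, 4, 7, 3, 2, 1, 8, 7, 3, 2, 4, 3, 6, 5, 3, 4, 2, 3, 1, 2, 0, 1, 0, 1, 0, 2, 1, 3, 2, 4, 3, 5, 6, 8, 3, 7, 2, 3, 1, 2, 0, 1, 0, 1, 0, 2, 1, 3, 2, 7, 3, 8, 5, 3, 4, 2, 3, 1, 2, 0, 1, 0, 1, 0, 2, 1, 3, 2, 4, 3, 5, 3, 4, 2, 3, 1, 2, 0, 1, 0, 1, 0, 2, 1, 3, 2, 4, 3],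
    [8, 7, 6, 5, 3, 4, 2, 3, 7, 8, 7, 4, 5, 3, 4, 1, 2, 3, 7, 6, 5, 4, 3, 2, 1, 8, 3, 7, 5, 4, 3, 1, 2, 0, 1, 0, 1, 0, 2, 1, 3, 4, 5, 7, 3, 8, 7, 8, 3, 7, 4, 3, 1, 2, 0, 1, 0, 1, 0, 2, 1, 3, 4, 7, 3, 1, 2, 3, 7, 6, 5, 4, 3, 2, 1, 0, 1, 2, 3, 4, 5, 6, 7, 3, 2, 1, 8, 7, 1, 2, 3, 7, 5, 4, 3, 2, 1, 0, 1, 2, 3, 4, 5, 7, 3, 2, 1, 7, 8, 3, 7, 4, 3, 1, 2, 0, 1, 0, 1, 0, 2, 1, 3, 4, 7, 3, 8, 7, 4, 3, 1, 2, 0, 1, 0, 1, 0, 2, 1, 3, 4, 7, 8, 1, 2, 3, 7, 6, 5, 4, 3, 2, 1, 0, 1, 2, 3, 4, 5, 6, 7, 3, 2, 1, 8, 7, 8, 4, 3, 7, 5, 4, 3, 1, 2, 0, 1, 0, 1, 0, 2, 1, 3, 4, 5, 7, 3, 4, 8, 1, 2, 3, 7, 5, 4, 3, 2, 1, 0, 1, 2, 3, 4, 5, 7, 3, 2, 1, 8, 7, 6, 5, 4, 2, 3, 1, 2, 0, 1, 0, 1, 0, 2, 1, 3, 2, 4, 5, 6, 7, 8, 5, 4, 2, 3, 1, 2, 0, 1, 0, 1, 0, 2, 1, 3, 2, 4, 5, 4, 5, 3, 4, 2, 3, 1, 2, 0, 1, 0, 1, 0, 2, 1, 3, 2, 4, 3, 5, 4, 7, 4, 2, 3, 1, 2, 0, 1, 0, 1,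 0, 2, 1, 3, 2, 4, 7, 2, 3, 4, 1, 2, 3, 7, 5, 4, 3, 2, 1, 0, 1, 2, 3, 4, 5, 7, 3, 2, 1, 4, 3, 2, 8, 7, 6, 5, 4, 2, 3, 1, 2, 0, 1, 0, 1, 0, 2, 1, 3, 2, 4, 5, 6, 7, 3, 7, 2, 3, 1, 2, 0, 1, 0, 1, 0, 2, 1, 3, 2, 7, 3, 8, 3, 4, 2, 3, 7, 8, 1, 2, 3, 7, 4, 3, 2, 1, 0, 1, 2, 3, 4, 7, 3, 2, 1, 8, 7, 3, 2, 4, 3, 5, 3, 4, 2, 3, 1, 2, 0, 1, 0, 1, 0, 2, 1, 3, 2, 4, 3, 5, 3, 7, 2, 3, 1, 2, 0, 1, 0, 1, 0, 2, 1, 3, 2, 7, 4, 2, 3, 7, 8, 1, 2, 3, 7, 4, 3, 2, 1, 0, 1, 2, 3, 4, 7, 3, 2, 1, 8, 7, 1, 2, 0, 1, 0, 1, 0, 2, 1, 3, 2, 4, 3, 5, 3, 4, 2, 3, 1, 2, 0, 1, 0, 1, 0, 2, 1, 3, 2, 4, 3, 5],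
    [7, 6, 5, 3, 4, 2, 3, 7, 8, 5, 3, 4, 2, 3, 7, 6, 5, 4, 3, 2, 0, 2, 3, 7, 5, 4, 3, 2, 1, 0, 1, 2, 3, 4, 5, 7, 3, 2, 1, 8, 4, 3, 7, 5, 4, 3, 1, 2, 0, 1, 0, 1, 0, 2, 1, 3, 4, 5, 7, 3, 4, 8, 1, 2, 3, 7, 5, 4, 3, 2, 1, 0, 1, 2, 3, 4, 5, 7, 3, 2, 1, 4, 3, 1, 2, 0, 1, 0, 1, 0, 2, 1, 3, 4, 7, 8, 1, 2, 3, 7, 6, 5, 4, 3, 2, 1, 0, 1, 2, 3, 4, 5, 6, 7, 3, 2, 1, 8, 7, 8, 4, 3, 7, 5, 4, 3, 1, 2, 0, 1, 0, 1, 0, 2, 1, 3, 4, 5, 7, 3, 4, 8, 7, 8, 3, 7, 4, 3, 1, 2, 0, 1, 0, 1, 0, 2, 1, 3, 4, 7, 3, 8, 7, 2, 3, 4, 1, 2, 3, 7, 5, 4, 3, 2, 1, 0, 1, 2, 3, 4, 5, 7, 3, 2, 1, 4, 3, 2, 3, 4, 2, 3, 1, 2, 0, 1, 0, 1, 0, 2, 1, 3, 2, 4, 3, 8, 7, 4, 2, 3, 1, 2, 0, 1, 0, 1, 0, 2, 1, 3, 2, 4, 6, 5, 4, 2, 3, 1, 2, 0, 1, 0, 1, 0, 2, 1, 3, 2, 4, 5, 6, 7, 8, 2, 3, 4, 1, 2, 3, 7, 5, 4, 3, 2, 1, 0, 1, 2, 3, 4, 5, 7, 3, 2, 1, 4, 3, 2, 8, 7, 4, 2, 3, 1, 2, 0, 1, 0, 1,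 0, 2, 1, 3, 2, 4, 7, 8, 5, 4, 2, 3, 1, 2, 0, 1, 0, 1, 0, 2, 1, 3, 2, 4, 5, 8, 3, 7, 2, 3, 1, 2, 0, 1, 0, 1, 0, 2, 1, 3, 2, 7, 3, 8, 3, 4, 2, 3, 7, 8, 1, 2, 3, 7, 4, 3, 2, 1, 0, 1, 2, 3, 4, 7, 3, 2, 1, 8, 7, 3, 2, 4, 3, 5, 3, 4, 2, 3, 1, 2, 0, 1, 0, 1, 0, 2, 1, 3, 2, 4, 3, 5, 3, 4, 2, 3, 1, 2, 0, 1, 0, 1, 0, 2, 1, 3, 2, 4, 3, 6, 5, 3, 4, 2, 3, 1, 2, 0, 1, 0, 1, 0, 2, 1, 3, 2, 4, 3, 5, 6, 3, 7, 2, 3, 1, 2, 0, 1, 0, 1, 0, 2, 1, 3, 2, 7, 4, 2, 3, 7, 8, 1, 2, 3, 7, 4, 3, 2, 1, 0, 1, 2, 3, 4, 7, 3, 2, 1, 8, 7, 3, 2, 4, 3, 6, 5, 3, 4, 2, 3, 1, 2, 0, 1, 0, 1, 0, 2, 1, 3, 2, 4, 3, 5, 6, 8, 3, 7, 2, 3, 1, 2, 0, 1, 0, 1, 0, 2, 1, 3, 2, 7, 3, 8, 3, 7, 2, 3, 1, 2, 0, 1, 0, 1, 0, 2, 1, 3, 2, 7, 3],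
    [8, 7, 2, 3, 4, 0, 1, 2, 3, 7, 8, 5, 2, 3, 4, 1, 2, 3, 7, 6, 5, 4, 7, 5, 4, 3, 2, 1, 0, 1, 2, 3, 4, 5, 7, 3, 2, 1, 8, 4, 3, 7, 5, 4, 3, 1, 2, 0, 1, 0, 1, 0, 2, 1, 3, 4, 5, 7, 3, 4, 8, 7, 8, 3, 7, 4, 3, 1, 2, 0, 1, 0, 1, 0, 2, 1, 3, 4, 7, 3, 1, 2, 3, 7, 6, 5, 4, 3, 2, 1, 0, 1, 2, 3, 4, 5, 6, 7, 3, 2, 1, 3, 7, 4, 3, 1, 2, 0, 1, 0, 1, 0, 2, 1, 3, 4, 7, 3, 8, 7, 1, 2, 3, 7, 5, 4, 3, 2, 1, 0, 1, 2, 3, 4, 5, 7, 3, 2, 1, 8, 7, 6, 5, 4, 2, 3, 1, 2, 0, 1, 0, 1, 0, 2, 1, 3, 2, 4, 5, 6, 7, 8, 3, 4, 2, 3, 1, 2, 0, 1, 0, 1, 0, 2, 1, 3, 2, 4, 3, 8, 7, 4, 2, 3, 1, 2, 0, 1, 0, 1, 0, 2, 1, 3, 2, 4, 7, 8, 2, 3, 4, 1, 2, 3, 7, 5, 4, 3, 2, 1, 0, 1, 2, 3, 4, 5, 7, 3, 2, 1, 4, 3, 2, 8, 7, 6, 5, 4, 2, 3, 1, 2, 0, 1, 0, 1, 0, 2, 1, 3, 2, 4, 5, 6, 7, 8, 7, 4, 2, 3, 1, 2, 0, 1, 0, 1, 0, 2, 1, 3, 2, 4, 7, 3, 4, 2, 3, 1, 2, 0, 1, 0, 1, 0, 2, 1, 3, 2, 4,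 3, 6, 5, 3, 4, 2, 3, 1, 2, 0, 1, 0, 1, 0, 2, 1, 3, 2, 4, 3, 5, 6, 8, 3, 7, 2, 3, 1, 2, 0, 1, 0, 1, 0, 2, 1, 3, 2, 7, 3, 8, 3, 4, 2, 3, 7, 8, 1, 2, 3, 7, 4, 3, 2, 1, 0, 1, 2, 3, 4, 7, 3, 2, 1, 8, 7, 3, 2, 4, 3, 5, 3, 4, 2, 3, 1, 2, 0, 1, 0, 1, 0, 2, 1, 3, 2, 4, 3, 5, 3, 7, 2, 3, 1, 2, 0, 1, 0, 1, 0, 2, 1, 3, 2, 7, 4, 2, 3, 7, 8, 1, 2, 3, 7, 4, 3, 2, 1, 0, 1, 2, 3, 4, 7, 3, 2, 1, 8, 7, 3, 2, 4, 7, 2, 3, 1, 2, 0, 1, 0, 1, 0, 2, 1, 3, 2, 7, 3, 8, 3, 7, 2, 3, 1, 2, 0, 1, 0, 1, 0, 2, 1, 3, 2, 7, 3, 8, 3, 4, 2, 3, 1, 2, 0, 1, 0, 1, 0, 2, 1, 3, 2, 4, 3, 5, 3, 4, 2, 3, 1, 2, 0, 1, 0, 1, 0, 2, 1, 3, 2, 4, 3, 5, 3, 4, 2, 3, 1, 2, 0, 1, 0, 1, 0, 2, 1, 3, 2, 4, 3]]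

/-- The conjugating elements. -/
def gw : List (List ℕ) := [
    [3, 4, 1, 2, 3, 7, 8, 7, 5, 3, 4, 1, 2, 3, 7, 6, 5, 4, 3, 2, 1, 7, 8, 1, 2, 3, 7, 6, 5, 4, 3, 2, 1, 0, 1, 2, 3, 4, 5, 6, 7, 3, 2, 1, 8, 7, 8, 3, 7, 5, 4, 3, 1, 2, 0, 1, 0, 1, 0, 2, 1, 3, 4, 5, 7, 3, 8, 4, 3, 1, 2, 0, 1, 0, 1, 0, 2, 1, 3, 4, 8, 4, 3, 7, 5, 4, 3, 1, 2, 0, 1, 0, 1, 0, 2, 1, 3, 4, 5, 7, 3, 4, 8, 7, 8, 1, 2, 3, 7, 6, 5, 4, 3, 2, 1, 0, 1, 2, 3, 4, 5, 6, 7, 3, 2, 1, 8, 7, 1, 2, 3, 7, 5, 4, 3, 2, 1, 0, 1, 2, 3, 4, 5, 7, 3, 2, 1, 8, 4, 3, 7, 5, 4, 3, 1, 2, 0, 1, 0, 1, 0, 2, 1, 3, 4, 5, 7, 3, 4, 7, 6, 5, 4, 2, 3, 1, 2, 0, 1, 0, 1, 0, 2, 1, 3, 2, 4, 5, 6, 4, 2, 3, 1, 2, 0, 1, 0, 1, 0, 2, 1, 3, 2, 4, 7, 8, 2, 3, 4, 1, 2, 3, 7, 5, 4, 3, 2, 1, 0, 1, 2, 3, 4, 5, 7, 3, 2, 1, 4, 3, 2, 8, 7, 6, 5, 4, 2, 3, 1, 2, 0, 1, 0, 1, 0, 2, 1, 3, 2, 4, 5, 6, 7, 8, 4, 5, 3, 4,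 2, 3, 1, 2, 0, 1, 0, 1, 0, 2, 1, 3, 2, 4, 3, 5, 4, 7, 4, 2, 3, 1, 2, 0, 1, 0, 1, 0, 2, 1, 3, 2, 4, 7, 6, 5, 3, 4, 2, 3, 1, 2, 0, 1, 0, 1, 0, 2, 1, 3, 2, 4, 3, 5, 6, 3, 4, 2, 3, 7, 8, 1, 2, 3, 7, 4, 3, 2, 1, 0, 1, 2, 3, 4, 7, 3, 2, 1, 8, 7, 1, 2, 0, 1, 0, 1, 0, 2, 1, 3, 2, 4, 3, 6, 5, 3, 4, 2, 3, 1, 2, 0, 1, 0, 1, 0, 2, 1, 3, 2, 4, 3, 5, 6, 3, 7, 2, 3, 1, 2, 0, 1, 0, 1, 0, 2, 1, 3, 2, 7, 4, 2, 3, 7, 8, 1, 2, 3, 7, 4, 3, 2, 1, 0, 1, 2, 3, 4, 7, 3, 2, 1, 8, 7, 3, 2, 4, 3, 6, 5, 3, 4, 2, 3, 1, 2, 0, 1, 0, 1, 0, 2, 1, 3, 2, 4, 3, 5, 6, 8, 3, 7, 2, 3, 1, 2, 0, 1, 0, 1, 0, 2, 1, 3, 2, 7, 3, 8, 3, 4, 2, 3, 1, 2, 0, 1, 0, 1, 0, 2, 1, 3, 2, 4, 3, 5, 3, 4, 2, 3, 1, 2, 0, 1, 0, 1, 0, 2, 1, 3, 2, 4, 3, 5, 3, 7, 2, 3, 1, 2, 0, 1, 0, 1, 0, 2, 1, 3, 2, 7, 3],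
    [8, 3, 4, 2, 3, 7, 5, 4, 3, 2, 1, 4, 3, 1, 2, 0, 1, 0, 1, 0, 2, 1, 3, 4, 7, 8, 1, 2, 3, 7, 6, 5, 4, 3, 2, 1, 0, 1, 2, 3, 4, 5, 6, 7, 3, 2, 1, 8, 7, 1, 2, 3, 7, 5, 4, 3, 2, 1, 0, 1, 2, 3, 4, 5, 7, 3, 2, 1, 8, 4, 3, 7, 5, 4, 3, 1, 2, 0, 1, 0, 1, 0, 2, 1, 3, 4, 5, 7, 3, 4, 8, 7, 8, 3, 7, 4, 3, 1, 2, 0, 1, 0, 1, 0, 2, 1, 3, 4, 7, 3, 1, 2, 3, 7, 6, 5, 4, 3, 2, 1, 0, 1, 2, 3, 4, 5, 6, 7, 3, 2, 1, 8, 7, 1, 2, 3, 7, 5, 4, 3, 2, 1, 0, 1, 2, 3, 4, 5, 7, 3, 2, 1, 8, 7, 6, 5, 4, 2, 3, 1, 2, 0, 1, 0, 1, 0, 2, 1, 3, 2, 4, 5, 6, 7, 8, 3, 4, 2, 3, 1, 2, 0, 1, 0, 1, 0, 2, 1, 3, 2, 4, 3, 4, 5, 3, 4, 2, 3, 1, 2, 0, 1, 0, 1, 0, 2, 1, 3, 2, 4, 3, 5, 4, 7, 4, 2, 3, 1, 2, 0, 1, 0, 1, 0, 2, 1, 3, 2, 4, 7, 2, 3, 4, 1, 2, 3, 7, 5, 4, 3, 2, 1, 0, 1, 2, 3, 4, 5, 7, 3, 2, 1, 4, 3, 2, 8, 7, 6, 5, 4, 2, 3, 1, 2, 0, 1, 0, 1, 0, 2, 1, 3, 2, 4, 5, 6, 7, 8, 5,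 4, 2, 3, 1, 2, 0, 1, 0, 1, 0, 2, 1, 3, 2, 4, 5, 6, 5, 3, 4, 2, 3, 1, 2, 0, 1, 0, 1, 0, 2, 1, 3, 2, 4, 3, 5, 6, 8, 3, 7, 2, 3, 1, 2, 0, 1, 0, 1, 0, 2, 1, 3, 2, 7, 3, 8, 3, 4, 2, 3, 7, 8, 1, 2, 3, 7, 4, 3, 2, 1, 0, 1, 2, 3, 4, 7, 3, 2, 1, 8, 7, 3, 2, 4, 3, 6, 5, 3, 4, 2, 3, 1, 2, 0, 1, 0, 1, 0, 2, 1, 3, 2, 4, 3, 5, 6, 8, 3, 7, 2, 3, 1, 2, 0, 1, 0, 1, 0, 2, 1, 3, 2, 7, 3, 8, 3, 4, 2, 3, 1, 2, 0, 1, 0, 1, 0, 2, 1, 3, 2, 4, 3, 5, 3, 4, 2, 3, 1, 2, 0, 1, 0, 1, 0, 2, 1, 3, 2, 4, 3, 5, 3, 4, 2, 3, 7, 8, 1, 2, 3, 7, 4, 3, 2, 1, 0, 1, 2, 3, 4, 7, 3, 2, 1, 8, 7, 3, 2, 4, 3, 6, 5, 3, 4, 2, 3, 1, 2, 0, 1, 0, 1, 0, 2, 1, 3, 2, 4, 3, 5, 6, 3, 7, 2, 3, 1, 2, 0, 1, 0, 1, 0, 2, 1, 3, 2, 7, 3, 8, 3, 7, 2, 3, 1, 2, 0, 1, 0, 1, 0, 2, 1, 3, 2, 7, 3, 8, 3, 4, 2, 3, 1, 2, 0, 1, 0, 1, 0, 2, 1, 3, 2, 4, 3],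
    [7, 6, 3, 4, 5, 2, 3, 4, 1, 2, 3, 7, 8, 4, 5, 2, 3, 4, 1, 2, 3, 7, 6, 5, 4, 3, 2, 1, 8, 4, 3, 7, 5, 4, 3, 1, 2, 0, 1, 0, 1, 0, 2, 1, 3, 4, 5, 7, 3, 4, 8, 7, 8, 1, 2, 3, 7, 6, 5, 4, 3, 2, 1, 0, 1, 2, 3, 4, 5, 6, 7, 3, 2, 1, 3, 7, 4, 3, 1, 2, 0, 1, 0, 1, 0, 2, 1, 3, 4, 7, 3, 8, 7, 1, 2, 3, 7, 5, 4, 3, 2, 1, 0, 1, 2, 3, 4, 5, 7, 3, 2, 1, 2, 3, 4, 1, 2, 3, 7, 5, 4, 3, 2, 1, 0, 1, 2, 3, 4, 5, 7, 3, 2, 1, 4, 3, 2, 4, 5, 3, 4, 2, 3, 1, 2, 0, 1, 0, 1, 0, 2, 1, 3, 2, 4, 3, 5, 4, 8, 7, 4, 2, 3, 1, 2, 0, 1, 0, 1, 0, 2, 1, 3, 2, 4, 7, 8, 6, 5, 3, 4, 2, 3, 1, 2, 0, 1, 0, 1, 0, 2, 1, 3, 2, 4, 3, 5, 6, 8, 3, 7, 2, 3, 1, 2, 0, 1, 0, 1, 0, 2, 1, 3, 2, 7, 3, 8, 3, 4, 2, 3, 7, 8, 1, 2, 3, 7, 4, 3, 2, 1, 0, 1, 2, 3, 4, 7, 3, 2, 1, 8, 7, 3, 2, 4, 3, 5, 3, 4, 2, 3, 1, 2, 0, 1, 0, 1, 0, 2, 1, 3, 2, 4, 3, 5, 3, 7, 2, 3, 1, 2, 0, 1, 0, 1, 0, 2, 1, 3,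 2, 7, 4, 2, 3, 7, 8, 1, 2, 3, 7, 4, 3, 2, 1, 0, 1, 2, 3, 4, 7, 3, 2, 1, 8, 7, 1, 2, 0, 1, 0, 1, 0, 2, 1, 3, 2, 4, 3, 6, 5, 3, 4, 2, 3, 1, 2, 0, 1, 0, 1, 0, 2, 1, 3, 2, 4, 3, 5, 6, 8, 3, 7, 2, 3, 1, 2, 0, 1, 0, 1, 0, 2, 1, 3, 2, 7, 3, 8, 5, 3, 4, 2, 3, 1, 2, 0, 1, 0, 1, 0, 2, 1, 3, 2, 4, 3, 5, 3, 7, 2, 3, 1, 2, 0, 1, 0, 1, 0, 2, 1, 3, 2, 7, 3],
    [1, 2, 3, 7, 8, 4, 3, 7, 6, 5, 4, 3, 2, 0, 1, 7, 8, 1, 2, 3, 7, 6, 5, 4, 3, 2, 1, 0, 1, 2, 3, 4, 5, 6, 7, 3, 2, 1, 8, 7, 8, 3, 7, 5, 4, 3, 1, 2, 0, 1, 0, 1, 0, 2, 1, 3, 4, 5, 7, 3, 8, 1, 2, 3, 7, 5, 4, 3, 2, 1, 0, 1, 2, 3, 4, 5, 7, 3, 2, 1, 7, 8, 3, 7, 4, 3, 1, 2, 0, 1, 0, 1, 0, 2, 1, 3, 4, 7, 3, 8, 7, 4, 3, 1, 2, 0, 1, 0, 1, 0, 2, 1, 3, 4, 7, 8, 1, 2, 3, 7, 6, 5, 4, 3, 2, 1, 0, 1, 2, 3, 4, 5, 6, 7, 3, 2, 1, 8, 7, 8, 4, 3, 7, 5, 4, 3, 1, 2, 0, 1, 0, 1, 0, 2, 1, 3, 4, 5, 7, 3, 4, 8, 7,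 4, 2, 3, 1, 2, 0, 1, 0, 1, 0, 2, 1, 3, 2, 4, 7, 8, 7, 4, 2, 3, 1, 2, 0, 1, 0, 1, 0, 2, 1, 3, 2, 4, 7, 8, 2, 3, 4, 1, 2, 3, 7, 5, 4, 3, 2, 1, 0, 1, 2, 3, 4, 5, 7, 3, 2, 1, 4, 3, 2, 8, 7, 6, 5, 4, 2, 3, 1, 2, 0, 1, 0, 1, 0, 2, 1, 3, 2, 4, 5, 6, 7, 8, 5, 4, 2, 3, 1, 2, 0, 1, 0, 1, 0, 2, 1, 3, 2, 4, 5, 3, 4, 2, 3, 1, 2, 0, 1, 0, 1, 0, 2, 1, 3, 2, 4, 3, 5, 3, 4, 2, 3, 1, 2, 0, 1, 0, 1, 0, 2, 1, 3, 2, 4, 3, 5, 3, 4, 2, 3, 7, 8, 1, 2, 3, 7, 4, 3, 2, 1, 0, 1, 2, 3, 4, 7, 3, 2, 1, 8, 7, 3, 2, 4, 7, 2, 3, 1, 2, 0, 1, 0, 1, 0, 2, 1, 3, 2, 7, 3, 8, 3, 7, 2, 3, 1, 2, 0, 1, 0, 1, 0, 2, 1, 3, 2, 7, 3, 8, 3, 4, 2, 3, 1, 2, 0, 1, 0, 1, 0, 2, 1, 3, 2, 4, 3],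
    [6, 5, 4, 3, 7, 8, 5, 4, 1, 2, 3, 7, 6, 5, 4, 3, 2, 1, 8, 4, 3, 7, 5, 4, 3, 1, 2, 0, 1, 0, 1, 0, 2, 1, 3, 4, 5, 7, 3, 4, 8, 7, 8, 1, 2, 3, 7, 6, 5, 4, 3, 2, 1, 0, 1, 2, 3, 4, 5, 6, 7, 3, 2, 1, 8, 7, 4, 3, 1, 2, 0, 1, 0, 1, 0, 2, 1, 3, 4, 1, 2, 3, 7, 5, 4, 3, 2, 1, 0, 1, 2, 3, 4, 5, 7, 3, 2, 1, 4, 3, 1, 2, 0, 1, 0, 1, 0, 2, 1, 3, 4, 8, 4, 3, 7, 5, 4, 3, 1, 2, 0, 1, 0, 1, 0, 2, 1, 3, 4, 5, 7, 3, 4, 8, 4, 3, 1, 2, 0, 1, 0, 1, 0, 2, 1, 3, 4, 7, 8, 1, 2, 3, 7, 6, 5, 4, 3, 2, 1, 0, 1, 2, 3, 4, 5, 6, 7, 3, 2, 1, 8, 7, 8, 7, 6, 5, 4, 2, 3, 1, 2, 0, 1, 0, 1, 0, 2, 1, 3, 2, 4, 5, 6, 7, 8, 4, 5, 3, 4, 2, 3, 1, 2, 0, 1, 0, 1, 0, 2, 1, 3, 2, 4, 3, 5, 4, 3, 4, 2, 3, 1, 2, 0, 1, 0, 1, 0, 2, 1, 3, 2, 4, 3, 8, 7, 4, 2, 3, 1, 2, 0, 1, 0, 1, 0, 2, 1, 3, 2, 4, 7, 8, 2, 3, 4, 1, 2, 3, 7, 5, 4, 3, 2, 1, 0, 1, 2, 3, 4, 5, 7, 3, 2, 1, 4, 3, 2, 5, 4,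 2, 3, 1, 2, 0, 1, 0, 1, 0, 2, 1, 3, 2, 4, 3, 4, 2, 3, 1, 2, 0, 1, 0, 1, 0, 2, 1, 3, 2, 4, 3, 5, 3, 4, 2, 3, 7, 8, 1, 2, 3, 7, 4, 3, 2, 1, 0, 1, 2, 3, 4, 7, 3, 2, 1, 8, 7, 3, 2, 4, 3, 6, 5, 3, 4, 2, 3, 1, 2, 0, 1, 0, 1, 0, 2, 1, 3, 2, 4, 3, 5, 6, 8, 3, 7, 2, 3, 1, 2, 0, 1, 0, 1, 0, 2, 1, 3, 2, 7, 3, 8, 3, 4, 2, 3, 7, 8, 1, 2, 3, 7, 4, 3, 2, 1, 0, 1, 2, 3, 4, 7, 3, 2, 1, 8, 7, 1, 2, 0, 1, 0, 1, 0, 2, 1, 3, 2, 4, 3, 5, 3, 4, 2, 3, 1, 2, 0, 1, 0, 1, 0, 2, 1, 3, 2, 4, 3, 5],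
    [8, 7, 4, 2, 3, 1, 2, 0, 1, 0, 1, 0, 2, 1, 3, 2, 4, 7, 8, 2, 3, 4, 1, 2, 3, 7, 5, 4, 3, 2, 1, 0, 1, 2, 3, 4, 5, 7, 3, 2, 1, 4, 3, 2, 8, 7, 4, 2, 3, 1, 2, 0, 1, 0, 1, 0, 2, 1, 3, 2, 4, 7, 8]]

/-- The certificate. -/
def cert : SchurCert.Cert where
  p := 3
  m := 9
  N := 9
  rules := [
    ([0, 0, 0], [8, 8]),
    ([1, 1, 1], [5, 5, 7, 8]),
    ([2, 2, 2], []),
    ([3, 3, 3], [7, 8]),
    ([4, 4, 4], []),
    ([5, 5, 5], []),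
    ([6, 6, 6], []),
    ([7, 7, 7], []),
    ([8, 8, 8], []),
    ([1, 0], [0, 1, 2, 2, 3, 3, 4, 6, 6, 7]),
    ([2, 0], [0, 2, 4, 5, 5, 6, 6, 8, 8]),
    ([2, 1], [1, 2, 4, 6, 7, 8]),
    ([3, 0], [0, 3, 4, 4, 5, 5, 6, 7, 7, 8]),
    ([3, 1], [1, 3, 4, 4, 6, 8, 8]),
    ([3, 2], [2, 3, 5, 5, 6, 6, 7, 7, 8]),
    ([4, 0], [0, 4, 5, 5, 6, 6, 7, 8]),
    ([4, 1], [1, 4, 5, 8]),
    ([4, 2], [2, 4, 5, 8, 8]),
    ([4, 3], [3, 4, 5, 5, 8]),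
    ([5, 0], [0, 5, 7, 8]),
    ([5, 1], [1, 5, 8]),
    ([5, 2], [2, 5]),
    ([5, 3], [3, 5, 8]),
    ([5, 4], [4, 5]),
    ([6, 0], [0, 6, 7, 7, 8]),
    ([6, 1], [1, 6, 7, 7, 8]),
    ([6, 2], [2, 6, 7, 7, 8, 8]),
    ([6, 3], [3, 6, 7]),
    ([6, 4], [4, 6, 8, 8]),
    ([6, 5], [5, 6]),
    ([7, 0], [0, 7, 8]),
    ([7, 1], [1, 7, 8]),
    ([7, 2], [2, 7]),
    ([7, 3], [3, 7]),
    ([7, 4], [4, 7]),
    ([7, 5], [5, 7]),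
    ([7, 6], [6, 7]),
    ([8, 0], [0, 8]),
    ([8, 1], [1, 8]),
    ([8, 2], [2, 8]),
    ([8, 3], [3, 8]),
    ([8, 4], [4, 8]),
    ([8, 5], [5, 8]),
    ([8, 6], [6, 8]),
    ([8, 7], [7, 8])]
  maps := [
    [([1, 3, 4, 4, 5, 7, 7, 8], [1, 1, 2, 2, 3, 4, 5, 5, 7]), ([2, 3, 4, 4, 5, 5, 7], [1, 2, 3, 3, 4, 5, 5, 7, 7]), ([6, 7, 8], [1, 1, 2, 4, 4, 6, 6, 7, 7, 8, 8])],
    [([1, 3], [4, 5, 5, 6, 6, 8, 8]), ([2, 3, 5, 6, 6, 7], [1, 1, 2, 5, 5, 7, 8, 8]), ([4, 5, 5, 6, 6], [1, 3, 8]), ([8], [1, 1, 3, 3, 7])],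
    [([1, 3], [2, 2, 3, 3, 4, 6, 6, 7, 8, 8]), ([2, 3, 6, 7, 7], [0, 1, 1, 5, 5, 6, 7]), ([4, 7, 7], [0, 0, 1, 5, 6, 7, 8]), ([5, 6, 7, 7], [0, 0, 1, 2, 3, 4, 4]), ([8], [6, 6, 7, 7])],
    [([0, 3, 3, 8], [0, 0, 1, 1, 2, 2, 3, 3, 4, 4, 7]), ([1, 3, 4, 6, 7, 7, 8], [1, 2, 3, 3, 4, 4, 5, 6, 8]), ([2, 3, 4, 7], [2, 2, 3, 3, 4, 4, 5, 7, 7, 8, 8]), ([5, 6, 6, 7, 8], [5, 6, 6, 7, 8])],
    [([0, 1, 1, 5, 5, 6], [0, 0, 1, 2, 2, 3, 6, 7, 7, 8, 8]), ([2, 4, 5, 5, 6, 7, 7, 8, 8], [2, 4, 5, 5, 6, 7, 7, 8, 8])],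
    [([0, 1, 1, 6, 6], [2, 2, 4, 4, 8]), ([2, 4, 6, 6], [0, 0, 1, 2, 3, 4, 4, 5, 6, 6, 7, 7, 8, 8]), ([3, 4, 4, 6], [3, 4, 4, 6]), ([5, 6], [0, 1, 1, 2, 4, 5, 5, 7]), ([7], [0, 0, 1, 3, 4, 5, 6, 7, 7, 8, 8]), ([8], [0, 0, 1, 3, 4, 5, 6, 7])]]
  overlaps := [
    ([0, 0, 0, 0], [(0, 0), (37, 1), (37, 0)], [(0, 1)]),
    ([1, 1, 1, 1], [(1, 0), (38, 3), (31, 2), (20, 1), (20, 0), (42, 2), (44, 4), (44, 3), (8, 4)], [(1, 1)]),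
    ([1, 1, 1, 0], [(1, 0), (37, 3), (30, 2), (19, 1), (19, 0), (42, 3), (35, 2), (44, 4), (44, 6), (44, 5), (7, 3), (8, 3)], [(9, 2), (9, 1), (9, 0), (31, 9), (25, 8), (25, 7), (16, 6), (13, 5), (13, 4), (11, 3), (11, 2), (39, 7), (32, 6), (26, 5), (17, 4), (43, 8), (43, 7), (44, 9), (44, 8), (44, 10), (44, 9), (8, 10), (44, 10), (7, 8), (41, 9), (41, 8), (28, 7), (23, 6), (8, 9), (43, 9), (44, 10), (40, 12), (40, 11), (33, 10), (27, 9), (27, 8), (22, 7), (18, 6), (18, 5), (41, 9), (23, 8), (23, 7), (42, 10), (5, 8), (42, 8), (42, 10), (42, 9), (8, 10), (36, 11), (7, 12), (41, 13), (41, 12), (28, 11), (28, 10), (23, 9), (23, 8), (4, 6), (43, 10), (43, 9), (8, 10), (8, 10), (28, 9), (28, 8), (23, 7), (23, 6), (43, 11), (43, 10), (8, 11), (43, 11), (6, 9), (8, 9), (22, 8), (22, 7), (18, 6), (42, 10), (5, 8), (42, 9), (42, 8), (8,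 9), (23, 8), (23, 9), (4, 7), (41, 10), (41, 9), (28, 8), (23, 7), (8, 10), (42, 10), (29, 9), (43, 12), (43, 11), (44, 13), (44, 12), (44, 14), (44, 13), (8, 14), (36, 13), (36, 12), (6, 10), (7, 10), (44, 11), (39, 13), (39, 12), (32, 11), (32, 10), (21, 9), (21, 8), (17, 7), (14, 6), (14, 5), (2, 3), (40, 10), (33, 9), (33, 8), (27, 7), (27, 6), (22, 5), (22, 4), (42, 6), (43, 8), (43, 7), (44, 9), (44, 8), (43, 10), (43, 9), (36, 8), (44, 11), (44, 10), (44, 12), (44, 11), (7, 9), (44, 10), (44, 9), (8, 10), (35, 9), (29, 8), (29, 7), (5, 5), (35, 7), (29, 6), (29, 5), (36, 8), (6, 6), (36, 6), (7, 7), (41, 7), (28, 6), (23, 5), (8, 8), (29, 7), (42, 10), (42, 9), (29, 8), (5, 6), (42, 8), (42, 7), (29, 6), (44, 9), (44, 8), (44, 10), (44, 9), (8, 10), (39, 10), (32, 9), (32, 8), (26, 7), (21, 6), (17, 5), (14, 4), (14, 3),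 (40, 11), (33, 10), (33, 9), (27, 8), (27, 7), (22, 6), (22, 5), (42, 7), (43, 9), (43, 8), (44, 10), (44, 9), (43, 11), (43, 10), (36, 9), (44, 12), (44, 11), (44, 13), (44, 12), (7, 10), (44, 11), (44, 10), (8, 11), (35, 10), (29, 9), (29, 8), (5, 6), (35, 8), (29, 7), (29, 6), (36, 9), (6, 7), (36, 7), (7, 8), (41, 8), (28, 7), (23, 6), (8, 9), (29, 8), (42, 11), (42, 10), (29, 9), (5, 7), (43, 9), (43, 8), (44, 10), (44, 9), (44, 11), (44, 10), (8, 11), (44, 11), (7, 9), (44, 9), (40, 11), (40, 10), (33, 9), (27, 8), (27, 7), (18, 6), (3, 4), (41, 5), (34, 4), (42, 6), (35, 5), (42, 7), (35, 6), (43, 9), (43, 8), (36, 7), (44, 10), (44, 9), (43, 11), (43, 10), (36, 9), (36, 8), (44, 12), (44, 11), (7, 9), (44, 10), (44, 9), (8, 10), (40, 10), (33, 9), (27, 8), (27, 7), (22, 6), (22, 5), (18, 4), (42, 8), (5, 6), (42, 7), (42,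 6), (8, 7), (36, 8), (7, 9), (41, 9), (28, 8), (28, 7), (23, 6), (43, 10), (43, 9), (8, 10), (43, 11), (43, 10), (6, 8), (43, 9), (43, 8), (44, 10), (44, 9), (38, 11), (38, 10), (31, 9), (25, 8), (20, 7), (16, 6), (16, 5), (13, 4), (11, 3), (1, 1), (39, 4), (32, 3), (21, 2), (21, 1), (41, 5), (34, 4), (23, 3), (23, 2), (43, 6), (36, 5), (44, 7), (40, 9), (40, 8), (33, 7), (33, 6), (27, 5), (22, 4), (22, 3), (18, 2), (42, 6), (5, 4), (42, 5), (42, 4), (8, 5), (7, 6), (41, 7), (41, 6), (28, 5), (23, 4), (8, 7), (41, 7), (28, 6), (23, 5), (4, 3), (8, 5), (41, 7), (41, 6), (28, 5), (28, 4), (23, 3), (43, 7), (43, 6), (8, 7), (8, 7), (29, 6), (29, 5), (41, 8), (28, 7), (28, 6), (23, 5), (23, 4), (43, 9), (43, 8), (8, 9), (42, 10), (42, 9), (29, 8), (29, 7), (5, 5), (8, 7), (29, 6), (29, 5), (43, 8), (6, 6), (44, 6), (44, 7), (44, 9),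 (44, 8), (7, 6), (8, 6), (39, 7), (39, 6), (21, 5), (17, 4), (17, 3), (14, 2), (41, 10), (34, 9), (34, 8), (28, 7), (28, 6), (23, 5), (23, 4), (43, 9), (43, 8), (8, 9), (44, 9), (44, 10), (42, 12), (42, 11), (35, 10), (35, 9), (29, 8), (29, 7), (5, 5), (8, 9), (41, 9), (34, 8), (34, 7), (28, 6), (28, 5), (43, 8), (43, 7), (8, 8), (44, 8), (44, 9), (42, 11), (42, 10), (35, 9), (35, 8), (29, 7), (29, 6), (8, 11), (42, 11), (35, 10), (35, 9), (29, 8), (29, 7), (8, 12), (32, 11), (32, 10), (26, 9), (26, 8), (21, 7), (21, 6), (17, 5), (17, 4), (14, 3), (2, 1), (41, 8), (34, 7), (34, 6), (28, 5), (28, 4), (23, 3), (23, 2), (43, 7), (43, 6), (8, 7), (44, 7), (44, 8), (42, 10), (42, 9), (35, 8), (35, 7), (29, 6), (29, 5), (5, 3), (8, 7), (41, 7), (34, 6), (34, 5), (28, 4), (28, 3), (43, 6), (43, 5), (8, 6), (44, 6), (44, 7), (42, 9), (42,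 8), (35, 7), (35, 6), (29, 5), (29, 4), (8, 9), (42, 9), (35, 8), (35, 7), (29, 6), (29, 5), (42, 10), (35, 9), (35, 8), (29, 7), (29, 6), (5, 4), (43, 8), (36, 7), (36, 6), (6, 4), (44, 6), (7, 4), (44, 4), (8, 5), (36, 4), (7, 5), (44, 6), (44, 5), (44, 7), (44, 6), (40, 8), (40, 7), (33, 6), (33, 5), (27, 4), (18, 3), (18, 2), (41, 6), (23, 5), (23, 4), (42, 7), (5, 5), (42, 5), (43, 7), (43, 6), (44, 8), (44, 7), (44, 9), (44, 8), (44, 10), (44, 9), (7, 7), (8, 7), (40, 7), (27, 6), (22, 5), (18, 4), (18, 3), (3, 1), (41, 2), (34, 1), (42, 3), (35, 2), (42, 4), (35, 3), (41, 6), (41, 5), (34, 4), (23, 3), (23, 2), (42, 7), (42, 6), (35, 5), (5, 3), (42, 5), (42, 4), (35, 3), (8, 5), (35, 4), (43, 6), (36, 5), (44, 7), (41, 9), (41, 8), (34, 7), (34, 6), (28, 5), (23, 4), (23, 3), (4, 1), (44, 5), (44, 4), (44, 6), (44, 5), (8,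 6), (43, 6), (36, 5), (36, 4), (43, 7), (36, 6), (36, 5), (6, 3), (44, 5), (7, 3)]),
    ([1, 0, 0, 0], [(0, 1)], [(9, 0), (30, 9), (24, 8), (24, 7), (15, 6), (12, 5), (12, 4), (10, 3), (10, 2), (9, 1), (32, 10), (26, 9), (26, 8), (17, 7), (14, 6), (14, 5), (2, 3), (40, 10), (33, 9), (33, 8), (27, 7), (27, 6), (22, 5), (22, 4), (42, 6), (43, 8), (43, 7), (44, 9), (44, 8), (43, 10), (43, 9), (36, 8), (44, 11), (44, 10), (44, 12), (44, 11), (7, 9), (44, 10), (44, 9), (8, 10), (35, 9), (29, 8), (29, 7), (5, 5), (35, 7), (29, 6), (29, 5), (36, 8), (6, 6), (36, 6), (7, 7), (41, 7), (28, 6), (23, 5), (8, 8), (29, 7), (43, 10), (43, 9), (44, 11), (44, 10), (44, 12), (44, 11), (8, 12), (43, 12), (36, 11), (36, 10), (6, 8), (44, 10), (7, 8), (44, 8), (8, 9), (34, 9), (34, 8), (23, 7), (23, 6), (35, 10), (35, 9), (5, 7), (35, 8), (35, 7),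 (36, 9), (36, 8), (36, 10), (36, 9), (39, 13), (39, 12), (32, 11), (32, 10), (26, 9), (26, 8), (21, 7), (17, 6), (17, 5), (14, 4), (14, 3), (40, 11), (33, 10), (33, 9), (27, 8), (27, 7), (22, 6), (22, 5), (42, 7), (43, 9), (43, 8), (44, 10), (44, 9), (43, 11), (43, 10), (36, 9), (44, 12), (44, 11), (44, 13), (44, 12), (7, 10), (44, 11), (44, 10), (8, 11), (35, 10), (29, 9), (29, 8), (5, 6), (35, 8), (29, 7), (29, 6), (36, 9), (6, 7), (36, 7), (7, 8), (41, 8), (28, 7), (23, 6), (8, 9), (29, 8), (41, 11), (41, 10), (28, 9), (23, 8), (23, 7), (8, 11), (42, 11), (29, 10), (5, 8), (8, 9), (29, 8), (43, 14), (43, 13), (36, 12), (36, 11), (6, 9), (44, 12), (44, 11), (7, 9), (44, 10), (44, 9), (8, 10), (44, 10), (44, 11), (7, 9), (8, 9), (23, 8), (4, 6), (5, 6), (40, 9), (40, 8), (27, 7), (27, 6), (3, 4), (43, 5), (36, 4), (44, 6), (43,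 7), (36, 6), (36, 5), (44, 8), (7, 6), (8, 6), (28, 5), (28, 4), (43, 7), (43, 6), (8, 7), (41, 7), (28, 6), (28, 5), (43, 8), (43, 7), (8, 8), (42, 9), (42, 8), (29, 7), (29, 6), (42, 10), (42, 9), (29, 8), (29, 7), (43, 11), (43, 10), (6, 8), (44, 9), (44, 8), (44, 10), (44, 9), (8, 10), (33, 9), (33, 8), (22, 7), (22, 6), (18, 5), (18, 4), (41, 8), (23, 7), (23, 6), (42, 9), (5, 7), (42, 7), (42, 9), (42, 8), (8, 9), (5, 7), (44, 7), (44, 8), (41, 9), (34, 8), (34, 7), (4, 5), (41, 7), (34, 6), (34, 5), (42, 8), (35, 7), (35, 6), (42, 9), (35, 8), (35, 7), (43, 10), (36, 9), (36, 8), (44, 11), (7, 9), (44, 9), (41, 11), (41, 10), (34, 9), (28, 8), (23, 7), (23, 6), (44, 11), (44, 10), (8, 11), (42, 11), (35, 10), (29, 9), (5, 7), (42, 9), (35, 8), (29, 7), (43, 10), (36, 9), (43, 11), (36, 10), (6, 8), (44, 9), (43, 11), (43,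 10), (36, 9), (36, 8), (44, 12), (44, 11), (7, 9), (44, 10), (44, 9), (8, 10), (36, 9), (7, 10), (44, 10), (37, 12), (37, 11), (30, 10), (24, 9), (24, 8), (19, 7), (15, 6), (15, 5), (12, 4), (10, 3), (9, 2), (0, 0), (38, 1), (38, 0), (39, 2), (39, 1), (39, 3), (39, 2), (40, 4), (40, 3), (40, 5), (40, 4), (41, 6), (41, 5), (43, 7), (43, 6), (43, 8), (43, 7), (44, 9), (44, 8), (39, 10), (39, 9), (32, 8), (26, 7), (26, 6), (17, 5), (14, 4), (14, 3), (2, 1), (40, 8), (33, 7), (33, 6), (27, 5), (27, 4), (22, 3), (22, 2), (42, 4), (43, 6), (43, 5), (44, 7), (44, 6), (43, 8), (43, 7), (36, 6), (44, 9), (44, 8), (44, 10), (44, 9), (7, 7), (44, 8), (44, 7), (8, 8), (35, 7), (29, 6), (29, 5), (5, 3), (35, 5), (29, 4), (29, 3), (36, 6), (6, 4), (36, 4), (7, 5), (41, 5), (28, 4), (23, 3), (8, 6), (29, 5), (43, 8), (43, 7), (44, 9), (44, 8),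 (44, 10), (44, 9), (8, 10), (43, 10), (36, 9), (36, 8), (6, 6), (44, 8), (7, 6), (44, 6), (8, 7), (41, 9), (41, 8), (34, 7), (34, 6), (23, 5), (23, 4), (42, 10), (42, 9), (35, 8), (35, 7), (5, 5), (42, 8), (42, 7), (35, 6), (35, 5), (43, 9), (43, 8), (36, 7), (36, 6), (43, 10), (43, 9), (36, 8), (36, 7), (8, 10), (40, 10), (33, 9), (33, 8), (27, 7), (27, 6), (22, 5), (18, 4), (18, 3), (3, 1), (41, 2), (34, 1), (42, 3), (35, 2), (42, 4), (35, 3), (41, 6), (41, 5), (34, 4), (23, 3), (23, 2), (42, 7), (42, 6), (35, 5), (5, 3), (42, 5), (42, 4), (35, 3), (8, 5), (35, 4), (43, 6), (36, 5), (44, 7), (43, 8), (36, 7), (36, 6), (44, 9), (7, 7), (44, 7), (44, 8), (41, 10), (41, 9), (34, 8), (34, 7), (28, 6), (28, 5), (23, 4), (23, 3), (4, 1), (43, 5), (43, 4), (8, 5), (44, 5), (44, 6), (8, 7), (34, 6), (34, 5), (28, 4), (28, 3), (23, 2),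 (23, 1), (43, 6), (43, 5), (8, 6), (44, 6), (44, 7), (42, 8), (35, 7), (35, 6), (29, 5), (29, 4), (5, 2), (42, 6), (35, 5), (35, 4), (29, 3), (29, 2), (43, 7), (36, 6), (36, 5), (6, 3), (44, 5), (7, 3), (44, 3), (41, 5), (41, 4), (34, 3), (23, 2), (42, 6), (42, 5), (35, 4), (42, 7), (42, 6), (35, 5), (5, 3), (43, 5), (43, 4), (36, 3), (43, 6), (43, 5), (36, 4), (44, 7), (44, 6), (8, 7), (34, 6), (34, 5), (28, 4), (28, 3), (4, 1), (43, 3), (43, 2), (8, 3), (44, 3), (44, 4), (42, 5), (35, 4), (35, 3), (29, 2), (29, 1), (42, 6), (35, 5), (35, 4), (29, 3), (29, 2), (43, 7), (36, 6), (36, 5), (6, 3), (43, 5), (36, 4), (36, 3), (44, 6), (7, 4), (42, 5), (42, 4), (29, 3), (5, 1), (44, 3), (44, 2), (8, 3), (36, 2), (7, 3), (43, 3), (6, 1), (44, 1), (44, 2), (44, 4), (44, 3), (7, 1), (8, 1)]),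
    ([2, 2, 2, 0], [(2, 0)], [(10, 2), (10, 1), (10, 0), (39, 8), (39, 7), (26, 6), (26, 5), (21, 4), (21, 3), (17, 2), (42, 6), (42, 5), (42, 7), (42, 6), (5, 4), (43, 5), (43, 4), (44, 6), (44, 5), (44, 7), (44, 6), (8, 7), (43, 7), (36, 6), (36, 5), (44, 8), (7, 6), (44, 6), (8, 7), (41, 8), (41, 7), (34, 6), (28, 5), (28, 4), (43, 7), (43, 6), (8, 7), (44, 7), (8, 8), (35, 7), (29, 6), (29, 5), (35, 8), (29, 7), (29, 6), (36, 9), (6, 7), (36, 7), (39, 10), (39, 9), (32, 8), (26, 7), (21, 6), (21, 5), (17, 4), (17, 3), (2, 1), (41, 4), (41, 3), (23, 2), (42, 5), (42, 4), (8, 5), (42, 5), (5, 3), (42, 3), (43, 4), (44, 5), (44, 6), (8, 7), (7, 5), (41, 6), (41, 5), (28, 4), (23, 3), (4, 1), (8, 3), (42, 3), (29, 2), (42, 4), (29, 3), (5, 1), (43, 2), (43, 3), (6, 1), (8, 1)]),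
    ([2, 0, 0, 0], [(0, 1)], [(10, 0), (37, 8), (37, 7), (24, 6), (24, 5), (19, 4), (19, 3), (15, 2), (10, 1), (41, 9), (41, 8), (28, 7), (28, 6), (23, 5), (23, 4), (43, 9), (43, 8), (8, 9), (8, 9), (29, 8), (29, 7), (5, 5), (29, 6), (29, 5), (6, 6), (42, 8), (35, 7), (29, 6), (44, 9), (42, 11), (42, 10), (35, 9), (35, 8), (29, 7), (5, 5), (44, 9), (44, 8), (7, 6), (8, 6), (43, 9), (36, 8), (36, 7), (6, 5), (44, 7), (7, 5), (44, 5), (8, 6), (37, 6), (30, 5), (15, 4), (15, 3), (10, 2), (0, 0), (39, 1), (39, 0), (41, 2), (41, 1), (42, 3), (42, 2), (42, 4), (42, 3), (43, 5), (43, 4), (43, 6), (43, 5), (8, 6), (41, 6), (28, 5), (28, 4), (23, 3), (23, 2), (43, 7), (43, 6), (8, 7), (42, 8), (42, 7), (29, 6), (29, 5), (5, 3), (42, 6), (42, 5), (29, 4), (29, 3), (43, 7), (43, 6), (6, 4), (43, 5), (43, 4), (44, 6), (44, 5), (8, 6), (34,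 5), (28, 4), (23, 3), (4, 1), (44, 4), (44, 3), (42, 5), (42, 4), (35, 3), (29, 2), (42, 6), (42, 5), (35, 4), (29, 3), (5, 1), (43, 4), (43, 3), (36, 2), (43, 5), (43, 4), (36, 3), (6, 1), (44, 3), (44, 2), (8, 3), (7, 1)]),
    ([2, 2, 2, 1], [(2, 0)], [(11, 2), (11, 1), (11, 0), (39, 5), (32, 4), (26, 3), (17, 2), (43, 6), (43, 5), (44, 7), (44, 6), (44, 8), (44, 7), (8, 8), (44, 8), (7, 6), (41, 7), (41, 6), (28, 5), (23, 4), (8, 7), (43, 7), (44, 8), (39, 10), (39, 9), (32, 8), (26, 7), (26, 6), (21, 5), (17, 4), (17, 3), (2, 1), (41, 4), (41, 3), (23, 2), (42, 5), (42, 4), (8, 5), (42, 5), (5, 3), (43, 3), (44, 4), (44, 5), (8, 6), (36, 5), (36, 4), (7, 5), (44, 7), (44, 6), (8, 7), (41, 7), (34, 6), (34, 5), (28, 4), (28, 3), (4, 1), (43, 3), (43, 2), (8, 3), (44, 3), (44, 4), (43, 6), (43, 5), (36, 4), (36, 3), (6, 1), (44,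 4), (44, 3), (7, 1), (8, 1)]),
    ([2, 1, 1, 1], [(1, 1)], [(11, 0), (38, 5), (31, 4), (25, 3), (16, 2), (11, 1), (41, 6), (34, 5), (28, 4), (44, 7), (44, 6), (8, 7), (35, 6), (29, 5), (43, 8), (36, 7), (44, 9), (44, 10), (7, 8), (44, 9), (44, 8), (8, 9), (38, 9), (31, 8), (25, 7), (25, 6), (20, 5), (16, 4), (16, 3), (11, 2), (1, 0), (39, 3), (32, 2), (21, 1), (21, 0), (41, 4), (34, 3), (23, 2), (23, 1), (43, 5), (36, 4), (44, 6), (41, 8), (41, 7), (34, 6), (34, 5), (28, 4), (23, 3), (23, 2), (44, 7), (44, 6), (44, 8), (44, 7), (8, 8), (42, 8), (35, 7), (35, 6), (29, 5), (5, 3), (41, 7), (41, 6), (34, 5), (34, 4), (28, 3), (4, 1), (44, 3), (44, 2), (44, 4), (44, 3), (8, 4), (42, 4), (35, 3), (35, 2), (29, 1), (42, 6), (42, 5), (35, 4), (35, 3), (29, 2), (8, 6), (36, 5), (36, 4), (7, 5), (43, 6), (36, 5), (6, 3), (44, 4), (44, 5),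 (7, 3), (44, 4), (44, 3), (8, 4)]),
    ([2, 1, 0], [(11, 0), (37, 5), (30, 4), (24, 3), (15, 2), (10, 1), (9, 0), (32, 9), (26, 8), (26, 7), (17, 6), (14, 5), (14, 4), (2, 2), (40, 9), (33, 8), (33, 7), (27, 6), (27, 5), (22, 4), (22, 3), (42, 5), (43, 7), (43, 6), (44, 8), (44, 7), (43, 9), (43, 8), (36, 7), (44, 10), (44, 9), (44, 11), (44, 10), (7, 8), (44, 9), (44, 8), (8, 9), (35, 8), (29, 7), (29, 6), (5, 4), (35, 6), (29, 5), (29, 4), (36, 7), (6, 5), (36, 5), (7, 6), (41, 6), (28, 5), (23, 4), (8, 7), (29, 6), (43, 9), (43, 8), (44, 10), (44, 9), (44, 11), (44, 10), (8, 11), (43, 11), (36, 10), (36, 9), (6, 7), (44, 9), (7, 7), (44, 7), (8, 8), (34, 8), (34, 7), (23, 6), (23, 5), (35, 9), (35, 8), (5, 6), (35, 7), (35, 6), (36, 8), (36, 7), (36, 9), (36, 8), (41, 12), (41, 11), (34, 10), (34, 9), (28, 8), (28, 7), (23,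 6), (4, 4), (43, 7), (43, 6), (8, 7), (44, 7), (44, 8), (8, 9), (35, 8), (35, 7), (29, 6), (29, 5), (35, 9), (35, 8), (29, 7), (29, 6), (5, 4), (36, 7), (36, 6), (6, 4), (36, 5), (36, 4), (7, 5), (43, 5), (44, 6), (44, 7), (44, 9), (44, 8), (7, 6), (8, 6)], [(9, 1), (10, 0), (38, 8), (38, 7), (25, 6), (25, 5), (20, 4), (20, 3), (16, 2), (11, 1), (41, 6), (34, 5), (28, 4), (44, 7), (44, 6), (8, 7), (35, 6), (29, 5), (42, 8), (35, 7), (29, 6), (42, 10), (42, 9), (35, 8), (29, 7), (5, 5), (8, 7), (36, 6), (7, 7), (43, 7), (6, 5), (44, 5), (44, 6), (8, 7), (39, 7), (32, 6), (32, 5), (17, 4), (17, 3), (41, 7), (41, 6), (23, 5), (42, 8), (42, 7), (8, 8), (44, 8), (44, 9), (39, 11), (39, 10), (32, 9), (32, 8), (21, 7), (21, 6), (17, 5), (17, 4), (2, 2), (41, 5), (41, 4), (23, 3), (42, 6), (42, 5), (8, 6), (42, 6), (5, 4), (42, 4), (44,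 5), (44, 6), (8, 7), (33, 6), (33, 5), (22, 4), (18, 3), (18, 2), (41, 6), (23, 5), (23, 4), (42, 7), (5, 5), (42, 5), (42, 7), (42, 6), (8, 7), (33, 8), (33, 7), (22, 6), (22, 5), (18, 4), (18, 3), (41, 7), (23, 6), (23, 5), (42, 8), (5, 6), (42, 6), (42, 8), (42, 7), (8, 8), (5, 6), (44, 6), (44, 7), (41, 8), (34, 7), (34, 6), (4, 4), (43, 6), (36, 5), (36, 4), (43, 7), (36, 6), (36, 5), (44, 8), (7, 6)]),
    ([3, 3, 3, 3], [(3, 0), (40, 1), (33, 0)], [(3, 1)]),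
    ([3, 3, 3, 0], [(3, 0), (37, 1), (30, 0)], [(12, 2), (12, 1), (12, 0), (40, 9), (33, 8), (33, 7), (27, 6), (22, 5), (22, 4), (18, 3), (18, 2), (41, 6), (23, 5), (23, 4), (42, 7), (5, 5), (42, 5), (42, 7), (42, 6), (8, 7), (5, 5), (43, 5), (44, 6), (44, 7), (44, 8), (7, 6), (41, 7), (41, 6), (28, 5), (4, 3), (8, 4), (41, 4), (28, 3), (8, 5), (29, 4), (29, 5), (40, 10), (33, 9), (33, 8), (27, 7), (27, 6), (22, 5), (22, 4), (18, 3), (3, 1), (41, 2), (34, 1), (42, 3), (35, 2), (42, 4), (35, 3), (42, 6), (42, 5), (35, 4), (5, 2), (8, 3), (35, 2), (43, 4), (36, 3), (44, 5), (43, 6), (36, 5), (36, 4), (44, 7), (7, 5), (44, 5), (44, 6), (41, 8), (41, 7), (34, 6), (34, 5), (28, 4), (28, 3), (23, 2), (43, 6), (43, 5), (8, 6), (44, 6), (44, 7), (8, 8), (34, 7), (34, 6), (28, 5), (28, 4), (23, 3), (4, 1), (43, 4), (43, 3), (8, 4), (44,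 4), (44, 5), (42, 6), (35, 5), (35, 4), (29, 3), (29, 2), (42, 7), (35, 6), (35, 5), (29, 4), (29, 3), (5, 1), (43, 5), (36, 4), (36, 3), (6, 1), (44, 3), (7, 1), (44, 1)]),
    ([3, 0, 0, 0], [(0, 1)], [(12, 0), (37, 9), (30, 8), (30, 7), (24, 6), (19, 5), (19, 4), (15, 3), (15, 2), (12, 1), (41, 10), (34, 9), (34, 8), (28, 7), (23, 6), (23, 5), (4, 3), (44, 7), (44, 6), (44, 8), (44, 7), (8, 8), (35, 7), (35, 6), (29, 5), (5, 3), (35, 5), (35, 4), (29, 3), (36, 6), (36, 5), (36, 7), (36, 6), (6, 4), (7, 4), (41, 4), (23, 3), (42, 5), (42, 6), (5, 4), (43, 4), (43, 5), (44, 6), (42, 8), (42, 7), (35, 6), (29, 5), (29, 4), (44, 9), (44, 8), (8, 9), (35, 8), (35, 7), (29, 6), (29, 5), (7, 8), (43, 8), (6, 6), (44, 6), (44, 7), (44, 9), (44, 8), (7, 6), (8, 6), (37, 8), (37, 7), (30, 6), (19, 5), (19, 4), (15, 3), (12, 2), (0, 0),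 (40, 1), (40, 0), (41, 2), (41, 1), (41, 3), (41, 2), (42, 4), (42, 3), (42, 5), (42, 4), (43, 6), (43, 5), (44, 7), (44, 6), (44, 8), (44, 7), (8, 8), (34, 7), (34, 6), (28, 5), (23, 4), (23, 3), (4, 1), (44, 5), (44, 4), (44, 6), (44, 5), (42, 7), (42, 6), (35, 5), (35, 4), (29, 3), (5, 1), (42, 5), (42, 4), (35, 3), (35, 2), (29, 1), (43, 6), (43, 5), (36, 4), (36, 3), (43, 7), (43, 6), (36, 5), (36, 4), (6, 2), (44, 5), (44, 4), (7, 2), (8, 2), (42, 4), (35, 3), (5, 1), (44, 2), (44, 4), (44, 3), (7, 1), (8, 1)]),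
    ([3, 3, 3, 1], [(3, 0), (38, 1), (31, 0)], [(13, 2), (13, 1), (13, 0), (40, 6), (40, 5), (27, 4), (18, 3), (18, 2), (41, 6), (23, 5), (23, 4), (42, 7), (5, 5), (42, 5), (43, 7), (43, 6), (44, 8), (44, 7), (8, 8), (41, 8), (34, 7), (28, 6), (23, 5), (4, 3), (44, 6), (44, 5), (8, 6), (34, 5), (28, 4), (23, 3), (44, 7), (44, 6), (43, 8), (43, 7), (36, 6), (8, 8), (40, 8), (33, 7), (27, 6), (27, 5), (22, 4), (18, 3), (3, 1), (41, 2), (34, 1), (42, 3), (35, 2), (42, 4), (35, 3), (42, 6), (42, 5), (35, 4), (5, 2), (8, 3), (36, 2), (36, 4), (36, 3), (7, 4), (41, 5), (34, 4), (28, 3), (28, 2), (43, 5), (43, 4), (8, 5), (44, 5), (41, 7), (41, 6), (34, 5), (28, 4), (28, 3), (4, 1), (43, 3), (43, 2), (8, 3), (44, 3), (8, 4), (36, 3), (6, 1)]),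
    ([3, 1, 1, 1], [(1, 1)], [(13, 0), (38, 6), (38, 5), (25, 4), (16, 3), (16, 2), (13, 1), (41, 7), (41, 6), (28, 5), (4, 3), (8, 4), (42, 4), (29, 3), (41, 6), (41, 5), (28, 4), (23, 3), (8, 6), (42, 6), (29, 5), (43, 8), (43, 7), (44, 9), (44, 8), (44, 10), (44, 9), (8, 10), (38, 11), (38, 10), (31, 9), (31, 8), (25, 7), (25, 6), (20, 5), (20, 4), (16, 3), (13, 2), (1, 0), (40, 3), (33, 2), (22, 1), (22, 0), (42, 2), (44, 4), (44, 3), (8, 4), (34, 3), (23, 2), (23, 1), (34, 4), (23, 3), (23, 2), (36, 5), (41, 8), (41, 7), (34, 6), (28, 5), (23, 4), (23, 3), (4, 1), (44, 5), (44, 4), (8, 5), (42, 5), (35, 4), (29, 3), (5, 1), (42, 4), (42, 3), (35, 2), (29, 1), (8, 4), (35, 3), (29, 2), (43, 5), (36, 4), (44, 6), (44, 7), (7, 5), (43, 6), (43, 5), (6, 3), (44, 4), (44, 3), (44, 5), (44, 4), (8, 5), (7, 3), (44, 3), (8, 4)]),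
    ([3, 1, 0], [(13, 0), (37, 6), (37, 5), (24, 4), (15, 3), (15, 2), (12, 1), (9, 0), (33, 9), (27, 8), (27, 7), (18, 6), (3, 4), (41, 5), (34, 4), (42, 6), (35, 5), (42, 7), (35, 6), (43, 9), (43, 8), (36, 7), (44, 10), (44, 9), (43, 11), (43, 10), (36, 9), (36, 8), (44, 12), (44, 11), (7, 9), (44, 10), (44, 9), (41, 11), (41, 10), (34, 9), (28, 8), (28, 7), (23, 6), (23, 5), (43, 10), (43, 9), (8, 10), (44, 10), (8, 11), (34, 10), (28, 9), (28, 8), (23, 7), (23, 6), (4, 4), (43, 8), (43, 7), (8, 8), (44, 8), (42, 9), (35, 8), (29, 7), (29, 6), (5, 4), (42, 7), (35, 6), (29, 5), (29, 4), (43, 8), (36, 7), (6, 5), (44, 6), (44, 7), (7, 5), (41, 6), (41, 5), (23, 4), (42, 7), (42, 6), (42, 8), (42, 7), (5, 5), (43, 6), (43, 5), (43, 7), (43, 6), (44, 8), (44, 7), (8, 8), (34, 7), (28, 6), (28, 5), (43, 8), (43, 7), (8, 8), (44,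 8), (42, 9), (35, 8), (29, 7), (29, 6), (42, 10), (35, 9), (29, 8), (29, 7), (43, 11), (36, 10), (6, 8), (43, 9), (36, 8), (44, 10), (43, 12), (43, 11), (36, 10), (36, 9), (44, 13), (44, 12), (7, 10), (44, 11), (44, 10), (8, 11)], [(9, 1), (12, 0), (38, 9), (31, 8), (31, 7), (25, 6), (20, 5), (20, 4), (16, 3), (16, 2), (13, 1), (41, 7), (41, 6), (28, 5), (4, 3), (8, 4), (42, 4), (29, 3), (41, 6), (41, 5), (28, 4), (23, 3), (8, 6), (42, 6), (29, 5), (42, 8), (42, 7), (29, 6), (5, 4), (8, 5), (29, 4), (43, 6), (44, 7), (44, 8), (44, 10), (44, 9), (7, 7), (8, 7), (39, 9), (39, 8), (32, 7), (26, 6), (26, 5), (21, 4), (17, 3), (14, 2), (41, 10), (34, 9), (34, 8), (28, 7), (28, 6), (23, 5), (23, 4), (43, 9), (43, 8), (8, 9), (44, 9), (44, 10), (42, 12), (42, 11), (35, 10), (35, 9), (29, 8), (29, 7), (5, 5), (8, 9), (42, 9), (35, 8), (35,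 7), (29, 6), (29, 5), (43, 10), (36, 9), (36, 8), (6, 6), (44, 8), (7, 6), (44, 6), (8, 7), (36, 6), (7, 7), (44, 8), (44, 7), (8, 8), (39, 8), (32, 7), (26, 6), (21, 5), (17, 4), (14, 3), (41, 11), (34, 10), (34, 9), (28, 8), (28, 7), (23, 6), (23, 5), (43, 10), (43, 9), (8, 10), (44, 10), (44, 11), (42, 13), (42, 12), (35, 11), (35, 10), (29, 9), (29, 8), (5, 6), (8, 10), (42, 10), (35, 9), (35, 8), (29, 7), (29, 6), (43, 11), (36, 10), (36, 9), (6, 7), (44, 9), (7, 7), (44, 7), (8, 8), (40, 9), (33, 8), (33, 7), (22, 6), (18, 5), (42, 9), (5, 7), (44, 8), (44, 7), (44, 9), (44, 8), (8, 9), (33, 8), (33, 7), (18, 6), (3, 4), (41, 5), (34, 4), (42, 6), (35, 5), (42, 7), (35, 6), (44, 9), (44, 8), (44, 10), (44, 9), (7, 7), (41, 8), (41, 7), (23, 6), (23, 5), (43, 9), (43, 8), (43, 10), (43, 9), (44, 11), (44, 10)]),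
    ([3, 3, 3, 2], [(3, 0), (39, 1), (32, 0)], [(14, 2), (14, 1), (14, 0), (40, 8), (33, 7), (33, 6), (27, 5), (27, 4), (22, 3), (22, 2), (42, 4), (43, 6), (43, 5), (44, 7), (44, 6), (43, 8), (43, 7), (36, 6), (44, 9), (44, 8), (44, 10), (44, 9), (7, 7), (44, 8), (44, 7), (8, 8), (35, 7), (29, 6), (29, 5), (5, 3), (35, 5), (29, 4), (29, 3), (36, 6), (6, 4), (36, 4), (7, 5), (40, 5), (27, 4), (22, 3), (3, 1), (42, 2), (35, 1), (43, 4), (43, 3), (36, 2), (44, 5), (44, 4), (8, 5), (35, 4), (35, 3), (29, 2), (35, 5), (35, 4), (29, 3), (5, 1), (36, 3), (36, 2), (36, 4), (36, 3), (6, 1), (7, 1)]),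
    ([3, 2, 2, 2], [(2, 1)], [(14, 0), (39, 8), (32, 7), (32, 6), (26, 5), (26, 4), (21, 3), (21, 2), (14, 1), (42, 9), (35, 8), (35, 7), (29, 6), (29, 5), (5, 3), (42, 7), (35, 6), (35, 5), (29, 4), (29, 3), (43, 8), (36, 7), (36, 6), (6, 4), (44, 6), (7, 4), (44, 4), (8, 5), (36, 4), (7, 5), (44, 6), (44, 5), (44, 7), (44, 6), (8, 7), (32, 6), (32, 5), (26, 4), (21, 3), (14, 2), (2, 0), (42, 7), (35, 6), (35, 5), (29, 4), (29, 3), (5, 1), (43, 5), (36, 4), (36, 3), (6, 1), (44, 3), (7, 1), (44, 1), (8, 2), (7, 1)]),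
    ([3, 2, 0], [(14, 0), (37, 8), (30, 7), (30, 6), (24, 5), (24, 4), (19, 3), (19, 2), (12, 1), (10, 0), (40, 8), (40, 7), (27, 6), (27, 5), (22, 4), (22, 3), (18, 2), (42, 6), (5, 4), (42, 5), (42, 4), (8, 5), (36, 6), (41, 10), (41, 9), (34, 8), (34, 7), (28, 6), (28, 5), (23, 4), (43, 8), (43, 7), (8, 8), (44, 8), (44, 9), (8, 10), (34, 9), (34, 8), (28, 7), (28, 6), (23, 5), (4, 3), (43, 6), (43, 5), (8, 6), (44, 6), (44, 7), (42, 8), (35, 7), (35, 6), (29, 5), (29, 4), (42, 9), (35, 8), (35, 7), (29, 6), (29, 5), (5, 3), (43, 7), (36, 6), (36, 5), (6, 3), (44, 5), (7, 3), (44, 3), (42, 5), (42, 4), (35, 3), (44, 6), (44, 5), (8, 6), (35, 5), (35, 4), (7, 5), (43, 5), (44, 6), (44, 7), (43, 9), (43, 8), (36, 7), (36, 6), (44, 10), (44, 9), (7, 7), (44, 8), (44, 7), (8, 8), (44, 9), (7, 7), (8, 7)], [(10, 1), (12, 0), (39,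 9), (32, 8), (32, 7), (26, 6), (21, 5), (21, 4), (17, 3), (17, 2), (14, 1), (41, 9), (34, 8), (34, 7), (28, 6), (28, 5), (23, 4), (23, 3), (43, 8), (43, 7), (8, 8), (44, 8), (44, 9), (42, 11), (42, 10), (35, 9), (35, 8), (29, 7), (29, 6), (5, 4), (8, 8), (41, 8), (34, 7), (34, 6), (28, 5), (28, 4), (43, 7), (43, 6), (8, 7), (44, 7), (44, 8), (42, 10), (42, 9), (35, 8), (35, 7), (29, 6), (29, 5), (8, 10), (42, 10), (35, 9), (35, 8), (29, 7), (29, 6), (42, 11), (35, 10), (35, 9), (29, 8), (29, 7), (5, 5), (43, 9), (36, 8), (36, 7), (6, 5), (44, 7), (7, 5), (44, 5), (8, 6), (7, 5), (41, 5), (4, 3), (42, 3), (42, 4), (43, 5), (43, 6), (8, 7)]),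
    ([3, 2, 1], [(14, 0), (38, 8), (31, 7), (31, 6), (25, 5), (25, 4), (20, 3), (20, 2), (13, 1), (11, 0), (40, 5), (33, 4), (27, 3), (18, 2), (43, 6), (44, 7), (44, 8), (41, 10), (41, 9), (34, 8), (34, 7), (28, 6), (23, 5), (23, 4), (44, 9), (44, 8), (44, 10), (44, 9), (8, 10), (41, 10), (34, 9), (34, 8), (28, 7), (23, 6), (23, 5), (4, 3), (44, 7), (44, 6), (44, 8), (44, 7), (8, 8), (36, 7), (36, 6), (42, 10), (42, 9), (35, 8), (35, 7), (29, 6), (29, 5), (5, 3), (8, 7), (35, 6), (35, 5), (29, 4), (29, 3), (43, 8), (36, 7), (36, 6), (6, 4), (44, 6), (7, 4), (44, 4), (43, 6), (43, 5), (36, 4), (44, 7), (44, 6), (44, 8), (44, 7), (7, 5), (8, 5), (44, 6), (8, 7)], [(11, 1), (13, 0), (39, 6), (39, 5), (26, 4), (17, 3), (17, 2), (14, 1), (41, 9), (34, 8), (34, 7), (28, 6), (28, 5), (23, 4), (23, 3), (43, 8), (43, 7), (8, 8), (44, 8),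 (44, 9), (42, 11), (42, 10), (35, 9), (35, 8), (29, 7), (29, 6), (5, 4), (8, 8), (41, 8), (34, 7), (34, 6), (28, 5), (28, 4), (43, 7), (43, 6), (8, 7), (44, 7), (44, 8), (42, 10), (42, 9), (35, 8), (35, 7), (29, 6), (29, 5), (8, 10), (43, 10), (36, 9), (36, 8), (6, 6), (44, 8), (7, 6), (44, 6), (8, 7), (41, 8), (41, 7), (34, 6), (23, 5), (4, 3), (43, 6), (43, 5), (36, 4), (44, 7), (44, 6), (8, 7)]),
    ([4, 4, 4, 0], [(4, 0)], [(15, 2), (15, 1), (15, 0), (41, 7), (34, 6), (28, 5), (28, 4), (23, 3), (23, 2), (43, 7), (43, 6), (8, 7), (44, 7), (42, 9), (42, 8), (35, 7), (29, 6), (29, 5), (5, 3), (42, 7), (42, 6), (35, 5), (29, 4), (29, 3), (43, 8), (43, 7), (36, 6), (6, 4), (43, 6), (43, 5), (36, 4), (44, 7), (44, 6), (8, 7), (34, 6), (34, 5), (28, 4), (23, 3), (4, 1), (44, 4), (44, 3), (44, 5), (44, 4), (42, 6), (42, 5), (35, 4),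 (35, 3), (29, 2), (42, 7), (42, 6), (35, 5), (35, 4), (29, 3), (5, 1), (43, 5), (43, 4), (36, 3), (36, 2), (43, 6), (43, 5), (36, 4), (36, 3), (6, 1), (44, 4), (44, 3), (7, 1), (8, 1)]),
    ([4, 0, 0, 0], [(0, 1)], [(15, 0), (37, 7), (30, 6), (24, 5), (24, 4), (19, 3), (19, 2), (15, 1), (42, 8), (35, 7), (29, 6), (29, 5), (5, 3), (44, 6), (42, 8), (42, 7), (35, 6), (35, 5), (29, 4), (29, 3), (44, 9), (44, 8), (7, 6), (8, 6), (6, 4), (43, 6), (36, 5), (36, 4), (44, 7), (7, 5), (44, 5), (44, 7), (44, 6), (8, 7), (37, 7), (30, 6), (30, 5), (24, 4), (19, 3), (15, 2), (0, 0), (41, 1), (41, 0), (42, 2), (42, 1), (42, 3), (42, 2), (43, 4), (43, 3), (43, 5), (43, 4), (44, 6), (44, 5), (8, 6), (35, 5), (29, 4), (29, 3), (5, 1), (43, 5), (36, 4), (36, 3), (6, 1), (44, 3), (7, 1), (44, 1), (44, 3), (44, 2), (8, 3), (7, 1)]),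
    ([4, 4, 4, 1], [(4, 0)], [(16, 2), (16, 1), (16, 0), (41, 3), (23, 2), (42, 4), (41, 6), (41, 5), (23, 4), (23, 3), (4, 1), (42, 4), (42, 3), (5, 1), (8, 1)]),
    ([4, 1, 1, 1], [(1, 1)], [(16, 0), (38, 3), (20, 2), (16, 1), (42, 4), (8, 5), (20, 4), (20, 3), (16, 2), (1, 0), (41, 3), (34, 2), (23, 1), (23, 0), (42, 4), (35, 3), (5, 1), (42, 3), (42, 2), (35, 1), (8, 3), (35, 2)]),
    ([4, 1, 0], [(16, 0), (37, 3), (19, 2), (15, 1), (9, 0), (34, 9), (28, 8), (28, 7), (43, 10), (43, 9), (8, 10), (44, 10), (42, 11), (35, 10), (29, 9), (29, 8), (42, 12), (35, 11), (29, 10), (29, 9), (43, 13), (36, 12), (6, 10), (43, 11), (36, 10), (44, 12), (42, 14), (42, 13), (35, 12), (35, 11), (29, 10), (5, 8), (44, 12), (44, 11), (7, 9), (8, 9)], [(9, 1), (15, 0), (38, 7), (31, 6), (25, 5), (25, 4), (20, 3), (20, 2), (16, 1), (42, 4), (42,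 6), (42, 5), (5, 3), (8, 3), (43, 6), (36, 5), (36, 4), (44, 7), (7, 5), (44, 5), (44, 7), (44, 6), (8, 7), (39, 7), (32, 6), (32, 5), (26, 4), (26, 3), (17, 2), (43, 6), (43, 5), (44, 7), (44, 6), (44, 8), (44, 7), (8, 8), (43, 8), (36, 7), (36, 6), (44, 9), (7, 7), (44, 7), (8, 8), (7, 7), (39, 7), (26, 6), (26, 5), (21, 4), (17, 3), (42, 7), (42, 6), (43, 8), (43, 7), (44, 9), (44, 8), (44, 10), (44, 9), (8, 10), (43, 10), (36, 9), (36, 8), (44, 11), (7, 9), (44, 9), (8, 10), (40, 10), (33, 9), (27, 8), (27, 7), (22, 6), (22, 5), (18, 4), (42, 8), (5, 6), (42, 7), (42, 6), (8, 7), (36, 8), (7, 9), (40, 9), (27, 8), (27, 7), (22, 6), (18, 5), (42, 9), (5, 7), (43, 8), (43, 7), (44, 9), (44, 8), (43, 10), (43, 9), (36, 8), (44, 11), (44, 10), (8, 11), (34, 10), (34, 9), (28, 8), (28, 7), (43, 10), (43, 9), (8, 10), (44, 10), (44,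 11), (43, 12), (36, 11), (36, 10), (6, 8), (43, 10), (36, 9), (36, 8), (44, 11), (7, 9)]),
    ([4, 4, 4, 2], [(4, 0)], [(17, 2), (17, 1), (17, 0), (41, 4), (41, 3), (23, 2), (42, 5), (42, 4), (8, 5), (41, 5), (23, 4), (23, 3), (4, 1), (42, 3), (5, 1), (8, 1)]),
    ([4, 2, 2, 2], [(2, 1)], [(17, 0), (39, 4), (39, 3), (21, 2), (17, 1), (42, 5), (42, 4), (8, 5), (39, 5), (21, 4), (21, 3), (17, 2), (2, 0), (42, 3), (42, 2), (42, 4), (42, 3), (5, 1), (8, 1)]),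
    ([4, 2, 0], [(17, 0), (37, 4), (37, 3), (19, 2), (15, 1), (10, 0), (41, 8), (41, 7), (28, 6), (28, 5), (23, 4), (23, 3), (43, 8), (43, 7), (8, 8), (8, 8), (29, 7), (29, 6), (5, 4), (29, 5), (29, 4), (6, 5), (42, 7), (35, 6), (29, 5), (44, 8), (8, 9)], [(10, 1), (15, 0), (39, 7), (32, 6), (26, 5), (26, 4), (21, 3), (21, 2), (17, 1), (42, 5), (42, 4), (42, 6), (42, 5), (5, 3), (43, 4), (43, 3), (44, 5), (44, 4), (44, 6), (44, 5), (8, 6), (43, 6), (36, 5), (36, 4), (44, 7), (7, 5), (44, 5), (8, 6), (41, 7), (34, 6), (34, 5), (28, 4), (28, 3), (43, 6), (43, 5), (8, 6), (44, 6), (44, 7), (42, 9), (42, 8), (35, 7), (35, 6), (29, 5), (29, 4), (42, 10), (42, 9), (35, 8), (35, 7), (29, 6), (29, 5), (43, 11), (43, 10), (36, 9), (36, 8), (6, 6), (43, 9), (43, 8), (36, 7), (36, 6), (8, 9)]),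
    ([4, 2, 1], [(17, 0), (38, 4), (38, 3), (20, 2), (16, 1), (11, 0), (41, 5), (34, 4), (28, 3), (44, 6), (44, 5), (8, 6), (35, 5), (29, 4), (42, 7), (35, 6), (29, 5), (8, 8)], [(11, 1), (16, 0), (39, 3), (21, 2), (17, 1), (42, 5), (42, 4), (8, 5), (23, 4), (23, 3)]),
    ([4, 3, 3, 3], [(3, 1)], [(18, 0), (40, 4), (22, 3), (22, 2), (18, 1), (42, 5), (5, 3), (42, 4), (42, 3), (8, 4), (40, 4), (22, 3), (18, 2), (3, 0), (41, 1), (34, 0), (42, 2), (35, 1), (42, 3), (35, 2), (42, 5), (42, 4), (35, 3), (5, 1), (8, 2)]),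
    ([4, 3, 0], [(18, 0), (37, 4), (19, 3), (19, 2), (15, 1), (12, 0), (41, 9), (34, 8), (34, 7), (28, 6), (23, 5), (23, 4), (4, 2), (44, 6), (44, 5), (44, 7), (44, 6), (8, 7), (35, 6), (35, 5), (29, 4), (5, 2), (35, 4), (35, 3), (29, 2), (36, 5), (36, 4), (36, 6), (36, 5), (6, 3), (7, 3), (42, 3), (44, 4), (42, 6), (42, 5), (35, 4), (5, 2), (44, 4), (44, 3), (8, 4)], [(12, 1), (15, 0), (40, 7), (33, 6), (27, 5), (27, 4), (22, 3), (22, 2), (18, 1), (42, 5), (5, 3), (42, 4), (42, 3), (8, 4), (36, 5), (7, 6), (41, 6), (28, 5), (28, 4), (23, 3), (43, 7), (43, 6), (8, 7), (41, 8), (41, 7), (28, 6), (28, 5), (23, 4), (4, 2), (43, 5), (43, 4), (8, 5), (8, 5), (29, 4), (29, 3), (29, 5), (29, 4), (5, 2), (6, 2)]),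
    ([5, 5, 5, 0], [(5, 0)], [(19, 2), (19, 1), (19, 0), (42, 3), (35, 2), (44, 4), (42, 6), (42, 5), (35, 4), (35, 3), (5, 1), (44, 4), (44, 3), (7, 1), (8, 1)]),
    ([5, 1, 1, 1], [(1, 1), (5, 0)], [(20, 0), (38, 2), (20, 1), (38, 4), (38, 3), (20, 2), (1, 0), (42, 3), (35, 2), (5, 0), (8, 1)])]
  fuses := [
    ⟨0, [0, 0, 0], [], [(38, 7), (31, 6), (31, 5), (20, 4), (16, 3), (16, 2), (13, 1), (41, 7), (41, 6), (28, 5), (4, 3), (8, 4), (42, 4), (29, 3), (41, 6), (41, 5), (28, 4), (23, 3), (8, 6), (42, 6), (29, 5), (42, 8), (42, 7), (29, 6), (5, 4), (8, 5), (44, 6), (8, 7), (33, 6), (33, 5), (27, 4), (18, 3), (43, 7), (44, 8), (44, 9), (44, 10), (7, 8), (41, 8), (28, 7), (23, 6), (23, 5), (8, 9), (28, 8), (23, 7), (23, 6), (4, 4), (42, 8), (42, 7), (29, 6), (5, 4), (44, 6), (44, 5), (44, 7), (44, 6), (8, 7), (31, 6), (31, 5),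 (25, 4), (13, 3), (13, 2), (1, 0), (40, 3), (33, 2), (22, 1), (22, 0), (42, 2), (44, 4), (44, 3), (8, 4), (34, 3), (23, 2), (23, 1), (34, 4), (23, 3), (23, 2), (36, 5), (40, 8), (40, 7), (33, 6), (27, 5), (22, 4), (22, 3), (18, 2), (18, 1), (41, 5), (23, 4), (23, 3), (42, 6), (5, 4), (42, 4), (42, 6), (42, 5), (8, 6), (5, 4), (43, 4), (44, 5), (44, 6), (8, 7), (34, 6), (34, 5), (28, 4), (4, 2), (44, 4), (44, 3), (44, 5), (44, 4), (41, 6), (41, 5), (34, 4), (34, 3), (28, 2), (44, 5), (44, 4), (44, 6), (44, 5), (8, 6), (43, 6), (36, 5), (36, 4), (8, 7), (36, 6), (36, 5), (6, 3), (7, 3), (44, 4), (44, 6), (44, 5), (7, 3), (8, 3), (18, 2), (3, 0), (41, 1), (34, 0), (42, 2), (35, 1), (42, 3), (35, 2), (41, 5), (41, 4), (34, 3), (23, 2), (23, 1), (41, 6), (41, 5), (34, 4), (23, 3), (23, 2), (4, 0), (42, 4), (42, 3), (35, 2), (5, 0), (44,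 2), (44, 1), (44, 3), (44, 2), (7, 0), (8, 0)], [], [(31, 8), (20, 7), (20, 6), (16, 5), (13, 4), (11, 3), (11, 2), (1, 0), (39, 3), (32, 2), (21, 1), (21, 0), (41, 4), (34, 3), (23, 2), (23, 1), (43, 5), (36, 4), (44, 6), (39, 8), (39, 7), (32, 6), (32, 5), (26, 4), (21, 3), (21, 2), (17, 1), (42, 5), (42, 4), (42, 6), (42, 5), (5, 3), (43, 4), (43, 3), (44, 5), (44, 4), (44, 6), (44, 5), (8, 6), (44, 6), (7, 4), (44, 4), (8, 5), (34, 4), (28, 3), (44, 6), (44, 5), (43, 7), (43, 6), (36, 5), (44, 8), (44, 7), (8, 8), (33, 7), (33, 6), (27, 5), (27, 4), (18, 3), (18, 2), (41, 6), (23, 5), (23, 4), (42, 7), (5, 5), (42, 5), (43, 7), (43, 6), (44, 8), (44, 7), (43, 9), (43, 8), (36, 7), (44, 10), (44, 9), (44, 11), (44, 10), (7, 8), (44, 9), (44, 8), (41, 10), (41, 9), (34, 8), (28, 7), (28, 6), (23, 5), (4, 3), (43, 6), (43, 5),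 (8, 6), (44, 6), (8, 7), (34, 6), (28, 5), (28, 4), (23, 3), (43, 7), (43, 6), (8, 7), (44, 7), (43, 8), (36, 7), (6, 5), (8, 6), (34, 5), (23, 4), (35, 6), (42, 8), (35, 7), (5, 5), (42, 7), (42, 6), (35, 5), (8, 7), (38, 8), (31, 7), (31, 6), (20, 5), (16, 4), (16, 3), (13, 2), (11, 1), (11, 0), (39, 5), (32, 4), (26, 3), (17, 2), (43, 6), (43, 5), (44, 7), (44, 6), (44, 8), (44, 7), (8, 8), (44, 8), (7, 6), (41, 7), (41, 6), (28, 5), (23, 4), (8, 7), (43, 7), (44, 8), (40, 10), (40, 9), (33, 8), (27, 7), (27, 6), (22, 5), (18, 4), (18, 3), (41, 7), (23, 6), (23, 5), (42, 8), (5, 6), (42, 6), (42, 8), (42, 7), (8, 8), (36, 9), (7, 10), (41, 11), (41, 10), (28, 9), (28, 8), (23, 7), (23, 6), (4, 4), (43, 8), (43, 7), (8, 8), (8, 8), (28, 7), (28, 6), (23, 5), (23, 4), (43, 9), (43, 8), (8, 9), (43, 9), (6, 7), (8, 7), (23, 6),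 (23, 5), (5, 6), (41, 6), (4, 4), (42, 4), (42, 6), (42, 5), (8, 6), (44, 7), (8, 8), (32, 7), (32, 6), (21, 5), (21, 4), (14, 3), (2, 1), (42, 8), (35, 7), (35, 6), (29, 5), (29, 4), (5, 2), (42, 6), (35, 5), (35, 4), (29, 3), (29, 2), (44, 7), (7, 5), (44, 5), (39, 6), (32, 5), (26, 4), (26, 3), (21, 2), (14, 1), (42, 9), (35, 8), (35, 7), (29, 6), (29, 5), (5, 3), (43, 7), (36, 6), (36, 5), (6, 3), (44, 5), (7, 3), (44, 3), (8, 4), (36, 3), (7, 4), (44, 5), (44, 4), (8, 5), (33, 4), (27, 3), (34, 6), (34, 5), (28, 4), (44, 7), (44, 6), (44, 8), (44, 7), (42, 9), (42, 8), (35, 7), (35, 6), (29, 5), (42, 10), (42, 9), (35, 8), (35, 7), (29, 6), (44, 11), (44, 10), (7, 8), (38, 9), (38, 8), (25, 7), (20, 6), (20, 5), (16, 4), (13, 3), (13, 2), (11, 1), (40, 6), (33, 5), (27, 4), (18, 3), (43, 7), (44, 8), (44, 9), (41, 11), (41,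 10), (34, 9), (34, 8), (28, 7), (23, 6), (23, 5), (44, 10), (44, 9), (44, 11), (44, 10), (8, 11), (41, 11), (34, 10), (34, 9), (28, 8), (23, 7), (23, 6), (4, 4), (44, 8), (44, 7), (44, 9), (44, 8), (8, 9), (36, 8), (36, 7), (40, 11), (40, 10), (33, 9), (33, 8), (27, 7), (27, 6), (22, 5), (22, 4), (42, 6), (43, 8), (43, 7), (44, 9), (44, 8), (43, 10), (43, 9), (36, 8), (44, 11), (44, 10), (44, 12), (44, 11), (7, 9), (44, 10), (44, 9), (8, 10), (41, 10), (34, 9), (28, 8), (28, 7), (23, 6), (23, 5), (43, 10), (43, 9), (8, 10), (44, 10), (41, 12), (41, 11), (34, 10), (28, 9), (28, 8), (23, 7), (23, 6), (43, 11), (43, 10), (8, 11), (44, 11), (8, 12), (36, 11), (6, 9), (41, 11), (41, 10), (34, 9), (23, 8), (23, 7), (4, 5), (42, 9), (42, 8), (35, 7), (5, 5), (8, 6), (35, 5), (42, 7), (35, 6), (43, 9), (43, 8), (36, 7), (44, 10), (44, 9),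 (44, 11), (44, 10), (7, 8), (8, 8), (38, 9), (38, 8), (25, 7), (20, 6), (20, 5), (13, 4), (13, 3), (11, 2), (1, 0), (39, 3), (32, 2), (21, 1), (21, 0), (41, 4), (34, 3), (23, 2), (23, 1), (43, 5), (36, 4), (44, 6), (40, 8), (40, 7), (33, 6), (33, 5), (27, 4), (22, 3), (22, 2), (18, 1), (42, 5), (5, 3), (42, 4), (42, 3), (8, 4), (7, 5), (41, 6), (41, 5), (28, 4), (23, 3), (8, 6), (41, 6), (28, 5), (23, 4), (4, 2), (8, 4), (40, 6), (40, 5), (27, 4), (27, 3), (22, 2), (43, 4), (44, 5), (43, 6), (36, 5), (44, 7), (8, 8), (34, 7), (34, 6), (28, 5), (28, 4), (23, 3), (43, 7), (43, 6), (8, 7), (44, 7), (44, 8), (41, 9), (34, 8), (34, 7), (28, 6), (28, 5), (23, 4), (43, 8), (43, 7), (8, 8), (44, 8), (44, 9), (43, 11), (43, 10), (36, 9), (36, 8), (6, 6), (8, 8), (42, 8), (35, 7), (35, 6), (42, 10), (42, 9), (35, 8), (35, 7), (5, 5), (8,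 7), (36, 6), (36, 5), (7, 6), (8, 7), (32, 6), (26, 5), (17, 4), (17, 3), (14, 2), (14, 1), (40, 9), (33, 8), (33, 7), (27, 6), (27, 5), (22, 4), (22, 3), (42, 5), (43, 7), (43, 6), (44, 8), (44, 7), (43, 9), (43, 8), (36, 7), (44, 10), (44, 9), (44, 11), (44, 10), (7, 8), (44, 9), (44, 8), (8, 9), (35, 8), (29, 7), (29, 6), (5, 4), (35, 6), (29, 5), (29, 4), (36, 7), (6, 5), (36, 5), (7, 6), (41, 6), (28, 5), (23, 4), (8, 7), (29, 6), (41, 9), (41, 8), (28, 7), (23, 6), (23, 5), (8, 9), (42, 9), (29, 8), (5, 6), (8, 7), (44, 11), (44, 10), (7, 8), (39, 9), (39, 8), (26, 7), (26, 6), (17, 5), (17, 4), (14, 3), (14, 2), (2, 0), (40, 7), (33, 6), (33, 5), (27, 4), (27, 3), (22, 2), (22, 1), (42, 3), (43, 5), (43, 4), (44, 6), (44, 5), (43, 7), (43, 6), (36, 5), (44, 8), (44, 7), (44, 9), (44, 8), (7, 6), (44, 7), (44, 6), (8, 7),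 (35, 6), (29, 5), (29, 4), (5, 2), (35, 4), (29, 3), (29, 2), (36, 5), (6, 3), (36, 3), (7, 4), (41, 4), (28, 3), (23, 2), (8, 5), (29, 4), (41, 7), (41, 6), (28, 5), (23, 4), (23, 3), (8, 7), (42, 7), (29, 6), (5, 4), (8, 5), (43, 9), (43, 8), (36, 7), (36, 6), (6, 4), (44, 7), (44, 6), (7, 4), (44, 5), (44, 4), (8, 5), (8, 5), (33, 4), (18, 3), (18, 2), (3, 0), (41, 1), (34, 0), (42, 2), (35, 1), (42, 3), (35, 2), (41, 5), (41, 4), (34, 3), (23, 2), (23, 1), (42, 6), (42, 5), (35, 4), (5, 2), (42, 4), (42, 3), (35, 2), (8, 4), (34, 4), (34, 3), (23, 2), (4, 0), (35, 2), (35, 1), (35, 3), (35, 2), (5, 0), (7, 0)], []⟩,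
    ⟨0, [1, 0], [0, 1], [(31, 6), (20, 5), (20, 4), (16, 3), (16, 2), (13, 1), (11, 0), (40, 5), (33, 4), (27, 3), (18, 2), (43, 6), (44, 7), (44, 8), (41, 10), (41, 9), (34, 8), (34, 7), (28, 6), (23, 5), (23, 4), (44, 9), (44, 8), (44, 10), (44, 9), (8, 10), (41, 10), (34, 9), (34, 8), (28, 7), (23, 6), (23, 5), (4, 3), (44, 7), (44, 6), (44, 8), (44, 7), (8, 8), (36, 7), (36, 6), (41, 10), (41, 9), (34, 8), (34, 7), (28, 6), (28, 5), (23, 4), (23, 3), (43, 8), (43, 7), (8, 8), (44, 8), (44, 9), (8, 10), (35, 9), (35, 8), (29, 7), (29, 6), (5, 4), (41, 8), (34, 7), (34, 6), (28, 5), (28, 4), (43, 7), (43, 6), (8, 7), (44, 7), (44, 8), (42, 10), (42, 9), (35, 8), (35, 7), (29, 6), (29, 5), (8, 10), (35, 9), (35, 8), (29, 7), (29, 6), (42, 11), (35, 10), (35, 9), (29, 8), (29, 7), (5, 5), (44, 10), (44, 9), (7, 7), (8, 7), (27,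 6), (27, 5), (18, 4), (18, 3), (41, 7), (23, 6), (23, 5), (42, 8), (5, 6), (42, 6), (43, 8), (43, 7), (44, 9), (44, 8), (43, 10), (43, 9), (36, 8), (44, 11), (44, 10), (41, 12), (41, 11), (34, 10), (34, 9), (28, 8), (28, 7), (23, 6), (4, 4), (43, 7), (43, 6), (8, 7), (44, 7), (44, 8), (8, 9), (34, 8), (34, 7), (28, 6), (28, 5), (23, 4), (43, 8), (43, 7), (8, 8), (44, 8), (44, 9), (42, 10), (35, 9), (35, 8), (29, 7), (29, 6), (44, 11), (7, 9), (44, 9)], [(39, 7), (32, 6), (32, 5), (21, 4), (17, 3), (17, 2), (14, 1), (41, 9), (34, 8), (34, 7), (28, 6), (28, 5), (23, 4), (23, 3), (43, 8), (43, 7), (8, 8), (44, 8), (44, 9), (42, 11), (42, 10), (35, 9), (35, 8), (29, 7), (29, 6), (5, 4), (8, 8), (41, 8), (34, 7), (34, 6), (28, 5), (28, 4), (43, 7), (43, 6), (8, 7), (44, 7), (44, 8), (42, 10), (42, 9), (35, 8), (35, 7), (29, 6), (29,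 5), (8, 10), (42, 10), (35, 9), (35, 8), (29, 7), (29, 6), (44, 11), (7, 9), (44, 9), (40, 11), (40, 10), (33, 9), (27, 8), (27, 7), (22, 6), (22, 5), (18, 4), (18, 3), (41, 7), (23, 6), (23, 5), (42, 8), (5, 6), (42, 6), (42, 8), (42, 7), (8, 8), (5, 6), (43, 6), (44, 7), (43, 8), (36, 7), (44, 9), (44, 10), (7, 8), (8, 8), (28, 7), (28, 6), (4, 4), (43, 6), (43, 5), (8, 6), (41, 6), (28, 5), (28, 4), (43, 7), (43, 6), (8, 7), (42, 8), (42, 7), (29, 6), (29, 5), (42, 9), (42, 8), (29, 7), (29, 6), (44, 10), (44, 9)], [(31, 8), (31, 7), (20, 6), (20, 5), (16, 4), (13, 3), (13, 2), (11, 1), (40, 6), (33, 5), (27, 4), (18, 3), (43, 7), (44, 8), (44, 9), (41, 11), (41, 10), (34, 9), (34, 8), (28, 7), (23, 6), (23, 5), (44, 10), (44, 9), (44, 11), (44, 10), (8, 11), (41, 11), (34, 10), (34, 9), (28, 8), (23, 7), (23, 6), (4, 4), (44,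 8), (44, 7), (44, 9), (44, 8), (8, 9), (36, 8), (36, 7), (40, 11), (40, 10), (33, 9), (33, 8), (27, 7), (27, 6), (22, 5), (22, 4), (42, 6), (43, 8), (43, 7), (44, 9), (44, 8), (43, 10), (43, 9), (36, 8), (44, 11), (44, 10), (44, 12), (44, 11), (7, 9), (44, 10), (44, 9), (8, 10), (41, 10), (34, 9), (28, 8), (28, 7), (23, 6), (23, 5), (43, 10), (43, 9), (8, 10), (44, 10), (41, 12), (41, 11), (34, 10), (28, 9), (28, 8), (23, 7), (23, 6), (43, 11), (43, 10), (8, 11), (44, 11), (8, 12), (36, 11), (6, 9), (41, 11), (41, 10), (34, 9), (23, 8), (23, 7), (4, 5), (42, 9), (42, 8), (35, 7), (5, 5), (8, 6), (35, 5), (42, 7), (35, 6), (44, 9), (44, 8), (8, 9), (7, 7), (38, 7), (20, 6), (20, 5), (13, 4), (13, 3), (11, 2), (1, 0), (39, 3), (32, 2), (21, 1), (21, 0), (41, 4), (34, 3), (23, 2), (23, 1), (43, 5), (36, 4), (44, 6), (40, 8), (40, 7),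 (33, 6), (33, 5), (27, 4), (22, 3), (22, 2), (18, 1), (42, 5), (5, 3), (42, 4), (42, 3), (8, 4), (7, 5), (41, 6), (41, 5), (28, 4), (23, 3), (8, 6), (41, 6), (28, 5), (23, 4), (4, 2), (8, 4), (40, 6), (40, 5), (27, 4), (27, 3), (22, 2), (43, 4), (44, 5), (43, 6), (36, 5), (44, 7), (8, 8), (34, 7), (34, 6), (28, 5), (28, 4), (23, 3), (43, 7), (43, 6), (8, 7), (44, 7), (44, 8), (41, 9), (34, 8), (34, 7), (28, 6), (28, 5), (23, 4), (43, 8), (43, 7), (8, 8), (44, 8), (44, 9), (43, 11), (43, 10), (36, 9), (36, 8), (6, 6), (8, 8), (42, 8), (35, 7), (35, 6), (42, 10), (42, 9), (35, 8), (35, 7), (5, 5), (8, 7), (39, 7), (32, 6), (32, 5), (17, 4), (17, 3), (14, 2), (14, 1), (40, 9), (33, 8), (33, 7), (27, 6), (27, 5), (22, 4), (22, 3), (42, 5), (43, 7), (43, 6), (44, 8), (44, 7), (43, 9), (43, 8), (36, 7), (44, 10), (44, 9), (44, 11), (44,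 10), (7, 8), (44, 9), (44, 8), (8, 9), (35, 8), (29, 7), (29, 6), (5, 4), (35, 6), (29, 5), (29, 4), (36, 7), (6, 5), (36, 5), (7, 6), (41, 6), (28, 5), (23, 4), (8, 7), (29, 6), (41, 9), (41, 8), (28, 7), (23, 6), (23, 5), (8, 9), (42, 9), (29, 8), (5, 6), (8, 7), (39, 9), (32, 8), (32, 7), (26, 6), (17, 5), (17, 4), (14, 3), (14, 2), (2, 0), (40, 7), (33, 6), (33, 5), (27, 4), (27, 3), (22, 2), (22, 1), (42, 3), (43, 5), (43, 4), (44, 6), (44, 5), (43, 7), (43, 6), (36, 5), (44, 8), (44, 7), (44, 9), (44, 8), (7, 6), (44, 7), (44, 6), (8, 7), (35, 6), (29, 5), (29, 4), (5, 2), (35, 4), (29, 3), (29, 2), (36, 5), (6, 3), (36, 3), (7, 4), (41, 4), (28, 3), (23, 2), (8, 5), (29, 4), (41, 7), (41, 6), (28, 5), (23, 4), (23, 3), (8, 7), (42, 7), (29, 6), (5, 4), (8, 5), (44, 9), (44, 8), (7, 6), (44, 7), (44, 6), (8, 7), (33, 6), (27,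 5), (27, 4), (18, 3), (18, 2), (3, 0), (41, 1), (34, 0), (42, 2), (35, 1), (42, 3), (35, 2), (41, 5), (41, 4), (34, 3), (23, 2), (23, 1), (42, 6), (42, 5), (35, 4), (5, 2), (42, 4), (42, 3), (35, 2), (8, 4), (36, 3), (36, 5), (36, 4), (7, 5), (34, 5), (28, 4), (28, 3), (23, 2), (4, 0), (43, 3), (43, 2), (8, 3), (44, 3), (42, 4), (35, 3), (29, 2), (29, 1), (42, 5), (35, 4), (29, 3), (29, 2), (5, 0), (44, 3)], [(31, 8), (20, 7), (20, 6), (16, 5), (13, 4), (11, 3), (11, 2), (1, 0), (39, 3), (32, 2), (21, 1), (21, 0), (41, 4), (34, 3), (23, 2), (23, 1), (43, 5), (36, 4), (44, 6), (39, 8), (39, 7), (32, 6), (32, 5), (26, 4), (21, 3), (21, 2), (17, 1), (42, 5), (42, 4), (42, 6), (42, 5), (5, 3), (43, 4), (43, 3), (44, 5), (44, 4), (44, 6), (44, 5), (8, 6), (44, 6), (7, 4), (44, 4), (8, 5), (34, 4), (28, 3), (44, 6), (44, 5), (43, 7),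 (43, 6), (36, 5), (44, 8), (44, 7), (8, 8), (33, 7), (33, 6), (27, 5), (27, 4), (18, 3), (18, 2), (41, 6), (23, 5), (23, 4), (42, 7), (5, 5), (42, 5), (43, 7), (43, 6), (44, 8), (44, 7), (43, 9), (43, 8), (36, 7), (44, 10), (44, 9), (44, 11), (44, 10), (7, 8), (44, 9), (44, 8), (41, 10), (41, 9), (34, 8), (28, 7), (28, 6), (23, 5), (4, 3), (43, 6), (43, 5), (8, 6), (44, 6), (8, 7), (34, 6), (28, 5), (28, 4), (23, 3), (43, 7), (43, 6), (8, 7), (44, 7), (43, 8), (36, 7), (6, 5), (8, 6), (34, 5), (23, 4), (35, 6), (42, 8), (35, 7), (5, 5), (42, 7), (42, 6), (35, 5), (8, 7), (39, 8), (32, 7), (32, 6), (21, 5), (17, 4), (17, 3), (14, 2), (2, 0), (41, 7), (34, 6), (34, 5), (28, 4), (28, 3), (23, 2), (23, 1), (43, 6), (43, 5), (8, 6), (44, 6), (44, 7), (42, 9), (42, 8), (35, 7), (35, 6), (29, 5), (29, 4), (5, 2), (8, 6), (41, 6), (34,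 5), (34, 4), (28, 3), (28, 2), (43, 5), (43, 4), (8, 5), (44, 5), (44, 6), (42, 8), (42, 7), (35, 6), (35, 5), (29, 4), (29, 3), (8, 8), (42, 8), (35, 7), (35, 6), (29, 5), (29, 4), (44, 9), (7, 7), (44, 7), (40, 9), (40, 8), (33, 7), (27, 6), (27, 5), (22, 4), (22, 3), (18, 2), (18, 1), (41, 5), (23, 4), (23, 3), (42, 6), (5, 4), (42, 4), (42, 6), (42, 5), (8, 6), (5, 4), (43, 4), (44, 5), (43, 6), (36, 5), (44, 7), (44, 8), (7, 6), (8, 6), (27, 5), (27, 4), (18, 3), (18, 2), (3, 0), (41, 1), (34, 0), (42, 2), (35, 1), (42, 3), (35, 2), (41, 5), (41, 4), (34, 3), (23, 2), (23, 1), (42, 6), (42, 5), (35, 4), (5, 2), (42, 4), (42, 3), (35, 2), (8, 4), (36, 3), (36, 5), (36, 4), (7, 5), (28, 4), (28, 3), (23, 2), (4, 0), (43, 3), (43, 2), (8, 3), (42, 3), (29, 2), (29, 1), (42, 4), (29, 3), (29, 2), (5, 0), (44, 2), (44, 3)]⟩,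
    ⟨1, [2, 0], [0, 2], [(25, 4), (25, 3), (20, 2), (20, 1), (16, 0), (42, 3), (42, 5), (42, 4), (5, 2), (8, 2), (43, 5), (36, 4), (36, 3), (44, 6), (7, 4), (44, 4), (40, 6), (40, 5), (33, 4), (27, 3), (27, 2), (18, 1), (43, 5), (44, 6), (43, 7), (36, 6), (44, 8), (44, 9), (7, 7), (8, 7)], [], [(41, 2), (42, 3), (42, 4), (43, 5), (43, 6), (8, 7)], [(38, 6), (38, 5), (25, 4), (25, 3), (20, 2), (20, 1), (16, 0), (42, 3), (42, 5), (42, 4), (5, 2), (8, 2), (43, 5), (36, 4), (36, 3), (44, 6), (7, 4), (44, 4), (8, 5), (40, 5), (33, 4), (27, 3), (27, 2), (18, 1), (43, 5), (44, 6), (43, 7), (36, 6), (44, 8), (44, 9), (7, 7), (8, 7)]⟩,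
    ⟨2, [1, 1, 1], [], [(32, 4), (32, 3), (26, 2), (14, 1), (43, 9), (36, 8), (36, 7), (6, 5), (44, 7), (7, 5), (44, 5), (8, 6), (7, 5), (22, 4), (22, 3), (42, 5), (43, 7), (43, 6), (44, 8), (44, 7), (44, 9), (44, 8), (39, 10), (39, 9), (32, 8), (32, 7), (26, 6), (21, 5), (21, 4), (14, 3), (14, 2), (2, 0), (40, 7), (33, 6), (33, 5), (27, 4), (27, 3), (22, 2), (22, 1), (42, 3), (43, 5), (43, 4), (44, 6), (44, 5), (43, 7), (43, 6), (36, 5), (44, 8), (44, 7), (44, 9), (44, 8), (7, 6), (44, 7), (44, 6), (8, 7), (35, 6), (29, 5), (29, 4), (5, 2), (35, 4), (29, 3), (29, 2), (36, 5), (6, 3), (36, 3), (7, 4), (42, 4), (29, 3), (42, 5), (29, 4), (5, 2), (43, 3), (44, 4), (44, 5), (8, 6), (7, 4), (40, 6), (40, 5), (33, 4), (27, 3), (27, 2), (3, 0), (43, 1), (36, 0), (44, 2), (43, 3), (36, 2), (36, 1), (44, 4), (7, 2), (44, 2), (8, 3), (36,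 2), (6, 0), (7, 0)], [], [(30, 6), (24, 5), (19, 4), (19, 3), (9, 2), (9, 1), (31, 10), (25, 9), (25, 8), (16, 7), (13, 6), (13, 5), (11, 4), (11, 3), (39, 8), (32, 7), (26, 6), (17, 5), (43, 9), (43, 8), (44, 10), (44, 9), (44, 11), (44, 10), (8, 11), (44, 11), (7, 9), (41, 10), (41, 9), (28, 8), (23, 7), (8, 10), (43, 10), (44, 11), (40, 13), (40, 12), (33, 11), (27, 10), (27, 9), (22, 8), (18, 7), (18, 6), (41, 10), (23, 9), (23, 8), (42, 11), (5, 9), (42, 9), (42, 11), (42, 10), (8, 11), (36, 12), (7, 13), (41, 14), (41, 13), (28, 12), (28, 11), (23, 10), (23, 9), (4, 7), (43, 11), (43, 10), (8, 11), (8, 11), (28, 10), (28, 9), (23, 8), (23, 7), (43, 12), (43, 11), (8, 12), (43, 12), (6, 10), (8, 10), (22, 9), (22, 8), (18, 7), (42, 11), (5, 9), (42, 10), (42, 9), (8, 10), (23, 9), (23, 10), (4, 8), (41, 11), (41, 10), (28,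 9), (23, 8), (8, 11), (42, 11), (29, 10), (43, 13), (43, 12), (44, 14), (44, 13), (44, 15), (44, 14), (8, 15), (36, 14), (36, 13), (6, 11), (7, 11), (44, 12), (39, 14), (39, 13), (32, 12), (32, 11), (21, 10), (21, 9), (17, 8), (14, 7), (14, 6), (2, 4), (40, 11), (33, 10), (33, 9), (27, 8), (27, 7), (22, 6), (22, 5), (42, 7), (43, 9), (43, 8), (44, 10), (44, 9), (43, 11), (43, 10), (36, 9), (44, 12), (44, 11), (44, 13), (44, 12), (7, 10), (44, 11), (44, 10), (8, 11), (35, 10), (29, 9), (29, 8), (5, 6), (35, 8), (29, 7), (29, 6), (36, 9), (6, 7), (36, 7), (7, 8), (41, 8), (28, 7), (23, 6), (8, 9), (29, 8), (42, 11), (42, 10), (29, 9), (5, 7), (42, 9), (42, 8), (29, 7), (44, 10), (44, 9), (44, 11), (44, 10), (8, 11), (39, 11), (32, 10), (32, 9), (26, 8), (21, 7), (17, 6), (14, 5), (14, 4), (40, 12), (33, 11), (33, 10), (27, 9), (27,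 8), (22, 7), (22, 6), (42, 8), (43, 10), (43, 9), (44, 11), (44, 10), (43, 12), (43, 11), (36, 10), (44, 13), (44, 12), (44, 14), (44, 13), (7, 11), (44, 12), (44, 11), (8, 12), (35, 11), (29, 10), (29, 9), (5, 7), (35, 9), (29, 8), (29, 7), (36, 10), (6, 8), (36, 8), (7, 9), (41, 9), (28, 8), (23, 7), (8, 10), (29, 9), (42, 12), (42, 11), (29, 10), (5, 8), (43, 10), (43, 9), (44, 11), (44, 10), (44, 12), (44, 11), (8, 12), (44, 12), (7, 10), (44, 10), (40, 12), (40, 11), (33, 10), (27, 9), (27, 8), (18, 7), (3, 5), (41, 6), (34, 5), (42, 7), (35, 6), (42, 8), (35, 7), (43, 10), (43, 9), (36, 8), (44, 11), (44, 10), (43, 12), (43, 11), (36, 10), (36, 9), (44, 13), (44, 12), (7, 10), (44, 11), (44, 10), (8, 11), (40, 11), (33, 10), (27, 9), (27, 8), (22, 7), (22, 6), (18, 5), (42, 9), (5, 7), (42, 8), (42, 7), (8, 8), (36, 9), (7,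 10), (41, 10), (28, 9), (28, 8), (23, 7), (43, 11), (43, 10), (8, 11), (43, 12), (43, 11), (6, 9), (43, 10), (43, 9), (44, 11), (44, 10), (42, 12), (42, 11), (35, 10), (29, 9), (44, 13), (44, 12), (8, 13), (35, 12), (35, 11), (29, 10), (5, 8), (7, 9), (43, 9), (44, 10), (44, 11), (44, 13), (44, 12), (7, 10), (8, 10), (25, 9), (25, 8), (16, 7), (16, 6), (13, 5), (11, 4), (1, 2), (39, 5), (32, 4), (21, 3), (21, 2), (41, 6), (34, 5), (23, 4), (23, 3), (43, 7), (36, 6), (44, 8), (40, 10), (40, 9), (33, 8), (33, 7), (27, 6), (22, 5), (22, 4), (18, 3), (42, 7), (5, 5), (42, 6), (42, 5), (8, 6), (7, 7), (41, 8), (41, 7), (28, 6), (23, 5), (8, 8), (41, 8), (28, 7), (23, 6), (4, 4), (8, 6), (41, 8), (41, 7), (28, 6), (28, 5), (23, 4), (43, 8), (43, 7), (8, 8), (8, 8), (29, 7), (29, 6), (41, 9), (28, 8), (28, 7), (23, 6), (23, 5), (43, 10),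 (43, 9), (8, 10), (42, 11), (42, 10), (29, 9), (29, 8), (5, 6), (8, 8), (6, 6), (43, 8), (36, 7), (36, 6), (44, 9), (7, 7), (44, 7), (38, 9), (38, 8), (31, 7), (25, 6), (16, 5), (16, 4), (13, 3), (11, 2), (40, 7), (33, 6), (27, 5), (18, 4), (43, 8), (44, 9), (44, 10), (41, 12), (41, 11), (34, 10), (34, 9), (28, 8), (23, 7), (23, 6), (44, 11), (44, 10), (44, 12), (44, 11), (8, 12), (41, 12), (34, 11), (34, 10), (28, 9), (23, 8), (23, 7), (4, 5), (44, 9), (44, 8), (44, 10), (44, 9), (8, 10), (36, 9), (36, 8), (41, 12), (41, 11), (34, 10), (34, 9), (28, 8), (28, 7), (23, 6), (23, 5), (43, 10), (43, 9), (8, 10), (44, 10), (44, 11), (8, 12), (35, 11), (35, 10), (29, 9), (29, 8), (5, 6), (41, 10), (34, 9), (34, 8), (28, 7), (28, 6), (43, 9), (43, 8), (8, 9), (44, 9), (44, 10), (42, 12), (42, 11), (35, 10), (35, 9), (29, 8), (29, 7), (8,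 12), (36, 11), (36, 10), (6, 8), (7, 8), (44, 9), (8, 10), (42, 10), (35, 9), (35, 8), (42, 11), (35, 10), (35, 9), (5, 7), (43, 9), (36, 8), (36, 7), (44, 10), (7, 8), (37, 8), (24, 7), (15, 6), (15, 5), (12, 4), (10, 3), (9, 2), (0, 0), (38, 1), (38, 0), (39, 2), (39, 1), (39, 3), (39, 2), (40, 4), (40, 3), (40, 5), (40, 4), (41, 6), (41, 5), (43, 7), (43, 6), (43, 8), (43, 7), (44, 9), (44, 8), (39, 10), (39, 9), (32, 8), (26, 7), (26, 6), (17, 5), (14, 4), (14, 3), (2, 1), (40, 8), (33, 7), (33, 6), (27, 5), (27, 4), (22, 3), (22, 2), (42, 4), (43, 6), (43, 5), (44, 7), (44, 6), (43, 8), (43, 7), (36, 6), (44, 9), (44, 8), (44, 10), (44, 9), (7, 7), (44, 8), (44, 7), (8, 8), (35, 7), (29, 6), (29, 5), (5, 3), (35, 5), (29, 4), (29, 3), (36, 6), (6, 4), (36, 4), (7, 5), (41, 5), (28, 4), (23, 3), (8, 6), (29, 5), (43, 8), (43,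 7), (44, 9), (44, 8), (44, 10), (44, 9), (8, 10), (43, 10), (36, 9), (36, 8), (6, 6), (44, 8), (7, 6), (44, 6), (8, 7), (41, 9), (41, 8), (34, 7), (34, 6), (23, 5), (23, 4), (42, 10), (42, 9), (35, 8), (35, 7), (5, 5), (42, 8), (42, 7), (35, 6), (35, 5), (43, 9), (43, 8), (36, 7), (36, 6), (43, 10), (43, 9), (36, 8), (36, 7), (8, 10), (40, 10), (33, 9), (33, 8), (27, 7), (27, 6), (22, 5), (18, 4), (18, 3), (3, 1), (41, 2), (34, 1), (42, 3), (35, 2), (42, 4), (35, 3), (41, 6), (41, 5), (34, 4), (23, 3), (23, 2), (42, 7), (42, 6), (35, 5), (5, 3), (42, 5), (42, 4), (35, 3), (8, 5), (35, 4), (43, 6), (36, 5), (44, 7), (43, 8), (36, 7), (36, 6), (44, 9), (7, 7), (44, 7), (44, 8), (41, 10), (41, 9), (34, 8), (34, 7), (28, 6), (28, 5), (23, 4), (23, 3), (4, 1), (43, 5), (43, 4), (8, 5), (44, 5), (44, 6), (8, 7), (34, 6), (34, 5), (28,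 4), (28, 3), (23, 2), (23, 1), (43, 6), (43, 5), (8, 6), (44, 6), (44, 7), (42, 8), (35, 7), (35, 6), (29, 5), (29, 4), (5, 2), (42, 6), (35, 5), (35, 4), (29, 3), (29, 2), (43, 7), (36, 6), (36, 5), (6, 3), (44, 5), (7, 3), (44, 3), (41, 5), (41, 4), (34, 3), (23, 2), (42, 6), (42, 5), (35, 4), (42, 7), (42, 6), (35, 5), (5, 3), (43, 5), (43, 4), (36, 3), (43, 6), (43, 5), (36, 4), (44, 7), (44, 6), (8, 7), (34, 6), (34, 5), (28, 4), (28, 3), (4, 1), (43, 3), (43, 2), (8, 3), (44, 3), (44, 4), (42, 5), (35, 4), (35, 3), (29, 2), (29, 1), (42, 6), (35, 5), (35, 4), (29, 3), (29, 2), (43, 7), (36, 6), (36, 5), (6, 3), (43, 5), (36, 4), (36, 3), (44, 6), (7, 4), (43, 5), (43, 4), (44, 6), (44, 5), (44, 7), (44, 6), (8, 7), (38, 7), (31, 6), (31, 5), (25, 4), (25, 3), (20, 2), (20, 1), (42, 3), (43, 5), (43, 4), (44, 6), (44, 5), (44,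 7), (44, 6), (8, 7), (36, 6), (36, 5), (7, 6), (44, 7), (44, 9), (44, 8), (7, 6), (8, 6), (38, 6), (25, 5), (25, 4), (20, 3), (20, 2), (1, 0), (42, 3), (35, 2), (5, 0), (42, 2), (42, 1), (35, 0), (8, 2), (36, 1), (7, 2), (43, 2), (44, 3), (44, 4), (8, 5), (35, 4), (35, 3), (29, 2), (29, 1), (35, 5), (35, 4), (29, 3), (29, 2), (5, 0), (36, 3), (36, 2), (6, 0), (7, 0)], []⟩,
    ⟨3, [0, 0, 0], [3], [(37, 3), (12, 2), (12, 1), (40, 10), (33, 9), (33, 8), (27, 7), (22, 6), (22, 5), (18, 4), (18, 3), (41, 7), (23, 6), (23, 5), (42, 8), (5, 6), (42, 6), (42, 8), (42, 7), (8, 8), (5, 6), (43, 6), (44, 7), (44, 8), (44, 9), (7, 7), (41, 8), (41, 7), (28, 6), (4, 4), (8, 5), (41, 5), (28, 4), (8, 6), (29, 5), (29, 6), (40, 12), (40, 11), (33, 10), (33, 9), (27, 8), (27, 7), (22, 6), (22, 5), (18, 4), (3, 2), (41, 3), (34, 2), (42, 4), (35,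 3), (42, 5), (35, 4), (42, 7), (42, 6), (35, 5), (5, 3), (8, 4), (35, 3), (43, 5), (36, 4), (44, 6), (43, 7), (36, 6), (36, 5), (44, 8), (7, 6), (44, 6), (44, 7), (8, 8), (33, 7), (33, 6), (27, 5), (27, 4), (22, 3), (18, 2), (42, 6), (5, 4), (43, 5), (43, 4), (44, 6), (44, 5), (43, 7), (43, 6), (36, 5), (44, 8), (44, 7), (44, 9), (44, 8), (7, 6), (44, 7), (44, 6), (8, 7), (30, 6), (24, 5), (24, 4), (15, 3), (12, 2), (0, 0), (40, 1), (40, 0), (41, 2), (41, 1), (41, 3), (41, 2), (42, 4), (42, 3), (42, 5), (42, 4), (43, 6), (43, 5), (44, 7), (44, 6), (44, 8), (44, 7), (8, 8), (34, 7), (34, 6), (28, 5), (23, 4), (23, 3), (4, 1), (44, 5), (44, 4), (44, 6), (44, 5), (42, 7), (42, 6), (35, 5), (35, 4), (29, 3), (5, 1), (42, 5), (42, 4), (35, 3), (35, 2), (29, 1), (43, 6), (43, 5), (36, 4), (36, 3), (43, 7), (43, 6), (36, 5), (36, 4), (6,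 2), (44, 5), (44, 4), (7, 2), (8, 2), (43, 5), (36, 4), (36, 3), (44, 6), (7, 4), (44, 4), (44, 6), (44, 5), (8, 6), (33, 5), (33, 4), (27, 3), (27, 2), (22, 1), (43, 3), (44, 4), (43, 5), (36, 4), (44, 6), (44, 7), (7, 5), (44, 5), (40, 6), (33, 5), (27, 4), (27, 3), (22, 2), (3, 0), (42, 1), (35, 0), (43, 3), (43, 2), (36, 1), (44, 4), (44, 3), (43, 5), (43, 4), (36, 3), (36, 2), (44, 6), (44, 5), (7, 3), (44, 4), (44, 3), (8, 4)], [], [(30, 10), (15, 9), (15, 8), (12, 7), (12, 6), (10, 5), (10, 4), (9, 3), (9, 2), (0, 0), (38, 1), (38, 0), (39, 2), (39, 1), (39, 3), (39, 2), (40, 4), (40, 3), (40, 5), (40, 4), (41, 6), (41, 5), (43, 7), (43, 6), (43, 8), (43, 7), (44, 9), (44, 8), (38, 10), (38, 9), (31, 8), (25, 7), (25, 6), (16, 5), (13, 4), (13, 3), (11, 2), (11, 1), (39, 6), (32, 5), (26, 4), (17, 3), (43, 7), (43, 6), (44,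 8), (44, 7), (44, 9), (44, 8), (8, 9), (44, 9), (7, 7), (41, 8), (41, 7), (28, 6), (23, 5), (8, 8), (43, 8), (44, 9), (40, 11), (40, 10), (33, 9), (27, 8), (27, 7), (22, 6), (18, 5), (18, 4), (41, 8), (23, 7), (23, 6), (42, 9), (5, 7), (42, 7), (42, 9), (42, 8), (8, 9), (36, 10), (7, 11), (41, 12), (41, 11), (28, 10), (28, 9), (23, 8), (23, 7), (4, 5), (43, 9), (43, 8), (8, 9), (8, 9), (28, 8), (28, 7), (23, 6), (23, 5), (43, 10), (43, 9), (8, 10), (43, 10), (6, 8), (8, 8), (22, 7), (22, 6), (18, 5), (42, 9), (5, 7), (42, 8), (42, 7), (8, 8), (23, 7), (23, 8), (4, 6), (41, 9), (41, 8), (28, 7), (23, 6), (8, 9), (42, 9), (29, 8), (43, 11), (43, 10), (44, 12), (44, 11), (44, 13), (44, 12), (8, 13), (36, 12), (36, 11), (6, 9), (7, 9), (44, 10), (8, 11), (39, 11), (32, 10), (32, 9), (21, 8), (21, 7), (17, 6), (14, 5), (14, 4), (2, 2),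 (40, 9), (33, 8), (33, 7), (27, 6), (27, 5), (22, 4), (22, 3), (42, 5), (43, 7), (43, 6), (44, 8), (44, 7), (43, 9), (43, 8), (36, 7), (44, 10), (44, 9), (44, 11), (44, 10), (7, 8), (44, 9), (44, 8), (8, 9), (35, 8), (29, 7), (29, 6), (5, 4), (35, 6), (29, 5), (29, 4), (36, 7), (6, 5), (36, 5), (7, 6), (41, 6), (28, 5), (23, 4), (8, 7), (29, 6), (42, 9), (42, 8), (29, 7), (5, 5), (42, 7), (42, 6), (29, 5), (44, 8), (44, 7), (44, 9), (44, 8), (8, 9), (32, 8), (32, 7), (26, 6), (21, 5), (17, 4), (14, 3), (14, 2), (40, 10), (33, 9), (33, 8), (27, 7), (27, 6), (22, 5), (22, 4), (42, 6), (43, 8), (43, 7), (44, 9), (44, 8), (43, 10), (43, 9), (36, 8), (44, 11), (44, 10), (44, 12), (44, 11), (7, 9), (44, 10), (44, 9), (8, 10), (35, 9), (29, 8), (29, 7), (5, 5), (35, 7), (29, 6), (29, 5), (36, 8), (6, 6), (36, 6), (7, 7), (41, 7), (28,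 6), (23, 5), (8, 8), (29, 7), (42, 10), (42, 9), (29, 8), (5, 6), (43, 8), (43, 7), (44, 9), (44, 8), (44, 10), (44, 9), (8, 10), (44, 10), (7, 8), (44, 8), (40, 9), (33, 8), (27, 7), (27, 6), (18, 5), (3, 3), (41, 4), (34, 3), (42, 5), (35, 4), (42, 6), (35, 5), (43, 8), (43, 7), (36, 6), (44, 9), (44, 8), (43, 10), (43, 9), (36, 8), (36, 7), (44, 11), (44, 10), (7, 8), (44, 9), (44, 8), (8, 9), (33, 8), (27, 7), (27, 6), (22, 5), (22, 4), (18, 3), (42, 7), (5, 5), (42, 6), (42, 5), (8, 6), (36, 7), (7, 8), (28, 7), (28, 6), (23, 5), (43, 9), (43, 8), (8, 9), (43, 9), (6, 7), (43, 7), (44, 8), (39, 9), (32, 8), (26, 7), (21, 6), (17, 5), (17, 4), (14, 3), (41, 11), (34, 10), (34, 9), (28, 8), (28, 7), (23, 6), (23, 5), (43, 10), (43, 9), (8, 10), (44, 10), (44, 11), (42, 13), (42, 12), (35, 11), (35, 10), (29, 9), (29, 8), (5,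 6), (8, 10), (41, 10), (34, 9), (34, 8), (28, 7), (28, 6), (43, 9), (43, 8), (8, 9), (44, 9), (44, 10), (42, 12), (42, 11), (35, 10), (35, 9), (29, 8), (29, 7), (8, 12), (42, 12), (35, 11), (35, 10), (29, 9), (29, 8), (43, 13), (36, 12), (36, 11), (6, 9), (44, 11), (7, 9), (44, 9), (8, 10), (41, 11), (34, 10), (34, 9), (23, 8), (23, 7), (4, 5), (42, 9), (35, 8), (35, 7), (5, 5), (42, 7), (35, 6), (35, 5), (43, 8), (36, 7), (36, 6), (43, 9), (36, 8), (36, 7), (8, 10), (32, 9), (32, 8), (26, 7), (26, 6), (21, 5), (14, 4), (2, 2), (42, 9), (35, 8), (35, 7), (29, 6), (29, 5), (5, 3), (43, 7), (36, 6), (36, 5), (6, 3), (44, 5), (7, 3), (44, 3), (8, 4), (36, 3), (7, 4), (44, 5), (44, 4), (44, 6), (44, 5), (41, 7), (41, 6), (34, 5), (34, 4), (28, 3), (44, 6), (44, 5), (44, 7), (44, 6), (8, 7), (42, 7), (35, 6), (35, 5), (29, 4), (42, 8),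 (35, 7), (35, 6), (29, 5), (43, 9), (36, 8), (36, 7), (43, 10), (36, 9), (36, 8), (6, 6), (8, 8), (33, 7), (33, 6), (22, 5), (22, 4), (18, 3), (42, 7), (5, 5), (42, 6), (42, 5), (8, 6), (34, 7), (34, 6), (23, 5), (34, 8), (34, 7), (23, 6), (4, 4), (35, 6), (35, 5), (35, 7), (35, 6), (5, 4), (36, 5), (36, 4), (7, 5), (40, 6), (33, 5), (27, 4), (3, 2), (43, 3), (36, 2), (44, 4), (44, 5), (7, 3), (41, 4), (41, 3), (28, 2), (8, 4), (41, 4), (28, 3), (8, 5), (29, 4), (29, 5), (41, 10), (34, 9), (34, 8), (28, 7), (28, 6), (23, 5), (23, 4), (4, 2), (43, 6), (43, 5), (8, 6), (44, 6), (44, 7), (42, 9), (42, 8), (35, 7), (35, 6), (29, 5), (29, 4), (5, 2), (42, 7), (42, 6), (35, 5), (35, 4), (29, 3), (29, 2), (43, 8), (43, 7), (36, 6), (36, 5), (6, 3), (43, 6), (43, 5), (36, 4), (36, 3), (44, 7), (44, 6), (7, 4), (8, 4), (28, 3), (23, 2),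 (42, 6), (42, 5), (29, 4), (42, 7), (42, 6), (29, 5), (5, 3), (43, 5), (43, 4), (43, 6), (43, 5), (6, 3), (44, 4), (44, 3), (8, 4), (37, 5), (30, 4), (30, 3), (15, 2), (9, 1), (9, 0), (31, 9), (25, 8), (25, 7), (16, 6), (13, 5), (13, 4), (11, 3), (11, 2), (39, 7), (32, 6), (26, 5), (17, 4), (43, 8), (43, 7), (44, 9), (44, 8), (44, 10), (44, 9), (8, 10), (44, 10), (7, 8), (41, 9), (41, 8), (28, 7), (23, 6), (8, 9), (43, 9), (44, 10), (40, 12), (40, 11), (33, 10), (27, 9), (27, 8), (22, 7), (18, 6), (18, 5), (41, 9), (23, 8), (23, 7), (42, 10), (5, 8), (42, 8), (42, 10), (42, 9), (8, 10), (36, 11), (7, 12), (41, 13), (41, 12), (28, 11), (28, 10), (23, 9), (23, 8), (4, 6), (43, 10), (43, 9), (8, 10), (8, 10), (28, 9), (28, 8), (23, 7), (23, 6), (43, 11), (43, 10), (8, 11), (43, 11), (6, 9), (8, 9), (22, 8), (22, 7), (18, 6), (42, 10),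 (5, 8), (42, 9), (42, 8), (8, 9), (23, 8), (23, 9), (4, 7), (41, 10), (41, 9), (28, 8), (23, 7), (8, 10), (42, 10), (29, 9), (43, 12), (43, 11), (44, 13), (44, 12), (44, 14), (44, 13), (8, 14), (36, 13), (36, 12), (6, 10), (7, 10), (44, 11), (39, 13), (39, 12), (32, 11), (32, 10), (21, 9), (21, 8), (17, 7), (14, 6), (14, 5), (2, 3), (40, 10), (33, 9), (33, 8), (27, 7), (27, 6), (22, 5), (22, 4), (42, 6), (43, 8), (43, 7), (44, 9), (44, 8), (43, 10), (43, 9), (36, 8), (44, 11), (44, 10), (44, 12), (44, 11), (7, 9), (44, 10), (44, 9), (8, 10), (35, 9), (29, 8), (29, 7), (5, 5), (35, 7), (29, 6), (29, 5), (36, 8), (6, 6), (36, 6), (7, 7), (41, 7), (28, 6), (23, 5), (8, 8), (29, 7), (42, 10), (42, 9), (29, 8), (5, 6), (42, 8), (42, 7), (29, 6), (44, 9), (44, 8), (44, 10), (44, 9), (8, 10), (39, 10), (32, 9), (32, 8), (26, 7), (21, 6),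 (17, 5), (14, 4), (14, 3), (40, 11), (33, 10), (33, 9), (27, 8), (27, 7), (22, 6), (22, 5), (42, 7), (43, 9), (43, 8), (44, 10), (44, 9), (43, 11), (43, 10), (36, 9), (44, 12), (44, 11), (44, 13), (44, 12), (7, 10), (44, 11), (44, 10), (8, 11), (35, 10), (29, 9), (29, 8), (5, 6), (35, 8), (29, 7), (29, 6), (36, 9), (6, 7), (36, 7), (7, 8), (41, 8), (28, 7), (23, 6), (8, 9), (29, 8), (42, 11), (42, 10), (29, 9), (5, 7), (43, 9), (43, 8), (44, 10), (44, 9), (44, 11), (44, 10), (8, 11), (44, 11), (7, 9), (44, 9), (40, 11), (40, 10), (33, 9), (27, 8), (27, 7), (18, 6), (3, 4), (41, 5), (34, 4), (42, 6), (35, 5), (42, 7), (35, 6), (43, 9), (43, 8), (36, 7), (44, 10), (44, 9), (43, 11), (43, 10), (36, 9), (36, 8), (44, 12), (44, 11), (7, 9), (44, 10), (44, 9), (8, 10), (40, 10), (33, 9), (27, 8), (27, 7), (22, 6), (22, 5), (18, 4), (42,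 8), (5, 6), (42, 7), (42, 6), (8, 7), (36, 8), (7, 9), (41, 9), (28, 8), (28, 7), (23, 6), (43, 10), (43, 9), (8, 10), (43, 11), (43, 10), (6, 8), (43, 9), (43, 8), (44, 10), (44, 9), (41, 11), (41, 10), (34, 9), (28, 8), (23, 7), (4, 5), (44, 8), (44, 7), (8, 8), (42, 8), (35, 7), (29, 6), (42, 9), (35, 8), (29, 7), (5, 5), (43, 7), (36, 6), (43, 8), (36, 7), (6, 5), (44, 6), (44, 8), (44, 7), (7, 5), (8, 5), (38, 7), (38, 6), (31, 5), (13, 4), (11, 3), (1, 1), (39, 4), (32, 3), (21, 2), (21, 1), (41, 5), (34, 4), (23, 3), (23, 2), (43, 6), (36, 5), (44, 7), (40, 9), (40, 8), (33, 7), (33, 6), (27, 5), (22, 4), (22, 3), (18, 2), (42, 6), (5, 4), (42, 5), (42, 4), (8, 5), (7, 6), (41, 7), (41, 6), (28, 5), (23, 4), (8, 7), (41, 7), (28, 6), (23, 5), (4, 3), (8, 5), (44, 7), (44, 6), (8, 7), (38, 8), (38, 7), (31, 6), (25, 5), (25,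 4), (20, 3), (13, 2), (11, 1), (40, 6), (33, 5), (27, 4), (18, 3), (43, 7), (44, 8), (44, 9), (41, 11), (41, 10), (34, 9), (34, 8), (28, 7), (23, 6), (23, 5), (44, 10), (44, 9), (44, 11), (44, 10), (8, 11), (41, 11), (34, 10), (34, 9), (28, 8), (23, 7), (23, 6), (4, 4), (44, 8), (44, 7), (44, 9), (44, 8), (8, 9), (36, 8), (36, 7), (42, 11), (42, 10), (35, 9), (35, 8), (29, 7), (29, 6), (5, 4), (8, 8), (36, 7), (36, 6), (6, 4), (7, 4), (43, 5), (36, 4), (44, 6), (44, 7), (7, 5), (44, 6), (44, 5), (8, 6), (39, 7), (39, 6), (32, 5), (26, 4), (14, 3), (43, 11), (36, 10), (36, 9), (6, 7), (44, 9), (7, 7), (44, 7), (8, 8), (39, 10), (39, 9), (32, 8), (32, 7), (21, 6), (21, 5), (14, 4), (2, 2), (42, 9), (35, 8), (35, 7), (29, 6), (29, 5), (5, 3), (42, 7), (35, 6), (35, 5), (29, 4), (29, 3), (44, 8), (7, 6), (44, 6), (8, 7), (33, 6), (27,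 5), (27, 4), (22, 3), (43, 5), (44, 6), (43, 7), (36, 6), (44, 8), (44, 9), (7, 7), (40, 7), (27, 6), (27, 5), (22, 4), (3, 2), (42, 3), (35, 2), (43, 5), (43, 4), (36, 3), (44, 6), (44, 5), (43, 7), (43, 6), (36, 5), (36, 4), (44, 8), (44, 7), (7, 5), (8, 5), (28, 4), (28, 3), (23, 2), (43, 6), (43, 5), (8, 6), (41, 6), (28, 5), (28, 4), (23, 3), (43, 7), (43, 6), (8, 7), (44, 8), (44, 7), (37, 9), (37, 8), (30, 7), (24, 6), (24, 5), (19, 4), (15, 3), (15, 2), (9, 1), (34, 10), (28, 9), (28, 8), (43, 11), (43, 10), (8, 11), (44, 11), (42, 12), (35, 11), (29, 10), (29, 9), (42, 13), (35, 12), (29, 11), (29, 10), (43, 14), (36, 13), (6, 11), (43, 12), (36, 11), (44, 13), (41, 15), (41, 14), (34, 13), (34, 12), (28, 11), (23, 10), (23, 9), (4, 7), (44, 11), (44, 10), (44, 12), (44, 11), (8, 12), (42, 12), (35, 11), (35, 10), (29,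 9), (5, 7), (42, 10), (35, 9), (35, 8), (29, 7), (43, 11), (36, 10), (36, 9), (43, 12), (36, 11), (36, 10), (6, 8), (44, 10), (7, 8), (42, 9), (42, 8), (44, 10), (44, 9), (8, 10), (36, 9), (7, 10), (43, 10), (44, 11), (44, 12), (44, 14), (44, 13), (7, 11), (8, 11), (37, 12), (37, 11), (24, 10), (24, 9), (19, 8), (19, 7), (12, 6), (12, 5), (10, 4), (10, 3), (9, 2), (0, 0), (38, 1), (38, 0), (39, 2), (39, 1), (39, 3), (39, 2), (40, 4), (40, 3), (40, 5), (40, 4), (41, 6), (41, 5), (43, 7), (43, 6), (43, 8), (43, 7), (44, 9), (44, 8), (39, 10), (39, 9), (32, 8), (26, 7), (26, 6), (17, 5), (14, 4), (14, 3), (2, 1), (40, 8), (33, 7), (33, 6), (27, 5), (27, 4), (22, 3), (22, 2), (42, 4), (43, 6), (43, 5), (44, 7), (44, 6), (43, 8), (43, 7), (36, 6), (44, 9), (44, 8), (44, 10), (44, 9), (7, 7), (44, 8), (44, 7), (8, 8), (35, 7), (29, 6),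 (29, 5), (5, 3), (35, 5), (29, 4), (29, 3), (36, 6), (6, 4), (36, 4), (7, 5), (41, 5), (28, 4), (23, 3), (8, 6), (29, 5), (43, 8), (43, 7), (44, 9), (44, 8), (44, 10), (44, 9), (8, 10), (43, 10), (36, 9), (36, 8), (6, 6), (44, 8), (7, 6), (44, 6), (8, 7), (41, 9), (41, 8), (34, 7), (34, 6), (23, 5), (23, 4), (42, 10), (42, 9), (35, 8), (35, 7), (5, 5), (42, 8), (42, 7), (35, 6), (35, 5), (43, 9), (43, 8), (36, 7), (36, 6), (43, 10), (43, 9), (36, 8), (36, 7), (8, 10), (39, 10), (32, 9), (32, 8), (26, 7), (26, 6), (21, 5), (17, 4), (17, 3), (14, 2), (14, 1), (40, 9), (33, 8), (33, 7), (27, 6), (27, 5), (22, 4), (22, 3), (42, 5), (43, 7), (43, 6), (44, 8), (44, 7), (43, 9), (43, 8), (36, 7), (44, 10), (44, 9), (44, 11), (44, 10), (7, 8), (44, 9), (44, 8), (8, 9), (35, 8), (29, 7), (29, 6), (5, 4), (35, 6), (29, 5), (29, 4), (36, 7),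 (6, 5), (36, 5), (7, 6), (41, 6), (28, 5), (23, 4), (8, 7), (29, 6), (41, 9), (41, 8), (28, 7), (23, 6), (23, 5), (8, 9), (42, 9), (29, 8), (5, 6), (8, 7), (29, 6), (43, 12), (43, 11), (36, 10), (36, 9), (6, 7), (44, 10), (44, 9), (7, 7), (44, 8), (44, 7), (8, 8), (44, 8), (44, 9), (7, 7), (41, 8), (41, 7), (23, 6), (4, 4), (42, 6), (42, 5), (42, 7), (42, 6), (5, 4), (43, 5), (43, 4), (43, 6), (43, 5), (8, 6), (40, 6), (27, 5), (27, 4), (3, 2), (43, 3), (36, 2), (44, 4), (43, 5), (36, 4), (36, 3), (44, 6), (7, 4), (41, 5), (41, 4), (28, 3), (28, 2), (43, 5), (43, 4), (8, 5), (8, 5), (28, 4), (28, 3), (43, 6), (43, 5), (8, 6), (42, 6), (29, 5), (29, 4), (42, 7), (29, 6), (29, 5), (43, 8), (6, 6), (44, 6), (44, 7), (40, 9), (40, 8), (33, 7), (33, 6), (22, 5), (22, 4), (18, 3), (18, 2), (41, 6), (23, 5), (23, 4), (42, 7), (5, 5), (42,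 5), (42, 7), (42, 6), (8, 7), (5, 5), (44, 5), (44, 6), (8, 7), (34, 6), (34, 5), (4, 3), (34, 4), (34, 3), (35, 5), (35, 4), (35, 6), (35, 5), (36, 7), (36, 6), (7, 7), (42, 8), (35, 7), (29, 6), (5, 4), (44, 6), (42, 8), (42, 7), (35, 6), (35, 5), (29, 4), (44, 9), (44, 8), (7, 6), (8, 6), (43, 9), (36, 8), (36, 7), (6, 5), (44, 7), (7, 5), (44, 5), (8, 6), (38, 6), (31, 5), (20, 4), (16, 3), (13, 2), (11, 1), (40, 6), (33, 5), (27, 4), (18, 3), (43, 7), (44, 8), (44, 9), (41, 11), (41, 10), (34, 9), (34, 8), (28, 7), (23, 6), (23, 5), (44, 10), (44, 9), (44, 11), (44, 10), (8, 11), (41, 11), (34, 10), (34, 9), (28, 8), (23, 7), (23, 6), (4, 4), (44, 8), (44, 7), (44, 9), (44, 8), (8, 9), (36, 8), (36, 7), (41, 11), (41, 10), (34, 9), (34, 8), (28, 7), (28, 6), (23, 5), (23, 4), (43, 9), (43, 8), (8, 9), (44, 9), (44, 10), (8,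 11), (35, 10), (35, 9), (29, 8), (29, 7), (5, 5), (42, 9), (35, 8), (35, 7), (29, 6), (29, 5), (44, 11), (44, 10), (7, 8), (8, 8), (38, 8), (25, 7), (25, 6), (20, 5), (16, 4), (13, 3), (11, 2), (1, 0), (39, 3), (32, 2), (21, 1), (21, 0), (41, 4), (34, 3), (23, 2), (23, 1), (43, 5), (36, 4), (44, 6), (40, 8), (40, 7), (33, 6), (33, 5), (27, 4), (22, 3), (22, 2), (18, 1), (42, 5), (5, 3), (42, 4), (42, 3), (8, 4), (7, 5), (41, 6), (41, 5), (28, 4), (23, 3), (8, 6), (41, 6), (28, 5), (23, 4), (4, 2), (8, 4), (41, 6), (41, 5), (28, 4), (28, 3), (23, 2), (43, 6), (43, 5), (8, 6), (8, 6), (29, 5), (29, 4), (42, 7), (29, 6), (29, 5), (5, 3), (43, 6), (43, 5), (6, 3), (44, 4), (44, 3), (44, 5), (44, 4), (8, 5), (36, 4), (36, 3), (7, 4), (39, 6), (39, 5), (32, 4), (26, 3), (17, 2), (14, 1), (41, 9), (34, 8), (34, 7), (28, 6), (28, 5), (23,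 4), (23, 3), (43, 8), (43, 7), (8, 8), (44, 8), (44, 9), (42, 11), (42, 10), (35, 9), (35, 8), (29, 7), (29, 6), (5, 4), (8, 8), (43, 8), (36, 7), (36, 6), (6, 4), (44, 6), (7, 4), (44, 4), (8, 5), (39, 7), (39, 6), (32, 5), (32, 4), (17, 3), (14, 2), (2, 0), (41, 7), (34, 6), (34, 5), (28, 4), (28, 3), (23, 2), (23, 1), (43, 6), (43, 5), (8, 6), (44, 6), (44, 7), (42, 9), (42, 8), (35, 7), (35, 6), (29, 5), (29, 4), (5, 2), (8, 6), (44, 6), (7, 4), (44, 4), (8, 5), (33, 4), (27, 3), (27, 2), (18, 1), (43, 5), (44, 6), (43, 7), (36, 6), (44, 8), (44, 9), (7, 7), (40, 7), (27, 6), (27, 5), (22, 4), (22, 3), (18, 2), (3, 0), (41, 1), (34, 0), (42, 2), (35, 1), (42, 3), (35, 2), (42, 5), (42, 4), (35, 3), (5, 1), (8, 2), (35, 1), (43, 3), (36, 2), (44, 4), (43, 5), (36, 4), (36, 3), (44, 6), (7, 4), (41, 5), (41, 4), (28, 3), (28,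 2), (23, 1), (43, 5), (43, 4), (8, 5), (8, 5), (28, 4), (28, 3), (23, 2), (4, 0), (43, 3), (43, 2), (8, 3), (44, 3)], []⟩,
    ⟨3, [2, 0], [0, 2, 3, 3], [(30, 3), (15, 2), (12, 1), (10, 0), (40, 8), (40, 7), (27, 6), (27, 5), (22, 4), (22, 3), (18, 2), (42, 6), (5, 4), (42, 5), (42, 4), (8, 5), (36, 6), (41, 10), (41, 9), (34, 8), (34, 7), (28, 6), (28, 5), (23, 4), (43, 8), (43, 7), (8, 8), (44, 8), (44, 9), (8, 10), (34, 9), (34, 8), (28, 7), (28, 6), (23, 5), (4, 3), (43, 6), (43, 5), (8, 6), (44, 6), (44, 7), (42, 8), (35, 7), (35, 6), (29, 5), (29, 4), (42, 9), (35, 8), (35, 7), (29, 6), (29, 5), (5, 3), (43, 7), (36, 6), (36, 5), (6, 3), (44, 5), (7, 3), (44, 3), (41, 5), (41, 4), (34, 3), (42, 6), (42, 5), (35, 4), (42, 7), (42, 6), (35, 5), (43, 8), (43, 7), (36, 6), (43, 9), (43, 8), (36, 7), (44, 10), (44, 9), (8, 10),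 (7, 8), (40, 8), (27, 7), (27, 6), (22, 5), (22, 4), (18, 3), (42, 7), (5, 5), (42, 6), (42, 5), (8, 6), (36, 7), (40, 10), (33, 9), (33, 8), (27, 7), (27, 6), (22, 5), (18, 4), (3, 2), (41, 3), (34, 2), (42, 4), (35, 3), (42, 5), (35, 4), (42, 7), (42, 6), (35, 5), (5, 3), (8, 4), (36, 3), (36, 5), (36, 4), (7, 5)], [(39, 3), (14, 2), (14, 1), (40, 9), (33, 8), (33, 7), (27, 6), (27, 5), (22, 4), (22, 3), (42, 5), (43, 7), (43, 6), (44, 8), (44, 7), (43, 9), (43, 8), (36, 7), (44, 10), (44, 9), (44, 11), (44, 10), (7, 8), (44, 9), (44, 8), (8, 9), (35, 8), (29, 7), (29, 6), (5, 4), (35, 6), (29, 5), (29, 4), (36, 7), (6, 5), (36, 5), (7, 6), (40, 7), (40, 6), (27, 5), (22, 4), (3, 2), (42, 3), (35, 2), (43, 5), (43, 4), (36, 3), (44, 6), (44, 5), (8, 6), (41, 6), (34, 5), (34, 4), (28, 3), (23, 2), (44, 6), (44, 5), (44, 7), (44,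 6), (8, 7), (7, 5), (29, 4), (6, 5), (42, 6), (35, 5), (5, 3), (43, 4), (36, 3), (43, 5), (36, 4), (44, 6)], [(37, 10), (37, 9), (30, 8), (30, 7), (19, 6), (15, 5), (15, 4), (12, 3), (12, 2), (10, 1), (10, 0), (39, 8), (39, 7), (26, 6), (26, 5), (21, 4), (21, 3), (17, 2), (42, 6), (42, 5), (42, 7), (42, 6), (5, 4), (43, 5), (43, 4), (44, 6), (44, 5), (44, 7), (44, 6), (8, 7), (43, 7), (36, 6), (36, 5), (44, 8), (7, 6), (44, 6), (8, 7), (41, 8), (41, 7), (34, 6), (28, 5), (28, 4), (43, 7), (43, 6), (8, 7), (44, 7), (8, 8), (35, 7), (29, 6), (29, 5), (35, 8), (29, 7), (29, 6), (36, 9), (6, 7), (36, 7), (40, 10), (40, 9), (33, 8), (27, 7), (22, 6), (22, 5), (18, 4), (18, 3), (41, 7), (23, 6), (23, 5), (42, 8), (5, 6), (42, 6), (42, 8), (42, 7), (8, 8), (5, 6), (43, 6), (44, 7), (44, 8), (8, 9), (34, 8), (34, 7), (28, 6), (4, 4), (44,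 6), (44, 5), (44, 7), (44, 6), (41, 8), (41, 7), (34, 6), (34, 5), (28, 4), (44, 7), (44, 6), (44, 8), (44, 7), (8, 8), (42, 8), (35, 7), (35, 6), (29, 5), (42, 9), (35, 8), (35, 7), (29, 6), (43, 10), (36, 9), (36, 8), (44, 11), (7, 9), (44, 9), (40, 11), (40, 10), (33, 9), (27, 8), (27, 7), (22, 6), (22, 5), (18, 4), (42, 8), (5, 6), (42, 7), (42, 6), (8, 7), (36, 8), (7, 9), (41, 10), (41, 9), (28, 8), (28, 7), (23, 6), (43, 10), (43, 9), (8, 10), (8, 10), (28, 9), (28, 8), (23, 7), (4, 5), (43, 8), (43, 7), (8, 8), (42, 8), (29, 7), (29, 6), (42, 9), (29, 8), (29, 7), (5, 5), (43, 7), (6, 5), (44, 5), (44, 6), (41, 8), (41, 7), (34, 6), (34, 5), (42, 9), (42, 8), (35, 7), (35, 6), (42, 10), (42, 9), (35, 8), (35, 7), (43, 11), (43, 10), (36, 9), (36, 8), (43, 12), (43, 11), (36, 10), (36, 9), (44, 13), (44, 12), (7, 10), (8,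 10), (28, 9), (28, 8), (23, 7), (23, 6), (43, 11), (43, 10), (8, 11), (42, 11), (29, 10), (29, 9), (5, 7), (42, 9), (29, 8), (29, 7), (43, 10), (6, 8), (43, 8), (44, 9), (42, 11), (42, 10), (35, 9), (29, 8), (44, 12), (44, 11), (8, 12), (7, 10), (44, 10), (8, 11), (37, 11), (30, 10), (24, 9), (19, 8), (19, 7), (15, 6), (15, 5), (12, 4), (12, 3), (10, 2), (10, 1), (39, 9), (39, 8), (26, 7), (26, 6), (21, 5), (21, 4), (17, 3), (42, 7), (42, 6), (42, 8), (42, 7), (5, 5), (43, 6), (43, 5), (44, 7), (44, 6), (44, 8), (44, 7), (8, 8), (43, 8), (36, 7), (36, 6), (44, 9), (7, 7), (44, 7), (8, 8), (41, 9), (41, 8), (34, 7), (28, 6), (28, 5), (43, 8), (43, 7), (8, 8), (44, 8), (8, 9), (35, 8), (29, 7), (29, 6), (35, 9), (29, 8), (29, 7), (36, 10), (6, 8), (36, 8), (40, 11), (40, 10), (33, 9), (27, 8), (22, 7), (22, 6), (18, 5), (18, 4), (41,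 8), (23, 7), (23, 6), (42, 9), (5, 7), (42, 7), (42, 9), (42, 8), (8, 9), (5, 7), (43, 7), (44, 8), (44, 9), (8, 10), (34, 9), (34, 8), (28, 7), (4, 5), (44, 7), (44, 6), (44, 8), (44, 7), (41, 9), (41, 8), (34, 7), (34, 6), (28, 5), (44, 8), (44, 7), (44, 9), (44, 8), (8, 9), (42, 9), (35, 8), (35, 7), (29, 6), (42, 10), (35, 9), (35, 8), (29, 7), (43, 11), (36, 10), (36, 9), (44, 12), (7, 10), (44, 10), (40, 12), (40, 11), (33, 10), (27, 9), (27, 8), (22, 7), (22, 6), (18, 5), (42, 9), (5, 7), (42, 8), (42, 7), (8, 8), (36, 9), (7, 10), (41, 11), (41, 10), (28, 9), (28, 8), (23, 7), (43, 11), (43, 10), (8, 11), (8, 11), (28, 10), (28, 9), (23, 8), (4, 6), (43, 9), (43, 8), (8, 9), (42, 9), (29, 8), (29, 7), (42, 10), (29, 9), (29, 8), (5, 6), (43, 8), (6, 6), (44, 6), (44, 7), (41, 9), (41, 8), (34, 7), (34, 6), (42, 10), (42,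 9), (35, 8), (35, 7), (42, 11), (42, 10), (35, 9), (35, 8), (43, 12), (43, 11), (36, 10), (36, 9), (43, 13), (43, 12), (36, 11), (36, 10), (44, 14), (44, 13), (7, 11), (8, 11), (28, 10), (28, 9), (23, 8), (23, 7), (43, 12), (43, 11), (8, 12), (42, 12), (29, 11), (29, 10), (5, 8), (42, 10), (29, 9), (29, 8), (43, 11), (6, 9), (43, 9), (44, 10), (42, 12), (42, 11), (35, 10), (29, 9), (44, 13), (44, 12), (8, 13), (35, 12), (35, 11), (29, 10), (5, 8), (7, 9), (43, 9), (44, 10), (44, 11), (44, 13), (44, 12), (7, 10), (8, 10), (38, 10), (25, 9), (25, 8), (16, 7), (16, 6), (13, 5), (13, 4), (11, 3), (11, 2), (39, 7), (32, 6), (26, 5), (17, 4), (43, 8), (43, 7), (44, 9), (44, 8), (44, 10), (44, 9), (8, 10), (44, 10), (7, 8), (41, 9), (41, 8), (28, 7), (23, 6), (8, 9), (43, 9), (44, 10), (40, 12), (40, 11), (33, 10), (27, 9), (27, 8), (22,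 7), (18, 6), (18, 5), (41, 9), (23, 8), (23, 7), (42, 10), (5, 8), (42, 8), (42, 10), (42, 9), (8, 10), (36, 11), (7, 12), (41, 13), (41, 12), (28, 11), (28, 10), (23, 9), (23, 8), (4, 6), (43, 10), (43, 9), (8, 10), (8, 10), (28, 9), (28, 8), (23, 7), (23, 6), (43, 11), (43, 10), (8, 11), (43, 11), (6, 9), (8, 9), (22, 8), (22, 7), (18, 6), (42, 10), (5, 8), (42, 9), (42, 8), (8, 9), (23, 8), (23, 9), (4, 7), (41, 10), (41, 9), (28, 8), (23, 7), (8, 10), (42, 10), (29, 9), (41, 12), (41, 11), (28, 10), (23, 9), (23, 8), (8, 12), (42, 12), (29, 11), (5, 9), (43, 11), (43, 10), (44, 12), (44, 11), (44, 13), (44, 12), (8, 13), (36, 12), (36, 11), (6, 9), (7, 9), (38, 11), (38, 10), (31, 9), (16, 8), (16, 7), (13, 6), (13, 5), (11, 4), (11, 3), (39, 8), (32, 7), (26, 6), (17, 5), (43, 9), (43, 8), (44, 10), (44, 9), (44, 11), (44,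 10), (8, 11), (44, 11), (7, 9), (41, 10), (41, 9), (28, 8), (23, 7), (8, 10), (43, 10), (44, 11), (40, 13), (40, 12), (33, 11), (27, 10), (27, 9), (22, 8), (18, 7), (18, 6), (41, 10), (23, 9), (23, 8), (42, 11), (5, 9), (42, 9), (42, 11), (42, 10), (8, 11), (36, 12), (7, 13), (41, 14), (41, 13), (28, 12), (28, 11), (23, 10), (23, 9), (4, 7), (43, 11), (43, 10), (8, 11), (8, 11), (28, 10), (28, 9), (23, 8), (23, 7), (43, 12), (43, 11), (8, 12), (43, 12), (6, 10), (8, 10), (22, 9), (22, 8), (18, 7), (42, 11), (5, 9), (42, 10), (42, 9), (8, 10), (23, 9), (23, 10), (4, 8), (41, 11), (41, 10), (28, 9), (23, 8), (8, 11), (42, 11), (29, 10), (41, 13), (41, 12), (28, 11), (23, 10), (23, 9), (8, 13), (42, 13), (29, 12), (5, 10), (44, 12), (44, 11), (8, 12), (39, 13), (39, 12), (32, 11), (26, 10), (17, 9), (17, 8), (14, 7), (14, 6), (2, 4),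 (40, 11), (33, 10), (33, 9), (27, 8), (27, 7), (22, 6), (22, 5), (42, 7), (43, 9), (43, 8), (44, 10), (44, 9), (43, 11), (43, 10), (36, 9), (44, 12), (44, 11), (44, 13), (44, 12), (7, 10), (44, 11), (44, 10), (8, 11), (35, 10), (29, 9), (29, 8), (5, 6), (35, 8), (29, 7), (29, 6), (36, 9), (6, 7), (36, 7), (7, 8), (41, 8), (28, 7), (23, 6), (8, 9), (29, 8), (41, 11), (41, 10), (28, 9), (23, 8), (23, 7), (8, 11), (42, 11), (29, 10), (5, 8), (8, 9), (44, 13), (44, 12), (7, 10), (8, 10), (39, 10), (26, 9), (26, 8), (17, 7), (17, 6), (14, 5), (14, 4), (40, 12), (33, 11), (33, 10), (27, 9), (27, 8), (22, 7), (22, 6), (42, 8), (43, 10), (43, 9), (44, 11), (44, 10), (43, 12), (43, 11), (36, 10), (44, 13), (44, 12), (44, 14), (44, 13), (7, 11), (44, 12), (44, 11), (8, 12), (35, 11), (29, 10), (29, 9), (5, 7), (35, 9), (29, 8), (29, 7), (36,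 10), (6, 8), (36, 8), (7, 9), (41, 9), (28, 8), (23, 7), (8, 10), (29, 9), (41, 12), (41, 11), (28, 10), (23, 9), (23, 8), (8, 12), (42, 12), (29, 11), (5, 9), (8, 10), (43, 14), (43, 13), (36, 12), (36, 11), (6, 9), (44, 12), (44, 11), (7, 9), (44, 10), (44, 9), (8, 10), (40, 11), (40, 10), (33, 9), (18, 8), (18, 7), (3, 5), (41, 6), (34, 5), (42, 7), (35, 6), (42, 8), (35, 7), (41, 10), (41, 9), (34, 8), (23, 7), (23, 6), (42, 11), (42, 10), (35, 9), (5, 7), (42, 9), (42, 8), (35, 7), (8, 9), (40, 11), (40, 10), (33, 9), (33, 8), (22, 7), (18, 6), (18, 5), (41, 9), (23, 8), (23, 7), (42, 10), (5, 8), (42, 8), (42, 10), (42, 9), (8, 10), (41, 13), (41, 12), (34, 11), (34, 10), (23, 9), (23, 8), (4, 6), (41, 11), (41, 10), (34, 9), (34, 8), (23, 7), (23, 6), (44, 12), (44, 11), (7, 9)], [(32, 10), (17, 9), (17, 8), (14, 7), (14,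 6), (2, 4), (40, 11), (33, 10), (33, 9), (27, 8), (27, 7), (22, 6), (22, 5), (42, 7), (43, 9), (43, 8), (44, 10), (44, 9), (43, 11), (43, 10), (36, 9), (44, 12), (44, 11), (44, 13), (44, 12), (7, 10), (44, 11), (44, 10), (8, 11), (35, 10), (29, 9), (29, 8), (5, 6), (35, 8), (29, 7), (29, 6), (36, 9), (6, 7), (36, 7), (7, 8), (41, 8), (28, 7), (23, 6), (8, 9), (29, 8), (41, 11), (41, 10), (28, 9), (23, 8), (23, 7), (8, 11), (42, 11), (29, 10), (5, 8), (8, 9), (32, 9), (26, 8), (17, 7), (17, 6), (14, 5), (14, 4), (40, 12), (33, 11), (33, 10), (27, 9), (27, 8), (22, 7), (22, 6), (42, 8), (43, 10), (43, 9), (44, 11), (44, 10), (43, 12), (43, 11), (36, 10), (44, 13), (44, 12), (44, 14), (44, 13), (7, 11), (44, 12), (44, 11), (8, 12), (35, 11), (29, 10), (29, 9), (5, 7), (35, 9), (29, 8), (29, 7), (36, 10), (6, 8), (36, 8), (7, 9), (41,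 9), (28, 8), (23, 7), (8, 10), (29, 9), (41, 12), (41, 11), (28, 10), (23, 9), (23, 8), (8, 12), (42, 12), (29, 11), (5, 9), (8, 10), (44, 14), (44, 13), (7, 11), (40, 12), (40, 11), (27, 10), (27, 9), (18, 8), (18, 7), (3, 5), (41, 6), (34, 5), (42, 7), (35, 6), (42, 8), (35, 7), (41, 10), (41, 9), (34, 8), (23, 7), (23, 6), (42, 11), (42, 10), (35, 9), (5, 7), (42, 9), (42, 8), (35, 7), (8, 9), (36, 8), (36, 10), (36, 9), (7, 10), (40, 11), (40, 10), (27, 9), (27, 8), (22, 7), (18, 6), (18, 5), (41, 9), (23, 8), (23, 7), (42, 10), (5, 8), (42, 8), (42, 10), (42, 9), (8, 10), (36, 11), (41, 15), (41, 14), (34, 13), (34, 12), (28, 11), (28, 10), (23, 9), (23, 8), (4, 6), (43, 10), (43, 9), (8, 10), (44, 10), (44, 11), (8, 12), (34, 11), (34, 10), (28, 9), (28, 8), (23, 7), (23, 6), (43, 11), (43, 10), (8, 11), (44, 11), (44, 12),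 (42, 13), (35, 12), (35, 11), (29, 10), (29, 9), (5, 7), (44, 11), (7, 9), (44, 9), (8, 10), (35, 9), (29, 8), (29, 7), (36, 10), (6, 8), (36, 8), (42, 11), (35, 10), (35, 9), (29, 8), (43, 12), (36, 11), (36, 10), (43, 13), (36, 12), (36, 11), (6, 9), (44, 11), (7, 9)]⟩,
    ⟨4, [1, 0], [0, 1], [(37, 8), (37, 7), (30, 6), (30, 5), (24, 4), (19, 3), (19, 2), (15, 1), (10, 0), (41, 8), (41, 7), (28, 6), (28, 5), (23, 4), (23, 3), (43, 8), (43, 7), (8, 8), (8, 8), (29, 7), (29, 6), (5, 4), (29, 5), (29, 4), (6, 5), (42, 7), (35, 6), (29, 5), (44, 8), (42, 10), (42, 9), (35, 8), (35, 7), (29, 6), (5, 4), (44, 8), (44, 7), (7, 5), (8, 5), (44, 8), (7, 6), (44, 7), (44, 6), (8, 7), (38, 8), (38, 7), (31, 6), (25, 5), (25, 4), (16, 3), (16, 2), (11, 1), (41, 6), (34, 5), (28, 4), (44, 7), (44, 6), (8, 7), (35, 6), (29, 5), (41, 8), (34,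 7), (28, 6), (23, 5), (4, 3), (44, 6), (44, 5), (8, 6), (35, 5), (29, 4), (43, 7), (36, 6), (44, 8), (44, 9), (7, 7), (43, 8), (43, 7), (6, 5), (44, 6), (44, 5), (44, 7), (44, 6), (8, 7), (7, 5), (8, 5), (20, 4), (20, 3), (11, 2), (42, 7), (35, 6), (29, 5), (42, 9), (42, 8), (35, 7), (29, 6), (8, 9), (35, 8), (29, 7), (5, 5), (35, 6), (29, 5), (36, 7)], [(26, 5), (21, 4), (21, 3), (41, 10), (41, 9), (34, 8), (34, 7), (28, 6), (23, 5), (23, 4), (44, 9), (44, 8), (44, 10), (44, 9), (8, 10), (42, 10), (35, 9), (35, 8), (29, 7), (5, 5), (42, 8), (35, 7), (35, 6), (29, 5), (43, 9), (36, 8), (36, 7), (44, 10), (7, 8), (44, 8), (8, 9)], [(37, 8), (37, 7), (30, 6), (30, 5), (24, 4), (19, 3), (19, 2), (15, 1), (10, 0), (41, 8), (41, 7), (28, 6), (28, 5), (23, 4), (23, 3), (43, 8), (43, 7), (8, 8), (8, 8), (29, 7), (29, 6), (5, 4), (29, 5),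 (29, 4), (6, 5), (42, 7), (35, 6), (29, 5), (44, 8), (42, 10), (42, 9), (35, 8), (35, 7), (29, 6), (5, 4), (44, 8), (44, 7), (7, 5), (8, 5), (44, 8), (7, 6), (44, 7), (44, 6), (8, 7), (37, 8), (37, 7), (30, 6), (24, 5), (24, 4), (15, 3), (15, 2), (10, 1), (41, 9), (41, 8), (28, 7), (28, 6), (23, 5), (23, 4), (43, 9), (43, 8), (8, 9), (8, 9), (29, 8), (29, 7), (5, 5), (29, 6), (29, 5), (6, 6), (41, 8), (34, 7), (28, 6), (23, 5), (4, 3), (44, 6), (44, 5), (8, 6), (35, 5), (29, 4), (35, 6), (29, 5), (5, 3), (36, 4), (36, 5), (6, 3), (43, 5), (36, 4), (36, 3), (44, 6), (7, 4), (44, 4), (43, 6), (43, 5), (36, 4), (44, 7), (44, 6), (44, 8), (44, 7), (7, 5), (8, 5), (8, 6), (31, 5), (25, 4), (25, 3), (11, 2), (43, 7), (36, 6), (44, 8), (44, 9), (7, 7), (43, 8), (43, 7), (6, 5), (44, 6), (44, 5), (44, 7), (44, 6), (8, 7), (7, 5), (39, 5),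 (17, 4), (8, 7), (21, 6), (17, 5), (2, 3), (42, 6), (42, 5), (40, 7), (40, 6), (22, 5), (22, 4), (18, 3), (42, 7), (5, 5), (42, 6), (42, 5), (8, 6), (43, 7), (43, 6), (44, 8), (44, 7), (44, 9), (44, 8), (8, 9)], [(39, 10), (39, 9), (32, 8), (32, 7), (26, 6), (14, 5), (2, 3), (43, 10), (36, 9), (36, 8), (6, 6), (44, 8), (7, 6), (44, 6), (8, 7), (7, 6), (41, 7), (41, 6), (23, 5), (23, 4), (42, 8), (42, 7), (5, 5), (42, 6), (42, 5), (43, 7), (43, 6), (44, 8), (44, 7), (44, 9), (44, 8), (8, 9)]⟩,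
    ⟨5, [1, 0], [0, 1, 4, 4, 5], [(24, 3), (24, 2), (15, 1), (10, 0), (41, 8), (41, 7), (28, 6), (28, 5), (23, 4), (23, 3), (43, 8), (43, 7), (8, 8), (8, 8), (29, 7), (29, 6), (5, 4), (29, 5), (29, 4), (6, 5), (43, 7), (36, 6), (44, 8), (44, 9), (7, 7), (43, 8), (43, 7), (6, 5), (44, 6), (44, 5), (44, 7), (44, 6), (8, 7), (31, 6), (31, 5), (20, 4), (16, 3), (16, 2), (11, 1), (41, 6), (34, 5), (28, 4), (44, 7), (44, 6), (8, 7), (35, 6), (29, 5), (41, 8), (34, 7), (28, 6), (23, 5), (4, 3), (44, 6), (44, 5), (8, 6), (35, 5), (29, 4), (42, 7), (35, 6), (29, 5), (5, 3), (44, 6), (44, 5), (8, 6), (7, 4), (38, 4), (25, 3), (11, 2), (43, 7), (36, 6), (44, 8), (44, 9), (7, 7), (8, 7), (6, 5)], [(26, 4), (26, 3), (43, 8), (43, 7), (36, 6), (36, 5), (44, 9), (44, 8), (7, 6), (44, 7), (44, 6), (8, 7), (41, 7), (34, 6), (28, 5), (28, 4), (43,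 7), (43, 6), (8, 7), (44, 7), (43, 9), (43, 8), (36, 7), (6, 5), (43, 7), (43, 6), (36, 5), (44, 8), (44, 7), (44, 9), (44, 8), (7, 6), (8, 6)], [(39, 13), (39, 12), (32, 11), (32, 10), (26, 9), (26, 8), (21, 7), (17, 6), (17, 5), (14, 4), (41, 12), (34, 11), (34, 10), (28, 9), (28, 8), (23, 7), (23, 6), (43, 11), (43, 10), (8, 11), (44, 11), (44, 12), (42, 14), (42, 13), (35, 12), (35, 11), (29, 10), (29, 9), (5, 7), (8, 11), (41, 11), (34, 10), (34, 9), (28, 8), (28, 7), (43, 10), (43, 9), (8, 10), (44, 10), (44, 11), (42, 13), (42, 12), (35, 11), (35, 10), (29, 9), (29, 8), (8, 13), (42, 13), (35, 12), (35, 11), (29, 10), (29, 9), (43, 14), (36, 13), (36, 12), (6, 10), (44, 12), (7, 10), (44, 10), (8, 11), (36, 10), (7, 11), (44, 12), (44, 11), (44, 13), (44, 12), (8, 13), (39, 13), (32, 12), (32, 11), (26, 10), (21, 9), (21,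 8), (17, 7), (17, 6), (14, 5), (2, 3), (41, 10), (34, 9), (34, 8), (28, 7), (28, 6), (23, 5), (23, 4), (43, 9), (43, 8), (8, 9), (44, 9), (44, 10), (42, 12), (42, 11), (35, 10), (35, 9), (29, 8), (29, 7), (5, 5), (8, 9), (41, 9), (34, 8), (34, 7), (28, 6), (28, 5), (43, 8), (43, 7), (8, 8), (44, 8), (44, 9), (42, 11), (42, 10), (35, 9), (35, 8), (29, 7), (29, 6), (8, 11), (42, 11), (35, 10), (35, 9), (29, 8), (29, 7), (42, 12), (35, 11), (35, 10), (29, 9), (29, 8), (5, 6), (43, 10), (36, 9), (36, 8), (6, 6), (44, 8), (7, 6), (44, 6), (8, 7), (7, 6), (41, 6), (4, 4), (41, 4)], [(37, 4), (15, 3), (15, 2), (10, 1), (10, 0), (39, 8), (39, 7), (26, 6), (26, 5), (21, 4), (21, 3), (17, 2), (42, 6), (42, 5), (42, 7), (42, 6), (5, 4), (43, 5), (43, 4), (44, 6), (44, 5), (44, 7), (44, 6), (8, 7), (43, 7), (36, 6), (36, 5), (44, 8), (7, 6),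 (44, 6), (8, 7), (41, 8), (41, 7), (34, 6), (28, 5), (28, 4), (43, 7), (43, 6), (8, 7), (44, 7), (8, 8), (35, 7), (29, 6), (29, 5), (35, 8), (29, 7), (29, 6), (36, 9), (6, 7), (36, 7), (41, 10), (41, 9), (34, 8), (28, 7), (23, 6), (23, 5), (4, 3), (44, 7), (44, 6), (8, 7), (42, 7), (35, 6), (29, 5), (5, 3), (42, 5), (35, 4), (29, 3), (43, 6), (36, 5), (43, 7), (36, 6), (6, 4), (44, 5), (41, 7), (41, 6), (34, 5), (34, 4), (23, 3), (42, 8), (42, 7), (35, 6), (35, 5), (42, 9), (42, 8), (35, 7), (35, 6), (5, 4), (43, 7), (43, 6), (36, 5), (36, 4), (43, 8), (43, 7), (36, 6), (36, 5), (44, 9), (44, 8), (7, 6), (8, 6), (37, 6), (24, 5), (24, 4), (15, 3), (10, 2), (10, 1), (39, 9), (39, 8), (26, 7), (26, 6), (21, 5), (21, 4), (17, 3), (42, 7), (42, 6), (42, 8), (42, 7), (5, 5), (43, 6), (43, 5), (44, 7), (44, 6), (44, 8), (44, 7), (8, 8),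 (43, 8), (36, 7), (36, 6), (44, 9), (7, 7), (44, 7), (8, 8), (41, 9), (41, 8), (34, 7), (28, 6), (28, 5), (43, 8), (43, 7), (8, 8), (44, 8), (8, 9), (35, 8), (29, 7), (29, 6), (35, 9), (29, 8), (29, 7), (36, 10), (6, 8), (36, 8), (41, 11), (41, 10), (34, 9), (28, 8), (23, 7), (23, 6), (4, 4), (44, 8), (44, 7), (8, 8), (42, 8), (35, 7), (29, 6), (5, 4), (42, 6), (35, 5), (29, 4), (43, 7), (36, 6), (43, 8), (36, 7), (6, 5), (44, 6), (43, 8), (43, 7), (36, 6), (36, 5), (44, 9), (44, 8), (7, 6), (44, 7), (44, 6), (8, 7), (36, 6), (7, 7), (38, 8), (38, 7), (25, 6), (25, 5), (20, 4), (11, 3), (11, 2), (39, 7), (32, 6), (26, 5), (17, 4), (43, 8), (43, 7), (44, 9), (44, 8), (44, 10), (44, 9), (8, 10), (44, 10), (7, 8), (41, 9), (41, 8), (28, 7), (23, 6), (8, 9), (43, 9), (44, 10), (42, 12), (42, 11), (35, 10), (29, 9), (29, 8), (8, 12),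 (36, 11), (6, 9), (7, 9), (43, 9), (44, 10), (44, 11), (8, 12), (39, 12), (32, 11), (32, 10), (26, 9), (21, 8), (21, 7), (17, 6), (17, 5), (2, 3), (41, 6), (41, 5), (23, 4), (42, 7), (42, 6), (8, 7), (42, 7), (5, 5), (42, 5), (43, 6), (44, 7), (44, 8), (8, 9), (7, 7), (40, 8), (33, 7), (27, 6), (22, 5), (18, 4), (18, 3), (41, 7), (23, 6), (23, 5), (42, 8), (5, 6), (42, 6), (42, 8), (42, 7), (8, 8), (41, 11), (34, 10), (34, 9), (28, 8), (23, 7), (23, 6), (4, 4), (44, 8), (44, 7), (44, 9), (44, 8), (8, 9), (34, 8), (34, 7), (28, 6), (23, 5), (23, 4), (44, 9), (44, 8), (44, 10), (44, 9), (42, 11), (42, 10), (35, 9), (35, 8), (29, 7), (5, 5), (43, 9), (43, 8), (36, 7), (36, 6), (43, 10), (43, 9), (36, 8), (36, 7), (6, 5), (44, 8), (44, 7), (7, 5), (44, 6), (44, 5), (8, 6), (37, 6), (30, 5), (15, 4), (12, 3), (9, 2), (0, 0), (38, 1),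 (38, 0), (39, 2), (39, 1), (39, 3), (39, 2), (40, 4), (40, 3), (40, 5), (40, 4), (41, 6), (41, 5), (43, 7), (43, 6), (43, 8), (43, 7), (44, 9), (44, 8), (40, 10), (40, 9), (33, 8), (27, 7), (27, 6), (18, 5), (3, 3), (41, 4), (34, 3), (42, 5), (35, 4), (42, 6), (35, 5), (43, 8), (43, 7), (36, 6), (44, 9), (44, 8), (43, 10), (43, 9), (36, 8), (36, 7), (44, 11), (44, 10), (7, 8), (44, 9), (44, 8), (8, 9), (41, 9), (34, 8), (28, 7), (28, 6), (23, 5), (23, 4), (43, 9), (43, 8), (8, 9), (44, 9), (41, 11), (41, 10), (34, 9), (28, 8), (28, 7), (23, 6), (23, 5), (4, 3), (43, 7), (43, 6), (8, 7), (44, 7), (8, 8), (35, 7), (29, 6), (29, 5), (5, 3), (35, 5), (29, 4), (29, 3), (36, 6), (6, 4), (7, 4), (41, 4), (23, 3), (42, 5), (42, 6), (5, 4), (43, 4), (43, 5), (44, 6), (44, 8), (44, 7), (8, 8), (37, 8), (30, 7), (30, 6), (24, 5), (24, 4),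 (15, 3), (10, 2), (10, 1), (9, 0), (32, 9), (26, 8), (26, 7), (17, 6), (14, 5), (14, 4), (2, 2), (40, 9), (33, 8), (33, 7), (27, 6), (27, 5), (22, 4), (22, 3), (42, 5), (43, 7), (43, 6), (44, 8), (44, 7), (43, 9), (43, 8), (36, 7), (44, 10), (44, 9), (44, 11), (44, 10), (7, 8), (44, 9), (44, 8), (8, 9), (35, 8), (29, 7), (29, 6), (5, 4), (35, 6), (29, 5), (29, 4), (36, 7), (6, 5), (36, 5), (7, 6), (41, 6), (28, 5), (23, 4), (8, 7), (29, 6), (43, 9), (43, 8), (44, 10), (44, 9), (44, 11), (44, 10), (8, 11), (43, 11), (36, 10), (36, 9), (6, 7), (44, 9), (7, 7), (44, 7), (8, 8), (34, 8), (34, 7), (23, 6), (23, 5), (35, 9), (35, 8), (5, 6), (35, 7), (35, 6), (36, 8), (36, 7), (36, 9), (36, 8), (39, 12), (39, 11), (32, 10), (32, 9), (26, 8), (26, 7), (21, 6), (17, 5), (17, 4), (14, 3), (14, 2), (40, 10), (33, 9), (33, 8), (27, 7), (27,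 6), (22, 5), (22, 4), (42, 6), (43, 8), (43, 7), (44, 9), (44, 8), (43, 10), (43, 9), (36, 8), (44, 11), (44, 10), (44, 12), (44, 11), (7, 9), (44, 10), (44, 9), (8, 10), (35, 9), (29, 8), (29, 7), (5, 5), (35, 7), (29, 6), (29, 5), (36, 8), (6, 6), (36, 6), (7, 7), (41, 7), (28, 6), (23, 5), (8, 8), (29, 7), (41, 10), (41, 9), (28, 8), (23, 7), (23, 6), (8, 10), (42, 10), (29, 9), (5, 7), (8, 8), (29, 7), (43, 13), (43, 12), (36, 11), (36, 10), (6, 8), (44, 11), (44, 10), (7, 8), (44, 9), (44, 8), (8, 9), (44, 9), (44, 10), (7, 8), (8, 8), (23, 7), (4, 5), (5, 5), (41, 8), (41, 7), (28, 6), (28, 5), (43, 8), (43, 7), (8, 8), (8, 8), (29, 7), (29, 6), (29, 8), (29, 7), (6, 8), (43, 10), (36, 9), (44, 11), (44, 12), (7, 10), (43, 11), (43, 10), (6, 8), (44, 9), (44, 8), (44, 10), (44, 9), (8, 10), (7, 8), (44, 8), (8, 9), (31, 8),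 (20, 7), (20, 6), (16, 5), (13, 4), (13, 3), (11, 2), (40, 7), (33, 6), (27, 5), (18, 4), (43, 8), (44, 9), (44, 10), (41, 12), (41, 11), (34, 10), (34, 9), (28, 8), (23, 7), (23, 6), (44, 11), (44, 10), (44, 12), (44, 11), (8, 12), (41, 12), (34, 11), (34, 10), (28, 9), (23, 8), (23, 7), (4, 5), (44, 9), (44, 8), (44, 10), (44, 9), (8, 10), (36, 9), (36, 8), (40, 12), (40, 11), (33, 10), (33, 9), (27, 8), (27, 7), (22, 6), (22, 5), (42, 7), (43, 9), (43, 8), (44, 10), (44, 9), (43, 11), (43, 10), (36, 9), (44, 12), (44, 11), (44, 13), (44, 12), (7, 10), (44, 11), (44, 10), (8, 11), (41, 11), (34, 10), (28, 9), (28, 8), (23, 7), (23, 6), (43, 11), (43, 10), (8, 11), (44, 11), (41, 13), (41, 12), (34, 11), (28, 10), (28, 9), (23, 8), (23, 7), (43, 12), (43, 11), (8, 12), (44, 12), (8, 13), (36, 12), (6, 10), (41, 12), (41, 11), (34,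 10), (23, 9), (23, 8), (4, 6), (42, 10), (42, 9), (35, 8), (5, 6), (8, 7), (35, 6), (42, 8), (35, 7), (44, 10), (44, 9), (8, 10), (33, 9), (33, 8), (22, 7), (22, 6), (3, 4), (42, 5), (35, 4), (42, 7), (42, 6), (35, 5), (8, 7), (7, 6), (23, 5), (23, 4), (5, 5), (37, 9), (37, 8), (30, 7), (30, 6), (24, 5), (15, 4), (10, 3), (9, 2), (9, 1), (31, 10), (25, 9), (25, 8), (16, 7), (13, 6), (13, 5), (11, 4), (11, 3), (39, 8), (32, 7), (26, 6), (17, 5), (43, 9), (43, 8), (44, 10), (44, 9), (44, 11), (44, 10), (8, 11), (44, 11), (7, 9), (41, 10), (41, 9), (28, 8), (23, 7), (8, 10), (43, 10), (44, 11), (40, 13), (40, 12), (33, 11), (27, 10), (27, 9), (22, 8), (18, 7), (18, 6), (41, 10), (23, 9), (23, 8), (42, 11), (5, 9), (42, 9), (42, 11), (42, 10), (8, 11), (36, 12), (7, 13), (41, 14), (41, 13), (28, 12), (28, 11), (23, 10), (23, 9), (4,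 7), (43, 11), (43, 10), (8, 11), (8, 11), (28, 10), (28, 9), (23, 8), (23, 7), (43, 12), (43, 11), (8, 12), (43, 12), (6, 10), (8, 10), (22, 9), (22, 8), (18, 7), (42, 11), (5, 9), (42, 10), (42, 9), (8, 10), (23, 9), (23, 10), (4, 8), (41, 11), (41, 10), (28, 9), (23, 8), (8, 11), (42, 11), (29, 10), (43, 13), (43, 12), (44, 14), (44, 13), (44, 15), (44, 14), (8, 15), (36, 14), (36, 13), (6, 11), (7, 11), (44, 12), (39, 14), (39, 13), (32, 12), (32, 11), (21, 10), (21, 9), (17, 8), (14, 7), (14, 6), (2, 4), (40, 11), (33, 10), (33, 9), (27, 8), (27, 7), (22, 6), (22, 5), (42, 7), (43, 9), (43, 8), (44, 10), (44, 9), (43, 11), (43, 10), (36, 9), (44, 12), (44, 11), (44, 13), (44, 12), (7, 10), (44, 11), (44, 10), (8, 11), (35, 10), (29, 9), (29, 8), (5, 6), (35, 8), (29, 7), (29, 6), (36, 9), (6, 7), (36, 7), (7, 8), (41, 8), (28,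 7), (23, 6), (8, 9), (29, 8), (42, 11), (42, 10), (29, 9), (5, 7), (42, 9), (42, 8), (29, 7), (44, 10), (44, 9), (44, 11), (44, 10), (8, 11), (39, 11), (32, 10), (32, 9), (26, 8), (21, 7), (17, 6), (14, 5), (14, 4), (40, 12), (33, 11), (33, 10), (27, 9), (27, 8), (22, 7), (22, 6), (42, 8), (43, 10), (43, 9), (44, 11), (44, 10), (43, 12), (43, 11), (36, 10), (44, 13), (44, 12), (44, 14), (44, 13), (7, 11), (44, 12), (44, 11), (8, 12), (35, 11), (29, 10), (29, 9), (5, 7), (35, 9), (29, 8), (29, 7), (36, 10), (6, 8), (36, 8), (7, 9), (41, 9), (28, 8), (23, 7), (8, 10), (29, 9), (42, 12), (42, 11), (29, 10), (5, 8), (43, 10), (43, 9), (44, 11), (44, 10), (44, 12), (44, 11), (8, 12), (44, 12), (7, 10), (44, 10), (40, 12), (40, 11), (33, 10), (27, 9), (27, 8), (18, 7), (3, 5), (41, 6), (34, 5), (42, 7), (35, 6), (42, 8), (35, 7), (43,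 10), (43, 9), (36, 8), (44, 11), (44, 10), (43, 12), (43, 11), (36, 10), (36, 9), (44, 13), (44, 12), (7, 10), (44, 11), (44, 10), (8, 11), (40, 11), (33, 10), (27, 9), (27, 8), (22, 7), (22, 6), (18, 5), (42, 9), (5, 7), (42, 8), (42, 7), (8, 8), (36, 9), (7, 10), (41, 10), (28, 9), (28, 8), (23, 7), (43, 11), (43, 10), (8, 11), (43, 12), (43, 11), (6, 9), (43, 10), (43, 9), (44, 11), (44, 10), (39, 12), (39, 11), (32, 10), (26, 9), (21, 8), (17, 7), (17, 6), (14, 5), (41, 13), (34, 12), (34, 11), (28, 10), (28, 9), (23, 8), (23, 7), (43, 12), (43, 11), (8, 12), (44, 12), (44, 13), (42, 15), (42, 14), (35, 13), (35, 12), (29, 11), (29, 10), (5, 8), (8, 12), (41, 12), (34, 11), (34, 10), (28, 9), (28, 8), (43, 11), (43, 10), (8, 11), (44, 11), (44, 12), (42, 14), (42, 13), (35, 12), (35, 11), (29, 10), (29, 9), (8, 14), (42, 14),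 (35, 13), (35, 12), (29, 11), (29, 10), (43, 15), (36, 14), (36, 13), (6, 11), (44, 13), (7, 11), (44, 11), (8, 12), (41, 14), (41, 13), (34, 12), (34, 11), (23, 10), (23, 9), (4, 7), (42, 12), (42, 11), (35, 10), (35, 9), (5, 7), (42, 10), (42, 9), (35, 8), (35, 7), (43, 11), (43, 10), (36, 9), (36, 8), (43, 12), (43, 11), (36, 10), (36, 9), (8, 12), (41, 12), (34, 11), (34, 10), (28, 9), (28, 8), (23, 7), (43, 11), (43, 10), (8, 11), (44, 11), (44, 12), (42, 14), (42, 13), (35, 12), (35, 11), (29, 10), (29, 9), (42, 15), (42, 14), (35, 13), (35, 12), (29, 11), (29, 10), (5, 8), (43, 13), (43, 12), (36, 11), (36, 10), (6, 8), (43, 11), (43, 10), (36, 9), (36, 8), (44, 12), (44, 11), (7, 9), (8, 9), (44, 12), (7, 10), (44, 11), (44, 10), (8, 11), (37, 12), (37, 11), (30, 10), (24, 9), (24, 8), (15, 7), (12, 6), (10, 5), (10, 4),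 (9, 3), (9, 2), (0, 0), (38, 1), (38, 0), (39, 2), (39, 1), (39, 3), (39, 2), (40, 4), (40, 3), (40, 5), (40, 4), (41, 6), (41, 5), (43, 7), (43, 6), (43, 8), (43, 7), (44, 9), (44, 8), (38, 10), (38, 9), (31, 8), (25, 7), (25, 6), (16, 5), (13, 4), (13, 3), (11, 2), (11, 1), (39, 6), (32, 5), (26, 4), (17, 3), (43, 7), (43, 6), (44, 8), (44, 7), (44, 9), (44, 8), (8, 9), (44, 9), (7, 7), (41, 8), (41, 7), (28, 6), (23, 5), (8, 8), (43, 8), (44, 9), (40, 11), (40, 10), (33, 9), (27, 8), (27, 7), (22, 6), (18, 5), (18, 4), (41, 8), (23, 7), (23, 6), (42, 9), (5, 7), (42, 7), (42, 9), (42, 8), (8, 9), (36, 10), (7, 11), (41, 12), (41, 11), (28, 10), (28, 9), (23, 8), (23, 7), (4, 5), (43, 9), (43, 8), (8, 9), (8, 9), (28, 8), (28, 7), (23, 6), (23, 5), (43, 10), (43, 9), (8, 10), (43, 10), (6, 8), (8, 8), (22, 7), (22, 6), (18, 5),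 (42, 9), (5, 7), (42, 8), (42, 7), (8, 8), (23, 7), (23, 8), (4, 6), (41, 9), (41, 8), (28, 7), (23, 6), (8, 9), (42, 9), (29, 8), (43, 11), (43, 10), (44, 12), (44, 11), (44, 13), (44, 12), (8, 13), (36, 12), (36, 11), (6, 9), (7, 9), (44, 10), (8, 11), (39, 11), (32, 10), (32, 9), (21, 8), (21, 7), (17, 6), (14, 5), (14, 4), (2, 2), (40, 9), (33, 8), (33, 7), (27, 6), (27, 5), (22, 4), (22, 3), (42, 5), (43, 7), (43, 6), (44, 8), (44, 7), (43, 9), (43, 8), (36, 7), (44, 10), (44, 9), (44, 11), (44, 10), (7, 8), (44, 9), (44, 8), (8, 9), (35, 8), (29, 7), (29, 6), (5, 4), (35, 6), (29, 5), (29, 4), (36, 7), (6, 5), (36, 5), (7, 6), (41, 6), (28, 5), (23, 4), (8, 7), (29, 6), (42, 9), (42, 8), (29, 7), (5, 5), (42, 7), (42, 6), (29, 5), (44, 8), (44, 7), (44, 9), (44, 8), (8, 9), (32, 8), (32, 7), (26, 6), (21, 5), (17, 4), (14,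 3), (14, 2), (40, 10), (33, 9), (33, 8), (27, 7), (27, 6), (22, 5), (22, 4), (42, 6), (43, 8), (43, 7), (44, 9), (44, 8), (43, 10), (43, 9), (36, 8), (44, 11), (44, 10), (44, 12), (44, 11), (7, 9), (44, 10), (44, 9), (8, 10), (35, 9), (29, 8), (29, 7), (5, 5), (35, 7), (29, 6), (29, 5), (36, 8), (6, 6), (36, 6), (7, 7), (41, 7), (28, 6), (23, 5), (8, 8), (29, 7), (42, 10), (42, 9), (29, 8), (5, 6), (43, 8), (43, 7), (44, 9), (44, 8), (44, 10), (44, 9), (8, 10), (44, 10), (7, 8), (44, 8), (40, 9), (33, 8), (27, 7), (27, 6), (18, 5), (3, 3), (41, 4), (34, 3), (42, 5), (35, 4), (42, 6), (35, 5), (43, 8), (43, 7), (36, 6), (44, 9), (44, 8), (43, 10), (43, 9), (36, 8), (36, 7), (44, 11), (44, 10), (7, 8), (44, 9), (44, 8), (8, 9), (33, 8), (27, 7), (27, 6), (22, 5), (22, 4), (18, 3), (42, 7), (5, 5), (42, 6), (42, 5), (8, 6), (36, 7),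 (7, 8), (28, 7), (28, 6), (23, 5), (43, 9), (43, 8), (8, 9), (43, 9), (6, 7), (43, 7), (44, 8), (39, 9), (32, 8), (26, 7), (21, 6), (17, 5), (17, 4), (14, 3), (41, 11), (34, 10), (34, 9), (28, 8), (28, 7), (23, 6), (23, 5), (43, 10), (43, 9), (8, 10), (44, 10), (44, 11), (42, 13), (42, 12), (35, 11), (35, 10), (29, 9), (29, 8), (5, 6), (8, 10), (41, 10), (34, 9), (34, 8), (28, 7), (28, 6), (43, 9), (43, 8), (8, 9), (44, 9), (44, 10), (42, 12), (42, 11), (35, 10), (35, 9), (29, 8), (29, 7), (8, 12), (42, 12), (35, 11), (35, 10), (29, 9), (29, 8), (43, 13), (36, 12), (36, 11), (6, 9), (44, 11), (7, 9), (44, 9), (8, 10), (41, 11), (34, 10), (34, 9), (23, 8), (23, 7), (4, 5), (42, 9), (35, 8), (35, 7), (5, 5), (42, 7), (35, 6), (35, 5), (43, 8), (36, 7), (36, 6), (43, 9), (36, 8), (36, 7), (8, 10), (32, 9), (32, 8), (26, 7), (26, 6),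 (21, 5), (14, 4), (2, 2), (42, 9), (35, 8), (35, 7), (29, 6), (29, 5), (5, 3), (43, 7), (36, 6), (36, 5), (6, 3), (44, 5), (7, 3), (44, 3), (8, 4), (36, 3), (7, 4), (44, 5), (44, 4), (44, 6), (44, 5), (41, 7), (41, 6), (34, 5), (34, 4), (28, 3), (44, 6), (44, 5), (44, 7), (44, 6), (8, 7), (42, 7), (35, 6), (35, 5), (29, 4), (42, 8), (35, 7), (35, 6), (29, 5), (43, 9), (36, 8), (36, 7), (43, 10), (36, 9), (36, 8), (6, 6), (8, 8), (33, 7), (33, 6), (22, 5), (22, 4), (18, 3), (42, 7), (5, 5), (42, 6), (42, 5), (8, 6), (34, 7), (34, 6), (23, 5), (34, 8), (34, 7), (23, 6), (4, 4), (35, 6), (35, 5), (35, 7), (35, 6), (5, 4), (36, 5), (36, 4), (7, 5), (41, 6), (34, 5), (28, 4), (44, 7), (44, 6), (8, 7), (35, 6), (29, 5), (35, 7), (29, 6), (36, 8), (36, 9), (6, 7), (43, 9), (36, 8), (36, 7), (44, 10), (7, 8), (44, 8), (43, 10), (43, 9),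 (36, 8), (44, 11), (44, 10), (44, 12), (44, 11), (7, 9), (8, 9), (8, 10), (31, 9), (25, 8), (25, 7), (20, 6), (20, 5), (16, 4), (13, 3), (13, 2), (1, 0), (40, 3), (33, 2), (22, 1), (22, 0), (42, 2), (44, 4), (44, 3), (8, 4), (34, 3), (23, 2), (23, 1), (34, 4), (23, 3), (23, 2), (36, 5), (40, 8), (40, 7), (33, 6), (27, 5), (22, 4), (22, 3), (18, 2), (18, 1), (41, 5), (23, 4), (23, 3), (42, 6), (5, 4), (42, 4), (42, 6), (42, 5), (8, 6), (5, 4), (43, 4), (44, 5), (44, 6), (8, 7), (34, 6), (34, 5), (28, 4), (4, 2), (44, 4), (44, 3), (44, 5), (44, 4), (41, 6), (41, 5), (34, 4), (34, 3), (28, 2), (44, 5), (44, 4), (44, 6), (44, 5), (8, 6), (43, 6), (36, 5), (36, 4), (8, 7), (34, 6), (34, 5), (28, 4), (28, 3), (43, 6), (43, 5), (8, 6), (44, 6), (44, 7), (42, 8), (35, 7), (35, 6), (29, 5), (29, 4), (42, 10), (42, 9), (35, 8), (35, 7), (29,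 6), (29, 5), (8, 10), (35, 9), (35, 8), (29, 7), (29, 6), (5, 4), (43, 8), (36, 7), (36, 6), (6, 4), (44, 6), (7, 4), (44, 4), (43, 6), (43, 5), (36, 4), (44, 7), (44, 6), (44, 8), (44, 7), (7, 5), (8, 5), (40, 6), (33, 5), (27, 4), (18, 3), (18, 2), (3, 0), (41, 1), (34, 0), (42, 2), (35, 1), (42, 3), (35, 2), (41, 5), (41, 4), (34, 3), (23, 2), (23, 1), (42, 6), (42, 5), (35, 4), (5, 2), (42, 4), (42, 3), (35, 2), (8, 4), (36, 3), (7, 4), (41, 4), (28, 3), (23, 2), (4, 0), (8, 2), (29, 1), (37, 7), (37, 6), (30, 5), (30, 4), (24, 3), (24, 2), (19, 1), (19, 0), (42, 3), (35, 2), (44, 4), (43, 6), (43, 5), (36, 4), (36, 3), (44, 7), (44, 6), (7, 4), (44, 5), (44, 4), (8, 5), (36, 4), (7, 5), (44, 5), (44, 7), (44, 6), (8, 7), (37, 8), (37, 7), (30, 6), (30, 5), (24, 4), (24, 3), (19, 2), (19, 1), (42, 4), (35, 3), (44, 5), (43,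 7), (43, 6), (36, 5), (36, 4), (44, 8), (44, 7), (7, 5), (44, 6), (44, 5), (8, 6), (36, 5), (7, 6), (44, 6), (44, 8), (44, 7), (8, 8), (38, 9), (38, 8), (31, 7), (31, 6), (25, 5), (25, 4), (20, 3), (20, 2), (42, 4), (43, 6), (43, 5), (44, 7), (44, 6), (44, 8), (44, 7), (8, 8), (36, 7), (36, 6), (7, 7), (44, 8), (44, 10), (44, 9), (7, 7), (8, 7), (40, 8), (40, 7), (27, 6), (27, 5), (22, 4), (22, 3), (42, 5), (43, 7), (43, 6), (44, 8), (44, 7), (43, 9), (43, 8), (36, 7), (44, 10), (44, 9), (8, 10), (41, 10), (34, 9), (34, 8), (28, 7), (28, 6), (23, 5), (23, 4), (43, 9), (43, 8), (8, 9), (44, 9), (44, 10), (42, 12), (42, 11), (35, 10), (35, 9), (29, 8), (29, 7), (5, 5), (43, 10), (43, 9), (36, 8), (36, 7), (6, 5), (44, 8), (44, 7), (7, 5)]⟩,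
    ⟨5, [2, 0], [0, 2, 3, 5], [(24, 3), (15, 2), (15, 1), (12, 0), (41, 9), (34, 8), (34, 7), (28, 6), (23, 5), (23, 4), (4, 2), (44, 6), (44, 5), (44, 7), (44, 6), (8, 7), (35, 6), (35, 5), (29, 4), (5, 2), (35, 4), (35, 3), (29, 2), (36, 5), (36, 4), (36, 6), (36, 5), (6, 3), (7, 3), (41, 3), (23, 2), (42, 4), (42, 5), (5, 3), (43, 3), (43, 4), (44, 5), (43, 7), (43, 6), (36, 5), (6, 3), (44, 5), (44, 4), (44, 6), (44, 5), (7, 3), (8, 3), (16, 2), (13, 1), (41, 7), (41, 6), (28, 5), (4, 3), (8, 4), (42, 4), (29, 3), (38, 6), (38, 5), (25, 4), (20, 3), (13, 2), (42, 8), (42, 7), (29, 6), (8, 8), (8, 11), (36, 10), (36, 9), (6, 7), (36, 8), (36, 7)], [(27, 4), (27, 3), (36, 5), (34, 7), (34, 6), (28, 5), (28, 4), (43, 7), (43, 6), (8, 7), (44, 7), (44, 8), (41, 9), (34, 8), (34, 7), (28, 6), (28, 5), (43, 8), (43, 7), (8, 8), (44,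 8), (44, 9), (43, 11), (43, 10), (36, 9), (36, 8), (6, 6), (42, 9), (42, 8), (35, 7), (35, 6), (43, 10), (43, 9), (36, 8), (36, 7), (8, 10)], [(26, 3), (17, 2), (17, 1), (14, 0), (41, 8), (34, 7), (34, 6), (28, 5), (28, 4), (23, 3), (23, 2), (43, 7), (43, 6), (8, 7), (44, 7), (44, 8), (42, 10), (42, 9), (35, 8), (35, 7), (29, 6), (29, 5), (5, 3), (8, 7), (41, 7), (34, 6), (34, 5), (28, 4), (28, 3), (43, 6), (43, 5), (8, 6), (44, 6), (44, 7), (42, 9), (42, 8), (35, 7), (35, 6), (29, 5), (29, 4), (8, 9), (43, 9), (36, 8), (36, 7), (6, 5), (44, 7), (7, 5), (44, 5), (8, 6), (32, 5), (21, 4), (17, 3), (17, 2), (14, 1), (41, 9), (34, 8), (34, 7), (28, 6), (28, 5), (23, 4), (23, 3), (43, 8), (43, 7), (8, 8), (44, 8), (44, 9), (42, 11), (42, 10), (35, 9), (35, 8), (29, 7), (29, 6), (5, 4), (8, 8), (41, 8), (34, 7), (34, 6), (28, 5), (28,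 4), (43, 7), (43, 6), (8, 7), (44, 7), (44, 8), (42, 10), (42, 9), (35, 8), (35, 7), (29, 6), (29, 5), (8, 10), (42, 10), (35, 9), (35, 8), (29, 7), (29, 6), (44, 11), (7, 9), (41, 9), (28, 8), (28, 7), (23, 6), (23, 5), (4, 3), (43, 7), (43, 6), (8, 7), (41, 8), (41, 7), (28, 6), (28, 5), (23, 4), (23, 3), (43, 8), (43, 7), (8, 8), (8, 8)], [(40, 4), (18, 3), (18, 2), (41, 6), (23, 5), (23, 4), (42, 7), (5, 5), (42, 5), (8, 6), (23, 5), (4, 3), (23, 3), (24, 5), (19, 4), (15, 3), (12, 2), (10, 1), (10, 0), (39, 8), (39, 7), (26, 6), (26, 5), (21, 4), (21, 3), (17, 2), (42, 6), (42, 5), (42, 7), (42, 6), (5, 4), (43, 5), (43, 4), (44, 6), (44, 5), (44, 7), (44, 6), (8, 7), (43, 7), (36, 6), (36, 5), (44, 8), (7, 6), (44, 6), (8, 7), (41, 8), (41, 7), (34, 6), (28, 5), (28, 4), (43, 7), (43, 6), (8, 7), (44, 7), (8, 8), (35, 7),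 (29, 6), (29, 5), (35, 8), (29, 7), (29, 6), (36, 9), (6, 7), (36, 7), (40, 10), (40, 9), (33, 8), (27, 7), (22, 6), (22, 5), (18, 4), (18, 3), (41, 7), (23, 6), (23, 5), (42, 8), (5, 6), (42, 6), (42, 8), (42, 7), (8, 8), (5, 6), (43, 6), (44, 7), (44, 8), (8, 9), (34, 8), (34, 7), (28, 6), (4, 4), (44, 6), (44, 5), (44, 7), (44, 6), (41, 8), (41, 7), (34, 6), (34, 5), (28, 4), (44, 7), (44, 6), (44, 8), (44, 7), (8, 8), (42, 8), (35, 7), (35, 6), (29, 5), (42, 9), (35, 8), (35, 7), (29, 6), (43, 10), (36, 9), (36, 8), (44, 11), (7, 9), (44, 9), (41, 11), (41, 10), (34, 9), (28, 8), (28, 7), (23, 6), (23, 5), (43, 10), (43, 9), (8, 10), (44, 10), (8, 11), (35, 10), (29, 9), (29, 8), (5, 6), (35, 8), (29, 7), (29, 6), (36, 9), (6, 7), (36, 7), (42, 10), (35, 9), (35, 8), (29, 7), (44, 11), (7, 9), (43, 10), (43, 9), (44, 11), (44,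 10), (44, 12), (44, 11), (8, 12), (31, 11), (31, 10), (25, 9), (25, 8), (20, 7), (20, 6), (16, 5), (16, 4), (13, 3), (11, 2), (11, 1), (39, 6), (32, 5), (26, 4), (17, 3), (43, 7), (43, 6), (44, 8), (44, 7), (44, 9), (44, 8), (8, 9), (44, 9), (7, 7), (41, 8), (41, 7), (28, 6), (23, 5), (8, 8), (43, 8), (44, 9), (40, 11), (40, 10), (33, 9), (27, 8), (27, 7), (22, 6), (18, 5), (18, 4), (41, 8), (23, 7), (23, 6), (42, 9), (5, 7), (42, 7), (42, 9), (42, 8), (8, 9), (36, 10), (7, 11), (41, 12), (41, 11), (28, 10), (28, 9), (23, 8), (23, 7), (4, 5), (43, 9), (43, 8), (8, 9), (8, 9), (28, 8), (28, 7), (23, 6), (23, 5), (43, 10), (43, 9), (8, 10), (43, 10), (6, 8), (8, 8), (23, 7), (23, 6), (5, 7), (41, 7), (4, 5), (42, 5), (42, 7), (42, 6), (8, 7), (5, 5), (43, 5), (44, 6), (44, 7), (43, 9), (43, 8), (36, 7), (36, 6), (44, 10), (44, 9),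 (7, 7), (44, 8), (44, 7), (8, 8), (44, 9), (7, 7), (38, 8), (38, 7), (25, 6), (25, 5), (13, 4), (11, 3), (11, 2), (39, 7), (32, 6), (26, 5), (17, 4), (43, 8), (43, 7), (44, 9), (44, 8), (44, 10), (44, 9), (8, 10), (44, 10), (7, 8), (41, 9), (41, 8), (28, 7), (23, 6), (8, 9), (43, 9), (44, 10), (40, 12), (40, 11), (33, 10), (27, 9), (27, 8), (22, 7), (18, 6), (18, 5), (41, 9), (23, 8), (23, 7), (42, 10), (5, 8), (42, 8), (42, 10), (42, 9), (8, 10), (36, 11), (7, 12), (41, 13), (41, 12), (28, 11), (28, 10), (23, 9), (23, 8), (4, 6), (43, 10), (43, 9), (8, 10), (8, 10), (28, 9), (28, 8), (23, 7), (23, 6), (43, 11), (43, 10), (8, 11), (43, 11), (6, 9), (8, 9), (43, 12), (36, 11), (36, 10), (44, 13), (7, 11), (44, 11), (8, 12), (39, 12), (32, 11), (26, 10), (26, 9), (21, 8), (21, 7), (17, 6), (14, 5), (2, 3), (41, 10), (34, 9), (34,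 8), (28, 7), (28, 6), (23, 5), (23, 4), (43, 9), (43, 8), (8, 9), (44, 9), (44, 10), (42, 12), (42, 11), (35, 10), (35, 9), (29, 8), (29, 7), (5, 5), (8, 9), (42, 9), (35, 8), (35, 7), (29, 6), (29, 5), (42, 10), (35, 9), (35, 8), (29, 7), (29, 6), (43, 11), (36, 10), (36, 9), (6, 7), (44, 9), (7, 7), (44, 7), (8, 8), (36, 7), (7, 8), (44, 9), (44, 8), (8, 9), (34, 8), (28, 7), (23, 6), (23, 5), (44, 10), (44, 9), (42, 11), (42, 10), (35, 9), (29, 8), (5, 6), (42, 9), (42, 8), (35, 7), (29, 6), (44, 10), (44, 9), (37, 11), (37, 10), (30, 9), (30, 8), (24, 7), (19, 6), (15, 5), (15, 4), (12, 3), (9, 2), (9, 1), (31, 10), (25, 9), (25, 8), (16, 7), (13, 6), (13, 5), (11, 4), (11, 3), (39, 8), (32, 7), (26, 6), (17, 5), (43, 9), (43, 8), (44, 10), (44, 9), (44, 11), (44, 10), (8, 11), (44, 11), (7, 9), (41, 10), (41, 9), (28, 8), (23,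 7), (8, 10), (43, 10), (44, 11), (40, 13), (40, 12), (33, 11), (27, 10), (27, 9), (22, 8), (18, 7), (18, 6), (41, 10), (23, 9), (23, 8), (42, 11), (5, 9), (42, 9), (42, 11), (42, 10), (8, 11), (36, 12), (7, 13), (41, 14), (41, 13), (28, 12), (28, 11), (23, 10), (23, 9), (4, 7), (43, 11), (43, 10), (8, 11), (8, 11), (28, 10), (28, 9), (23, 8), (23, 7), (43, 12), (43, 11), (8, 12), (43, 12), (6, 10), (8, 10), (22, 9), (22, 8), (18, 7), (42, 11), (5, 9), (42, 10), (42, 9), (8, 10), (23, 9), (23, 10), (4, 8), (41, 11), (41, 10), (28, 9), (23, 8), (8, 11), (42, 11), (29, 10), (43, 13), (43, 12), (44, 14), (44, 13), (44, 15), (44, 14), (8, 15), (36, 14), (36, 13), (6, 11), (7, 11), (44, 12), (39, 14), (39, 13), (32, 12), (32, 11), (21, 10), (21, 9), (17, 8), (14, 7), (14, 6), (2, 4), (40, 11), (33, 10), (33, 9), (27, 8), (27, 7), (22,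 6), (22, 5), (42, 7), (43, 9), (43, 8), (44, 10), (44, 9), (43, 11), (43, 10), (36, 9), (44, 12), (44, 11), (44, 13), (44, 12), (7, 10), (44, 11), (44, 10), (8, 11), (35, 10), (29, 9), (29, 8), (5, 6), (35, 8), (29, 7), (29, 6), (36, 9), (6, 7), (36, 7), (7, 8), (41, 8), (28, 7), (23, 6), (8, 9), (29, 8), (42, 11), (42, 10), (29, 9), (5, 7), (42, 9), (42, 8), (29, 7), (44, 10), (44, 9), (44, 11), (44, 10), (8, 11), (39, 11), (32, 10), (32, 9), (26, 8), (21, 7), (17, 6), (14, 5), (14, 4), (40, 12), (33, 11), (33, 10), (27, 9), (27, 8), (22, 7), (22, 6), (42, 8), (43, 10), (43, 9), (44, 11), (44, 10), (43, 12), (43, 11), (36, 10), (44, 13), (44, 12), (44, 14), (44, 13), (7, 11), (44, 12), (44, 11), (8, 12), (35, 11), (29, 10), (29, 9), (5, 7), (35, 9), (29, 8), (29, 7), (36, 10), (6, 8), (36, 8), (7, 9), (41, 9), (28, 8), (23, 7),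 (8, 10), (29, 9), (42, 12), (42, 11), (29, 10), (5, 8), (43, 10), (43, 9), (44, 11), (44, 10), (44, 12), (44, 11), (8, 12), (44, 12), (7, 10), (44, 10), (40, 12), (40, 11), (33, 10), (27, 9), (27, 8), (18, 7), (3, 5), (41, 6), (34, 5), (42, 7), (35, 6), (42, 8), (35, 7), (43, 10), (43, 9), (36, 8), (44, 11), (44, 10), (43, 12), (43, 11), (36, 10), (36, 9), (44, 13), (44, 12), (7, 10), (44, 11), (44, 10), (8, 11), (40, 11), (33, 10), (27, 9), (27, 8), (22, 7), (22, 6), (18, 5), (42, 9), (5, 7), (42, 8), (42, 7), (8, 8), (36, 9), (7, 10), (41, 10), (28, 9), (28, 8), (23, 7), (43, 11), (43, 10), (8, 11), (43, 12), (43, 11), (6, 9), (43, 10), (43, 9), (44, 11), (44, 10), (40, 12), (40, 11), (33, 10), (27, 9), (22, 8), (18, 7), (18, 6), (41, 10), (23, 9), (23, 8), (42, 11), (5, 9), (42, 9), (42, 11), (42, 10), (8, 11), (41, 15), (41,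 14), (34, 13), (34, 12), (28, 11), (23, 10), (23, 9), (4, 7), (44, 11), (44, 10), (44, 12), (44, 11), (8, 12), (41, 12), (34, 11), (34, 10), (28, 9), (23, 8), (23, 7), (44, 12), (44, 11), (44, 13), (44, 12), (8, 13), (35, 12), (35, 11), (29, 10), (5, 8), (35, 10), (35, 9), (29, 8), (36, 11), (36, 10), (7, 11), (41, 12), (34, 11), (28, 10), (28, 9), (23, 8), (43, 12), (43, 11), (8, 12), (44, 12), (42, 14), (42, 13), (35, 12), (29, 11), (29, 10), (42, 15), (42, 14), (35, 13), (29, 12), (29, 11), (5, 9), (43, 13), (43, 12), (36, 11), (6, 9), (43, 11), (43, 10), (36, 9), (44, 12), (44, 11), (8, 12), (34, 11), (34, 10), (28, 9), (4, 7), (44, 9), (44, 8), (44, 10), (44, 9), (42, 11), (42, 10), (35, 9), (35, 8), (29, 7), (42, 12), (42, 11), (35, 10), (35, 9), (29, 8), (43, 13), (43, 12), (36, 11), (36, 10), (43, 14), (43, 13), (36, 12),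 (36, 11), (6, 9), (44, 12), (44, 11), (7, 9), (8, 9), (5, 7), (43, 8), (36, 7), (44, 9), (44, 10), (7, 8), (44, 9), (44, 8), (8, 9), (8, 10), (30, 9), (30, 8), (24, 7), (12, 6), (12, 5), (10, 4), (9, 3), (9, 2), (0, 0), (38, 1), (38, 0), (39, 2), (39, 1), (39, 3), (39, 2), (40, 4), (40, 3), (40, 5), (40, 4), (41, 6), (41, 5), (43, 7), (43, 6), (43, 8), (43, 7), (44, 9), (44, 8), (38, 10), (38, 9), (31, 8), (25, 7), (25, 6), (16, 5), (13, 4), (13, 3), (11, 2), (11, 1), (39, 6), (32, 5), (26, 4), (17, 3), (43, 7), (43, 6), (44, 8), (44, 7), (44, 9), (44, 8), (8, 9), (44, 9), (7, 7), (41, 8), (41, 7), (28, 6), (23, 5), (8, 8), (43, 8), (44, 9), (40, 11), (40, 10), (33, 9), (27, 8), (27, 7), (22, 6), (18, 5), (18, 4), (41, 8), (23, 7), (23, 6), (42, 9), (5, 7), (42, 7), (42, 9), (42, 8), (8, 9), (36, 10), (7, 11), (41, 12), (41, 11),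 (28, 10), (28, 9), (23, 8), (23, 7), (4, 5), (43, 9), (43, 8), (8, 9), (8, 9), (28, 8), (28, 7), (23, 6), (23, 5), (43, 10), (43, 9), (8, 10), (43, 10), (6, 8), (8, 8), (22, 7), (22, 6), (18, 5), (42, 9), (5, 7), (42, 8), (42, 7), (8, 8), (23, 7), (23, 8), (4, 6), (41, 9), (41, 8), (28, 7), (23, 6), (8, 9), (42, 9), (29, 8), (43, 11), (43, 10), (44, 12), (44, 11), (44, 13), (44, 12), (8, 13), (36, 12), (36, 11), (6, 9), (7, 9), (44, 10), (8, 11), (39, 11), (32, 10), (32, 9), (21, 8), (21, 7), (17, 6), (14, 5), (14, 4), (2, 2), (40, 9), (33, 8), (33, 7), (27, 6), (27, 5), (22, 4), (22, 3), (42, 5), (43, 7), (43, 6), (44, 8), (44, 7), (43, 9), (43, 8), (36, 7), (44, 10), (44, 9), (44, 11), (44, 10), (7, 8), (44, 9), (44, 8), (8, 9), (35, 8), (29, 7), (29, 6), (5, 4), (35, 6), (29, 5), (29, 4), (36, 7), (6, 5), (36, 5), (7, 6), (41,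 6), (28, 5), (23, 4), (8, 7), (29, 6), (42, 9), (42, 8), (29, 7), (5, 5), (42, 7), (42, 6), (29, 5), (44, 8), (44, 7), (44, 9), (44, 8), (8, 9), (32, 8), (32, 7), (26, 6), (21, 5), (17, 4), (14, 3), (14, 2), (40, 10), (33, 9), (33, 8), (27, 7), (27, 6), (22, 5), (22, 4), (42, 6), (43, 8), (43, 7), (44, 9), (44, 8), (43, 10), (43, 9), (36, 8), (44, 11), (44, 10), (44, 12), (44, 11), (7, 9), (44, 10), (44, 9), (8, 10), (35, 9), (29, 8), (29, 7), (5, 5), (35, 7), (29, 6), (29, 5), (36, 8), (6, 6), (36, 6), (7, 7), (41, 7), (28, 6), (23, 5), (8, 8), (29, 7), (42, 10), (42, 9), (29, 8), (5, 6), (43, 8), (43, 7), (44, 9), (44, 8), (44, 10), (44, 9), (8, 10), (44, 10), (7, 8), (44, 8), (40, 9), (33, 8), (27, 7), (27, 6), (18, 5), (3, 3), (41, 4), (34, 3), (42, 5), (35, 4), (42, 6), (35, 5), (43, 8), (43, 7), (36, 6), (44, 9), (44, 8),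 (43, 10), (43, 9), (36, 8), (36, 7), (44, 11), (44, 10), (7, 8), (44, 9), (44, 8), (8, 9), (33, 8), (27, 7), (27, 6), (22, 5), (22, 4), (18, 3), (42, 7), (5, 5), (42, 6), (42, 5), (8, 6), (36, 7), (7, 8), (28, 7), (28, 6), (23, 5), (43, 9), (43, 8), (8, 9), (43, 9), (6, 7), (43, 7), (44, 8), (39, 9), (32, 8), (26, 7), (21, 6), (17, 5), (17, 4), (14, 3), (41, 11), (34, 10), (34, 9), (28, 8), (28, 7), (23, 6), (23, 5), (43, 10), (43, 9), (8, 10), (44, 10), (44, 11), (42, 13), (42, 12), (35, 11), (35, 10), (29, 9), (29, 8), (5, 6), (8, 10), (41, 10), (34, 9), (34, 8), (28, 7), (28, 6), (43, 9), (43, 8), (8, 9), (44, 9), (44, 10), (42, 12), (42, 11), (35, 10), (35, 9), (29, 8), (29, 7), (8, 12), (42, 12), (35, 11), (35, 10), (29, 9), (29, 8), (43, 13), (36, 12), (36, 11), (6, 9), (44, 11), (7, 9), (44, 9), (8, 10), (41, 11), (34, 10),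 (34, 9), (23, 8), (23, 7), (4, 5), (42, 9), (35, 8), (35, 7), (5, 5), (42, 7), (35, 6), (35, 5), (43, 8), (36, 7), (36, 6), (43, 9), (36, 8), (36, 7), (8, 10), (33, 9), (33, 8), (27, 7), (27, 6), (22, 5), (43, 7), (44, 8), (43, 9), (36, 8), (44, 10), (44, 11), (7, 9), (44, 9), (41, 10), (34, 9), (28, 8), (28, 7), (23, 6), (43, 10), (43, 9), (8, 10), (44, 10), (41, 12), (41, 11), (34, 10), (28, 9), (28, 8), (23, 7), (43, 11), (43, 10), (8, 11), (44, 11), (8, 12), (35, 11), (29, 10), (29, 9), (35, 12), (29, 11), (29, 10), (5, 8), (36, 10), (6, 8), (7, 8), (40, 8), (18, 7), (18, 6), (3, 4), (41, 5), (34, 4), (42, 6), (35, 5), (42, 7), (35, 6), (41, 9), (41, 8), (34, 7), (23, 6), (23, 5), (42, 10), (42, 9), (35, 8), (5, 6), (42, 8), (42, 7), (35, 6), (8, 8), (41, 8), (34, 7), (23, 6), (4, 4), (41, 6), (34, 5), (23, 4), (42, 7), (35,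 6), (42, 8), (35, 7), (5, 5), (43, 6), (36, 5), (44, 7), (44, 8), (7, 6), (43, 7), (43, 6), (44, 8), (44, 7), (44, 9), (44, 8), (8, 9), (7, 7), (44, 7), (38, 9), (38, 8), (31, 7), (25, 6), (25, 5), (16, 4), (11, 3), (11, 2), (1, 0), (39, 3), (32, 2), (21, 1), (21, 0), (41, 4), (34, 3), (23, 2), (23, 1), (43, 5), (36, 4), (44, 6), (39, 8), (39, 7), (32, 6), (32, 5), (26, 4), (21, 3), (21, 2), (17, 1), (42, 5), (42, 4), (42, 6), (42, 5), (5, 3), (43, 4), (43, 3), (44, 5), (44, 4), (44, 6), (44, 5), (8, 6), (44, 6), (7, 4), (44, 4), (8, 5), (34, 4), (28, 3), (44, 6), (44, 5), (43, 7), (43, 6), (36, 5), (44, 8), (44, 7), (8, 8), (34, 7), (34, 6), (28, 5), (28, 4), (4, 2), (43, 4), (43, 3), (8, 4), (44, 4), (44, 5), (42, 6), (35, 5), (35, 4), (29, 3), (29, 2), (43, 8), (43, 7), (36, 6), (36, 5), (6, 3), (44, 6), (44, 5), (7, 3), (44,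 4), (44, 3), (8, 4), (36, 3), (7, 4), (44, 4), (8, 5), (40, 5), (33, 4), (27, 3), (22, 2), (43, 4), (44, 5), (44, 6), (41, 8), (41, 7), (34, 6), (34, 5), (28, 4), (23, 3), (44, 7), (44, 6), (44, 8), (44, 7), (8, 8), (42, 8), (35, 7), (35, 6), (29, 5), (43, 9), (36, 8), (36, 7), (44, 10), (7, 8)]⟩,
    ⟨5, [3, 0], [0, 3, 4, 5, 5], [(24, 1), (19, 0), (43, 3), (36, 2), (44, 4), (44, 5), (7, 3), (38, 4), (38, 3), (25, 2), (20, 1), (43, 3), (44, 4), (44, 5), (8, 6), (38, 6), (31, 5), (31, 4), (25, 3), (20, 2), (43, 4), (44, 5), (44, 6), (44, 8), (44, 7), (7, 5), (8, 5), (43, 7), (43, 6), (36, 5), (43, 8), (43, 7), (36, 6), (6, 4)], [(29, 4), (29, 3), (6, 4)], [(32, 7), (21, 6), (21, 5), (17, 4), (42, 8), (42, 7), (42, 9), (42, 8), (5, 6), (44, 7), (44, 6), (39, 8), (39, 7), (32, 6), (17, 5), (2, 3), (44, 6), (44, 5), (8, 6), (41, 6),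 (34, 5), (23, 4), (41, 7), (34, 6), (23, 5), (4, 3)], [(37, 4), (15, 3), (15, 2), (10, 1), (10, 0), (39, 8), (39, 7), (26, 6), (26, 5), (21, 4), (21, 3), (17, 2), (42, 6), (42, 5), (42, 7), (42, 6), (5, 4), (43, 5), (43, 4), (44, 6), (44, 5), (44, 7), (44, 6), (8, 7), (43, 7), (36, 6), (36, 5), (44, 8), (7, 6), (44, 6), (8, 7), (41, 8), (41, 7), (34, 6), (28, 5), (28, 4), (43, 7), (43, 6), (8, 7), (44, 7), (8, 8), (35, 7), (29, 6), (29, 5), (35, 8), (29, 7), (29, 6), (36, 9), (6, 7), (36, 7), (41, 10), (41, 9), (34, 8), (28, 7), (23, 6), (23, 5), (4, 3), (44, 7), (44, 6), (8, 7), (42, 7), (35, 6), (29, 5), (5, 3), (42, 5), (35, 4), (29, 3), (43, 6), (36, 5), (43, 7), (36, 6), (6, 4), (44, 5), (41, 7), (41, 6), (34, 5), (34, 4), (23, 3), (42, 8), (42, 7), (35, 6), (35, 5), (42, 9), (42, 8), (35, 7), (35, 6), (5, 4), (43, 7), (43,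 6), (36, 5), (36, 4), (43, 8), (43, 7), (36, 6), (36, 5), (44, 9), (44, 8), (7, 6), (8, 6), (38, 6), (25, 5), (25, 4), (16, 3), (11, 2), (11, 1), (39, 6), (32, 5), (26, 4), (17, 3), (43, 7), (43, 6), (44, 8), (44, 7), (44, 9), (44, 8), (8, 9), (44, 9), (7, 7), (41, 8), (41, 7), (28, 6), (23, 5), (8, 8), (43, 8), (44, 9), (41, 11), (41, 10), (34, 9), (28, 8), (28, 7), (23, 6), (4, 4), (43, 7), (43, 6), (8, 7), (44, 7), (8, 8), (35, 7), (29, 6), (29, 5), (43, 9), (36, 8), (6, 6), (44, 7), (44, 8), (7, 6), (43, 7), (43, 6), (44, 8), (44, 7), (44, 9), (44, 8), (8, 9), (38, 9), (31, 8), (31, 7), (25, 6), (20, 5), (20, 4), (11, 3), (11, 2), (39, 7), (32, 6), (26, 5), (17, 4), (43, 8), (43, 7), (44, 9), (44, 8), (44, 10), (44, 9), (8, 10), (44, 10), (7, 8), (41, 9), (41, 8), (28, 7), (23, 6), (8, 9), (43, 9), (44, 10), (42, 12), (42, 11),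 (35, 10), (29, 9), (29, 8), (8, 12), (35, 11), (29, 10), (29, 9), (5, 7), (43, 10), (36, 9), (6, 7), (44, 8), (44, 9), (7, 7), (44, 8), (44, 7), (8, 8), (39, 10), (39, 9), (32, 8), (32, 7), (17, 6), (17, 5), (2, 3), (41, 6), (41, 5), (23, 4), (42, 7), (42, 6), (8, 7), (44, 7), (44, 8), (8, 9), (34, 8), (34, 7), (23, 6), (23, 5), (4, 3), (35, 6), (35, 5), (5, 3), (35, 4), (35, 3), (7, 4), (19, 3), (9, 2), (9, 1), (31, 10), (25, 9), (25, 8), (16, 7), (13, 6), (13, 5), (11, 4), (11, 3), (39, 8), (32, 7), (26, 6), (17, 5), (43, 9), (43, 8), (44, 10), (44, 9), (44, 11), (44, 10), (8, 11), (44, 11), (7, 9), (41, 10), (41, 9), (28, 8), (23, 7), (8, 10), (43, 10), (44, 11), (40, 13), (40, 12), (33, 11), (27, 10), (27, 9), (22, 8), (18, 7), (18, 6), (41, 10), (23, 9), (23, 8), (42, 11), (5, 9), (42, 9), (42, 11), (42, 10), (8, 11), (36,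 12), (7, 13), (41, 14), (41, 13), (28, 12), (28, 11), (23, 10), (23, 9), (4, 7), (43, 11), (43, 10), (8, 11), (8, 11), (28, 10), (28, 9), (23, 8), (23, 7), (43, 12), (43, 11), (8, 12), (43, 12), (6, 10), (8, 10), (22, 9), (22, 8), (18, 7), (42, 11), (5, 9), (42, 10), (42, 9), (8, 10), (23, 9), (23, 10), (4, 8), (41, 11), (41, 10), (28, 9), (23, 8), (8, 11), (42, 11), (29, 10), (43, 13), (43, 12), (44, 14), (44, 13), (44, 15), (44, 14), (8, 15), (36, 14), (36, 13), (6, 11), (7, 11), (44, 12), (39, 14), (39, 13), (32, 12), (32, 11), (21, 10), (21, 9), (17, 8), (14, 7), (14, 6), (2, 4), (40, 11), (33, 10), (33, 9), (27, 8), (27, 7), (22, 6), (22, 5), (42, 7), (43, 9), (43, 8), (44, 10), (44, 9), (43, 11), (43, 10), (36, 9), (44, 12), (44, 11), (44, 13), (44, 12), (7, 10), (44, 11), (44, 10), (8, 11), (35, 10), (29, 9), (29, 8), (5,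 6), (35, 8), (29, 7), (29, 6), (36, 9), (6, 7), (36, 7), (7, 8), (41, 8), (28, 7), (23, 6), (8, 9), (29, 8), (42, 11), (42, 10), (29, 9), (5, 7), (42, 9), (42, 8), (29, 7), (44, 10), (44, 9), (44, 11), (44, 10), (8, 11), (39, 11), (32, 10), (32, 9), (26, 8), (21, 7), (17, 6), (14, 5), (14, 4), (40, 12), (33, 11), (33, 10), (27, 9), (27, 8), (22, 7), (22, 6), (42, 8), (43, 10), (43, 9), (44, 11), (44, 10), (43, 12), (43, 11), (36, 10), (44, 13), (44, 12), (44, 14), (44, 13), (7, 11), (44, 12), (44, 11), (8, 12), (35, 11), (29, 10), (29, 9), (5, 7), (35, 9), (29, 8), (29, 7), (36, 10), (6, 8), (36, 8), (7, 9), (41, 9), (28, 8), (23, 7), (8, 10), (29, 9), (42, 12), (42, 11), (29, 10), (5, 8), (43, 10), (43, 9), (44, 11), (44, 10), (44, 12), (44, 11), (8, 12), (44, 12), (7, 10), (44, 10), (40, 12), (40, 11), (33, 10), (27, 9), (27,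 8), (18, 7), (3, 5), (41, 6), (34, 5), (42, 7), (35, 6), (42, 8), (35, 7), (43, 10), (43, 9), (36, 8), (44, 11), (44, 10), (43, 12), (43, 11), (36, 10), (36, 9), (44, 13), (44, 12), (7, 10), (44, 11), (44, 10), (8, 11), (40, 11), (33, 10), (27, 9), (27, 8), (22, 7), (22, 6), (18, 5), (42, 9), (5, 7), (42, 8), (42, 7), (8, 8), (36, 9), (7, 10), (41, 10), (28, 9), (28, 8), (23, 7), (43, 11), (43, 10), (8, 11), (43, 12), (43, 11), (6, 9), (43, 10), (43, 9), (44, 11), (44, 10), (42, 12), (42, 11), (35, 10), (29, 9), (44, 13), (44, 12), (8, 13), (30, 12), (30, 11), (24, 10), (19, 9), (19, 8), (15, 7), (15, 6), (12, 5), (10, 4), (9, 3), (9, 2), (0, 0), (38, 1), (38, 0), (39, 2), (39, 1), (39, 3), (39, 2), (40, 4), (40, 3), (40, 5), (40, 4), (41, 6), (41, 5), (43, 7), (43, 6), (43, 8), (43, 7), (44, 9), (44, 8), (38, 10), (38, 9), (31,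 8), (25, 7), (25, 6), (16, 5), (13, 4), (13, 3), (11, 2), (11, 1), (39, 6), (32, 5), (26, 4), (17, 3), (43, 7), (43, 6), (44, 8), (44, 7), (44, 9), (44, 8), (8, 9), (44, 9), (7, 7), (41, 8), (41, 7), (28, 6), (23, 5), (8, 8), (43, 8), (44, 9), (40, 11), (40, 10), (33, 9), (27, 8), (27, 7), (22, 6), (18, 5), (18, 4), (41, 8), (23, 7), (23, 6), (42, 9), (5, 7), (42, 7), (42, 9), (42, 8), (8, 9), (36, 10), (7, 11), (41, 12), (41, 11), (28, 10), (28, 9), (23, 8), (23, 7), (4, 5), (43, 9), (43, 8), (8, 9), (8, 9), (28, 8), (28, 7), (23, 6), (23, 5), (43, 10), (43, 9), (8, 10), (43, 10), (6, 8), (8, 8), (22, 7), (22, 6), (18, 5), (42, 9), (5, 7), (42, 8), (42, 7), (8, 8), (23, 7), (23, 8), (4, 6), (41, 9), (41, 8), (28, 7), (23, 6), (8, 9), (42, 9), (29, 8), (43, 11), (43, 10), (44, 12), (44, 11), (44, 13), (44, 12), (8, 13), (36, 12),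 (36, 11), (6, 9), (7, 9), (44, 10), (8, 11), (39, 11), (32, 10), (32, 9), (21, 8), (21, 7), (17, 6), (14, 5), (14, 4), (2, 2), (40, 9), (33, 8), (33, 7), (27, 6), (27, 5), (22, 4), (22, 3), (42, 5), (43, 7), (43, 6), (44, 8), (44, 7), (43, 9), (43, 8), (36, 7), (44, 10), (44, 9), (44, 11), (44, 10), (7, 8), (44, 9), (44, 8), (8, 9), (35, 8), (29, 7), (29, 6), (5, 4), (35, 6), (29, 5), (29, 4), (36, 7), (6, 5), (36, 5), (7, 6), (41, 6), (28, 5), (23, 4), (8, 7), (29, 6), (42, 9), (42, 8), (29, 7), (5, 5), (42, 7), (42, 6), (29, 5), (44, 8), (44, 7), (44, 9), (44, 8), (8, 9), (32, 8), (32, 7), (26, 6), (21, 5), (17, 4), (14, 3), (14, 2), (40, 10), (33, 9), (33, 8), (27, 7), (27, 6), (22, 5), (22, 4), (42, 6), (43, 8), (43, 7), (44, 9), (44, 8), (43, 10), (43, 9), (36, 8), (44, 11), (44, 10), (44, 12), (44, 11), (7, 9), (44, 10), (44,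 9), (8, 10), (35, 9), (29, 8), (29, 7), (5, 5), (35, 7), (29, 6), (29, 5), (36, 8), (6, 6), (36, 6), (7, 7), (41, 7), (28, 6), (23, 5), (8, 8), (29, 7), (42, 10), (42, 9), (29, 8), (5, 6), (43, 8), (43, 7), (44, 9), (44, 8), (44, 10), (44, 9), (8, 10), (44, 10), (7, 8), (44, 8), (40, 9), (33, 8), (27, 7), (27, 6), (18, 5), (3, 3), (41, 4), (34, 3), (42, 5), (35, 4), (42, 6), (35, 5), (43, 8), (43, 7), (36, 6), (44, 9), (44, 8), (43, 10), (43, 9), (36, 8), (36, 7), (44, 11), (44, 10), (7, 8), (44, 9), (44, 8), (8, 9), (33, 8), (27, 7), (27, 6), (22, 5), (22, 4), (18, 3), (42, 7), (5, 5), (42, 6), (42, 5), (8, 6), (36, 7), (7, 8), (28, 7), (28, 6), (23, 5), (43, 9), (43, 8), (8, 9), (43, 9), (6, 7), (43, 7), (44, 8), (39, 9), (32, 8), (26, 7), (21, 6), (17, 5), (17, 4), (14, 3), (41, 11), (34, 10), (34, 9), (28, 8), (28, 7), (23,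 6), (23, 5), (43, 10), (43, 9), (8, 10), (44, 10), (44, 11), (42, 13), (42, 12), (35, 11), (35, 10), (29, 9), (29, 8), (5, 6), (8, 10), (41, 10), (34, 9), (34, 8), (28, 7), (28, 6), (43, 9), (43, 8), (8, 9), (44, 9), (44, 10), (42, 12), (42, 11), (35, 10), (35, 9), (29, 8), (29, 7), (8, 12), (42, 12), (35, 11), (35, 10), (29, 9), (29, 8), (43, 13), (36, 12), (36, 11), (6, 9), (44, 11), (7, 9), (44, 9), (8, 10), (41, 11), (34, 10), (34, 9), (23, 8), (23, 7), (4, 5), (42, 9), (35, 8), (35, 7), (5, 5), (42, 7), (35, 6), (35, 5), (43, 8), (36, 7), (36, 6), (43, 9), (36, 8), (36, 7), (8, 10), (33, 9), (33, 8), (27, 7), (27, 6), (22, 5), (43, 7), (44, 8), (43, 9), (36, 8), (44, 10), (44, 11), (7, 9), (44, 9), (41, 10), (34, 9), (28, 8), (28, 7), (23, 6), (43, 10), (43, 9), (8, 10), (44, 10), (41, 12), (41, 11), (34, 10), (28, 9), (28,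 8), (23, 7), (43, 11), (43, 10), (8, 11), (44, 11), (8, 12), (35, 11), (29, 10), (29, 9), (35, 12), (29, 11), (29, 10), (5, 8), (36, 10), (6, 8), (7, 8), (41, 8), (4, 6), (42, 6), (42, 7), (43, 8), (43, 9), (44, 10), (41, 12), (41, 11), (34, 10), (28, 9), (28, 8), (23, 7), (23, 6), (43, 11), (43, 10), (8, 11), (44, 11), (8, 12), (35, 11), (29, 10), (29, 9), (5, 7), (35, 9), (29, 8), (29, 7), (36, 10), (6, 8), (36, 8), (42, 11), (35, 10), (35, 9), (29, 8), (44, 12), (7, 10), (42, 11), (42, 10), (29, 9), (5, 7), (44, 9), (44, 8), (8, 9), (36, 8), (7, 9), (44, 9), (44, 11), (44, 10), (8, 11), (31, 10), (31, 9), (25, 8), (25, 7), (16, 6), (13, 5), (13, 4), (11, 3), (11, 2), (1, 0), (39, 3), (32, 2), (21, 1), (21, 0), (41, 4), (34, 3), (23, 2), (23, 1), (43, 5), (36, 4), (44, 6), (39, 8), (39, 7), (32, 6), (32, 5), (26, 4), (21, 3),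 (21, 2), (17, 1), (42, 5), (42, 4), (42, 6), (42, 5), (5, 3), (43, 4), (43, 3), (44, 5), (44, 4), (44, 6), (44, 5), (8, 6), (44, 6), (7, 4), (44, 4), (8, 5), (34, 4), (28, 3), (44, 6), (44, 5), (43, 7), (43, 6), (36, 5), (44, 8), (44, 7), (8, 8), (33, 7), (33, 6), (27, 5), (27, 4), (18, 3), (18, 2), (41, 6), (23, 5), (23, 4), (42, 7), (5, 5), (42, 5), (43, 7), (43, 6), (44, 8), (44, 7), (43, 9), (43, 8), (36, 7), (44, 10), (44, 9), (44, 11), (44, 10), (7, 8), (44, 9), (44, 8), (41, 10), (41, 9), (34, 8), (28, 7), (28, 6), (23, 5), (4, 3), (43, 6), (43, 5), (8, 6), (44, 6), (8, 7), (34, 6), (28, 5), (28, 4), (23, 3), (43, 7), (43, 6), (8, 7), (44, 7), (43, 8), (36, 7), (6, 5), (8, 6), (33, 5), (22, 4), (18, 3), (42, 7), (5, 5), (44, 6), (44, 5), (41, 7), (41, 6), (34, 5), (41, 8), (41, 7), (34, 6), (4, 4), (43, 6), (43, 5), (36,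 4), (8, 6), (41, 6), (34, 5), (28, 4), (44, 7), (44, 6), (8, 7), (35, 6), (29, 5), (43, 8), (36, 7), (44, 9), (44, 10), (7, 8), (43, 9), (43, 8), (6, 6), (44, 7), (44, 6), (44, 8), (44, 7), (8, 8), (7, 6), (44, 6), (40, 8), (40, 7), (33, 6), (22, 5), (18, 4), (3, 2), (41, 3), (34, 2), (42, 4), (35, 3), (42, 5), (35, 4), (42, 7), (42, 6), (35, 5), (5, 3), (8, 4), (41, 6), (41, 5), (34, 4), (34, 3), (42, 7), (42, 6), (35, 5), (35, 4), (43, 8), (43, 7), (36, 6), (36, 5), (44, 9), (44, 8), (7, 6), (44, 7), (44, 6), (8, 7), (37, 7), (30, 6), (24, 5), (19, 4), (15, 3), (15, 2), (10, 1), (10, 0), (39, 8), (39, 7), (26, 6), (26, 5), (21, 4), (21, 3), (17, 2), (42, 6), (42, 5), (42, 7), (42, 6), (5, 4), (43, 5), (43, 4), (44, 6), (44, 5), (44, 7), (44, 6), (8, 7), (43, 7), (36, 6), (36, 5), (44, 8), (7, 6), (44, 6), (8, 7), (41, 8), (41,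 7), (34, 6), (28, 5), (28, 4), (43, 7), (43, 6), (8, 7), (44, 7), (8, 8), (35, 7), (29, 6), (29, 5), (35, 8), (29, 7), (29, 6), (36, 9), (6, 7), (36, 7), (41, 10), (41, 9), (34, 8), (28, 7), (23, 6), (23, 5), (4, 3), (44, 7), (44, 6), (8, 7), (42, 7), (35, 6), (29, 5), (5, 3), (42, 5), (35, 4), (29, 3), (43, 6), (36, 5), (43, 7), (36, 6), (6, 4), (44, 5), (41, 7), (41, 6), (34, 5), (34, 4), (23, 3), (42, 8), (42, 7), (35, 6), (35, 5), (42, 9), (42, 8), (35, 7), (35, 6), (5, 4), (43, 7), (43, 6), (36, 5), (36, 4), (43, 8), (43, 7), (36, 6), (36, 5), (44, 9), (44, 8), (7, 6), (8, 6), (29, 5), (29, 4), (43, 8), (36, 7), (6, 5), (44, 6), (44, 7), (7, 5), (44, 6), (44, 5), (8, 6), (37, 6), (30, 5), (19, 4), (15, 3), (10, 2), (10, 1), (39, 9), (39, 8), (26, 7), (26, 6), (21, 5), (21, 4), (17, 3), (42, 7), (42, 6), (42, 8), (42, 7), (5,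 5), (43, 6), (43, 5), (44, 7), (44, 6), (44, 8), (44, 7), (8, 8), (43, 8), (36, 7), (36, 6), (44, 9), (7, 7), (44, 7), (8, 8), (41, 9), (41, 8), (34, 7), (28, 6), (28, 5), (43, 8), (43, 7), (8, 8), (44, 8), (8, 9), (35, 8), (29, 7), (29, 6), (35, 9), (29, 8), (29, 7), (36, 10), (6, 8), (36, 8), (41, 11), (41, 10), (34, 9), (28, 8), (23, 7), (23, 6), (4, 4), (44, 8), (44, 7), (8, 8), (42, 8), (35, 7), (29, 6), (5, 4), (42, 6), (35, 5), (29, 4), (43, 7), (36, 6), (43, 8), (36, 7), (6, 5), (44, 6), (42, 8), (42, 7), (35, 6), (35, 5), (44, 9), (44, 8), (7, 6), (8, 6), (38, 8), (38, 7), (31, 6), (20, 5), (20, 4), (11, 3), (11, 2), (39, 7), (32, 6), (26, 5), (17, 4), (43, 8), (43, 7), (44, 9), (44, 8), (44, 10), (44, 9), (8, 10), (44, 10), (7, 8), (41, 9), (41, 8), (28, 7), (23, 6), (8, 9), (43, 9), (44, 10), (42, 12), (42, 11), (35,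 10), (29, 9), (29, 8), (8, 12), (35, 11), (29, 10), (29, 9), (5, 7), (44, 10), (8, 11), (40, 11), (33, 10), (33, 9), (27, 8), (27, 7), (18, 6), (18, 5), (41, 9), (23, 8), (23, 7), (42, 10), (5, 8), (42, 8), (43, 10), (43, 9), (44, 11), (44, 10), (43, 12), (43, 11), (36, 10), (44, 13), (44, 12), (44, 14), (44, 13), (7, 11), (44, 12), (44, 11), (8, 12), (34, 11), (28, 10), (28, 9), (23, 8), (4, 6), (43, 9), (43, 8), (8, 9), (44, 9), (42, 10), (35, 9), (29, 8), (29, 7), (43, 11), (36, 10), (6, 8), (44, 9), (37, 10), (30, 9), (30, 8), (19, 7), (19, 6), (12, 5), (10, 4), (10, 3), (9, 2), (0, 0), (38, 1), (38, 0), (39, 2), (39, 1), (39, 3), (39, 2), (40, 4), (40, 3), (40, 5), (40, 4), (41, 6), (41, 5), (43, 7), (43, 6), (43, 8), (43, 7), (44, 9), (44, 8), (39, 10), (39, 9), (32, 8), (26, 7), (26, 6), (17, 5), (14, 4), (14, 3), (2, 1),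 (40, 8), (33, 7), (33, 6), (27, 5), (27, 4), (22, 3), (22, 2), (42, 4), (43, 6), (43, 5), (44, 7), (44, 6), (43, 8), (43, 7), (36, 6), (44, 9), (44, 8), (44, 10), (44, 9), (7, 7), (44, 8), (44, 7), (8, 8), (35, 7), (29, 6), (29, 5), (5, 3), (35, 5), (29, 4), (29, 3), (36, 6), (6, 4), (36, 4), (7, 5), (41, 5), (28, 4), (23, 3), (8, 6), (29, 5), (43, 8), (43, 7), (44, 9), (44, 8), (44, 10), (44, 9), (8, 10), (43, 10), (36, 9), (36, 8), (6, 6), (44, 8), (7, 6), (44, 6), (8, 7), (41, 9), (41, 8), (34, 7), (34, 6), (23, 5), (23, 4), (42, 10), (42, 9), (35, 8), (35, 7), (5, 5), (42, 8), (42, 7), (35, 6), (35, 5), (43, 9), (43, 8), (36, 7), (36, 6), (43, 10), (43, 9), (36, 8), (36, 7), (8, 10), (39, 10), (32, 9), (32, 8), (26, 7), (26, 6), (21, 5), (17, 4), (17, 3), (14, 2), (14, 1), (40, 9), (33, 8), (33, 7), (27, 6), (27, 5), (22, 4),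 (22, 3), (42, 5), (43, 7), (43, 6), (44, 8), (44, 7), (43, 9), (43, 8), (36, 7), (44, 10), (44, 9), (44, 11), (44, 10), (7, 8), (44, 9), (44, 8), (8, 9), (35, 8), (29, 7), (29, 6), (5, 4), (35, 6), (29, 5), (29, 4), (36, 7), (6, 5), (36, 5), (7, 6), (41, 6), (28, 5), (23, 4), (8, 7), (29, 6), (41, 9), (41, 8), (28, 7), (23, 6), (23, 5), (8, 9), (42, 9), (29, 8), (5, 6), (8, 7), (29, 6), (43, 12), (43, 11), (36, 10), (36, 9), (6, 7), (44, 10), (44, 9), (7, 7), (44, 8), (44, 7), (8, 8), (44, 8), (44, 9), (7, 7), (41, 8), (41, 7), (23, 6), (4, 4), (42, 6), (42, 5), (42, 7), (42, 6), (5, 4), (43, 5), (43, 4), (43, 6), (43, 5), (8, 6), (40, 6), (27, 5), (27, 4), (3, 2), (43, 3), (36, 2), (44, 4), (43, 5), (36, 4), (36, 3), (44, 6), (7, 4), (41, 5), (41, 4), (28, 3), (28, 2), (43, 5), (43, 4), (8, 5), (8, 5), (28, 4), (28, 3), (43, 6),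 (43, 5), (8, 6), (42, 6), (29, 5), (29, 4), (42, 7), (29, 6), (29, 5), (43, 8), (6, 6), (44, 6), (44, 7), (42, 9), (42, 8), (35, 7), (35, 6), (5, 4), (44, 7), (44, 6), (7, 4), (8, 4), (44, 6), (44, 8), (44, 7), (7, 5), (8, 5), (37, 5), (19, 4), (15, 3), (15, 2), (10, 1), (9, 0), (32, 9), (26, 8), (26, 7), (17, 6), (14, 5), (14, 4), (2, 2), (40, 9), (33, 8), (33, 7), (27, 6), (27, 5), (22, 4), (22, 3), (42, 5), (43, 7), (43, 6), (44, 8), (44, 7), (43, 9), (43, 8), (36, 7), (44, 10), (44, 9), (44, 11), (44, 10), (7, 8), (44, 9), (44, 8), (8, 9), (35, 8), (29, 7), (29, 6), (5, 4), (35, 6), (29, 5), (29, 4), (36, 7), (6, 5), (36, 5), (7, 6), (41, 6), (28, 5), (23, 4), (8, 7), (29, 6), (43, 9), (43, 8), (44, 10), (44, 9), (44, 11), (44, 10), (8, 11), (43, 11), (36, 10), (36, 9), (6, 7), (44, 9), (7, 7), (44, 7), (8, 8), (34, 8), (34,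 7), (23, 6), (23, 5), (35, 9), (35, 8), (5, 6), (35, 7), (35, 6), (36, 8), (36, 7), (36, 9), (36, 8), (41, 12), (41, 11), (34, 10), (34, 9), (28, 8), (28, 7), (23, 6), (4, 4), (43, 7), (43, 6), (8, 7), (44, 7), (44, 8), (8, 9), (35, 8), (35, 7), (29, 6), (29, 5), (35, 9), (35, 8), (29, 7), (29, 6), (5, 4), (36, 7), (36, 6), (6, 4), (36, 5), (36, 4), (7, 5), (41, 5), (28, 4), (8, 6), (29, 5), (29, 6), (6, 7), (42, 8), (35, 7), (5, 5), (44, 6), (8, 7), (31, 6), (31, 5), (16, 4), (13, 3), (13, 2), (40, 8), (40, 7), (27, 6), (18, 5), (18, 4), (41, 8), (23, 7), (23, 6), (42, 9), (5, 7), (42, 7), (43, 9), (43, 8), (44, 10), (44, 9), (8, 10), (41, 10), (34, 9), (28, 8), (23, 7), (4, 5), (44, 8), (44, 7), (8, 8), (34, 7), (28, 6), (23, 5), (44, 9), (44, 8), (43, 10), (43, 9), (36, 8), (8, 10), (41, 10), (34, 9), (28, 8), (28, 7), (23, 6),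 (43, 10), (43, 9), (8, 10), (44, 10), (42, 12), (42, 11), (35, 10), (29, 9), (29, 8), (8, 12), (44, 13), (7, 11), (40, 12), (40, 11), (27, 10), (27, 9), (22, 8), (22, 7), (18, 6), (18, 5), (3, 3), (41, 4), (34, 3), (42, 5), (35, 4), (42, 6), (35, 5), (41, 8), (41, 7), (34, 6), (23, 5), (23, 4), (42, 9), (42, 8), (35, 7), (5, 5), (42, 7), (42, 6), (35, 5), (8, 7), (35, 6), (42, 8), (35, 7), (5, 5), (43, 7), (43, 6), (36, 5), (44, 8), (44, 7), (43, 9), (43, 8), (36, 7), (36, 6), (44, 10), (44, 9), (7, 7), (8, 7), (41, 7), (28, 6), (28, 5), (4, 3), (43, 5), (43, 4), (8, 5), (42, 6), (42, 5), (29, 4), (29, 3), (43, 7), (43, 6), (6, 4), (44, 5), (44, 4)]⟩,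
    ⟨5, [2, 1], [1, 2, 3, 3, 4, 4], [(26, 3), (17, 2), (17, 1), (14, 0), (41, 8), (34, 7), (34, 6), (28, 5), (28, 4), (23, 3), (23, 2), (43, 7), (43, 6), (8, 7), (44, 7), (44, 8), (42, 10), (42, 9), (35, 8), (35, 7), (29, 6), (29, 5), (5, 3), (8, 7), (41, 7), (34, 6), (34, 5), (28, 4), (28, 3), (43, 6), (43, 5), (8, 6), (44, 6), (44, 7), (42, 9), (42, 8), (35, 7), (35, 6), (29, 5), (29, 4), (8, 9), (43, 9), (36, 8), (36, 7), (6, 5), (44, 7), (7, 5), (44, 5), (8, 6), (34, 5), (23, 4), (4, 2), (36, 3), (36, 4)], [(27, 3), (27, 2), (18, 1), (43, 5), (44, 6), (43, 7), (36, 6), (44, 8), (41, 9), (34, 8), (34, 7), (28, 6), (28, 5), (23, 4), (23, 3), (43, 8), (43, 7), (8, 8), (44, 8), (44, 9), (41, 11), (41, 10), (34, 9), (34, 8), (28, 7), (28, 6), (23, 5), (23, 4), (4, 2), (43, 6), (43, 5), (8, 6), (44, 6), (44, 7), (8, 8), (36, 7), (36,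 6), (6, 4), (35, 5), (35, 4), (5, 2), (36, 3), (36, 2), (35, 4), (35, 3), (29, 2), (36, 5), (36, 4), (7, 5)], [(24, 3), (15, 2), (15, 1), (12, 0), (41, 9), (34, 8), (34, 7), (28, 6), (23, 5), (23, 4), (4, 2), (44, 6), (44, 5), (44, 7), (44, 6), (8, 7), (35, 6), (35, 5), (29, 4), (5, 2), (35, 4), (35, 3), (29, 2), (36, 5), (36, 4), (36, 6), (36, 5), (6, 3), (7, 3), (41, 3), (23, 2), (42, 4), (42, 5), (5, 3), (43, 3), (43, 4), (44, 5), (43, 7), (43, 6), (36, 5), (6, 3), (44, 5), (44, 4), (44, 6), (44, 5), (7, 3), (8, 3), (15, 2), (12, 1), (41, 10), (34, 9), (34, 8), (28, 7), (23, 6), (23, 5), (4, 3), (44, 7), (44, 6), (44, 8), (44, 7), (8, 8), (35, 7), (35, 6), (29, 5), (5, 3), (35, 5), (35, 4), (29, 3), (36, 6), (36, 5), (36, 7), (36, 6), (6, 4), (7, 4), (38, 4), (20, 3), (13, 2), (42, 8), (42, 7), (29, 6), (8, 8), (39, 8), (26,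 7), (21, 6), (17, 5), (17, 4), (14, 3), (41, 11), (34, 10), (34, 9), (28, 8), (28, 7), (23, 6), (23, 5), (43, 10), (43, 9), (8, 10), (44, 10), (44, 11), (42, 13), (42, 12), (35, 11), (35, 10), (29, 9), (29, 8), (5, 6), (8, 10), (41, 10), (34, 9), (34, 8), (28, 7), (28, 6), (43, 9), (43, 8), (8, 9), (44, 9), (44, 10), (42, 12), (42, 11), (35, 10), (35, 9), (29, 8), (29, 7), (8, 12), (42, 12), (35, 11), (35, 10), (29, 9), (29, 8), (43, 13), (36, 12), (36, 11), (6, 9), (44, 11), (7, 9), (44, 9), (8, 10), (40, 10), (33, 9), (22, 8), (22, 7), (18, 6), (18, 5), (41, 9), (23, 8), (23, 7), (42, 10), (5, 8), (42, 8), (42, 10), (42, 9), (8, 10), (5, 8), (44, 8), (41, 10), (41, 9), (34, 8), (4, 6), (41, 8), (41, 7), (34, 6), (42, 9), (42, 8), (35, 7), (43, 10), (43, 9), (36, 8), (43, 11), (43, 10), (36, 9), (44, 12), (44, 11), (44, 13), (44,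 12), (7, 10), (8, 10)], [(40, 13), (40, 12), (33, 11), (33, 10), (27, 9), (27, 8), (22, 7), (18, 6), (18, 5), (41, 9), (23, 8), (23, 7), (42, 10), (5, 8), (42, 8), (42, 10), (42, 9), (8, 10), (36, 11), (7, 12), (41, 14), (41, 13), (34, 12), (28, 11), (28, 10), (23, 9), (23, 8), (4, 6), (43, 10), (43, 9), (8, 10), (44, 10), (8, 11), (34, 10), (28, 9), (28, 8), (23, 7), (23, 6), (43, 11), (43, 10), (8, 11), (44, 11), (43, 12), (36, 11), (6, 9), (37, 10), (30, 9), (19, 8), (19, 7), (15, 6), (12, 5), (12, 4), (10, 3), (9, 2), (0, 0), (38, 1), (38, 0), (39, 2), (39, 1), (39, 3), (39, 2), (40, 4), (40, 3), (40, 5), (40, 4), (41, 6), (41, 5), (43, 7), (43, 6), (43, 8), (43, 7), (44, 9), (44, 8), (39, 10), (39, 9), (32, 8), (26, 7), (26, 6), (17, 5), (14, 4), (14, 3), (2, 1), (40, 8), (33, 7), (33, 6), (27, 5), (27, 4), (22, 3), (22, 2),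 (42, 4), (43, 6), (43, 5), (44, 7), (44, 6), (43, 8), (43, 7), (36, 6), (44, 9), (44, 8), (44, 10), (44, 9), (7, 7), (44, 8), (44, 7), (8, 8), (35, 7), (29, 6), (29, 5), (5, 3), (35, 5), (29, 4), (29, 3), (36, 6), (6, 4), (36, 4), (7, 5), (41, 5), (28, 4), (23, 3), (8, 6), (29, 5), (43, 8), (43, 7), (44, 9), (44, 8), (44, 10), (44, 9), (8, 10), (43, 10), (36, 9), (36, 8), (6, 6), (44, 8), (7, 6), (44, 6), (8, 7), (41, 9), (41, 8), (34, 7), (34, 6), (23, 5), (23, 4), (42, 10), (42, 9), (35, 8), (35, 7), (5, 5), (42, 8), (42, 7), (35, 6), (35, 5), (43, 9), (43, 8), (36, 7), (36, 6), (43, 10), (43, 9), (36, 8), (36, 7), (8, 10), (40, 10), (33, 9), (33, 8), (27, 7), (27, 6), (22, 5), (18, 4), (18, 3), (3, 1), (41, 2), (34, 1), (42, 3), (35, 2), (42, 4), (35, 3), (41, 6), (41, 5), (34, 4), (23, 3), (23, 2), (42, 7), (42, 6), (35, 5),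 (5, 3), (42, 5), (42, 4), (35, 3), (8, 5), (35, 4), (43, 6), (36, 5), (44, 7), (43, 8), (36, 7), (36, 6), (44, 9), (7, 7), (44, 7), (44, 8), (41, 10), (41, 9), (34, 8), (34, 7), (28, 6), (28, 5), (23, 4), (23, 3), (4, 1), (43, 5), (43, 4), (8, 5), (44, 5), (44, 6), (8, 7), (34, 6), (34, 5), (28, 4), (28, 3), (23, 2), (23, 1), (43, 6), (43, 5), (8, 6), (44, 6), (44, 7), (42, 8), (35, 7), (35, 6), (29, 5), (29, 4), (5, 2), (42, 6), (35, 5), (35, 4), (29, 3), (29, 2), (43, 7), (36, 6), (36, 5), (6, 3), (44, 5), (7, 3), (44, 3), (40, 5), (40, 4), (33, 3), (22, 2), (18, 1), (42, 5), (5, 3), (44, 4), (44, 3), (8, 4), (41, 4), (34, 3), (41, 5), (34, 4), (4, 2), (42, 3), (35, 2), (42, 4), (35, 3), (43, 5), (36, 4), (44, 6), (44, 7), (7, 5), (41, 6), (41, 5), (28, 4), (23, 3), (23, 2), (8, 6), (42, 6), (29, 5), (5, 3), (42, 4), (29, 3),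 (43, 5), (43, 6), (6, 4), (44, 4), (42, 6), (42, 5), (35, 4), (44, 7), (44, 6), (8, 7), (35, 6), (35, 5), (5, 3), (7, 3), (44, 3), (8, 4), (31, 3), (16, 2), (13, 1), (41, 7), (41, 6), (28, 5), (4, 3), (8, 4), (42, 4), (29, 3), (44, 6), (44, 5), (8, 6), (31, 5), (25, 4), (20, 3), (13, 2), (1, 0), (40, 3), (33, 2), (22, 1), (22, 0), (42, 2), (44, 4), (44, 3), (8, 4), (34, 3), (23, 2), (23, 1), (34, 4), (23, 3), (23, 2), (36, 5), (42, 8), (42, 7), (35, 6), (29, 5), (5, 3), (8, 5), (36, 4), (7, 5), (44, 5), (39, 7), (39, 6), (32, 5), (26, 4), (26, 3), (17, 2), (17, 1), (14, 0), (41, 8), (34, 7), (34, 6), (28, 5), (28, 4), (23, 3), (23, 2), (43, 7), (43, 6), (8, 7), (44, 7), (44, 8), (42, 10), (42, 9), (35, 8), (35, 7), (29, 6), (29, 5), (5, 3), (8, 7), (41, 7), (34, 6), (34, 5), (28, 4), (28, 3), (43, 6), (43, 5), (8, 6), (44, 6), (44,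 7), (42, 9), (42, 8), (35, 7), (35, 6), (29, 5), (29, 4), (8, 9), (43, 9), (36, 8), (36, 7), (6, 5), (44, 7), (7, 5), (44, 5), (8, 6), (36, 5), (7, 6), (44, 7), (44, 6), (8, 7), (41, 7), (34, 6), (28, 5), (23, 4), (4, 2), (44, 5), (44, 4), (8, 5), (35, 4), (29, 3), (35, 5), (29, 4), (5, 2), (30, 4), (30, 3), (24, 2), (12, 1), (10, 0), (40, 8), (40, 7), (27, 6), (27, 5), (22, 4), (22, 3), (18, 2), (42, 6), (5, 4), (42, 5), (42, 4), (8, 5), (36, 6), (41, 10), (41, 9), (34, 8), (34, 7), (28, 6), (28, 5), (23, 4), (43, 8), (43, 7), (8, 8), (44, 8), (44, 9), (8, 10), (34, 9), (34, 8), (28, 7), (28, 6), (23, 5), (4, 3), (43, 6), (43, 5), (8, 6), (44, 6), (44, 7), (42, 8), (35, 7), (35, 6), (29, 5), (29, 4), (42, 9), (35, 8), (35, 7), (29, 6), (29, 5), (5, 3), (43, 7), (36, 6), (36, 5), (6, 3), (44, 5), (7, 3), (44, 3), (43, 5), (43, 4),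 (36, 3), (44, 6), (44, 5), (44, 7), (44, 6), (7, 4), (8, 4), (44, 5), (38, 7), (38, 6), (31, 5), (31, 4), (25, 3), (13, 2), (11, 1), (40, 6), (33, 5), (27, 4), (18, 3), (43, 7), (44, 8), (44, 9), (41, 11), (41, 10), (34, 9), (34, 8), (28, 7), (23, 6), (23, 5), (44, 10), (44, 9), (44, 11), (44, 10), (8, 11), (41, 11), (34, 10), (34, 9), (28, 8), (23, 7), (23, 6), (4, 4), (44, 8), (44, 7), (44, 9), (44, 8), (8, 9), (36, 8), (36, 7), (43, 11), (43, 10), (36, 9), (36, 8), (6, 6), (44, 9), (44, 8), (7, 6), (44, 7), (44, 6), (8, 7), (44, 8), (7, 6), (8, 6), (38, 6), (20, 5), (20, 4), (13, 3), (11, 2), (40, 7), (33, 6), (27, 5), (18, 4), (43, 8), (44, 9), (44, 10), (41, 12), (41, 11), (34, 10), (34, 9), (28, 8), (23, 7), (23, 6), (44, 11), (44, 10), (44, 12), (44, 11), (8, 12), (41, 12), (34, 11), (34, 10), (28, 9), (23, 8), (23, 7), (4,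 5), (44, 9), (44, 8), (44, 10), (44, 9), (8, 10), (36, 9), (36, 8), (42, 12), (42, 11), (35, 10), (35, 9), (29, 8), (29, 7), (5, 5), (8, 9), (35, 8), (35, 7), (29, 6), (29, 5), (39, 11), (39, 10), (32, 9), (32, 8), (26, 7), (26, 6), (21, 5), (14, 4), (42, 12), (35, 11), (35, 10), (29, 9), (29, 8), (5, 6), (43, 10), (36, 9), (36, 8), (6, 6), (44, 8), (7, 6), (44, 6), (8, 7), (36, 6), (7, 7), (44, 8), (44, 7), (44, 9), (44, 8), (8, 9), (41, 9), (34, 8), (34, 7), (28, 6), (44, 9), (44, 8), (44, 10), (44, 9), (8, 10), (35, 9), (35, 8), (29, 7), (35, 10), (35, 9), (29, 8), (7, 10), (24, 9), (19, 8), (19, 7), (15, 6), (12, 5), (10, 4), (10, 3), (9, 2), (9, 1), (31, 10), (25, 9), (25, 8), (16, 7), (13, 6), (13, 5), (11, 4), (11, 3), (39, 8), (32, 7), (26, 6), (17, 5), (43, 9), (43, 8), (44, 10), (44, 9), (44, 11), (44, 10), (8, 11), (44,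 11), (7, 9), (41, 10), (41, 9), (28, 8), (23, 7), (8, 10), (43, 10), (44, 11), (40, 13), (40, 12), (33, 11), (27, 10), (27, 9), (22, 8), (18, 7), (18, 6), (41, 10), (23, 9), (23, 8), (42, 11), (5, 9), (42, 9), (42, 11), (42, 10), (8, 11), (36, 12), (7, 13), (41, 14), (41, 13), (28, 12), (28, 11), (23, 10), (23, 9), (4, 7), (43, 11), (43, 10), (8, 11), (8, 11), (28, 10), (28, 9), (23, 8), (23, 7), (43, 12), (43, 11), (8, 12), (43, 12), (6, 10), (8, 10), (22, 9), (22, 8), (18, 7), (42, 11), (5, 9), (42, 10), (42, 9), (8, 10), (23, 9), (23, 10), (4, 8), (41, 11), (41, 10), (28, 9), (23, 8), (8, 11), (42, 11), (29, 10), (43, 13), (43, 12), (44, 14), (44, 13), (44, 15), (44, 14), (8, 15), (36, 14), (36, 13), (6, 11), (7, 11), (44, 12), (39, 14), (39, 13), (32, 12), (32, 11), (21, 10), (21, 9), (17, 8), (14, 7), (14, 6), (2, 4), (40,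 11), (33, 10), (33, 9), (27, 8), (27, 7), (22, 6), (22, 5), (42, 7), (43, 9), (43, 8), (44, 10), (44, 9), (43, 11), (43, 10), (36, 9), (44, 12), (44, 11), (44, 13), (44, 12), (7, 10), (44, 11), (44, 10), (8, 11), (35, 10), (29, 9), (29, 8), (5, 6), (35, 8), (29, 7), (29, 6), (36, 9), (6, 7), (36, 7), (7, 8), (41, 8), (28, 7), (23, 6), (8, 9), (29, 8), (42, 11), (42, 10), (29, 9), (5, 7), (42, 9), (42, 8), (29, 7), (44, 10), (44, 9), (44, 11), (44, 10), (8, 11), (39, 11), (32, 10), (32, 9), (26, 8), (21, 7), (17, 6), (14, 5), (14, 4), (40, 12), (33, 11), (33, 10), (27, 9), (27, 8), (22, 7), (22, 6), (42, 8), (43, 10), (43, 9), (44, 11), (44, 10), (43, 12), (43, 11), (36, 10), (44, 13), (44, 12), (44, 14), (44, 13), (7, 11), (44, 12), (44, 11), (8, 12), (35, 11), (29, 10), (29, 9), (5, 7), (35, 9), (29, 8), (29, 7), (36, 10), (6,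 8), (36, 8), (7, 9), (41, 9), (28, 8), (23, 7), (8, 10), (29, 9), (42, 12), (42, 11), (29, 10), (5, 8), (43, 10), (43, 9), (44, 11), (44, 10), (44, 12), (44, 11), (8, 12), (44, 12), (7, 10), (44, 10), (40, 12), (40, 11), (33, 10), (27, 9), (27, 8), (18, 7), (3, 5), (41, 6), (34, 5), (42, 7), (35, 6), (42, 8), (35, 7), (43, 10), (43, 9), (36, 8), (44, 11), (44, 10), (43, 12), (43, 11), (36, 10), (36, 9), (44, 13), (44, 12), (7, 10), (44, 11), (44, 10), (8, 11), (40, 11), (33, 10), (27, 9), (27, 8), (22, 7), (22, 6), (18, 5), (42, 9), (5, 7), (42, 8), (42, 7), (8, 8), (36, 9), (7, 10), (41, 10), (28, 9), (28, 8), (23, 7), (43, 11), (43, 10), (8, 11), (43, 12), (43, 11), (6, 9), (43, 10), (43, 9), (44, 11), (44, 10), (39, 12), (39, 11), (32, 10), (26, 9), (21, 8), (17, 7), (17, 6), (14, 5), (41, 13), (34, 12), (34, 11), (28, 10), (28,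 9), (23, 8), (23, 7), (43, 12), (43, 11), (8, 12), (44, 12), (44, 13), (42, 15), (42, 14), (35, 13), (35, 12), (29, 11), (29, 10), (5, 8), (8, 12), (41, 12), (34, 11), (34, 10), (28, 9), (28, 8), (43, 11), (43, 10), (8, 11), (44, 11), (44, 12), (42, 14), (42, 13), (35, 12), (35, 11), (29, 10), (29, 9), (8, 14), (42, 14), (35, 13), (35, 12), (29, 11), (29, 10), (43, 15), (36, 14), (36, 13), (6, 11), (44, 13), (7, 11), (44, 11), (8, 12), (41, 14), (41, 13), (34, 12), (34, 11), (23, 10), (23, 9), (4, 7), (42, 12), (42, 11), (35, 10), (35, 9), (5, 7), (42, 10), (42, 9), (35, 8), (35, 7), (43, 11), (43, 10), (36, 9), (36, 8), (43, 12), (43, 11), (36, 10), (36, 9), (8, 12), (39, 12), (32, 11), (32, 10), (26, 9), (26, 8), (21, 7), (14, 6), (2, 4), (42, 11), (35, 10), (35, 9), (29, 8), (29, 7), (5, 5), (43, 9), (36, 8), (36, 7), (6, 5),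 (44, 7), (7, 5), (44, 5), (8, 6), (36, 5), (7, 6), (44, 7), (44, 6), (44, 8), (44, 7), (8, 8), (34, 7), (34, 6), (28, 5), (44, 8), (44, 7), (44, 9), (44, 8), (42, 10), (42, 9), (35, 8), (35, 7), (29, 6), (42, 11), (42, 10), (35, 9), (35, 8), (29, 7), (43, 12), (43, 11), (36, 10), (36, 9), (43, 13), (43, 12), (36, 11), (36, 10), (6, 8), (8, 10), (40, 10), (33, 9), (33, 8), (22, 7), (22, 6), (18, 5), (42, 9), (5, 7), (42, 8), (42, 7), (8, 8), (41, 10), (34, 9), (34, 8), (23, 7), (41, 11), (34, 10), (34, 9), (23, 8), (4, 6), (42, 9), (35, 8), (35, 7), (42, 10), (35, 9), (35, 8), (5, 6), (43, 8), (36, 7), (36, 6), (44, 9), (7, 7), (44, 7), (41, 9), (41, 8), (34, 7), (28, 6), (44, 9), (44, 8), (8, 9), (42, 9), (35, 8), (29, 7), (42, 10), (35, 9), (29, 8), (43, 11), (36, 10), (43, 12), (36, 11), (6, 9), (44, 10), (42, 12), (42, 11), (35,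 10), (35, 9), (5, 7), (44, 10), (44, 9), (7, 7), (8, 7), (43, 9), (36, 8), (44, 10), (44, 11), (7, 9), (37, 10), (37, 9), (24, 8), (19, 7), (15, 6), (12, 5), (12, 4), (9, 3), (9, 2), (0, 0), (38, 1), (38, 0), (39, 2), (39, 1), (39, 3), (39, 2), (40, 4), (40, 3), (40, 5), (40, 4), (41, 6), (41, 5), (43, 7), (43, 6), (43, 8), (43, 7), (44, 9), (44, 8), (38, 10), (38, 9), (31, 8), (25, 7), (25, 6), (16, 5), (13, 4), (13, 3), (11, 2), (11, 1), (39, 6), (32, 5), (26, 4), (17, 3), (43, 7), (43, 6), (44, 8), (44, 7), (44, 9), (44, 8), (8, 9), (44, 9), (7, 7), (41, 8), (41, 7), (28, 6), (23, 5), (8, 8), (43, 8), (44, 9), (40, 11), (40, 10), (33, 9), (27, 8), (27, 7), (22, 6), (18, 5), (18, 4), (41, 8), (23, 7), (23, 6), (42, 9), (5, 7), (42, 7), (42, 9), (42, 8), (8, 9), (36, 10), (7, 11), (41, 12), (41, 11), (28, 10), (28, 9), (23, 8),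 (23, 7), (4, 5), (43, 9), (43, 8), (8, 9), (8, 9), (28, 8), (28, 7), (23, 6), (23, 5), (43, 10), (43, 9), (8, 10), (43, 10), (6, 8), (8, 8), (22, 7), (22, 6), (18, 5), (42, 9), (5, 7), (42, 8), (42, 7), (8, 8), (23, 7), (23, 8), (4, 6), (41, 9), (41, 8), (28, 7), (23, 6), (8, 9), (42, 9), (29, 8), (43, 11), (43, 10), (44, 12), (44, 11), (44, 13), (44, 12), (8, 13), (36, 12), (36, 11), (6, 9), (7, 9), (44, 10), (8, 11), (39, 11), (32, 10), (32, 9), (21, 8), (21, 7), (17, 6), (14, 5), (14, 4), (2, 2), (40, 9), (33, 8), (33, 7), (27, 6), (27, 5), (22, 4), (22, 3), (42, 5), (43, 7), (43, 6), (44, 8), (44, 7), (43, 9), (43, 8), (36, 7), (44, 10), (44, 9), (44, 11), (44, 10), (7, 8), (44, 9), (44, 8), (8, 9), (35, 8), (29, 7), (29, 6), (5, 4), (35, 6), (29, 5), (29, 4), (36, 7), (6, 5), (36, 5), (7, 6), (41, 6), (28, 5), (23, 4), (8,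 7), (29, 6), (42, 9), (42, 8), (29, 7), (5, 5), (42, 7), (42, 6), (29, 5), (44, 8), (44, 7), (44, 9), (44, 8), (8, 9), (32, 8), (32, 7), (26, 6), (21, 5), (17, 4), (14, 3), (14, 2), (40, 10), (33, 9), (33, 8), (27, 7), (27, 6), (22, 5), (22, 4), (42, 6), (43, 8), (43, 7), (44, 9), (44, 8), (43, 10), (43, 9), (36, 8), (44, 11), (44, 10), (44, 12), (44, 11), (7, 9), (44, 10), (44, 9), (8, 10), (35, 9), (29, 8), (29, 7), (5, 5), (35, 7), (29, 6), (29, 5), (36, 8), (6, 6), (36, 6), (7, 7), (41, 7), (28, 6), (23, 5), (8, 8), (29, 7), (42, 10), (42, 9), (29, 8), (5, 6), (43, 8), (43, 7), (44, 9), (44, 8), (44, 10), (44, 9), (8, 10), (44, 10), (7, 8), (44, 8), (40, 9), (33, 8), (27, 7), (27, 6), (18, 5), (3, 3), (41, 4), (34, 3), (42, 5), (35, 4), (42, 6), (35, 5), (43, 8), (43, 7), (36, 6), (44, 9), (44, 8), (43, 10), (43, 9), (36, 8),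 (36, 7), (44, 11), (44, 10), (7, 8), (44, 9), (44, 8), (8, 9), (33, 8), (27, 7), (27, 6), (22, 5), (22, 4), (18, 3), (42, 7), (5, 5), (42, 6), (42, 5), (8, 6), (36, 7), (7, 8), (28, 7), (28, 6), (23, 5), (43, 9), (43, 8), (8, 9), (43, 9), (6, 7), (43, 7), (44, 8), (40, 9), (33, 8), (27, 7), (22, 6), (18, 5), (18, 4), (41, 8), (23, 7), (23, 6), (42, 9), (5, 7), (42, 7), (42, 9), (42, 8), (8, 9), (41, 12), (34, 11), (34, 10), (28, 9), (23, 8), (23, 7), (4, 5), (44, 9), (44, 8), (44, 10), (44, 9), (8, 10), (34, 9), (34, 8), (28, 7), (23, 6), (23, 5), (44, 10), (44, 9), (44, 11), (44, 10), (42, 12), (42, 11), (35, 10), (35, 9), (29, 8), (5, 6), (42, 10), (42, 9), (35, 8), (35, 7), (29, 6), (43, 11), (43, 10), (36, 9), (36, 8), (44, 12), (44, 11), (7, 9), (44, 10), (44, 9), (8, 10), (33, 9), (27, 8), (27, 7), (22, 6), (18, 5), (3, 3),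 (41, 4), (34, 3), (42, 5), (35, 4), (42, 6), (35, 5), (42, 8), (42, 7), (35, 6), (5, 4), (8, 5), (36, 4), (36, 6), (36, 5), (7, 6), (34, 6), (28, 5), (28, 4), (43, 7), (43, 6), (8, 7), (44, 7), (41, 8), (34, 7), (28, 6), (28, 5), (4, 3), (43, 5), (43, 4), (8, 5), (44, 5), (42, 7), (42, 6), (35, 5), (29, 4), (29, 3), (42, 8), (42, 7), (35, 6), (29, 5), (29, 4), (43, 9), (43, 8), (36, 7), (6, 5), (44, 7), (44, 6), (44, 8), (44, 7), (7, 5), (8, 5), (23, 4), (23, 3), (5, 4), (42, 8), (35, 7), (29, 6), (29, 5), (44, 9), (43, 11), (43, 10), (36, 9), (36, 8), (6, 6), (44, 9), (44, 8), (7, 6), (44, 7), (44, 6), (8, 7), (38, 8), (38, 7), (31, 6), (20, 5), (20, 4), (16, 3), (11, 2), (1, 0), (39, 3), (32, 2), (21, 1), (21, 0), (41, 4), (34, 3), (23, 2), (23, 1), (43, 5), (36, 4), (44, 6), (41, 8), (41, 7), (34, 6), (34, 5), (28, 4), (23, 3),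 (23, 2), (44, 7), (44, 6), (44, 8), (44, 7), (8, 8), (42, 8), (35, 7), (35, 6), (29, 5), (5, 3), (42, 7), (42, 6), (35, 5), (35, 4), (29, 3), (8, 7), (35, 6), (35, 5), (29, 4), (44, 8), (7, 6), (8, 6), (40, 6), (27, 5), (22, 4), (22, 3), (18, 2), (18, 1), (41, 5), (23, 4), (23, 3), (42, 6), (5, 4), (42, 4), (42, 6), (42, 5), (8, 6), (5, 4), (43, 4), (44, 5), (41, 7), (41, 6), (34, 5), (28, 4), (4, 2), (44, 4), (44, 3), (8, 4), (42, 4), (35, 3), (29, 2), (43, 5), (36, 4), (44, 6), (44, 7), (7, 5), (8, 5), (24, 4), (24, 3), (19, 2), (12, 1), (10, 0), (40, 8), (40, 7), (27, 6), (27, 5), (22, 4), (22, 3), (18, 2), (42, 6), (5, 4), (42, 5), (42, 4), (8, 5), (36, 6), (41, 10), (41, 9), (34, 8), (34, 7), (28, 6), (28, 5), (23, 4), (43, 8), (43, 7), (8, 8), (44, 8), (44, 9), (8, 10), (34, 9), (34, 8), (28, 7), (28, 6), (23, 5), (4, 3),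 (43, 6), (43, 5), (8, 6), (44, 6), (44, 7), (42, 8), (35, 7), (35, 6), (29, 5), (29, 4), (42, 9), (35, 8), (35, 7), (29, 6), (29, 5), (5, 3), (43, 7), (36, 6), (36, 5), (6, 3), (44, 5), (7, 3), (44, 3), (42, 5), (42, 4), (35, 3), (44, 6), (44, 5), (8, 6), (36, 5), (36, 4), (7, 5), (43, 6), (36, 5), (44, 7), (44, 8), (7, 6), (37, 7), (37, 6), (24, 5), (24, 4), (19, 3), (12, 2), (10, 1), (40, 9), (40, 8), (27, 7), (27, 6), (22, 5), (22, 4), (18, 3), (42, 7), (5, 5), (42, 6), (42, 5), (8, 6), (36, 7), (41, 11), (41, 10), (34, 9), (34, 8), (28, 7), (28, 6), (23, 5), (43, 9), (43, 8), (8, 9), (44, 9), (44, 10), (8, 11), (34, 10), (34, 9), (28, 8), (28, 7), (23, 6), (4, 4), (43, 7), (43, 6), (8, 7), (44, 7), (44, 8), (42, 9), (35, 8), (35, 7), (29, 6), (29, 5), (42, 10), (35, 9), (35, 8), (29, 7), (29, 6), (5, 4), (43, 8), (36, 7), (36,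 6), (6, 4), (44, 6), (7, 4), (44, 4), (42, 6), (42, 5), (35, 4), (44, 7), (44, 6), (8, 7), (36, 6), (36, 5), (7, 6), (43, 7), (36, 6), (44, 8), (44, 9), (7, 7), (8, 7), (38, 7), (25, 6), (25, 5), (20, 4), (13, 3), (11, 2), (40, 7), (33, 6), (27, 5), (18, 4), (43, 8), (44, 9), (44, 10), (41, 12), (41, 11), (34, 10), (34, 9), (28, 8), (23, 7), (23, 6), (44, 11), (44, 10), (44, 12), (44, 11), (8, 12), (41, 12), (34, 11), (34, 10), (28, 9), (23, 8), (23, 7), (4, 5), (44, 9), (44, 8), (44, 10), (44, 9), (8, 10), (36, 9), (36, 8), (42, 12), (42, 11), (35, 10), (35, 9), (29, 8), (29, 7), (5, 5), (8, 9), (36, 8), (36, 7), (6, 5), (7, 5), (43, 6), (36, 5), (44, 7), (44, 8), (7, 6), (8, 6), (27, 5), (34, 7), (28, 6), (44, 9), (44, 8), (42, 10), (42, 9), (35, 8), (29, 7), (43, 11), (43, 10), (36, 9), (44, 12), (44, 11), (44, 13), (44, 12),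 (7, 10), (8, 10)]⟩]
  adj := [
    [(0, 1), (1, 1), (10, 1), (11, 2), (45, 1), (93, 1)],
    [(0, 1), (1, 1), (9, 2), (10, 2), (13, 1), (45, 1), (64, 1), (72, 2)],
    [(0, 1), (1, 7), (3, 4), (9, 2), (10, 7), (11, 1), (13, 5), (45, 6), (64, 1), (72, 5), (93, 3)],
    [(3, 2), (10, 1), (11, 2), (13, 2), (64, 2), (72, 1)],
    [(0, 3), (1, 5), (3, 8), (9, 3), (10, 1), (11, 8), (13, 2), (45, 6)],
    [(0, 3), (1, 5), (3, 7), (9, 3), (10, 3), (11, 6), (45, 6), (64, 3), (72, 6)],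
    [(0, 6), (1, 4), (3, 3), (9, 6), (10, 5), (11, 5), (13, 1), (45, 3), (64, 3), (72, 6)],
    [(0, 1), (3, 1), (11, 3), (45, 3), (64, 6), (72, 3), (93, 3)],
    [(0, 3), (1, 2), (3, 4), (9, 3), (10, 1), (11, 3), (13, 7), (45, 6), (64, 3), (72, 6)]]
  base := [
    ([(21, 1)], 3, [(0, 3), (1, 3), (4, 6), (5, 3), (6, 6), (7, 3), (8, 3), (9, 3), (10, 6), (11, 3), (12, 6), (13, 3), (14, 3), (15, 3), (17, 6), (19, 6), (20, 6), (21, 3), (22, 3), (24, 2), (25, 1), (27, 6), (28, 6), (29, 3), (31, 6)])]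
  dense := [
    [0, 0, 0, 0, 0, 0, 0, 0, 0, 0, 0, 0, 0, 0, 0, 0, 0, 0, 0, 0, 0, 0, 0, 0, 0, 0, 0, 0, 0, 0, 0, 0, 0, 0, 0, 0, 0, 2],
    [0, 0, 0, 0, 0, 0, 0, 0, 1, 0, 0, 0, 0, 0, 0, 0, 0, 0, 0, 0, 2, 0, 0, 0, 0, 0, 0, 0, 0, 0, 0, 1, 0, 0, 0, 0, 0, 0, 1, 0, 0, 0, 1, 0, 2],
    [0, 0, 7, 7, 5, 4, 1, 3, 6, 6, 0, 6, 0, 6, 3, 0, 6, 2, 8, 2, 8, 1, 6, 6, 0, 6, 5, 5, 2, 2, 1, 7, 1, 7, 4, 3, 5, 1, 7, 2, 6, 8, 1, 4, 8],
    [0, 0, 7, 7, 5, 4, 7, 8, 6, 6, 6, 0, 6, 0, 3, 6, 0, 5, 5, 8, 0, 8, 0, 6, 5, 0, 3, 8, 3, 4, 7, 0, 5, 8, 0, 1, 0, 7, 7, 1, 8, 5, 0, 6, 7],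
    [0, 0, 0, 0, 8, 6, 7, 7, 1, 0, 6, 0, 0, 0, 0, 0, 0, 6, 0, 0, 0, 5, 0, 7, 0, 0, 6, 0, 6, 3, 0, 0, 8, 0, 8, 7, 5, 0, 0, 5, 0, 3, 8, 1],
    [0, 0, 0, 0, 8, 5, 5, 6, 1, 0, 6, 0, 0, 0, 0, 6, 0, 0, 0, 7, 0, 0, 0, 4, 7, 0, 0, 0, 4, 6, 8, 0, 0, 0, 8, 4, 5, 6, 0, 7, 0, 4, 3, 1, 7],
    [0, 0, 0, 0, 8, 8, 8, 6, 2, 0, 0, 6, 0, 0, 0, 0, 0, 6, 0, 0, 0, 8, 0, 7, 0, 0, 6, 0, 6, 0, 0, 0, 7, 0, 7, 0, 5, 0, 0, 6, 0, 4, 6, 1, 4],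
    [0, 0, 0, 0, 8, 8, 8, 6, 3, 0, 0, 6, 0, 0, 0, 0, 6, 0, 0, 0, 8, 7, 0, 5, 0, 6, 0, 0, 6, 5, 0, 7, 8, 0, 3, 2, 4, 0, 7, 8, 0, 3, 5, 6, 8],
    [0, 0, 0, 0, 0, 7, 2, 3, 8, 0, 0, 0, 0, 0, 2, 1, 8, 6, 5, 0, 7, 7, 8, 7, 1, 7, 2, 2, 2, 6, 1, 0, 6, 7, 1, 7, 8, 1, 7, 6, 1, 4, 2, 7],
    [0, 0, 0, 0, 0, 0, 0, 0, 0, 0, 0, 0, 0, 0, 0, 0, 0, 0, 0, 0, 0, 0, 0, 0, 0, 0, 0, 0, 0, 0, 0, 0, 0, 1, 0, 0, 0, 0, 0, 0, 1],
    [0, 0, 0, 0, 7, 5, 8, 6, 2, 0, 0, 0, 6, 0, 0, 0, 0, 0, 6, 0, 0, 0, 5, 5, 0, 0, 0, 6, 3, 3, 1, 0, 0, 5, 4, 1, 4, 1, 0, 0, 7, 2, 8, 1, 5],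
    [0, 0, 0, 0, 7, 5, 6, 4, 3, 0, 0, 0, 6, 0, 0, 6, 0, 0, 0, 5, 0, 0, 0, 4, 8, 0, 0, 0, 7, 1, 6, 0, 0, 0, 5, 6, 1, 6, 0, 0, 7, 3, 5, 0, 3],
    [0, 0, 0, 0, 7, 7, 8, 8, 2, 0, 0, 0, 0, 6, 0, 0, 0, 0, 6, 0, 0, 0, 8, 5, 0, 0, 0, 6, 3, 0, 0, 1, 0, 8, 4, 6, 4, 0, 1, 0, 6, 3, 3, 1, 1],
    [0, 0, 0, 0, 7, 8, 8, 7, 1, 0, 0, 0, 0, 6, 0, 0, 6, 0, 0, 0, 7, 0, 7, 2, 0, 6, 0, 0, 6, 4, 0, 7, 0, 8, 6, 6, 7, 0, 5, 0, 8, 3, 3, 4, 3],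
    [0, 0, 0, 0, 0, 7, 0, 7, 3, 0, 0, 0, 0, 0, 7, 2, 7, 7, 8, 0, 7, 7, 8, 7, 1, 8, 6, 2, 0, 5, 0, 7, 7, 6, 8, 5, 3, 2, 8, 6, 8, 5, 6, 8, 3],
    [0, 0, 0, 0, 0, 7, 7, 6, 7, 0, 0, 0, 0, 0, 6, 0, 0, 0, 0, 0, 0, 0, 6, 0, 0, 0, 0, 6, 0, 3, 0, 0, 1, 7, 0, 2, 1, 0, 0, 1, 7, 0, 7, 3, 8],
    [0, 0, 0, 0, 0, 7, 7, 5, 6, 0, 0, 0, 0, 0, 6, 0, 0, 0, 0, 0, 0, 6, 0, 0, 0, 0, 6, 0, 0, 3, 0, 0, 5, 0, 0, 3, 4, 0, 0, 8, 0, 0, 6, 7, 1],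
    [0, 0, 0, 0, 0, 0, 0, 2, 1, 0, 0, 0, 0, 0, 0, 0, 0, 7, 1, 2, 0, 7, 2, 0, 2, 0, 8, 2, 0, 5, 2, 0, 7, 0, 0, 8, 3, 1, 0, 8, 2, 8, 8, 1],
    [0, 0, 0, 0, 0, 0, 0, 1, 8, 0, 0, 0, 0, 0, 0, 0, 0, 7, 1, 0, 2, 0, 0, 1, 0, 2, 8, 1, 7, 0, 0, 2, 0, 1, 8, 0, 2, 0, 1, 7, 1, 8, 7, 6],
    [0, 0, 0, 0, 0, 7, 7, 8, 6, 0, 0, 0, 0, 0, 0, 6, 0, 0, 0, 0, 0, 0, 0, 6, 0, 0, 0, 0, 6, 3, 0, 0, 0, 0, 6, 3, 3, 0, 0, 0, 0, 8, 1, 8],
    [0, 0, 0, 0, 0, 7, 7, 5, 5, 0, 0, 0, 0, 0, 0, 6, 0, 0, 0, 6, 0, 0, 0, 0, 6, 0, 0, 0, 0, 3, 6, 0, 0, 0, 0, 5, 5, 7, 0, 0, 0, 7, 2, 3, 5],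
    [0, 0, 0, 0, 0, 8, 0, 0, 8, 0, 0, 0, 0, 0, 0, 0, 6, 0, 0, 0, 0, 0, 0, 6, 0, 0, 0, 0, 0, 0, 0, 0, 0, 0, 0, 0, 0, 0, 0, 0, 0, 6, 6],
    [0, 0, 0, 0, 0, 8, 0, 0, 7, 0, 0, 0, 0, 0, 0, 0, 6, 0, 0, 0, 6, 0, 0, 7, 0, 0, 0, 0, 0, 0, 0, 0, 0, 0, 8, 6, 0, 0, 8, 0, 0, 8, 5],
    [0, 0, 0, 0, 0, 7, 0, 4, 2, 0, 0, 0, 0, 0, 0, 0, 0, 7, 7, 1, 7, 8, 6, 0, 0, 7, 5, 5, 0, 5, 0, 8, 7, 8, 8, 4, 8, 1, 8, 7, 7, 0, 4, 7, 8],
    [0, 0, 0, 0, 0, 8, 0, 0, 7, 0, 0, 0, 0, 0, 0, 0, 0, 6, 0, 0, 0, 0, 0, 6, 0, 0, 0, 0, 0, 0, 0, 0, 0, 0, 0, 0, 0, 0, 0, 0, 0, 6, 6],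
    [0, 0, 0, 0, 0, 8, 0, 0, 7, 0, 0, 0, 0, 0, 0, 0, 0, 6, 0, 0, 0, 6, 0, 0, 0, 0, 0, 0, 0, 0, 0, 0, 0, 0, 0, 0, 0, 0, 0, 6, 0, 0, 3],
    [0, 0, 0, 0, 0, 0, 0, 8, 8, 0, 0, 0, 0, 0, 0, 0, 0, 0, 0, 1, 0, 7, 0, 2, 0, 0, 7, 0, 0, 1, 0, 0, 8, 0, 7, 6, 3, 2, 0, 8, 0, 1, 2, 2, 2],
    [0, 0, 0, 0, 0, 0, 0, 0, 1, 0, 0, 0, 0, 0, 0, 0, 0, 0, 0, 0, 1, 8, 0, 7, 0, 0, 0, 0, 1, 2, 0, 0, 0, 0, 1, 2, 0, 0, 2, 8, 0, 1, 8, 0, 2],
    [0, 0, 0, 0, 0, 7, 0, 0, 7, 0, 0, 0, 0, 0, 0, 0, 0, 0, 6, 0, 0, 0, 6, 0, 0, 0, 0, 0, 0, 0, 0, 0, 0, 0, 8, 6, 0, 0, 0, 0, 7, 8, 2],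
    [0, 0, 0, 0, 0, 0, 0, 0, 7, 0, 0, 0, 0, 0, 0, 0, 0, 0, 0, 2, 0, 0, 7, 0, 0, 0, 0, 7, 6, 7, 0, 0, 0, 8, 2, 5, 3, 1, 0, 0, 8, 7, 0, 5, 7],
    [0, 0, 0, 0, 0, 0, 0, 8, 8, 0, 0, 0, 0, 0, 0, 0, 0, 0, 0, 6, 0, 0, 0, 0, 0, 0, 0, 0, 0, 0, 0, 0, 0, 0, 0, 6, 0, 0, 0, 0, 0, 0, 6, 0, 6],
    [0, 0, 0, 0, 0, 0, 0, 0, 8, 0, 0, 0, 0, 0, 0, 0, 0, 0, 0, 0, 6, 0, 0, 0, 0, 0, 0, 0, 0, 0, 0, 0, 0, 0, 0, 8, 0, 0, 6, 0, 0, 0, 8],
    [0, 8, 7, 0, 6, 7, 2, 3, 2, 0, 0, 3, 0, 6, 3, 0, 7, 3, 5, 0, 3, 0, 3, 1, 0, 8, 2, 5, 6, 2, 0, 1, 0, 8, 4, 7, 5, 0, 5, 1, 1, 8, 8, 4, 6, 6],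
    [0, 0, 0, 0, 8, 8, 6, 5, 0, 0, 0, 1, 0, 7, 5, 0, 2, 6, 3, 0, 0, 2, 0, 4, 0, 0, 0, 4, 4, 3, 0, 0, 7, 2, 4, 0, 2, 0, 8, 0, 1, 2, 6, 6, 5],
    [0, 0, 0, 0, 0, 2, 0, 4, 4, 0, 0, 0, 0, 0, 0, 0, 2, 0, 2, 0, 4, 0, 0, 0, 0, 4, 0, 4, 0, 0, 0, 0, 0, 2, 0, 0, 6, 0, 2, 0, 3, 8, 4, 4, 1],
    [8, 7, 8, 8, 3, 1, 0, 8, 7, 6, 8, 5, 8, 5, 6, 7, 4, 5, 0, 7, 5, 6, 8, 0, 7, 0, 7, 6, 7, 1, 8, 5, 6, 7, 6, 3, 7, 8, 3, 0, 5, 0, 3, 4, 4, 0, 0, 0, 0, 0, 0, 0, 0, 0, 0, 0, 0, 0, 0, 0, 0, 0, 0, 0, 6],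
    [8, 7, 3, 5, 4, 1, 0, 6, 6, 3, 5, 1, 8, 1, 0, 5, 5, 5, 3, 6, 6, 3, 0, 2, 7, 1, 5, 6, 1, 4, 6, 4, 3, 5, 5, 3, 5, 5, 6, 8, 8, 8, 5, 4, 0, 0, 0, 0, 0, 0, 0, 0, 0, 0, 0, 0, 0, 0, 0, 0, 0, 0, 0, 0, 0, 0, 0, 0, 0, 0, 0, 0, 6, 0, 0, 1],
    [0, 0, 0, 0, 2, 2, 0, 3, 8, 0, 6, 5, 6, 5, 7, 6, 5, 5, 0, 6, 0, 5, 6, 1, 8, 7, 1, 6, 0, 5, 7, 8, 8, 0, 8, 4, 3, 6, 6, 8, 7, 2, 5, 0, 0, 0, 0, 0, 0, 0, 0, 0, 0, 0, 0, 0, 0, 0, 0, 0, 0, 0, 0, 0, 0, 0, 0, 0, 0, 0, 0, 0, 0, 0, 0, 2],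
    [0, 0, 0, 0, 0, 7, 8, 8, 5, 0, 8, 1, 0, 0, 1, 7, 2, 7, 8, 0, 2, 6, 7, 7, 7, 0, 0, 0, 7, 7, 8, 0, 2, 0, 8, 0, 5, 7, 2, 1, 7, 8, 0, 4, 1],
    [2, 1, 4, 5, 7, 7, 5, 4, 4, 6, 1, 0, 2, 8, 4, 8, 6, 5, 1, 4, 8, 4, 8, 3, 4, 2, 4, 7, 3, 6, 1, 8, 7, 3, 5, 2, 6, 3, 2, 4, 7, 4, 3, 7, 7, 0, 0, 0, 0, 0, 0, 0, 0, 0, 0, 0, 0, 0, 0, 0, 0, 0, 0, 0, 0, 0, 0, 0, 0, 0, 0, 0, 0, 0, 0, 0, 0, 0, 0, 0, 0, 0, 0, 0, 0, 0, 0, 0, 0, 0, 0, 0, 0, 0, 2, 1],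
    [1, 1, 3, 3, 6, 8, 3, 8, 6, 4, 3, 1, 5, 8, 8, 5, 6, 0, 4, 2, 3, 5, 7, 6, 4, 2, 2, 0, 6, 8, 4, 5, 7, 3, 8, 0, 7, 2, 1, 1, 0, 4, 2, 0, 8, 0, 0, 0, 0, 0, 0, 0, 0, 0, 0, 0, 0, 0, 0, 0, 0, 0, 0, 0, 0, 0, 0, 0, 0, 0, 0, 0, 0, 0, 0, 0, 0, 0, 0, 0, 0, 0, 0, 0, 0, 0, 0, 0, 0, 0, 0, 0, 0, 1, 0, 1],
    [2, 1, 4, 5, 8, 2, 8, 8, 8, 6, 1, 3, 2, 8, 6, 0, 5, 1, 2, 0, 6, 7, 2, 2, 3, 2, 3, 1, 6, 8, 6, 2, 3, 1, 8, 5, 5, 5, 4, 3, 4, 2, 6, 7, 8, 0, 0, 0, 0, 0, 0, 0, 0, 0, 0, 0, 0, 0, 0, 0, 0, 0, 0, 0, 0, 0, 0, 0, 0, 0, 0, 0, 0, 0, 0, 0, 0, 0, 0, 0, 0, 0, 0, 0, 0, 0, 0, 0, 0, 0, 0, 0, 0, 0, 1, 2],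
    [2, 2, 4, 4, 8, 5, 6, 0, 7, 5, 6, 8, 6, 8, 5, 0, 4, 2, 6, 7, 5, 1, 8, 6, 6, 8, 4, 2, 1, 5, 3, 7, 0, 1, 0, 2, 1, 5, 2, 5, 2, 5, 2, 7, 0, 0, 0, 0, 0, 0, 0, 0, 0, 0, 0, 0, 0, 0, 0, 0, 0, 0, 0, 0, 0, 0, 0, 0, 0, 0, 0, 0, 0, 0, 0, 0, 0, 0, 0, 0, 0, 0, 0, 0, 0, 0, 0, 0, 0, 0, 0, 0, 0, 2, 2]]
  tgt := [
    ([(0, 5)], [(0, 6), (1, 1), (2, 2), (3, 3), (4, 3), (5, 7), (6, 8), (7, 8), (8, 4), (9, 5), (10, 8), (11, 3), (12, 4), (13, 7), (14, 3), (15, 7), (17, 8), (18, 3), (19, 5), (20, 5), (22, 8), (23, 6), (24, 4), (26, 4), (27, 8), (28, 4), (29, 8), (32, 6), (33, 4), (34, 1), (35, 2), (36, 7), (37, 1), (38, 1), (39, 2), (40, 7), (42, 7)]),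
    ([(0, 4)], [(0, 3), (1, 8), (2, 7), (3, 6), (4, 6), (5, 2), (6, 1), (7, 1), (8, 5), (9, 4), (10, 1), (11, 6), (12, 5), (13, 2), (14, 6), (15, 2), (17, 1), (18, 6), (19, 4), (20, 4), (22, 1), (23, 3), (24, 5), (26, 5), (27, 1), (28, 5), (29, 1), (32, 3), (33, 5), (34, 8), (35, 7), (36, 2), (37, 8), (38, 8), (39, 7), (40, 2), (42, 2)]),
    ([(0, 6)], [(0, 7), (1, 6), (2, 6), (3, 6), (4, 4), (5, 5), (6, 1), (7, 3), (8, 4), (9, 8), (10, 4), (11, 5), (12, 7), (13, 5), (14, 2), (15, 2), (16, 3), (17, 2), (19, 3), (20, 5), (21, 7), (22, 8), (23, 6), (24, 3), (26, 4), (27, 1), (28, 5), (29, 4), (30, 8), (31, 2), (32, 3), (33, 5), (34, 2), (35, 8), (36, 7), (37, 1), (38, 3)]),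
    ([(0, 1)], [(0, 3), (1, 2), (2, 4), (3, 6), (4, 6), (5, 5), (6, 7), (7, 7), (8, 8), (9, 1), (10, 7), (11, 6), (12, 8), (13, 5), (14, 6), (15, 5), (17, 7), (18, 6), (19, 1), (20, 1), (22, 7), (23, 3), (24, 8), (26, 8), (27, 7), (28, 8), (29, 7), (32, 3), (33, 8), (34, 2), (35, 4), (36, 5), (37, 2), (38, 2), (39, 4), (40, 5), (42, 5)]),
    ([(0, 6)], [(0, 2), (1, 6), (2, 7), (3, 2), (4, 6), (5, 3), (6, 6), (7, 6), (8, 4), (9, 8), (11, 5), (12, 7), (13, 4), (14, 7), (16, 2), (17, 4), (18, 8), (19, 4), (20, 3), (21, 6), (22, 5), (23, 5), (24, 8), (26, 1), (27, 1), (28, 5), (29, 6), (30, 3), (31, 5), (32, 3), (33, 6), (35, 3), (36, 3), (37, 3), (38, 6), (39, 3), (40, 6), (42, 6)]),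
    ([(0, 3)], [(0, 3), (1, 6), (2, 6), (3, 6), (6, 6), (8, 3), (10, 3), (11, 3), (12, 3), (13, 6), (14, 6), (16, 3), (17, 6), (18, 6), (21, 7), (24, 7), (27, 3), (29, 3), (30, 6), (32, 3), (33, 6), (34, 6), (35, 6), (36, 3), (37, 3)]),
    ([], [(0, 1), (1, 1), (2, 5), (3, 1), (4, 1), (5, 4), (7, 5), (8, 6), (9, 8), (10, 8), (11, 5), (12, 8), (13, 1), (16, 7), (17, 7), (18, 7), (20, 4), (21, 2), (23, 7), (26, 2), (27, 4), (28, 8), (29, 1), (30, 7), (31, 6), (32, 6), (33, 6), (35, 3), (38, 6), (39, 6), (40, 3), (42, 3)]),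
    ([(0, 3)], [(0, 6), (2, 3), (3, 3), (5, 3), (8, 3), (10, 6), (12, 6), (14, 6), (16, 3), (18, 3), (19, 3), (20, 6), (21, 2), (24, 4), (26, 6), (27, 3), (28, 3), (29, 6), (30, 8), (32, 6), (33, 6), (34, 3), (35, 3), (36, 6), (37, 6), (38, 6), (39, 6), (40, 3), (42, 3)]),
    ([(0, 6)], [(1, 3), (3, 3), (5, 6), (6, 3), (7, 3), (9, 6), (12, 6), (15, 3), (17, 6), (18, 3), (19, 6), (20, 6), (21, 7), (22, 6), (23, 6), (24, 8), (26, 3), (27, 3), (29, 3), (30, 6), (31, 6), (32, 3), (34, 3), (35, 6), (36, 3), (37, 3), (38, 6)]),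
    ([], []),
    ([], []),
    ([(0, 1)], [(0, 3), (1, 2), (2, 4), (3, 6), (4, 6), (5, 5), (6, 7), (7, 7), (8, 8), (9, 1), (10, 7), (11, 6), (12, 8), (13, 5), (14, 6), (15, 5), (17, 7), (18, 6), (19, 1), (20, 1), (22, 7), (23, 3), (24, 8), (26, 8), (27, 7), (28, 8), (29, 7), (32, 3), (33, 8), (34, 2), (35, 4), (36, 5), (37, 2), (38, 2), (39, 4), (40, 5), (42, 5)]),
    ([(0, 3)], [(0, 7), (1, 7), (2, 4), (3, 7), (4, 1), (5, 2), (6, 1), (7, 7), (8, 6), (9, 4), (11, 7), (12, 7), (13, 3), (14, 4), (15, 3), (16, 6), (17, 8), (18, 7), (19, 4), (20, 5), (21, 5), (22, 1), (23, 7), (24, 2), (26, 3), (27, 4), (28, 7), (29, 4), (30, 8), (32, 7), (33, 4), (34, 2), (35, 5), (36, 1), (37, 4), (38, 7), (39, 7), (41, 1), (42, 6)]),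
    ([], []),
    ([], [(0, 8), (1, 8), (2, 1), (3, 7), (4, 5), (5, 4), (6, 7), (7, 1), (9, 8), (10, 3), (11, 2), (12, 6), (13, 2), (14, 1), (15, 1), (16, 1), (17, 3), (18, 8), (19, 8), (20, 1), (21, 6), (22, 7), (23, 7), (24, 2), (26, 6), (27, 5), (28, 4), (29, 3), (30, 2), (32, 1), (33, 4), (34, 1), (35, 3), (36, 6), (37, 6), (38, 1), (39, 5), (40, 4), (42, 4)]),
    ([(0, 4)], [(0, 8), (1, 7), (2, 5), (3, 5), (4, 5), (7, 7), (8, 7), (9, 1), (10, 6), (11, 5), (12, 1), (13, 5), (14, 5), (15, 6), (16, 4), (18, 7), (19, 4), (20, 1), (21, 6), (22, 3), (23, 3), (24, 2), (26, 5), (27, 4), (28, 1), (29, 1), (30, 2), (31, 7), (32, 3), (33, 3), (34, 6), (35, 4), (36, 5), (37, 2), (38, 6), (39, 4), (40, 5), (42, 5)]),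
    ([], [(0, 4), (1, 5), (2, 4), (3, 3), (5, 4), (6, 5), (7, 7), (8, 6), (9, 4), (10, 7), (11, 1), (12, 8), (13, 2), (14, 5), (15, 8), (16, 1), (17, 5), (18, 7), (19, 6), (20, 1), (21, 8), (22, 2), (23, 2), (24, 8), (26, 2), (27, 8), (30, 5), (31, 2), (32, 4), (33, 1), (34, 6), (35, 8), (36, 1), (37, 4), (38, 1), (39, 6), (40, 3), (42, 3)]),
    ([(0, 4)], [(0, 1), (1, 1), (2, 7), (3, 8), (4, 6), (5, 2), (6, 4), (8, 3), (9, 8), (10, 7), (11, 4), (13, 5), (14, 2), (15, 7), (16, 1), (17, 3), (18, 6), (19, 7), (20, 2), (23, 3), (24, 8), (26, 7), (27, 1), (28, 3), (29, 2), (31, 3), (33, 1), (34, 2), (35, 6), (38, 8), (39, 3), (40, 6), (42, 6)]),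
    ([(0, 7)], [(0, 6), (1, 1), (2, 6), (4, 4), (5, 5), (6, 1), (7, 1), (8, 4), (9, 4), (10, 8), (12, 2), (13, 6), (14, 5), (15, 5), (19, 2), (20, 5), (21, 6), (22, 6), (24, 8), (26, 1), (27, 8), (28, 2), (29, 3), (31, 3), (32, 3), (33, 8), (34, 4), (36, 3), (37, 3), (38, 1), (39, 6), (40, 3), (42, 3)]),
    ([(0, 6)], [(1, 4), (2, 2), (3, 1), (4, 5), (5, 6), (6, 4), (8, 3), (9, 2), (11, 8), (12, 3), (13, 6), (14, 8), (15, 8), (16, 6), (17, 7), (18, 8), (19, 7), (20, 5), (21, 6), (22, 7), (23, 2), (24, 8), (27, 8), (28, 3), (29, 5), (30, 5), (32, 3), (33, 1), (34, 1), (35, 3), (36, 6), (37, 6), (38, 5), (39, 4), (40, 5), (42, 5)]),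
    ([], [(0, 4), (1, 8), (2, 5), (3, 6), (4, 2), (6, 7), (7, 8), (8, 6), (9, 3), (10, 8), (11, 4), (12, 1), (14, 6), (15, 3), (16, 7), (17, 7), (18, 4), (19, 5), (20, 5), (21, 2), (22, 4), (23, 7), (24, 4), (26, 6), (27, 5), (28, 7), (29, 7), (31, 4), (32, 5), (33, 6), (34, 7), (35, 1), (36, 2), (37, 8), (38, 7)]),
    ([(0, 1)], []),
    ([(0, 1)], [(0, 1), (1, 6), (2, 7), (3, 7), (4, 7), (5, 3), (6, 4), (7, 3), (8, 4), (9, 4), (10, 7), (11, 2), (12, 1), (13, 6), (14, 1), (15, 4), (17, 1), (18, 2), (19, 1), (20, 2), (21, 3), (22, 8), (23, 8), (24, 5), (26, 8), (28, 3), (30, 5), (31, 5), (32, 5), (33, 3), (34, 4), (35, 4), (36, 5), (37, 2), (38, 4), (39, 3), (40, 6), (42, 6)]),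
    ([(0, 3)], [(0, 8), (1, 3), (3, 6), (4, 4), (6, 3), (7, 4), (8, 2), (9, 4), (10, 5), (11, 3), (12, 8), (13, 4), (14, 5), (15, 1), (16, 2), (17, 7), (18, 3), (19, 7), (20, 3), (21, 7), (23, 6), (24, 5), (26, 6), (27, 8), (29, 5), (30, 1), (31, 2), (34, 3), (35, 6), (36, 6), (37, 6), (39, 6), (40, 3), (42, 3)]),
    ([(0, 3)], [(0, 8), (1, 5), (2, 1), (3, 6), (4, 1), (5, 3), (6, 3), (7, 6), (8, 5), (10, 4), (11, 6), (12, 2), (13, 3), (14, 6), (15, 5), (16, 8), (18, 7), (19, 4), (20, 1), (21, 4), (22, 8), (23, 4), (24, 8), (26, 5), (27, 5), (29, 6), (30, 2), (31, 2), (32, 1), (33, 2), (34, 1), (35, 8), (36, 4), (37, 7), (39, 2), (40, 7), (42, 7)]),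
    ([], [(0, 1), (1, 1), (2, 5), (3, 2), (4, 7), (5, 1), (6, 1), (7, 5), (8, 2), (9, 5), (11, 5), (12, 6), (13, 2), (14, 6), (16, 4), (17, 1), (19, 6), (20, 8), (21, 3), (22, 5), (23, 4), (24, 1), (27, 4), (28, 7), (29, 2), (30, 4), (31, 4), (32, 1), (33, 5), (34, 7), (35, 8), (36, 4), (37, 7), (39, 2), (40, 7), (42, 7)]),
    ([(0, 2)], [(0, 7), (2, 5), (3, 1), (4, 6), (5, 7), (6, 6), (7, 1), (8, 7), (9, 3), (10, 6), (11, 8), (12, 8), (13, 5), (14, 8), (15, 2), (16, 4), (17, 5), (18, 2), (19, 3), (20, 7), (21, 4), (22, 8), (23, 5), (24, 5), (26, 8), (27, 3), (30, 1), (31, 6), (32, 6), (33, 8), (34, 2), (35, 6), (36, 3), (37, 3), (38, 4), (39, 8), (40, 1), (42, 1)]),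
    ([], [(0, 8), (2, 1), (4, 2), (5, 6), (6, 6), (9, 3), (11, 6), (12, 3), (13, 8), (14, 8), (15, 4), (16, 2), (17, 5), (18, 3), (19, 7), (20, 1), (21, 4), (22, 8), (23, 3), (24, 6), (26, 7), (28, 3), (29, 1), (30, 3), (31, 6), (32, 7), (33, 7), (34, 3), (35, 2), (36, 4), (37, 7), (38, 4), (39, 4), (40, 5), (42, 5)]),
    ([(0, 2)], [(0, 4), (1, 8), (2, 3), (3, 4), (4, 5), (6, 1), (7, 3), (8, 4), (9, 7), (12, 5), (13, 2), (14, 4), (15, 3), (16, 8), (17, 8), (18, 3), (19, 4), (21, 3), (22, 1), (24, 5), (26, 5), (28, 4), (29, 7), (30, 8), (31, 8), (32, 1), (33, 6), (34, 8), (35, 5), (36, 7), (37, 1), (38, 5), (39, 3), (40, 6), (42, 6)]),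
    ([(0, 7)], [(0, 6), (1, 1), (2, 8), (3, 4), (5, 3), (6, 6), (7, 2), (8, 4), (9, 3), (10, 5), (11, 1), (12, 6), (13, 5), (14, 4), (15, 7), (16, 3), (18, 1), (20, 3), (21, 3), (22, 3), (23, 1), (24, 2), (26, 2), (27, 4), (28, 8), (29, 8), (30, 3), (31, 7), (33, 3), (34, 3), (35, 3), (36, 3), (37, 3), (38, 3), (39, 3), (40, 6), (42, 6)]),
    ([(0, 7)], [(0, 5), (2, 7), (3, 1), (4, 7), (5, 5), (6, 8), (7, 3), (9, 7), (10, 8), (11, 5), (12, 5), (13, 7), (16, 1), (17, 7), (18, 1), (19, 6), (20, 5), (21, 3), (22, 7), (23, 7), (24, 5), (26, 5), (27, 4), (28, 7), (29, 7), (30, 5), (31, 3), (32, 5), (34, 7), (35, 7), (36, 8), (37, 5), (38, 4), (39, 6), (40, 3), (42, 3)]),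
    ([(0, 2)], [(0, 8), (1, 7), (2, 5), (3, 3), (5, 5), (7, 5), (8, 7), (9, 5), (10, 6), (11, 5), (12, 5), (13, 8), (14, 7), (15, 6), (16, 4), (17, 1), (18, 5), (19, 4), (20, 5), (21, 4), (22, 8), (23, 5), (24, 6), (27, 8), (28, 2), (30, 1), (31, 4), (32, 5), (33, 6), (34, 1), (35, 7), (36, 8), (37, 5), (38, 1), (39, 6), (40, 3), (42, 3)]),
    ([(0, 8)], [(1, 1), (2, 3), (4, 7), (5, 8), (6, 3), (7, 1), (9, 8), (11, 7), (12, 6), (13, 6), (15, 5), (16, 4), (17, 7), (18, 1), (19, 8), (20, 6), (21, 3), (22, 3), (23, 1), (24, 6), (26, 6), (27, 2), (28, 4), (29, 1), (34, 3), (35, 3), (36, 3), (37, 3), (38, 6), (39, 3), (40, 6), (42, 6)]),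
    ([(0, 7)], [(0, 4), (1, 8), (2, 8), (3, 4), (5, 8), (6, 3), (7, 4), (8, 6), (9, 6), (12, 6), (13, 3), (15, 4), (16, 7), (17, 4), (18, 7), (19, 4), (20, 3), (22, 7), (23, 1), (26, 8), (27, 8), (28, 6), (29, 7), (30, 8), (31, 7), (33, 6), (35, 3), (36, 3), (37, 3), (38, 6), (39, 3), (40, 6), (42, 6)]),
    ([(0, 8)], [(0, 6), (1, 3), (2, 1), (3, 5), (4, 4), (5, 4), (6, 8), (7, 2), (8, 3), (9, 2), (10, 1), (11, 5), (12, 4), (13, 5), (16, 3), (17, 3), (18, 6), (19, 2), (20, 6), (21, 4), (24, 3), (26, 1), (27, 4), (28, 8), (30, 8), (31, 5), (33, 3), (35, 6), (36, 6), (37, 6), (39, 6), (40, 3), (42, 3)]),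
    ([(0, 6)], [(0, 6), (1, 8), (2, 8), (3, 1), (4, 4), (5, 4), (6, 1), (7, 3), (8, 4), (10, 8), (12, 4), (14, 4), (15, 8), (16, 4), (17, 2), (18, 3), (19, 2), (21, 6), (22, 4), (23, 6), (24, 3), (26, 5), (27, 5), (28, 3), (29, 1), (30, 2), (31, 3), (34, 6)]),
    ([(0, 6)], [(0, 7), (2, 1), (3, 8), (4, 3), (5, 5), (6, 1), (7, 3), (8, 2), (9, 2), (10, 8), (11, 2), (12, 6), (13, 5), (14, 5), (15, 1), (16, 8), (17, 2), (18, 1), (21, 2), (22, 6), (23, 7), (26, 7), (27, 7), (28, 6), (30, 4), (34, 3), (38, 6)]),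
    ([], [(0, 5)]),
    ([(0, 7)], [(0, 3), (1, 5), (2, 5), (3, 4), (4, 7), (5, 2), (6, 6), (7, 5), (8, 8), (9, 3), (10, 5), (11, 6), (12, 8), (13, 4), (14, 5), (15, 5), (16, 3), (17, 8), (18, 4), (19, 2), (21, 5), (22, 6), (23, 1), (24, 3), (26, 5), (27, 4), (28, 1), (31, 3), (33, 6), (34, 3), (38, 6)]),
    ([(0, 7)], [(0, 2), (2, 7), (3, 8), (4, 1), (5, 6), (6, 5), (7, 5), (8, 8), (9, 1), (10, 4), (11, 8), (12, 2), (13, 3), (14, 5), (15, 5), (16, 6), (18, 8), (19, 4), (20, 8), (21, 5), (22, 2), (23, 2), (24, 1), (26, 1), (27, 2), (28, 5), (29, 7), (30, 4), (31, 6), (35, 6), (36, 6), (37, 6), (38, 3), (39, 6), (40, 3), (42, 3)]),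
    ([(0, 2)], [(0, 5), (1, 1), (2, 1), (3, 5), (5, 1), (6, 6), (7, 5), (8, 3), (9, 4), (12, 3), (13, 6), (15, 5), (16, 2), (17, 5), (18, 2), (19, 5), (20, 6), (22, 2), (23, 8), (26, 1), (27, 1), (28, 3), (29, 2), (30, 1), (31, 2), (33, 3), (35, 6), (36, 6), (37, 6), (38, 3), (39, 6), (40, 3), (42, 3)]),
    ([(0, 6)], [(0, 2), (1, 3), (2, 8), (3, 1), (4, 6), (5, 4), (6, 2), (7, 6), (8, 1), (9, 5), (10, 1), (11, 4), (12, 3), (13, 1), (14, 1), (15, 7), (16, 6), (17, 1), (18, 5), (19, 2), (20, 6), (21, 8), (22, 3), (23, 2), (24, 8), (26, 2), (27, 8), (28, 6), (29, 3), (30, 1), (31, 1), (34, 6), (38, 3)]),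
    ([(0, 3)], [(1, 4), (2, 7), (3, 2), (4, 5), (5, 2), (6, 2), (8, 8), (9, 3), (10, 7), (11, 6), (12, 8), (13, 6), (14, 8), (15, 1), (16, 2), (17, 1), (18, 6), (19, 7), (20, 6), (21, 2), (22, 5), (24, 4), (26, 4), (27, 1), (29, 2), (30, 1), (31, 5), (34, 6)]),
    ([(0, 3)], [(0, 8), (1, 5), (2, 7), (3, 8), (5, 2), (6, 3), (7, 5), (8, 4), (10, 5), (11, 1), (12, 7), (14, 4), (15, 3), (16, 3), (17, 4), (18, 2), (19, 1), (20, 1), (21, 7), (22, 2), (23, 8), (24, 5), (26, 1), (27, 3), (28, 5), (30, 8), (31, 1), (33, 6), (34, 6), (35, 6), (36, 6), (37, 6), (39, 6), (40, 3), (42, 3)]),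
    ([], [(0, 4), (1, 1), (3, 6), (4, 1), (5, 6), (6, 1), (7, 8), (8, 5), (9, 2), (10, 1), (11, 1), (12, 8), (14, 2), (15, 3), (16, 2), (17, 3), (18, 5), (19, 8), (21, 7), (22, 6), (23, 5), (24, 8), (26, 6), (27, 5), (28, 5), (29, 4), (30, 5), (31, 5), (33, 6), (35, 6), (36, 6), (37, 6), (39, 6), (40, 3), (42, 3)])]

/-- Orbits inside the subgroup. -/
def orbits : List (ℕ × List (ℕ × List ℕ)) := [
    (0, [(0, []), (7, [6, 7, 8]), (11, [5, 5]), (19, [3, 5, 8]), (27, [0, 5, 8]), (29, [1, 1, 8]), (33, [2, 8]), (34, [2, 6, 6, 8]), (35, [6, 8, 8]), (43, [2, 6, 7, 8]), (50, [0, 1, 3, 7]), (57, [2, 3, 3, 8]), (77, [3, 3, 4, 7]), (80, [6, 7, 7]), (82, [2, 4]), (87, [3, 8]), (88, [4, 6, 8, 8]), (99, [3, 4, 6]), (111, [2, 4, 4, 7]), (114, [3, 6, 6, 7, 7]), (119, [7, 7, 8]), (127, [1, 4, 7]), (129, [7, 8, 8]), (149, [1, 1, 4, 6]), (151, [0]),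 (161, [1, 5, 5]), (163, [2, 6, 6]), (174, [0, 4, 5]), (188, [0, 6]), (198, [2, 8, 8]), (209, [1, 5]), (213, [0, 3, 3]), (223, [5, 6]), (254, [1, 1, 7]), (261, [0, 2, 5]), (326, [4, 6, 6]), (335, [5, 6, 8]), (338, [0, 1, 7, 7]), (355, [1, 2, 8]), (380, [1, 1, 6, 6]), (392, [0, 2, 7, 7]), (406, [2, 6, 7, 8, 8]), (408, [3, 6, 8]), (416, [4, 4, 6, 8]), (417, [1, 2, 7]), (418, [4, 6, 7]), (419, [1, 3]), (423, [4, 5, 5]), (425, [0, 3, 8]), (435, [6, 6, 7]), (437, [1, 3, 6, 6]), (441, [6, 6]), (452, [4, 5, 6, 8]), (455, [1, 5, 6]), (463, [4]), (467, [2, 4, 5]), (469, [2, 3, 7]), (486, [2]), (487, [4, 5]), (491, [2, 2, 4]), (492, [3, 3, 8]), (510, [2, 2, 4, 7]), (519, [3, 4, 8]), (522, [4, 4, 5]), (533, [0, 1, 2, 8]), (553, [1, 3, 3, 7]), (557, [2, 6, 7]), (565, [1, 3, 4]), (584, [3, 6, 7, 7]), (588, [4, 7, 8]), (590, [3, 7]), (620, [0,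 4, 6]), (637, [2, 2, 5]), (644, [3, 3, 7]), (648, [4, 7, 8, 8]), (710, [2, 5]), (717, [1, 3, 8]), (719, [0, 2, 8]), (720, [0, 7, 8]), (731, [4, 4, 6, 7]), (740, [2, 3]), (766, [2, 2]), (775, [1, 7, 8]), (776, [7, 7, 8, 8]), (779, [3, 7, 8]), (807, [0, 0, 3]), (808, [2, 4, 6, 7, 7]), (810, [1, 4, 6, 8]), (813, [7, 8]), (844, [6, 7]), (849, [2, 3, 3, 4]), (852, [1, 5, 8]), (855, [0, 8, 8]), (859, [0, 6, 6]), (881, [1, 7]), (887, [2, 2, 4, 6]), (888, [0, 4, 7]), (891, [3, 6, 7]), (926, [2, 6, 7, 7]), (964, [2, 5, 8]), (968, [2, 2, 5, 6]), (983, [2, 2, 6, 6]), (1003, [2, 7, 8, 8]), (1019, [1, 3, 4, 4]), (1020, [0, 4, 8]), (1023, [0, 1, 2]), (1033, [2, 7, 8]), (1034, [0, 3]), (1036, [0, 3, 4]), (1054, [5]), (1096, [1, 1, 3, 8]), (1097, [1, 1]), (1118, [0, 7]), (1139, [3, 8, 8]), (1143, [2, 7]), (1153, [1, 6, 7]), (1199, [0, 1, 1]), (1217,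 [3, 4, 5, 6]), (1228, [2, 7, 7]), (1287, [3, 4, 8, 8]), (1313, [2, 5, 6]), (1315, [7, 7]), (1343, [7]), (1348, [6, 7, 8, 8]), (1365, [2, 4, 4, 5, 8]), (1392, [3, 4, 4, 8]), (1394, [1, 8]), (1462, [1, 4, 6]), (1494, [0, 3, 5]), (1517, [2, 2, 5, 8]), (1538, [4, 4, 8]), (1549, [2, 3, 5]), (1550, [0, 0, 7]), (1578, [0, 2]), (1582, [6, 8]), (1617, [3, 3, 5, 6]), (1629, [3, 4, 5]), (1679, [0, 5]), (1718, [0, 2, 7]), (1725, [2, 2, 3, 5, 6]), (1727, [2, 4, 4]), (1729, [0, 4]), (1730, [5, 8]), (1743, [1, 2, 7, 7]), (1756, [8, 8]), (1810, [2, 2, 7]), (1828, [4, 8]), (1834, [0, 3, 6]), (1922, [3, 4]), (1926, [3, 6, 6, 7]), (1928, [1, 2, 6, 6]), (1936, [1, 3, 7]), (1940, [2, 4, 6]), (1942, [0, 6, 8]), (1967, [8]), (1985, [1, 6, 8]), (1995, [1, 2, 2, 4]), (2000, [3, 6, 8, 8]), (2012, [6]), (2039, [6, 6, 7, 7]), (2045, [2, 6, 6, 7]), (2149, [6,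 6, 8]), (2158, [1, 2, 3, 3]), (2161, [3, 6]), (2179, [1, 7, 7]), (2183, [2, 6]), (2189, [0, 8]), (2233, [3, 6, 7, 8]), (2236, [1, 4]), (2244, [1, 6, 6, 7]), (2255, [2, 2, 4, 8]), (2256, [0, 6, 7]), (2276, [3, 5, 5]), (2293, [3, 6, 6, 8]), (2294, [2, 2, 4, 5]), (2371, [1, 2, 7, 8]), (2395, [3, 3, 5]), (2427, [2, 5, 5]), (2489, [1, 3, 6]), (2496, [0, 0, 6]), (2497, [4, 6, 8]), (2517, [1, 2, 3]), (2573, [3, 3, 6]), (2591, [2, 4, 5, 8]), (2605, [4, 4, 6]), (2608, [0, 4, 7, 8]), (2609, [4, 4]), (2617, [0, 0]), (2636, [0, 3, 4, 6]), (2646, [1, 6, 6]), (2665, [3]), (2680, [4, 6, 7, 8]), (2711, [3, 5, 6]), (2753, [4, 6, 6, 8]), (2766, [2, 3, 3]), (2772, [3, 3]), (2777, [1, 8, 8]), (2784, [1, 2]), (2831, [3, 5]), (2832, [1, 2, 8, 8]), (2837, [3, 7, 8, 8]), (2853, [4, 4, 5, 8]), (2856, [4, 8, 8]), (2869, [3, 3, 7, 8]), (2901, [4, 4, 7]),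 (2912, [4, 7]), (2914, [1, 6]), (2933, [4, 4, 5, 6]), (2966, [1, 1, 3]), (2993, [2, 4, 4, 5]), (2994, [1, 6, 8, 8]), (2996, [3, 7, 7, 8]), (3006, [4, 6]), (3059, [3, 3, 8, 8]), (3061, [4, 6, 6, 7]), (3110, [2, 3, 3, 7]), (3121, [2, 3, 8]), (3123, [0, 4, 7, 7]), (3159, [0, 1, 6]), (3163, [4, 5, 6]), (3172, [4, 7, 7]), (3180, [2, 2, 3, 7]), (3192, [2, 4, 7]), (3220, [2, 2, 4, 8, 8]), (3247, [3, 6, 6]), (3270, [3, 3, 6, 8]), (3289, [4, 7, 7, 8]), (3295, [1, 2, 6]), (3319, [1]), (3327, [3, 4, 4]), (3333, [3, 7, 7]), (3388, [4, 5, 8]), (3395, [3, 5, 6, 8]), (3400, [4, 4, 6, 6]), (3414, [0, 0, 6, 8]), (3420, [1, 7, 7, 8]), (3432, [0, 1, 1, 8]), (3470, [0, 0, 8]), (3471, [2, 4, 4, 6]), (3487, [0, 2, 5, 5]), (3499, [4, 6, 6, 8, 8]), (3502, [3, 6, 7, 8, 8]), (3507, [0, 0, 3, 6])]),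
    (1, [(1, []), (115, [0, 0, 1, 1, 2, 2, 3, 3, 4, 4, 6, 6, 7]), (157, [0, 2, 2, 3, 4, 4, 7, 8, 8]), (165, [0, 1, 1, 2, 2, 4, 4, 5, 5, 7]), (302, [0, 1, 2, 3, 5, 5, 6, 6, 7]), (312, [1, 2, 3, 3, 4, 4, 6, 6, 7, 7]), (313, [0, 1, 1, 2, 3, 3, 4]), (328, [1, 3, 4, 6, 7, 7, 8]), (379, [1, 1, 3, 3, 4, 6, 7, 8]), (383, [2, 2, 3, 3, 4, 4, 5, 7, 7, 8, 8]), (386, [0, 0, 1, 2, 2, 3, 5, 6, 6, 7]), (474, [1, 1, 2, 4, 4, 5, 6, 6, 7]), (706, [2, 2, 3, 3, 4, 4, 6, 7]), (774, [0, 0, 1, 2, 4, 4, 5, 6, 6, 8, 8]), (783, [0, 3, 3, 5, 5, 6, 6]), (838, [1, 2, 2, 6, 7, 8]), (917, [0, 0, 1, 1, 2, 3, 4, 6, 7, 8]), (921, [0, 0, 1, 3, 3, 4, 6]), (1007, [0, 0, 1, 1, 2, 2, 3, 3, 4, 4, 5, 6, 7, 7, 8, 8]), (1085, [0, 2, 2, 3, 4, 4, 5, 6, 6, 7, 7, 8]), (1089, [0, 1, 1, 2, 3, 3, 4, 5, 5, 6, 7, 7, 8]), (1156, [0, 0, 2, 2, 5, 7]), (1203, [0, 0, 1, 2, 2, 3, 5, 5,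 6, 7, 7, 8, 8]), (1230, [0, 0, 1, 2, 2, 3, 8]), (1231, [0, 0, 1, 1, 2, 2, 3, 3, 4, 4, 5, 5, 8]), (1232, [5, 5, 6, 7, 7, 8]), (1280, [0, 1, 2, 2, 3, 3, 4, 5, 5, 7]), (1298, [0, 1, 1, 2, 3, 3, 4, 5, 6, 6, 7, 8, 8]), (1369, [0, 3, 3, 6, 7, 8, 8]), (1380, [1, 3, 4, 5]), (1455, [0, 0, 2, 3, 3, 4, 4, 5, 5, 8]), (1483, [0, 2, 2, 3, 4, 4, 5, 5, 6]), (1532, [0, 0, 2, 3, 3, 4, 4, 6, 6, 7]), (1536, [1, 2, 3, 3, 4, 4, 5, 5, 7, 8]), (1559, [1, 1, 2, 4, 4, 5, 5, 6, 7, 7, 8, 8]), (1568, [0, 0, 1, 1, 5, 5, 6, 6, 7, 7, 8, 8]), (1663, [0, 1, 4, 4, 5, 5, 6, 6, 8]), (1772, [0, 1, 1, 3, 6, 6, 8, 8]), (1790, [0, 1, 2, 2, 3, 3, 4, 6, 6, 7, 7, 8, 8]), (1803, [0, 1, 4, 4, 6, 7]), (1838, [1, 1, 2, 2, 3, 7, 8, 8]), (1847, [1, 2, 2, 5, 7, 7]), (1851, [2, 3, 4, 5, 5, 6]), (1857, [1, 2, 3, 3, 4, 4, 5, 6, 8, 8]), (1862, [0, 0, 1, 2, 4, 4, 7, 7]), (1947, [0, 0,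 1, 1, 2, 3, 4, 5, 7, 7]), (1982, [1, 1, 2, 2, 3, 5, 5, 6]), (2031, [0, 0, 1, 3, 3, 4, 5, 5, 6, 6, 7, 7, 8]), (2057, [0, 1, 2, 2, 3, 3, 4, 5, 6, 8]), (2083, [0, 0, 1, 3, 3, 4, 5, 7, 8, 8]), (2240, [0, 0, 1, 1, 6, 8]), (2341, [0, 1, 2, 3, 6, 7, 7, 8, 8]), (2347, [0, 0, 1, 2, 4, 4, 5, 5, 6, 7, 8]), (2469, [2, 3, 4, 7, 8, 8]), (2478, [0, 2, 4, 8, 8]), (2599, [1, 2, 2, 5, 5, 6, 6, 8, 8]), (2695, [1, 1, 3, 3, 4, 5, 7, 7]), (2714, [0, 0, 2, 2, 5, 5, 6, 6, 7, 7, 8, 8]), (2721, [0, 0, 3, 4, 6, 7, 8]), (2728, [0, 0, 2, 3, 3, 4, 4, 5, 6, 7, 7, 8, 8]), (2732, [0, 0, 3, 4, 5, 7, 7]), (2741, [1, 3, 4, 5, 5, 6, 6, 7, 8, 8]), (2844, [1, 1, 2, 4, 4, 8]), (2849, [0, 3, 3, 5, 7, 7, 8]), (2885, [0, 1, 4, 4, 5, 7, 7, 8, 8]), (2917, [1, 1, 2, 2, 3, 5, 6, 6, 7, 7, 8]), (2918, [0, 2, 4, 5, 5, 6, 7, 7]), (2932, [0, 1, 1, 2, 2, 4, 4, 6, 6, 7, 7, 8, 8]),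 (2969, [2, 2, 3, 3, 4, 4, 5, 5, 6, 6, 8]), (3035, [0, 2, 4, 5, 6, 6, 7, 8]), (3052, [0, 1, 1, 2, 2, 4, 4, 5, 6, 8]), (3089, [5, 6, 6, 7, 8, 8]), (3168, [0, 1, 1, 3, 5, 6, 7, 8]), (3210, [0, 0, 1, 1, 2, 3, 4, 5, 5, 6, 6, 8, 8]), (3238, [0, 0, 1, 1, 5, 7]), (3285, [0, 1, 2, 3, 5, 8]), (3322, [0, 0, 2, 2, 6, 8]), (3330, [1, 1, 3, 3, 4, 5, 5, 6, 6, 8, 8]), (3372, [0, 1, 1, 3, 5, 5, 7, 7]), (3416, [0, 0, 3, 4, 5, 5, 6, 6, 8, 8]), (3484, [2, 3, 4, 5, 6, 6, 7, 7, 8])])]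

theorem ident_ok : identOK CfsgLib.Spor.Fi22.ActH.act cert sw gw CfsgLib.Spor.Fi22Mult.levs = true :=
  identOK_of_identS _ (by decide +kernel)

theorem sub_ok : subChainOK CfsgLib.Spor.Fi22.ActH.act sw [] orbits = true :=
  subChainOK_of_subChainS _ (by decide +kernel)

theorem shape_ok : cert.shapeOK = true := by decide +kernel

theorem lin_ok : cert.linOK = true := Packed.linOK_of_linP cert (by decide +kernel)

theorem prod_ok : cert.p ^ cert.m ≤ (orbits.map fun e => e.2.length).prod := by decide +kernel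

end CfsgLib.Spor.Fi22Mult.P3
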