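import Cfsg.Agent.Lib.Spor.SchurCert.ActBridge
import Cfsg.Agent.Lib.Spor.Fi22.ActH.Data
import Cfsg.Agent.Lib.Spor.Fi22Mult.ChainData
import Cfsg.Agent.Lib.Spor.SchurCert.LinPacked
import Cfsg.Agent.Lib.Spor.SchurCert.StrictChecks

/-!
The certificate at the prime 5: a polycyclic sequence of a Sylow subgroup and conjugations killing the tails.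
-/

set_option autoImplicit false
set_option maxRecDepth 100000
set_option maxHeartbeats 0
set_option Elab.async false

namespace CfsgLib.Spor.Fi22Mult.P5

open CfsgLib.Spor.TC CfsgLib.Spor.ActCert CfsgLib.Spor.SchurCert

/-- The Sylow elements. -/
def sw : List (List ℕ) := [
    [8, 7, 3, 4, 5, 1, 2, 3, 4, 0, 1, 2, 3, 7, 8, 5, 2, 3, 4, 1, 2, 3, 7, 6, 5, 4, 3, 2, 1, 7, 8, 1, 2, 3, 7, 6, 5, 4, 3, 2, 1, 0, 1, 2, 3, 4, 5, 6, 7, 3, 2, 1, 8, 7, 8, 4, 3, 7, 5, 4, 3, 1, 2, 0, 1, 0, 1, 0, 2, 1, 3, 4, 5, 7, 3, 4, 3, 7, 5, 4, 3, 1, 2, 0, 1, 0, 1, 0, 2, 1, 3, 4, 5, 7, 3, 8, 7, 8, 3, 7, 4, 3, 1, 2, 0, 1, 0, 1, 0, 2, 1, 3, 4, 7, 3, 1, 2, 3, 7, 6, 5, 4, 3, 2, 1, 0, 1, 2, 3, 4, 5, 6,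 7, 3, 2, 1, 8, 7, 8, 4, 3, 7, 5, 4, 3, 1, 2, 0, 1, 0, 1, 0, 2, 1, 3, 4, 5, 7, 3, 4, 8, 1, 2, 3, 7, 5, 4, 3, 2, 1, 0, 1, 2, 3, 4, 5, 7, 3, 2, 1, 8, 7, 4, 2, 3, 1, 2, 0, 1, 0, 1, 0, 2, 1, 3, 2, 4, 7, 8, 2, 3, 4, 1, 2, 3, 7, 5, 4, 3, 2, 1, 0, 1, 2, 3, 4, 5, 7, 3, 2, 1, 4, 3, 2, 3, 4, 2, 3, 1, 2, 0, 1, 0, 1, 0, 2, 1, 3, 2, 4, 3, 4, 5, 3, 4, 2, 3, 1, 2, 0, 1, 0, 1, 0, 2, 1, 3, 2, 4, 3, 5, 4, 5, 4, 2, 3, 1, 2, 0, 1, 0, 1, 0, 2, 1, 3, 2, 4, 5, 3, 4, 2, 3, 7, 8, 1, 2, 3, 7, 4, 3, 2, 1, 0, 1, 2, 3, 4, 7, 3, 2, 1, 8, 7, 3, 2, 4, 3, 6, 5, 3, 4, 2, 3, 1, 2, 0, 1, 0, 1, 0, 2, 1, 3, 2, 4, 3, 5, 6, 8, 3, 7, 2, 3, 1, 2, 0, 1, 0, 1, 0, 2, 1, 3, 2, 7, 3, 8, 3, 4, 2, 3, 7, 8, 1, 2, 3, 7,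 4, 3, 2, 1, 0, 1, 2, 3, 4, 7, 3, 2, 1, 8, 7, 1, 2, 0, 1, 0, 1, 0, 2, 1, 3, 2, 4, 3, 6, 5, 3, 4, 2, 3, 1, 2, 0, 1, 0, 1, 0, 2, 1, 3, 2, 4, 3, 5, 6, 3, 7, 2, 3, 1, 2, 0, 1, 0, 1, 0, 2, 1, 3, 2, 7, 4, 2, 3, 7, 8, 1, 2, 3, 7, 4, 3, 2, 1, 0, 1, 2, 3, 4, 7, 3, 2, 1, 8, 7, 3, 2, 4, 3, 5, 3, 4, 2, 3, 1, 2, 0, 1, 0, 1, 0, 2, 1, 3, 2, 4, 3, 5, 3, 7, 2, 3, 1, 2, 0, 1, 0, 1, 0, 2, 1, 3, 2, 7, 3],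
    [4, 1, 2, 3, 7, 8, 5, 3, 4, 1, 2, 3, 7, 6, 5, 4, 7, 5, 4, 3, 2, 1, 0, 1, 2, 3, 4, 5, 7, 3, 2, 1, 4, 3, 1, 2, 0, 1, 0, 1, 0, 2, 1, 3, 4, 8, 4, 3, 7, 5, 4, 3, 1, 2, 0, 1, 0, 1, 0, 2, 1, 3, 4, 5, 7, 3, 4, 8, 7, 8, 3, 7, 4, 3, 1, 2, 0, 1, 0, 1, 0, 2, 1, 3, 4, 7, 3, 1, 2, 3, 7, 6, 5, 4, 3, 2, 1, 0, 1, 2, 3, 4, 5, 6, 7, 3, 2, 1, 8, 7, 4, 3, 1, 2, 0, 1, 0, 1, 0, 2, 1, 3, 4, 2, 3, 4, 1, 2, 3, 7, 5, 4, 3, 2, 1, 0, 1, 2, 3, 4, 5, 7, 3, 2, 1, 4, 3, 2, 8, 7, 6, 5, 4, 2, 3, 1, 2, 0, 1, 0, 1, 0, 2, 1, 3, 2, 4, 5, 6, 7, 8, 4, 5, 3, 4, 2, 3, 1, 2, 0, 1, 0, 1, 0, 2, 1, 3, 2, 4, 3, 5, 4, 7, 4, 2, 3, 1, 2, 0, 1, 0, 1, 0, 2, 1, 3, 2, 4, 7, 2, 3, 4, 1, 2, 3, 7, 5, 4, 3, 2, 1, 0, 1, 2, 3,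 4, 5, 7, 3, 2, 1, 4, 3, 2, 8, 7, 4, 2, 3, 1, 2, 0, 1, 0, 1, 0, 2, 1, 3, 2, 4, 7, 8, 3, 4, 2, 3, 1, 2, 0, 1, 0, 1, 0, 2, 1, 3, 2, 4, 3, 6, 5, 3, 4, 2, 3, 1, 2, 0, 1, 0, 1, 0, 2, 1, 3, 2, 4, 3, 5, 6, 3, 4, 2, 3, 7, 8, 1, 2, 3, 7, 4, 3, 2, 1, 0, 1, 2, 3, 4, 7, 3, 2, 1, 8, 7, 3, 2, 4, 3, 8, 3, 7, 2, 3, 1, 2, 0, 1, 0, 1, 0, 2, 1, 3, 2, 7, 3, 8, 5, 3, 4, 2, 3, 1, 2, 0, 1, 0, 1, 0, 2, 1, 3, 2, 4, 3, 5, 3, 4, 2, 3, 7, 8, 1, 2, 3, 7, 4, 3, 2, 1, 0, 1, 2, 3, 4, 7, 3, 2, 1, 8, 7, 3, 2, 4, 3, 6, 5, 3, 4, 2, 3, 1, 2, 0, 1, 0, 1, 0, 2, 1, 3, 2, 4, 3, 5, 6, 3, 7, 2, 3, 1, 2, 0, 1, 0, 1, 0, 2, 1, 3, 2, 7, 3, 8, 3, 7, 2, 3, 1, 2, 0, 1, 0, 1, 0, 2, 1, 3, 2, 7, 3, 8, 3, 4, 2, 3, 1, 2, 0,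 1, 0, 1, 0, 2, 1, 3, 2, 4, 3, 5, 3, 4, 2, 3, 1, 2, 0, 1, 0, 1, 0, 2, 1, 3, 2, 4, 3, 5]]

/-- The conjugating elements. -/
def gw : List (List ℕ) := [
    [3, 4, 5, 2, 3, 4, 1, 2, 3, 7, 8, 4, 5, 3, 4, 2, 3, 7, 6, 5, 4, 7, 5, 4, 3, 2, 1, 0, 1, 2, 3, 4, 5, 7, 3, 2, 1, 8, 4, 3, 7, 5, 4, 3, 1, 2, 0, 1, 0, 1, 0, 2, 1, 3, 4, 5, 7, 3, 4, 8, 1, 2, 3, 7, 5, 4, 3, 2, 1, 0, 1, 2, 3, 4, 5, 7, 3, 2, 1, 4, 3, 1, 2, 0, 1, 0, 1, 0, 2, 1, 3, 4, 7, 8, 1, 2, 3, 7, 6, 5, 4, 3, 2, 1, 0, 1, 2, 3, 4, 5, 6, 7, 3, 2, 1, 8, 7, 8, 3, 7, 5, 4, 3, 1, 2, 0, 1, 0, 1, 0, 2, 1, 3, 4, 5, 7, 3, 8, 4, 3, 1, 2, 0, 1, 0, 1, 0, 2, 1, 3, 4, 5, 4, 2, 3, 1, 2, 0, 1, 0, 1, 0, 2, 1, 3, 2, 4, 5, 4, 5, 3, 4, 2, 3, 1,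 2, 0, 1, 0, 1, 0, 2, 1, 3, 2, 4, 3, 5, 4, 7, 4, 2, 3, 1, 2, 0, 1, 0, 1, 0, 2, 1, 3, 2, 4, 7, 2, 3, 4, 1, 2, 3, 7, 5, 4, 3, 2, 1, 0, 1, 2, 3, 4, 5, 7, 3, 2, 1, 4, 3, 2, 8, 7, 6, 5, 4, 2, 3, 1, 2, 0, 1, 0, 1, 0, 2, 1, 3, 2, 4, 5, 6, 7, 8, 3, 4, 2, 3, 1, 2, 0, 1, 0, 1, 0, 2, 1, 3, 2, 4, 3, 7, 4, 2, 3, 1, 2, 0, 1, 0, 1, 0, 2, 1, 3, 2, 4, 7, 6, 5, 3, 4, 2, 3, 1, 2, 0, 1, 0, 1, 0, 2, 1, 3, 2, 4, 3, 5, 6, 3, 4, 2, 3, 7, 8, 1, 2, 3, 7, 4, 3, 2, 1, 0, 1, 2, 3, 4, 7, 3, 2, 1, 8, 7, 3, 2, 4, 3, 5, 3, 4, 2, 3, 1, 2, 0, 1, 0, 1, 0, 2, 1, 3, 2, 4, 3, 5, 3, 4, 2, 3, 1, 2, 0, 1, 0, 1, 0, 2, 1, 3, 2, 4, 3, 6, 5, 3, 4, 2, 3, 1, 2, 0, 1, 0, 1, 0, 2, 1, 3, 2, 4, 3, 5, 6, 3, 7, 2, 3, 1, 2,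 0, 1, 0, 1, 0, 2, 1, 3, 2, 7, 4, 2, 3, 7, 8, 1, 2, 3, 7, 4, 3, 2, 1, 0, 1, 2, 3, 4, 7, 3, 2, 1, 8, 7, 3, 2, 4, 3, 6, 5, 3, 4, 2, 3, 1, 2, 0, 1, 0, 1, 0, 2, 1, 3, 2, 4, 3, 5, 6, 8, 3, 7, 2, 3, 1, 2, 0, 1, 0, 1, 0, 2, 1, 3, 2, 7, 3, 8, 3, 4, 2, 3, 1, 2, 0, 1, 0, 1, 0, 2, 1, 3, 2, 4, 3],
    [6, 5, 4, 2, 3, 7, 8, 5, 4, 1, 2, 3, 7, 6, 5, 4, 3, 2, 1, 7, 8, 3, 7, 4, 3, 1, 2, 0, 1, 0, 1, 0, 2, 1, 3, 4, 7, 3, 1, 2, 3, 7, 6, 5, 4, 3, 2, 1, 0, 1, 2, 3, 4, 5, 6, 7, 3, 2, 1, 8, 7, 1, 2, 3, 7, 5, 4, 3, 2, 1, 0, 1, 2, 3, 4, 5, 7, 3, 2, 1, 8, 4, 3, 7, 5, 4, 3, 1, 2, 0, 1, 0, 1, 0, 2, 1, 3, 4, 5, 7, 3, 4, 3, 7, 5, 4, 3, 1, 2, 0, 1, 0, 1, 0, 2, 1, 3, 4, 5, 7, 3, 8, 7, 8, 3, 7, 4, 3, 1,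 2, 0, 1, 0, 1, 0, 2, 1, 3, 4, 7, 3, 1, 2, 3, 7, 6, 5, 4, 3, 2, 1, 0, 1, 2, 3, 4, 5, 6, 7, 3, 2, 1, 8, 7, 8, 3, 7, 5, 4, 3, 1, 2, 0, 1, 0, 1, 0, 2, 1, 3, 4, 5, 7, 3, 8, 4, 3, 1, 2, 0, 1, 0, 1, 0, 2, 1, 3, 4, 8, 7, 6, 5, 4, 2, 3, 1, 2, 0, 1, 0, 1, 0, 2, 1, 3, 2, 4, 5, 6, 7, 8, 4, 5, 3, 4, 2, 3, 1, 2, 0, 1, 0, 1, 0, 2, 1, 3, 2, 4, 3, 5, 4, 7, 4, 2, 3, 1, 2, 0, 1, 0, 1, 0, 2, 1, 3, 2, 4, 7, 2, 3, 4, 1, 2, 3, 7, 5, 4, 3, 2, 1, 0, 1, 2, 3, 4, 5, 7, 3, 2, 1, 4, 3, 2, 8, 7, 4, 2, 3, 1, 2, 0, 1, 0, 1, 0, 2, 1, 3, 2, 4, 7, 8, 3, 7, 2, 3, 1, 2, 0, 1, 0, 1, 0, 2, 1, 3, 2, 7, 4, 2, 3, 7, 8, 1, 2, 3, 7, 4, 3, 2, 1, 0, 1, 2, 3, 4, 7, 3, 2, 1, 8, 7, 3, 2, 4, 3, 6, 5, 3, 4, 2, 3, 1, 2,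 0, 1, 0, 1, 0, 2, 1, 3, 2, 4, 3, 5, 6, 3, 4, 2, 3, 1, 2, 0, 1, 0, 1, 0, 2, 1, 3, 2, 4, 3, 5, 3, 4, 2, 3, 1, 2, 0, 1, 0, 1, 0, 2, 1, 3, 2, 4, 3, 5, 3, 4, 2, 3, 7, 8, 1, 2, 3, 7, 4, 3, 2, 1, 0, 1, 2, 3, 4, 7, 3, 2, 1, 8, 7, 3, 2, 4, 3, 8, 3, 7, 2, 3, 1, 2, 0, 1, 0, 1, 0, 2, 1, 3, 2, 7, 3, 8, 5, 3, 4, 2, 3, 1, 2, 0, 1, 0, 1, 0, 2, 1, 3, 2, 4, 3, 5]]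

/-- The certificate. -/
def cert : SchurCert.Cert where
  p := 5
  m := 2
  N := 5
  rules := [
    ([0, 0, 0, 0, 0], []),
    ([1, 1, 1, 1, 1], []),
    ([1, 0], [0, 1])]
  maps := [
    [([0], [0, 0, 1]), ([1], [1])],
    [([0], [0, 0, 0, 0]), ([1], [0, 1])]]
  overlaps := []
  fuses := [
    ⟨0, [0, 0, 0, 0, 0], [], [(0, 0)], [], [(2, 2), (2, 3), (2, 5), (2, 4), (0, 0), (2, 1), (2, 0), (2, 3), (2, 2), (2, 1), (2, 4), (2, 3), (2, 2), (2, 6), (2, 5), (2, 4), (2, 3), (2, 7), (2, 6), (2, 5), (2, 4), (0, 0), (1, 0)], []⟩,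
    ⟨0, [1, 0], [0, 1], [(2, 0)], [], [(2, 0), (2, 1)], []⟩,
    ⟨1, [0, 0, 0, 0, 0], [], [(0, 0)], [], [(0, 0), (0, 0), (0, 0), (0, 0)], []⟩]
  adj := [
    [],
    []]
  base := []
  dense := [
    [4, 4],
    [0, 0, 4],
    [2]]
  tgt := [
    ([], [(2, 3)]),
    ([], [(0, 4), (2, 2)]),
    ([], [(1, 4)])]

/-- Orbits inside the subgroup. -/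
def orbits : List (ℕ × List (ℕ × List ℕ)) := [
    (0, [(0, []), (70, [0, 0, 0]), (182, [0, 0, 0, 1, 1]), (320, [0, 1, 1, 1, 1]), (367, [1, 1, 1]), (435, [1, 1]), (620, [0, 0, 1]), (778, [0, 0, 1, 1]), (866, [1]), (1258, [0, 0, 1, 1, 1]), (1409, [0, 0, 1, 1, 1, 1]), (1538, [0, 0, 0, 0, 1, 1, 1, 1]), (1710, [0, 1]), (1841, [0, 1, 1]), (1876, [0, 1, 1, 1]), (2303, [0, 0, 0, 1, 1, 1]), (2423, [0, 0, 0, 0, 1, 1]), (2526, [0, 0, 0, 1]), (2542, [1, 1, 1, 1]), (2675, [0, 0, 0, 0]), (2728, [0, 0, 0, 0, 1, 1, 1]), (2742, [0, 0]), (2917, [0, 0, 0, 0, 1]), (2962, [0]), (3030, [0, 0, 0, 1, 1, 1, 1])])]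

theorem ident_ok : identOK CfsgLib.Spor.Fi22.ActH.act cert sw gw CfsgLib.Spor.Fi22Mult.levs = true :=
  identOK_of_identS _ (by decide +kernel)

theorem sub_ok : subChainOK CfsgLib.Spor.Fi22.ActH.act sw [] orbits = true :=
  subChainOK_of_subChainS _ (by decide +kernel)

theorem shape_ok : cert.shapeOK = true := by decide +kernel

theorem lin_ok : cert.linOK = true := Packed.linOK_of_linP cert (by decide +kernel)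

theorem prod_ok : cert.p ^ cert.m ≤ (orbits.map fun e => e.2.length).prod := by decide +kernel

end CfsgLib.Spor.Fi22Mult.P5
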