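import Cfsg.Agent.Lib.Spor.Fi22Mult.P2
import Cfsg.Agent.Lib.Spor.Fi22Mult.P3
import Cfsg.Agent.Lib.Spor.Fi22Mult.P5
import Cfsg.Agent.Lib.Spor.Fi22Mult.Covers
import Cfsg.Agent.Lib.Spor.Fi22Mult.CheckChain
import Cfsg.Agent.Lib.Spor.SchurCert.TwoPrimes
import Cfsg.Agent.Lib.Spor.Mults.Stem
import Cfsg.Agent.Lib.Lie.Mult.Sylow

/-!
The Schur multiplier of Fi22 has order six: certificates at each prime, and two monomial covers.
-/

set_option autoImplicit false
set_option maxRecDepth 100000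

namespace CfsgLib.Spor.Fi22Mult

open Cfsg CfsgLib.Spor.TC CfsgLib.Spor.ActCert CfsgLib.Spor.SchurCert

local notation "P₉" => Pres CfsgLib.Spor.Fi22.ActH.act.k CfsgLib.Spor.Fi22.relsG

theorem factor_of {p a b : ℕ} (hp : p.Prime) (hb : ¬ p ∣ b) (e : (64561751654400 : ℕ) = p ^ a * b) :
    (64561751654400 : ℕ).factorization p = a := by
  have h0 : b ≠ 0 := by rintro rfl; simp at e
  rw [e, Nat.factorization_mul (pow_ne_zero _ hp.ne_zero) h0, Nat.factorization_pow, Finsupp.add_apply,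
    Finsupp.smul_apply, hp.factorization_self, Nat.factorization_eq_zero_of_not_dvd hb]
  simp

theorem card_pres : Nat.card P₉ = 64561751654400 := Fi22.card_act

theorem card_ker_dvd {Γ : Type} [Group Γ] [Finite Γ] (σ : Γ →* P₉) (hσ : Cfsg.IsStemExtension σ) :
    Nat.card σ.ker ∣ 2 * 3 := by
  have hE := exact
  haveI : Finite P₉ := Nat.finite_of_card_ne_zero (by rw [card_pres]; norm_num)
  have hne : Nat.card σ.ker ≠ 0 := Nat.card_pos.ne'
  haveI hp2 : Fact P2.cert.p.Prime := ⟨Nat.prime_two⟩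
  haveI hp3 : Fact P3.cert.p.Prime := ⟨Nat.prime_three⟩
  have hsyl : ∀ (C : SchurCert.Cert) (_ : Fact C.p.Prime),
      (∀ P : Subgroup Γ, P ≤ σ.ker → IsPGroup C.p P → Nat.card P ≤ C.p) →
        (Nat.card σ.ker).factorization C.p ≤ 1 := fun C hp hle => by
    obtain ⟨S⟩ : Nonempty (Sylow C.p σ.ker) := inferInstance
    have h := hle ((S : Subgroup σ.ker).map σ.ker.subtype) (Subgroup.map_subtype_le _) (S.isPGroup'.map _)
    rw [Subgroup.card_map_of_injective σ.ker.subtype_injective, S.card_eq_multiplicity] at h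
    exact (Nat.pow_le_pow_iff_right hp.out.one_lt).1 (h.trans (pow_one _).ge)
  have htwo : (Nat.card σ.ker).factorization 2 ≤ 1 := hsyl P2.cert hp2 fun P hP hPp => by
    obtain ⟨hswl, -, hrules, hmaps, -⟩ := ident_facts (h := Fi22.ActH.valid) hE P2.cert P2.sw P2.gw P2.ident_ok
    have hfac : (Nat.card P₉).factorization P2.cert.p = P2.cert.m := by
      rw [card_pres]
      exact factor_of (p := 2) (a := 17) (b := 492567075) Nat.prime_two (by norm_num) (by norm_num)
    exact pGroup_card_le P2.cert hσ (e := 2) rfl (by decide) _ _ hrules hmaps P2.shape_ok P2.lin_ok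
      (card_lower Fi22.ActH.valid inferInstance P2.cert P2.sw P2.orbits hswl P2.sub_ok P2.prod_ok)
      (index_coprime (h := Fi22.ActH.valid) hE P2.cert P2.sw P2.orbits hswl hrules hfac P2.sub_ok P2.prod_ok
        P2.shape_ok) P hP hPp
  have hthree : (Nat.card σ.ker).factorization 3 ≤ 1 := hsyl P3.cert hp3 fun P hP hPp => by
    obtain ⟨hswl, -, hrules, hmaps, -⟩ := ident_facts (h := Fi22.ActH.valid) hE P3.cert P3.sw P3.gw P3.ident_ok
    have hfac : (Nat.card P₉).factorization P3.cert.p = P3.cert.m := by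
      rw [card_pres]
      exact factor_of (p := 3) (a := 9) (b := 3280076800) Nat.prime_three (by norm_num) (by norm_num)
    exact pGroup_card_le P3.cert hσ (e := 2) rfl (by decide) _ _ hrules hmaps P3.shape_ok P3.lin_ok
      (card_lower Fi22.ActH.valid inferInstance P3.cert P3.sw P3.orbits hswl P3.sub_ok P3.prod_ok)
      (index_coprime (h := Fi22.ActH.valid) hE P3.cert P3.sw P3.orbits hswl hrules hfac P3.sub_ok P3.prod_ok
        P3.shape_ok) P hP hPp
  have hother : ∀ ℓ : ℕ, ℓ.Prime → ℓ ≠ 2 → ℓ ≠ 3 → ¬ ℓ ∣ Nat.card σ.ker := fun ℓ hℓ h2 h3 => by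
    haveI : Fact ℓ.Prime := ⟨hℓ⟩
    by_cases h5 : ℓ = 5
    · subst h5
      haveI : Fact P5.cert.p.Prime := ⟨Nat.prime_five⟩
      exact not_dvd_ker_act hE P5.cert P5.sw P5.gw P5.orbits rfl rfl
        (by rw [card_pres]; exact factor_of (p := 5) (a := 2) (b := 2582470066176) (by norm_num) (by norm_num) (by norm_num))
        P5.ident_ok P5.sub_ok P5.prod_ok P5.shape_ok P5.lin_ok σ hσ
    by_cases hd : ℓ ∣ Nat.card P₉
    · obtain ⟨g, hg⟩ := exists_prime_orderOf_dvd_card' ℓ hd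
      refine Lie.Mult.not_dvd_ker_of_cyclic hσ (Subgroup.zpowers g) fun hi => ?_
      have h2' : ℓ ^ 2 ∣ Nat.card P₉ := by
        rw [← (Subgroup.zpowers g).card_mul_index, Nat.card_zpowers, hg, pow_two]
        exact mul_dvd_mul_left ℓ hi
      rw [card_pres, show (64561751654400 : ℕ) = 2 ^ 17 * 3 ^ 9 * 5 ^ 2 * 1001 by norm_num] at h2'
      have hc : ∀ q a : ℕ, q.Prime → ℓ ≠ q → Nat.Coprime (ℓ ^ 2) (q ^ a) := fun q a hq hn =>
        Nat.Coprime.pow _ _ ((Nat.coprime_primes hℓ hq).2 hn)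
      have h4 : ℓ ^ 2 ∣ 1001 :=
        (((hc 2 17 Nat.prime_two h2).mul_right (hc 3 9 Nat.prime_three h3)).mul_right
          (hc 5 2 Nat.prime_five h5)).dvd_of_dvd_mul_left h2'
      have hsq : Squarefree 1001 := by
        rw [show (1001 : ℕ) = 7 * (11 * 13) by norm_num, Nat.squarefree_mul (by norm_num),
          Nat.squarefree_mul (by norm_num)]
        exact ⟨(by norm_num : Nat.Prime 7).squarefree, (by norm_num : Nat.Prime 11).squarefree,
          (by norm_num : Nat.Prime 13).squarefree⟩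
      exact hℓ.not_isUnit (hsq ℓ (by rwa [← pow_two]))
    · exact Lie.Mult.not_dvd_ker_of_cyclic hσ ⊥ (by rwa [Subgroup.index_bot])
  refine (Nat.factorization_le_iff_dvd hne (by norm_num)).1 fun ℓ => ?_
  by_cases hℓ : ℓ.Prime
  swap
  · rw [Nat.factorization_eq_zero_of_not_prime _ hℓ]; exact Nat.zero_le _
  by_cases h2 : ℓ = 2
  · subst h2
    exact htwo.trans ((Nat.Prime.dvd_iff_one_le_factorization hℓ (by norm_num)).1 (dvd_mul_right 2 3))
  by_cases h3 : ℓ = 3
  · subst h3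
    exact hthree.trans ((Nat.Prime.dvd_iff_one_le_factorization hℓ (by norm_num)).1 (dvd_mul_left 3 2))
  rw [Nat.factorization_eq_zero_of_not_dvd (hother ℓ hℓ h2 h3)]
  exact Nat.zero_le _

theorem multiplier_Fi22 : Cfsg.HasCyclicSchurMultiplier Cfsg.Spor.Fi22 6 := by
  obtain ⟨e, -⟩ := Fi22.exists_equiv_gen
  refine hasCyclic_two_primes Nat.prime_two Nat.prime_three (by decide) two_cover three_cover fun Γ _ _ σ hσ => ?_
  have hk : (e.symm.toMonoidHom.comp σ).ker = σ.ker :=
    MonoidHom.ker_comp_of_injective _ _ e.symm.injective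
  have := card_ker_dvd (e.symm.toMonoidHom.comp σ)
    ⟨e.symm.surjective.comp hσ.1, hk.le.trans hσ.2.1, hk.le.trans hσ.2.2⟩
  exact (dvd_of_eq (congrArg (fun H : Subgroup Γ => Nat.card H) hk).symm).trans this

end CfsgLib.Spor.Fi22Mult
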