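import Cfsg.Agent.Lib.Spor.Fi22Mult.P2Cert

/-!
A part of the certificate at the prime 2.
-/

set_option autoImplicit false
set_option maxRecDepth 100000
set_option maxHeartbeats 0
set_option Elab.async false

namespace CfsgLib.Spor.Fi22Mult.P2

open CfsgLib.Spor.TC CfsgLib.Spor.ActCert CfsgLib.Spor.SchurCert

theorem lin_rule0 : Packed.ruleP cert 0 20 = true := by decide +kernel

theorem lin_rule1 : Packed.ruleP cert 20 20 = true := by decide +kernel

theorem lin_rule2 : Packed.ruleP cert 40 20 = true := by decide +kernel

theorem lin_rule3 : Packed.ruleP cert 60 20 = true := by decide +kernel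

theorem lin_rule4 : Packed.ruleP cert 80 20 = true := by decide +kernel

theorem lin_rule5 : Packed.ruleP cert 100 20 = true := by decide +kernel

theorem lin_rule6 : Packed.ruleP cert 120 20 = true := by decide +kernel

theorem lin_rule7 : Packed.ruleP cert 140 20 = true := by decide +kernel

theorem lin_ov0 : Packed.ovP cert 0 20 = true := by decide +kernel

theorem lin_ov1 : Packed.ovP cert 20 20 = true := by decide +kernel

theorem lin_ov2 : Packed.ovP cert 40 20 = true := by decide +kernel

theorem lin_ov3 : Packed.ovP cert 60 20 = true := by decide +kernel

theorem lin_ov4 : Packed.ovP cert 80 20 = true := by decide +kernel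

theorem lin_ov5 : Packed.ovP cert 100 20 = true := by decide +kernel

theorem lin_ov6 : Packed.ovP cert 120 20 = true := by decide +kernel

theorem lin_fu0 : Packed.fuP cert 0 20 = true := by decide +kernel

theorem lin_fu1 : Packed.fuP cert 20 20 = true := by decide +kernel

theorem lin_fu2 : Packed.fuP cert 40 20 = true := by decide +kernel

theorem lin_rest : Packed.restP cert = true := by decide +kernel

end CfsgLib.Spor.Fi22Mult.P2
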