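import Cfsg.Agent.Lib.Spor.Fi22Mult.P2Cert

/-!
A part of the certificate at the prime 2.
-/

set_option autoImplicit false
set_option maxRecDepth 100000
set_option maxHeartbeats 0
set_option Elab.async false

namespace CfsgLib.Spor.Fi22Mult.P2

open CfsgLib.Spor.TC CfsgLib.Spor.ActCert CfsgLib.Spor.SchurCert

theorem entries0_0 : entriesS CfsgLib.Spor.Fi22.ActH.act sw [] 0 orb0_0 = true := by decide +kernel

theorem entries0_1 : entriesS CfsgLib.Spor.Fi22.ActH.act sw [] 0 orb0_1 = true := by decide +kernel

theorem entries0_2 : entriesS CfsgLib.Spor.Fi22.ActH.act sw [] 0 orb0_2 = true := by decide +kernel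

theorem entries0_3 : entriesS CfsgLib.Spor.Fi22.ActH.act sw [] 0 orb0_3 = true := by decide +kernel

theorem entries0_4 : entriesS CfsgLib.Spor.Fi22.ActH.act sw [] 0 orb0_4 = true := by decide +kernel

theorem entries0_5 : entriesS CfsgLib.Spor.Fi22.ActH.act sw [] 0 orb0_5 = true := by decide +kernel

theorem entries0_6 : entriesS CfsgLib.Spor.Fi22.ActH.act sw [] 0 orb0_6 = true := by decide +kernel

theorem entries0_7 : entriesS CfsgLib.Spor.Fi22.ActH.act sw [] 0 orb0_7 = true := by decide +kernel

theorem entries0_8 : entriesS CfsgLib.Spor.Fi22.ActH.act sw [] 0 orb0_8 = true := by decide +kernel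

theorem entries0_9 : entriesS CfsgLib.Spor.Fi22.ActH.act sw [] 0 orb0_9 = true := by decide +kernel

theorem entries0_10 : entriesS CfsgLib.Spor.Fi22.ActH.act sw [] 0 orb0_10 = true := by decide +kernel

theorem entries1_0 : entriesS CfsgLib.Spor.Fi22.ActH.act sw [0] 1 orb1_0 = true := by decide +kernel

theorem entries1_1 : entriesS CfsgLib.Spor.Fi22.ActH.act sw [0] 1 orb1_1 = true := by decide +kernel

theorem entries1_2 : entriesS CfsgLib.Spor.Fi22.ActH.act sw [0] 1 orb1_2 = true := by decide +kernel

theorem entries1_3 : entriesS CfsgLib.Spor.Fi22.ActH.act sw [0] 1 orb1_3 = true := by decide +kernel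

theorem entries1_4 : entriesS CfsgLib.Spor.Fi22.ActH.act sw [0] 1 orb1_4 = true := by decide +kernel

theorem entries1_5 : entriesS CfsgLib.Spor.Fi22.ActH.act sw [0] 1 orb1_5 = true := by decide +kernel

end CfsgLib.Spor.Fi22Mult.P2
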