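import Cfsg.Agent.Lib.Spor.Fi22Mult.P2Ident
import Cfsg.Agent.Lib.Spor.Fi22Mult.P2Orbits
import Cfsg.Agent.Lib.Spor.Fi22Mult.P2Lin

/-!
A part of the certificate at the prime 2.
-/

set_option autoImplicit false
set_option maxRecDepth 100000
set_option maxHeartbeats 0
set_option Elab.async false

namespace CfsgLib.Spor.Fi22Mult.P2

open CfsgLib.Spor.TC CfsgLib.Spor.ActCert CfsgLib.Spor.SchurCert

theorem ident_ok : identOK CfsgLib.Spor.Fi22.ActH.act cert sw gw CfsgLib.Spor.Fi22Mult.levs = true := by
  refine identOK_of_identS _ (identS_of_parts _ (k := 20) (nr := 8) (by decide +kernel) (by decide +kernel) ?_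
    (by decide +kernel) maps_ok)
  intro i hi
  interval_cases i
  · exact rules_ok0
  · exact rules_ok1
  · exact rules_ok2
  · exact rules_ok3
  · exact rules_ok4
  · exact rules_ok5
  · exact rules_ok6
  · exact rules_ok7

theorem sub_ok : subChainOK CfsgLib.Spor.Fi22.ActH.act sw [] orbits = true :=
  subChainOK_of_subChainS _ (subChainS_cons _ (by decide +kernel) (by decide +kernel) (entriesS_append _ (entriesS_append _ (entriesS_append _ (entriesS_append _ (entriesS_append _ (entriesS_append _ (entriesS_append _ (entriesS_append _ (entriesS_append _ (entriesS_append _ entries0_0 entries0_1) entries0_2) entries0_3) entries0_4) entries0_5) entries0_6) entries0_7) entries0_8) entries0_9) entries0_10) (subChainS_cons _ (by decide +kernel) (by decide +kernel) (entriesS_append _ (entriesS_append _ (entriesS_append _ (entriesS_append _ (entriesS_append _ entries1_0 entries1_1) entries1_2) entries1_3) entries1_4) entries1_5) rfl))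

theorem shape_ok : cert.shapeOK = true := by decide +kernel

theorem lin_ok : cert.linOK = true := by
  refine Packed.linOK_of_linP cert (Packed.linP_of_parts cert (k := 20) (no := 7) (nf := 3) (nr := 8)
    ?_ ?_ ?_ lin_rest (by decide +kernel) (by decide +kernel) (by decide +kernel) (by norm_num) (by decide +kernel))
  all_goals intro i hi
  all_goals interval_cases i
  · exact lin_ov0
  · exact lin_ov1
  · exact lin_ov2
  · exact lin_ov3
  · exact lin_ov4
  · exact lin_ov5
  · exact lin_ov6
  · exact lin_fu0
  · exact lin_fu1
  · exact lin_fu2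
  · exact lin_rule0
  · exact lin_rule1
  · exact lin_rule2
  · exact lin_rule3
  · exact lin_rule4
  · exact lin_rule5
  · exact lin_rule6
  · exact lin_rule7

theorem prod_ok : cert.p ^ cert.m ≤ (orbits.map fun e => e.2.length).prod := by decide +kernel

end CfsgLib.Spor.Fi22Mult.P2
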