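import Cfsg.Agent.Lib.Spor.SchurCert.ActBridge

/-!
A part of the certificate at the prime 2.
-/

set_option autoImplicit false
set_option maxRecDepth 100000
set_option maxHeartbeats 0
set_option Elab.async false

namespace CfsgLib.Spor.Fi22Mult.P2

open CfsgLib.Spor.TC CfsgLib.Spor.ActCert CfsgLib.Spor.SchurCert

/-- The Sylow elements. -/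
def sw : List (List ℕ) := [
    [3, 4, 2, 3, 7, 8, 7, 2, 3, 4, 1, 2, 3, 7, 6, 5, 4, 3, 2, 1, 4, 3, 1, 2, 0, 1, 0, 1, 0, 2, 1, 3, 4, 7, 8, 1, 2, 3, 7, 6, 5, 4, 3, 2, 1, 0, 1, 2, 3, 4, 5, 6, 7, 3, 2, 1, 8, 7, 8, 4, 3, 7, 5, 4, 3, 1, 2, 0, 1, 0, 1, 0, 2, 1, 3, 4, 5, 7, 3, 4, 8, 1, 2, 3, 7, 5, 4, 3, 2, 1, 0, 1, 2, 3, 4, 5, 7, 3, 2, 1, 8, 7, 4, 2, 3, 1, 2, 0, 1, 0, 1, 0, 2, 1, 3, 2, 4, 7, 8, 2, 3, 4, 1, 2, 3, 7, 5, 4, 3, 2, 1, 0, 1, 2, 3, 4, 5, 7, 3, 2, 1, 4, 3, 2, 8, 7, 6, 5, 4, 2, 3, 1, 2, 0, 1, 0, 1, 0, 2, 1, 3, 2, 4, 5, 6, 7, 8, 3, 4, 2, 3, 1, 2, 0, 1, 0, 1, 0, 2, 1, 3, 2, 4, 3, 7, 4, 2, 3, 1, 2, 0, 1, 0, 1, 0, 2, 1, 3, 2, 4, 7, 3, 4, 2, 3, 7, 8,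 1, 2, 3, 7, 4, 3, 2, 1, 0, 1, 2, 3, 4, 7, 3, 2, 1, 8, 7, 3, 2, 4, 3, 8, 3, 7, 2, 3, 1, 2, 0, 1, 0, 1, 0, 2, 1, 3, 2, 7, 3, 8, 5, 3, 4, 2, 3, 1, 2, 0, 1, 0, 1, 0, 2, 1, 3, 2, 4, 3, 5, 3, 4, 2, 3, 7, 8, 1, 2, 3, 7, 4, 3, 2, 1, 0, 1, 2, 3, 4, 7, 3, 2, 1, 8, 7, 1, 2, 0, 1, 0, 1, 0, 2, 1, 3, 2, 4, 3, 5, 3, 4, 2, 3, 1, 2, 0, 1, 0, 1, 0, 2, 1, 3, 2, 4, 3, 5, 3, 7, 2, 3, 1, 2, 0, 1, 0, 1, 0, 2, 1, 3, 2, 7, 4, 2, 3, 7, 8, 1, 2, 3, 7, 4, 3, 2, 1, 0, 1, 2, 3, 4, 7, 3, 2, 1, 8, 7, 3, 2, 4, 7, 2, 3, 1, 2, 0, 1, 0, 1, 0, 2, 1, 3, 2, 7, 3, 8, 3, 7, 2, 3, 1, 2, 0, 1, 0, 1, 0, 2, 1, 3, 2, 7, 3, 8, 5, 3, 4, 2, 3, 1, 2, 0, 1, 0, 1, 0, 2, 1, 3, 2, 4, 3, 5],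
    [8, 7, 4, 5, 2, 3, 4, 1, 2, 3, 7, 8, 7, 4, 5, 2, 3, 4, 1, 2, 3, 7, 6, 5, 4, 7, 5, 4, 3, 2, 1, 0, 1, 2, 3, 4, 5, 7, 3, 2, 1, 8, 3, 7, 5, 4, 3, 1, 2, 0, 1, 0, 1, 0, 2, 1, 3, 4, 5, 7, 3, 4, 3, 7, 5, 4, 3, 1, 2, 0, 1, 0, 1, 0, 2, 1, 3, 4, 5, 7, 3, 4, 3, 7, 5, 4, 3, 1, 2, 0, 1, 0, 1, 0, 2, 1, 3, 4, 5, 7, 3, 8, 7, 8, 1, 2, 3, 7, 6, 5, 4, 3, 2, 1, 0, 1, 2, 3, 4, 5, 6, 7, 3, 2, 1, 8, 7, 8, 4, 3, 7, 5, 4, 3, 1, 2, 0, 1, 0, 1, 0, 2, 1, 3, 4, 5, 7, 3, 4, 8, 1, 2, 3, 7, 5, 4, 3, 2, 1, 0, 1, 2, 3, 4, 5, 7, 3, 2, 1, 8, 7, 4, 2, 3, 1, 2, 0, 1, 0, 1, 0, 2, 1, 3, 2, 4, 6, 5, 4, 2, 3, 1, 2, 0, 1, 0, 1, 0, 2, 1, 3, 2, 4, 5, 6, 4, 2, 3, 1, 2, 0, 1, 0, 1, 0, 2,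 1, 3, 2, 4, 7, 8, 2, 3, 4, 1, 2, 3, 7, 5, 4, 3, 2, 1, 0, 1, 2, 3, 4, 5, 7, 3, 2, 1, 4, 3, 2, 6, 5, 3, 4, 2, 3, 1, 2, 0, 1, 0, 1, 0, 2, 1, 3, 2, 4, 3, 5, 6, 3, 4, 2, 3, 7, 8, 1, 2, 3, 7, 4, 3, 2, 1, 0, 1, 2, 3, 4, 7, 3, 2, 1, 8, 7, 3, 2, 4, 3, 5, 3, 4, 2, 3, 1, 2, 0, 1, 0, 1, 0, 2, 1, 3, 2, 4, 3, 5, 3, 7, 2, 3, 1, 2, 0, 1, 0, 1, 0, 2, 1, 3, 2, 7, 4, 2, 3, 7, 8, 1, 2, 3, 7, 4, 3, 2, 1, 0, 1, 2, 3, 4, 7, 3, 2, 1, 8, 7, 3, 2, 4, 3, 6, 5, 3, 4, 2, 3, 1, 2, 0, 1, 0, 1, 0, 2, 1, 3, 2, 4, 3, 5, 6, 3, 7, 2, 3, 1, 2, 0, 1, 0, 1, 0, 2, 1, 3, 2, 7, 3, 8, 3, 7, 2, 3, 1, 2, 0, 1, 0, 1, 0, 2, 1, 3, 2, 7, 3, 8, 5, 3, 4, 2, 3, 1, 2, 0, 1, 0, 1, 0, 2, 1, 3, 2, 4,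 3, 5, 3, 4, 2, 3, 1, 2, 0, 1, 0, 1, 0, 2, 1, 3, 2, 4, 7, 2, 3, 1, 2, 0, 1, 0, 1, 0, 2, 1, 3, 2, 7, 3],
    [2, 3, 7, 4, 5, 3, 4, 0, 1, 2, 3, 7, 8, 3, 4, 1, 2, 3, 7, 6, 5, 4, 3, 2, 1, 4, 3, 1, 2, 0, 1, 0, 1, 0, 2, 1, 3, 4, 7, 8, 1, 2, 3, 7, 6, 5, 4, 3, 2, 1, 0, 1, 2, 3, 4, 5, 6, 7, 3, 2, 1, 8, 7, 1, 2, 3, 7, 5, 4, 3, 2, 1, 0, 1, 2, 3, 4, 5, 7, 3, 2, 1, 8, 4, 3, 7, 5, 4, 3, 1, 2, 0, 1, 0, 1, 0, 2, 1, 3, 4, 5, 7, 3, 4, 3, 7, 5, 4, 3, 1, 2, 0, 1, 0, 1, 0, 2, 1, 3, 4, 5, 7, 3, 8, 7, 8, 3, 7, 4, 3, 1, 2, 0, 1, 0, 1, 0, 2, 1, 3, 4, 7, 3, 8, 7, 4, 3, 1, 2, 0, 1, 0, 1, 0, 2, 1, 3, 4, 7, 4, 2, 3, 1, 2, 0, 1, 0, 1, 0, 2, 1, 3, 2, 4, 7, 3, 4, 2, 3, 1, 2, 0,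 1, 0, 1, 0, 2, 1, 3, 2, 4, 3, 8, 7, 4, 2, 3, 1, 2, 0, 1, 0, 1, 0, 2, 1, 3, 2, 4, 6, 5, 4, 2, 3, 1, 2, 0, 1, 0, 1, 0, 2, 1, 3, 2, 4, 5, 6, 4, 2, 3, 1, 2, 0, 1, 0, 1, 0, 2, 1, 3, 2, 4, 7, 8, 2, 3, 4, 1, 2, 3, 7, 5, 4, 3, 2, 1, 0, 1, 2, 3, 4, 5, 7, 3, 2, 1, 4, 3, 2, 8, 7, 4, 2, 3, 1, 2, 0, 1, 0, 1, 0, 2, 1, 3, 2, 4, 7, 8, 3, 4, 2, 3, 7, 8, 1, 2, 3, 7, 4, 3, 2, 1, 0, 1, 2, 3, 4, 7, 3, 2, 1, 8, 7, 3, 2, 4, 3, 6, 5, 3, 4, 2, 3, 1, 2, 0, 1, 0, 1, 0, 2, 1, 3, 2, 4, 3, 5, 6, 8, 3, 7, 2, 3, 1, 2, 0, 1, 0, 1, 0, 2, 1, 3, 2, 7, 3, 8, 3, 4, 2, 3, 1, 2, 0, 1, 0, 1, 0, 2, 1, 3, 2, 4, 3, 5, 3, 4, 2, 3, 1, 2, 0, 1, 0, 1, 0, 2, 1, 3, 2, 4, 3, 5, 3, 4, 2, 3, 7, 8,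 1, 2, 3, 7, 4, 3, 2, 1, 0, 1, 2, 3, 4, 7, 3, 2, 1, 8, 7, 3, 2, 4, 3, 8, 3, 7, 2, 3, 1, 2, 0, 1, 0, 1, 0, 2, 1, 3, 2, 7, 3, 8, 3, 4, 2, 3, 1, 2, 0, 1, 0, 1, 0, 2, 1, 3, 2, 4, 3],
    [4, 1, 2, 3, 7, 8, 7, 3, 4, 2, 3, 7, 6, 5, 4, 7, 5, 4, 3, 2, 1, 0, 1, 2, 3, 4, 5, 7, 3, 2, 1, 8, 3, 7, 5, 4, 3, 1, 2, 0, 1, 0, 1, 0, 2, 1, 3, 4, 5, 7, 3, 4, 3, 7, 5, 4, 3, 1, 2, 0, 1, 0, 1, 0, 2, 1, 3, 4, 5, 7, 3, 4, 8, 1, 2, 3, 7, 5, 4, 3, 2, 1, 0, 1, 2, 3, 4, 5, 7, 3, 2, 1, 7, 8, 3, 7, 4, 3, 1, 2, 0, 1, 0, 1, 0, 2, 1, 3, 4, 7, 3, 1, 2, 3, 7, 6, 5, 4, 3, 2, 1, 0, 1, 2, 3, 4, 5, 6, 7, 3, 2, 1, 8, 7, 1, 2, 3, 7, 5, 4, 3, 2, 1, 0, 1, 2, 3, 4, 5, 7, 3, 2, 1, 8, 4, 3, 7,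 5, 4, 3, 1, 2, 0, 1, 0, 1, 0, 2, 1, 3, 4, 5, 7, 3, 4, 8, 5, 4, 2, 3, 1, 2, 0, 1, 0, 1, 0, 2, 1, 3, 2, 4, 5, 4, 5, 3, 4, 2, 3, 1, 2, 0, 1, 0, 1, 0, 2, 1, 3, 2, 4, 3, 5, 4, 8, 7, 4, 2, 3, 1, 2, 0, 1, 0, 1, 0, 2, 1, 3, 2, 4, 7, 8, 2, 3, 4, 1, 2, 3, 7, 5, 4, 3, 2, 1, 0, 1, 2, 3, 4, 5, 7, 3, 2, 1, 4, 3, 2, 4, 5, 3, 4, 2, 3, 1, 2, 0, 1, 0, 1, 0, 2, 1, 3, 2, 4, 3, 5, 4, 5, 4, 2, 3, 1, 2, 0, 1, 0, 1, 0, 2, 1, 3, 2, 4, 5, 6, 5, 3, 4, 2, 3, 1, 2, 0, 1, 0, 1, 0, 2, 1, 3, 2, 4, 3, 5, 6, 3, 7, 2, 3, 1, 2, 0, 1, 0, 1, 0, 2, 1, 3, 2, 7, 4, 2, 3, 7, 8, 1, 2, 3, 7, 4, 3, 2, 1, 0, 1, 2, 3, 4, 7, 3, 2, 1, 8, 7, 1, 2, 0, 1, 0, 1, 0, 2, 1, 3, 2, 4, 3, 6, 5, 3, 4, 2,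 3, 1, 2, 0, 1, 0, 1, 0, 2, 1, 3, 2, 4, 3, 5, 6, 8, 3, 7, 2, 3, 1, 2, 0, 1, 0, 1, 0, 2, 1, 3, 2, 7, 3, 8, 3, 4, 2, 3, 7, 8, 1, 2, 3, 7, 4, 3, 2, 1, 0, 1, 2, 3, 4, 7, 3, 2, 1, 8, 7, 3, 2, 4, 3, 8, 3, 7, 2, 3, 1, 2, 0, 1, 0, 1, 0, 2, 1, 3, 2, 7, 3, 8, 5, 3, 4, 2, 3, 1, 2, 0, 1, 0, 1, 0, 2, 1, 3, 2, 4, 3, 5, 3, 4, 2, 3, 1, 2, 0, 1, 0, 1, 0, 2, 1, 3, 2, 4, 7, 2, 3, 1, 2, 0, 1, 0, 1, 0, 2, 1, 3, 2, 7, 3],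
    [1, 2, 3, 7, 4, 5, 3, 4, 2, 3, 7, 8, 1, 2, 3, 7, 6, 5, 4, 7, 5, 4, 3, 2, 1, 0, 1, 2, 3, 4, 5, 7, 3, 2, 1, 8, 4, 3, 7, 5, 4, 3, 1, 2, 0, 1, 0, 1, 0, 2, 1, 3, 4, 5, 7, 3, 4, 8, 7, 8, 1, 2, 3, 7, 6, 5, 4, 3, 2, 1, 0, 1, 2, 3, 4, 5, 6, 7, 3, 2, 1, 8, 7, 1, 2, 3, 7, 5, 4, 3, 2, 1, 0, 1, 2, 3, 4, 5, 7, 3, 2, 1, 8, 4, 3, 7, 5, 4, 3, 1, 2, 0, 1, 0, 1, 0, 2, 1, 3, 4, 5, 7, 3, 4, 3, 7, 5, 4, 3, 1, 2, 0, 1, 0, 1, 0, 2, 1, 3, 4, 5, 7, 3, 8, 7, 8, 3, 7, 4, 3, 1, 2, 0, 1, 0, 1, 0, 2, 1, 3, 4, 7, 3, 8, 7, 4, 3, 1, 2, 0, 1, 0, 1, 0, 2, 1, 3, 4, 8, 7, 4, 2, 3, 1, 2, 0, 1, 0, 1, 0, 2, 1, 3, 2, 4, 7, 8, 2, 3, 4, 1, 2, 3, 7, 5, 4, 3, 2, 1, 0, 1, 2, 3, 4, 5, 7,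 3, 2, 1, 4, 3, 2, 3, 4, 2, 3, 1, 2, 0, 1, 0, 1, 0, 2, 1, 3, 2, 4, 3, 8, 7, 4, 2, 3, 1, 2, 0, 1, 0, 1, 0, 2, 1, 3, 2, 4, 7, 8, 5, 3, 4, 2, 3, 1, 2, 0, 1, 0, 1, 0, 2, 1, 3, 2, 4, 3, 5, 3, 4, 2, 3, 7, 8, 1, 2, 3, 7, 4, 3, 2, 1, 0, 1, 2, 3, 4, 7, 3, 2, 1, 8, 7, 3, 2, 4, 3, 6, 5, 3, 4, 2, 3, 1, 2, 0, 1, 0, 1, 0, 2, 1, 3, 2, 4, 3, 5, 6, 3, 7, 2, 3, 1, 2, 0, 1, 0, 1, 0, 2, 1, 3, 2, 7, 4, 2, 3, 7, 8, 1, 2, 3, 7, 4, 3, 2, 1, 0, 1, 2, 3, 4, 7, 3, 2, 1, 8, 7, 3, 2, 4, 3, 8, 3, 7, 2, 3, 1, 2, 0, 1, 0, 1, 0, 2, 1, 3, 2, 7, 3, 8, 5, 3, 4, 2, 3, 1, 2, 0, 1, 0, 1, 0, 2, 1, 3, 2, 4, 3, 5, 3, 7, 2, 3, 1, 2, 0, 1, 0, 1, 0, 2, 1, 3, 2, 7, 3],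
    [8, 4, 3, 7, 4, 5, 2, 3, 4, 1, 2, 3, 7, 8, 4, 5, 3, 4, 1, 2, 3, 7, 6, 5, 4, 7, 5, 4, 3, 2, 1, 0, 1, 2, 3, 4, 5, 7, 3, 2, 1, 8, 3, 7, 5, 4, 3, 1, 2, 0, 1, 0, 1, 0, 2, 1, 3, 4, 5, 7, 3, 4, 3, 7, 5, 4, 3, 1, 2, 0, 1, 0, 1, 0, 2, 1, 3, 4, 5, 7, 3, 4, 8, 1, 2, 3, 7, 5, 4, 3, 2, 1, 0, 1, 2, 3, 4, 5, 7, 3, 2, 1, 7, 8, 3, 7, 4, 3, 1, 2, 0, 1, 0, 1, 0, 2, 1, 3, 4, 7, 3, 1, 2, 3, 7, 6, 5, 4, 3, 2, 1, 0, 1, 2, 3, 4, 5, 6, 7, 3, 2, 1, 8, 7, 8, 4, 3, 7, 5, 4, 3, 1, 2, 0, 1, 0, 1, 0, 2, 1, 3, 4, 5, 7, 3, 4, 8, 2, 3, 4, 1, 2, 3, 7, 5, 4, 3, 2, 1, 0, 1, 2, 3, 4, 5, 7, 3, 2, 1, 4, 3, 2, 8, 7, 6, 5, 4, 2, 3, 1, 2, 0, 1, 0, 1, 0, 2, 1, 3, 2, 4, 5, 6, 7, 8, 5,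 4, 2, 3, 1, 2, 0, 1, 0, 1, 0, 2, 1, 3, 2, 4, 5, 4, 5, 3, 4, 2, 3, 1, 2, 0, 1, 0, 1, 0, 2, 1, 3, 2, 4, 3, 5, 4, 7, 4, 2, 3, 1, 2, 0, 1, 0, 1, 0, 2, 1, 3, 2, 4, 7, 2, 3, 4, 1, 2, 3, 7, 5, 4, 3, 2, 1, 0, 1, 2, 3, 4, 5, 7, 3, 2, 1, 4, 3, 2, 8, 7, 6, 5, 4, 2, 3, 1, 2, 0, 1, 0, 1, 0, 2, 1, 3, 2, 4, 5, 6, 7, 8, 4, 5, 3, 4, 2, 3, 1, 2, 0, 1, 0, 1, 0, 2, 1, 3, 2, 4, 3, 5, 4, 5, 4, 2, 3, 1, 2, 0, 1, 0, 1, 0, 2, 1, 3, 2, 4, 5, 6, 5, 3, 4, 2, 3, 1, 2, 0, 1, 0, 1, 0, 2, 1, 3, 2, 4, 3, 5, 6, 3, 7, 2, 3, 1, 2, 0, 1, 0, 1, 0, 2, 1, 3, 2, 7, 4, 2, 3, 7, 8, 1, 2, 3, 7, 4, 3, 2, 1, 0, 1, 2, 3, 4, 7, 3, 2, 1, 8, 7, 3, 2, 4, 3, 5, 3, 4, 2, 3, 1, 2, 0, 1, 0, 1, 0, 2,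 1, 3, 2, 4, 3, 5, 3, 4, 2, 3, 1, 2, 0, 1, 0, 1, 0, 2, 1, 3, 2, 4, 3, 6, 5, 3, 4, 2, 3, 1, 2, 0, 1, 0, 1, 0, 2, 1, 3, 2, 4, 3, 5, 6, 3, 7, 2, 3, 1, 2, 0, 1, 0, 1, 0, 2, 1, 3, 2, 7, 4, 2, 3, 7, 8, 1, 2, 3, 7, 4, 3, 2, 1, 0, 1, 2, 3, 4, 7, 3, 2, 1, 8, 7, 3, 2, 4, 3, 6, 5, 3, 4, 2, 3, 1, 2, 0, 1, 0, 1, 0, 2, 1, 3, 2, 4, 3, 5, 6, 8, 3, 7, 2, 3, 1, 2, 0, 1, 0, 1, 0, 2, 1, 3, 2, 7, 3, 8, 3, 4, 2, 3, 1, 2, 0, 1, 0, 1, 0, 2, 1, 3, 2, 4, 3, 5, 3, 4, 2, 3, 1, 2, 0, 1, 0, 1, 0, 2, 1, 3, 2, 4, 3, 5, 3, 7, 2, 3, 1, 2, 0, 1, 0, 1, 0, 2, 1, 3, 2, 7, 3],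
    [3, 7, 5, 1, 2, 3, 4, 0, 1, 2, 3, 7, 8, 4, 5, 2, 3, 4, 1, 2, 3, 7, 6, 5, 4, 3, 2, 1, 4, 3, 1, 2, 0, 1, 0, 1, 0, 2, 1, 3, 4, 8, 4, 3, 7, 5, 4, 3, 1, 2, 0, 1, 0, 1, 0, 2, 1, 3, 4, 5, 7, 3, 4, 8, 1, 2, 3, 7, 5, 4, 3, 2, 1, 0, 1, 2, 3, 4, 5, 7, 3, 2, 1, 7, 8, 3, 7, 4, 3, 1, 2, 0, 1, 0, 1, 0, 2, 1, 3, 4, 7, 3, 1, 2, 3, 7, 6, 5, 4, 3, 2, 1, 0, 1, 2, 3, 4, 5, 6, 7, 3, 2, 1, 8, 7, 8, 4, 3, 7, 5, 4, 3, 1, 2, 0, 1, 0, 1, 0, 2, 1, 3, 4, 5, 7, 3, 4, 8, 4, 5, 3, 4, 2, 3, 1, 2, 0, 1, 0, 1, 0, 2, 1, 3, 2, 4, 3, 5, 4, 7, 4, 2, 3, 1, 2, 0, 1, 0, 1, 0, 2, 1, 3, 2, 4, 7, 2, 3, 4, 1, 2, 3, 7, 5, 4, 3, 2, 1, 0, 1, 2, 3, 4, 5, 7, 3, 2, 1, 4, 3, 2, 8, 7, 6, 5, 4,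 2, 3, 1, 2, 0, 1, 0, 1, 0, 2, 1, 3, 2, 4, 5, 6, 7, 8, 4, 5, 3, 4, 2, 3, 1, 2, 0, 1, 0, 1, 0, 2, 1, 3, 2, 4, 3, 5, 4, 7, 4, 2, 3, 1, 2, 0, 1, 0, 1, 0, 2, 1, 3, 2, 4, 7, 8, 3, 7, 2, 3, 1, 2, 0, 1, 0, 1, 0, 2, 1, 3, 2, 7, 3, 8, 5, 3, 4, 2, 3, 1, 2, 0, 1, 0, 1, 0, 2, 1, 3, 2, 4, 3, 5, 3, 4, 2, 3, 7, 8, 1, 2, 3, 7, 4, 3, 2, 1, 0, 1, 2, 3, 4, 7, 3, 2, 1, 8, 7, 3, 2, 4, 3, 5, 3, 4, 2, 3, 1, 2, 0, 1, 0, 1, 0, 2, 1, 3, 2, 4, 3, 5, 3, 4, 2, 3, 1, 2, 0, 1, 0, 1, 0, 2, 1, 3, 2, 4, 3, 6, 5, 3, 4, 2, 3, 1, 2, 0, 1, 0, 1, 0, 2, 1, 3, 2, 4, 3, 5, 6, 3, 7, 2, 3, 1, 2, 0, 1, 0, 1, 0, 2, 1, 3, 2, 7, 4, 2, 3, 7, 8, 1, 2, 3, 7, 4, 3, 2, 1, 0, 1, 2, 3, 4, 7, 3, 2, 1,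 8, 7, 3, 2, 4, 7, 2, 3, 1, 2, 0, 1, 0, 1, 0, 2, 1, 3, 2, 7, 3, 8, 3, 7, 2, 3, 1, 2, 0, 1, 0, 1, 0, 2, 1, 3, 2, 7, 3, 8],
    [8, 7, 6, 5, 2, 3, 4, 0, 1, 2, 3, 7, 8, 5, 2, 3, 4, 1, 2, 3, 7, 6, 5, 4, 3, 2, 1, 7, 8, 1, 2, 3, 7, 6, 5, 4, 3, 2, 1, 0, 1, 2, 3, 4, 5, 6, 7, 3, 2, 1, 8, 7, 8, 3, 7, 5, 4, 3, 1, 2, 0, 1, 0, 1, 0, 2, 1, 3, 4, 5, 7, 3, 8, 4, 3, 1, 2, 0, 1, 0, 1, 0, 2, 1, 3, 4, 7, 8, 1, 2, 3, 7, 6, 5, 4, 3, 2, 1, 0, 1, 2, 3, 4, 5, 6, 7, 3, 2, 1, 8, 7, 8, 4, 3, 7, 5, 4, 3, 1, 2, 0, 1, 0, 1, 0, 2, 1, 3, 4, 5, 7, 3, 4, 8, 2, 3, 4, 1, 2, 3, 7, 5, 4, 3, 2, 1, 0, 1, 2, 3, 4, 5, 7, 3, 2, 1, 4, 3, 2, 8, 7, 4, 2, 3, 1, 2, 0, 1, 0, 1, 0, 2, 1, 3, 2, 4,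 6, 5, 4, 2, 3, 1, 2, 0, 1, 0, 1, 0, 2, 1, 3, 2, 4, 5, 6, 7, 8, 4, 5, 3, 4, 2, 3, 1, 2, 0, 1, 0, 1, 0, 2, 1, 3, 2, 4, 3, 5, 4, 7, 4, 2, 3, 1, 2, 0, 1, 0, 1, 0, 2, 1, 3, 2, 4, 7, 2, 3, 4, 1, 2, 3, 7, 5, 4, 3, 2, 1, 0, 1, 2, 3, 4, 5, 7, 3, 2, 1, 4, 3, 2, 8, 7, 6, 5, 4, 2, 3, 1, 2, 0, 1, 0, 1, 0, 2, 1, 3, 2, 4, 5, 6, 7, 8, 5, 3, 4, 2, 3, 1, 2, 0, 1, 0, 1, 0, 2, 1, 3, 2, 4, 3, 5, 3, 7, 2, 3, 1, 2, 0, 1, 0, 1, 0, 2, 1, 3, 2, 7, 4, 2, 3, 7, 8, 1, 2, 3, 7, 4, 3, 2, 1, 0, 1, 2, 3, 4, 7, 3, 2, 1, 8, 7, 1, 2, 0, 1, 0, 1, 0, 2, 1, 3, 2, 4, 3, 6, 5, 3, 4, 2, 3, 1, 2, 0, 1, 0, 1, 0, 2, 1, 3, 2, 4, 3, 5, 6, 8, 3, 7, 2, 3, 1, 2, 0, 1, 0, 1, 0, 2, 1, 3, 2, 7, 3,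 8, 3, 4, 2, 3, 7, 8, 1, 2, 3, 7, 4, 3, 2, 1, 0, 1, 2, 3, 4, 7, 3, 2, 1, 8, 7, 3, 2, 4, 3, 5, 3, 4, 2, 3, 1, 2, 0, 1, 0, 1, 0, 2, 1, 3, 2, 4, 3, 5, 3, 7, 2, 3, 1, 2, 0, 1, 0, 1, 0, 2, 1, 3, 2, 7, 3],
    [3, 7, 6, 5, 4, 3, 2, 0, 1, 8, 3, 7, 5, 4, 3, 1, 2, 0, 1, 0, 1, 0, 2, 1, 3, 4, 5, 7, 3, 8, 7, 8, 3, 7, 4, 3, 1, 2, 0, 1, 0, 1, 0, 2, 1, 3, 4, 7, 3, 8, 7, 4, 3, 1, 2, 0, 1, 0, 1, 0, 2, 1, 3, 4, 7, 8, 1, 2, 3, 7, 6, 5, 4, 3, 2, 1, 0, 1, 2, 3, 4, 5, 6, 7, 3, 2, 1, 8, 7, 1, 2, 3, 7, 5, 4, 3, 2, 1, 0, 1, 2, 3, 4, 5, 7, 3, 2, 1, 8, 4, 3, 7, 5, 4, 3, 1, 2, 0, 1, 0, 1, 0, 2, 1, 3, 4, 5, 7, 3, 4, 8, 1, 2, 3, 7, 5, 4, 3, 2, 1, 0, 1, 2, 3, 4, 5, 7, 3, 2, 1,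 8, 7, 6, 5, 4, 2, 3, 1, 2, 0, 1, 0, 1, 0, 2, 1, 3, 2, 4, 5, 6, 7, 8, 7, 4, 2, 3, 1, 2, 0, 1, 0, 1, 0, 2, 1, 3, 2, 4, 7, 8, 7, 4, 2, 3, 1, 2, 0, 1, 0, 1, 0, 2, 1, 3, 2, 4, 7, 8, 2, 3, 4, 1, 2, 3, 7, 5, 4, 3, 2, 1, 0, 1, 2, 3, 4, 5, 7, 3, 2, 1, 4, 3, 2, 5, 4, 2, 3, 1, 2, 0, 1, 0, 1, 0, 2, 1, 3, 2, 4, 3, 4, 2, 3, 1, 2, 0, 1, 0, 1, 0, 2, 1, 3, 2, 4, 3, 5, 3, 4, 2, 3, 7, 8, 1, 2, 3, 7, 4, 3, 2, 1, 0, 1, 2, 3, 4, 7, 3, 2, 1, 8, 7, 3, 2, 4, 3, 5, 3, 4, 2, 3, 1, 2, 0, 1, 0, 1, 0, 2, 1, 3, 2, 4, 3, 5, 3, 4, 2, 3, 1, 2, 0, 1, 0, 1, 0, 2, 1, 3, 2, 4, 3, 6, 5, 3, 4, 2, 3, 1, 2, 0, 1, 0, 1, 0, 2, 1, 3, 2, 4, 3, 5, 6, 8, 3, 7, 2, 3, 1, 2, 0, 1, 0, 1, 0, 2, 1,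 3, 2, 7, 3, 8, 3, 4, 2, 3, 7, 8, 1, 2, 3, 7, 4, 3, 2, 1, 0, 1, 2, 3, 4, 7, 3, 2, 1, 8, 7, 3, 2, 4, 7, 2, 3, 1, 2, 0, 1, 0, 1, 0, 2, 1, 3, 2, 7, 3, 8, 3, 7, 2, 3, 1, 2, 0, 1, 0, 1, 0, 2, 1, 3, 2, 7, 3, 8, 5, 3, 4, 2, 3, 1, 2, 0, 1, 0, 1, 0, 2, 1, 3, 2, 4, 3, 5, 3, 7, 2, 3, 1, 2, 0, 1, 0, 1, 0, 2, 1, 3, 2, 7, 3],
    [7, 8, 5, 4, 3, 7, 6, 5, 4, 3, 2, 0, 1, 7, 8, 1, 2, 3, 7, 6, 5, 4, 3, 2, 1, 0, 1, 2, 3, 4, 5, 6, 7, 3, 2, 1, 8, 7, 8, 4, 3, 7, 5, 4, 3, 1, 2, 0, 1, 0, 1, 0, 2, 1, 3, 4, 5, 7, 3, 4, 8, 7, 8, 3, 7, 4, 3, 1, 2, 0, 1, 0, 1, 0, 2, 1, 3, 4, 7, 3, 1, 2, 3, 7, 6, 5, 4, 3, 2, 1, 0, 1, 2, 3, 4, 5, 6, 7, 3, 2, 1, 8, 7, 8, 3, 7, 5, 4, 3, 1, 2, 0,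 1, 0, 1, 0, 2, 1, 3, 4, 5, 7, 3, 4, 3, 7, 5, 4, 3, 1, 2, 0, 1, 0, 1, 0, 2, 1, 3, 4, 5, 7, 3, 4, 8, 1, 2, 3, 7, 5, 4, 3, 2, 1, 0, 1, 2, 3, 4, 5, 7, 3, 2, 1, 2, 3, 4, 1, 2, 3, 7, 5, 4, 3, 2, 1, 0, 1, 2, 3, 4, 5, 7, 3, 2, 1, 4, 3, 2, 7, 4, 2, 3, 1, 2, 0, 1, 0, 1, 0, 2, 1, 3, 2, 4, 7, 8, 7, 4, 2, 3, 1, 2, 0, 1, 0, 1, 0, 2, 1, 3, 2, 4, 7, 8, 2, 3, 4, 1, 2, 3, 7, 5, 4, 3, 2, 1, 0, 1, 2, 3, 4, 5, 7, 3, 2, 1, 4, 3, 2, 8, 7, 6, 5, 4, 2, 3, 1, 2, 0, 1, 0, 1, 0, 2, 1, 3, 2, 4, 5, 6, 7, 8, 5, 4, 2, 3, 1, 2, 0, 1, 0, 1, 0, 2, 1, 3, 2, 4, 5, 3, 4, 2, 3, 7, 8, 1, 2, 3, 7, 4, 3, 2, 1, 0, 1, 2, 3, 4, 7, 3, 2, 1, 8, 7, 3, 2, 4, 3, 8, 3, 7, 2, 3, 1, 2, 0, 1, 0, 1,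 0, 2, 1, 3, 2, 7, 3, 8, 5, 3, 4, 2, 3, 1, 2, 0, 1, 0, 1, 0, 2, 1, 3, 2, 4, 3, 5, 3, 4, 2, 3, 7, 8, 1, 2, 3, 7, 4, 3, 2, 1, 0, 1, 2, 3, 4, 7, 3, 2, 1, 8, 7, 3, 2, 4, 3, 6, 5, 3, 4, 2, 3, 1, 2, 0, 1, 0, 1, 0, 2, 1, 3, 2, 4, 3, 5, 6, 3, 7, 2, 3, 1, 2, 0, 1, 0, 1, 0, 2, 1, 3, 2, 7, 4, 2, 3, 7, 8, 1, 2, 3, 7, 4, 3, 2, 1, 0, 1, 2, 3, 4, 7, 3, 2, 1, 8, 7, 1, 2, 0, 1, 0, 1, 0, 2, 1, 3, 2, 4, 3],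
    [2, 3, 7, 4, 5, 3, 4, 0, 1, 2, 3, 7, 8, 4, 5, 3, 4, 1, 2, 3, 7, 6, 5, 4, 3, 2, 1, 7, 8, 3, 7, 4, 3, 1, 2, 0, 1, 0, 1, 0, 2, 1, 3, 4, 7, 3, 8, 7, 4, 3, 1, 2, 0, 1, 0, 1, 0, 2, 1, 3, 4, 7, 8, 1, 2, 3, 7, 6, 5, 4, 3, 2, 1, 0, 1, 2, 3, 4, 5, 6, 7, 3, 2, 1, 8, 7, 8, 4, 3, 7, 5, 4, 3, 1, 2, 0, 1, 0, 1, 0, 2, 1, 3, 4, 5, 7, 3, 4, 8, 1, 2, 3, 7, 5, 4, 3, 2, 1, 0, 1, 2, 3, 4, 5, 7, 3, 2, 1, 8, 7, 4, 2, 3, 1, 2, 0, 1, 0, 1, 0, 2, 1, 3, 2, 4, 7, 8, 4, 5, 3, 4, 2, 3, 1, 2, 0, 1, 0, 1, 0, 2, 1, 3, 2, 4, 3, 5, 4, 7, 4, 2, 3, 1, 2, 0, 1, 0, 1, 0, 2, 1, 3, 2, 4, 7, 2, 3, 4, 1, 2, 3, 7, 5, 4, 3, 2, 1, 0, 1, 2, 3, 4, 5, 7, 3, 2, 1, 4, 3, 2, 8, 7, 4, 2, 3, 1,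 2, 0, 1, 0, 1, 0, 2, 1, 3, 2, 4, 7, 8, 5, 3, 4, 2, 3, 1, 2, 0, 1, 0, 1, 0, 2, 1, 3, 2, 4, 3, 5, 3, 4, 2, 3, 7, 8, 1, 2, 3, 7, 4, 3, 2, 1, 0, 1, 2, 3, 4, 7, 3, 2, 1, 8, 7, 3, 2, 4, 3, 6, 5, 3, 4, 2, 3, 1, 2, 0, 1, 0, 1, 0, 2, 1, 3, 2, 4, 3, 5, 6, 3, 4, 2, 3, 1, 2, 0, 1, 0, 1, 0, 2, 1, 3, 2, 4, 3, 5, 3, 4, 2, 3, 1, 2, 0, 1, 0, 1, 0, 2, 1, 3, 2, 4, 3, 5, 3, 7, 2, 3, 1, 2, 0, 1, 0, 1, 0, 2, 1, 3, 2, 7, 4, 2, 3, 7, 8, 1, 2, 3, 7, 4, 3, 2, 1, 0, 1, 2, 3, 4, 7, 3, 2, 1, 8, 7, 1, 2, 0, 1, 0, 1, 0, 2, 1, 3, 2, 4, 3, 5, 3, 4, 2, 3, 1, 2, 0, 1, 0, 1, 0, 2, 1, 3, 2, 4, 3, 5, 3, 4, 2, 3, 1, 2, 0, 1, 0, 1, 0, 2, 1, 3, 2, 4, 7, 2, 3, 1, 2, 0, 1, 0, 1, 0, 2, 1,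 3, 2, 7, 3],
    [3, 7, 2, 3, 4, 1, 2, 3, 7, 8, 5, 3, 4, 1, 2, 3, 7, 6, 5, 4, 3, 2, 1, 7, 8, 1, 2, 3, 7, 6, 5, 4, 3, 2, 1, 0, 1, 2, 3, 4, 5, 6, 7, 3, 2, 1, 3, 7, 4, 3, 1, 2, 0, 1, 0, 1, 0, 2, 1, 3, 4, 7, 3, 8, 7, 4, 3, 1, 2, 0, 1, 0, 1, 0, 2, 1, 3, 4, 7, 8, 1, 2, 3, 7, 6, 5, 4, 3, 2, 1, 0, 1, 2, 3, 4, 5, 6, 7, 3, 2, 1, 8, 7, 8, 3, 7, 5, 4, 3, 1, 2, 0, 1, 0, 1, 0, 2, 1, 3, 4, 5, 7, 3, 8, 7, 8, 3, 7, 4, 3, 1, 2, 0, 1, 0, 1, 0, 2, 1, 3, 4, 7, 3, 8, 7, 4, 3, 1, 2, 0, 1, 0, 1, 0, 2, 1, 3, 4, 7, 4, 2, 3, 1, 2, 0, 1, 0, 1, 0, 2, 1, 3, 2, 4, 7, 8, 7, 4, 2, 3, 1, 2, 0, 1, 0, 1, 0, 2, 1, 3, 2, 4, 7, 8, 2, 3, 4, 1, 2, 3, 7, 5, 4, 3, 2, 1, 0, 1, 2, 3, 4, 5,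 7, 3, 2, 1, 4, 3, 2, 5, 3, 4, 2, 3, 1, 2, 0, 1, 0, 1, 0, 2, 1, 3, 2, 4, 3, 5, 3, 4, 2, 3, 7, 8, 1, 2, 3, 7, 4, 3, 2, 1, 0, 1, 2, 3, 4, 7, 3, 2, 1, 8, 7, 3, 2, 4, 3, 5, 3, 4, 2, 3, 1, 2, 0, 1, 0, 1, 0, 2, 1, 3, 2, 4, 3, 5, 3, 4, 2, 3, 1, 2, 0, 1, 0, 1, 0, 2, 1, 3, 2, 4, 3, 6, 5, 3, 4, 2, 3, 1, 2, 0, 1, 0, 1, 0, 2, 1, 3, 2, 4, 3, 5, 6, 3, 7, 2, 3, 1, 2, 0, 1, 0, 1, 0, 2, 1, 3, 2, 7, 4, 2, 3, 7, 8, 1, 2, 3, 7, 4, 3, 2, 1, 0, 1, 2, 3, 4, 7, 3, 2, 1, 8, 7, 3, 2, 4, 3, 6, 5, 3, 4, 2, 3, 1, 2, 0, 1, 0, 1, 0, 2, 1, 3, 2, 4, 3, 5, 6, 8, 3, 7, 2, 3, 1, 2, 0, 1, 0, 1, 0, 2, 1, 3, 2, 7, 3, 8, 3, 4, 2, 3, 1, 2, 0, 1, 0, 1, 0, 2, 1, 3, 2, 4, 3, 5, 3, 4, 2, 3,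 1, 2, 0, 1, 0, 1, 0, 2, 1, 3, 2, 4, 3, 5, 3, 7, 2, 3, 1, 2, 0, 1, 0, 1, 0, 2, 1, 3, 2, 7, 3],
    [7, 8, 3, 7, 6, 5, 2, 3, 4, 1, 2, 3, 7, 8, 4, 5, 2, 3, 4, 1, 2, 3, 7, 6, 5, 4, 3, 2, 1, 7, 8, 3, 7, 4, 3, 1, 2, 0, 1, 0, 1, 0, 2, 1, 3, 4, 7, 3, 8, 7, 1, 2, 3, 7, 5, 4, 3, 2, 1, 0, 1, 2, 3, 4, 5, 7, 3, 2, 1, 8, 3, 7, 5, 4, 3, 1, 2, 0, 1, 0, 1, 0, 2, 1, 3, 4, 5, 7, 3, 8, 7, 8, 1, 2, 3, 7, 6, 5, 4, 3, 2, 1, 0, 1, 2, 3, 4, 5, 6, 7, 3, 2, 1, 8, 7, 8, 3, 7, 5, 4, 3, 1, 2, 0, 1, 0, 1, 0, 2, 1, 3, 4, 5, 7, 3, 7, 6, 5, 4, 2, 3, 1, 2, 0, 1, 0, 1, 0, 2, 1, 3, 2, 4, 5, 6, 7, 8, 7, 4, 2, 3, 1, 2, 0, 1, 0, 1, 0, 2, 1, 3, 2, 4, 7, 8, 7, 4, 2, 3, 1, 2, 0, 1, 0, 1,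 0, 2, 1, 3, 2, 4, 7, 8, 2, 3, 4, 1, 2, 3, 7, 5, 4, 3, 2, 1, 0, 1, 2, 3, 4, 5, 7, 3, 2, 1, 4, 3, 2, 8, 7, 6, 5, 4, 2, 3, 1, 2, 0, 1, 0, 1, 0, 2, 1, 3, 2, 4, 5, 6, 7, 3, 7, 2, 3, 1, 2, 0, 1, 0, 1, 0, 2, 1, 3, 2, 7, 3, 8, 3, 4, 2, 3, 7, 8, 1, 2, 3, 7, 4, 3, 2, 1, 0, 1, 2, 3, 4, 7, 3, 2, 1, 8, 7, 3, 2, 4, 3, 5, 3, 4, 2, 3, 1, 2, 0, 1, 0, 1, 0, 2, 1, 3, 2, 4, 3, 5, 3, 4, 2, 3, 1, 2, 0, 1, 0, 1, 0, 2, 1, 3, 2, 4, 3, 6, 5, 3, 4, 2, 3, 1, 2, 0, 1, 0, 1, 0, 2, 1, 3, 2, 4, 3, 5, 6, 3, 7, 2, 3, 1, 2, 0, 1, 0, 1, 0, 2, 1, 3, 2, 7, 4, 2, 3, 7, 8, 1, 2, 3, 7, 4, 3, 2, 1, 0, 1, 2, 3, 4, 7, 3, 2, 1, 8, 7, 3, 2, 4, 3, 6, 5, 3, 4, 2, 3, 1, 2, 0, 1, 0, 1, 0, 2, 1,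 3, 2, 4, 3, 5, 6, 8, 3, 7, 2, 3, 1, 2, 0, 1, 0, 1, 0, 2, 1, 3, 2, 7, 3, 8, 3, 4, 2, 3, 1, 2, 0, 1, 0, 1, 0, 2, 1, 3, 2, 4, 7, 2, 3, 1, 2, 0, 1, 0, 1, 0, 2, 1, 3, 2, 7, 3],
    [8, 7, 6, 5, 2, 3, 4, 0, 1, 2, 3, 7, 8, 5, 2, 3, 4, 1, 2, 3, 7, 6, 5, 4, 7, 5, 4, 3, 2, 1, 0, 1, 2, 3, 4, 5, 7, 3, 2, 1, 4, 3, 1, 2, 0, 1, 0, 1, 0, 2, 1, 3, 4, 8, 4, 3, 7, 5, 4, 3, 1, 2, 0, 1, 0, 1, 0, 2, 1, 3, 4, 5, 7, 3, 4, 3, 7, 5, 4, 3, 1, 2, 0, 1, 0, 1, 0, 2, 1, 3, 4, 5, 7, 3, 8, 7, 8, 1, 2, 3, 7, 6, 5, 4, 3, 2, 1, 0, 1, 2, 3, 4, 5, 6, 7, 3, 2, 1, 8, 7, 8, 3, 7, 5, 4, 3, 1, 2, 0, 1, 0, 1, 0, 2, 1, 3, 4, 5, 7, 3, 7, 4, 2, 3, 1, 2, 0, 1, 0, 1, 0, 2, 1, 3, 2, 4, 6, 5, 4,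 2, 3, 1, 2, 0, 1, 0, 1, 0, 2, 1, 3, 2, 4, 5, 6, 7, 8, 2, 3, 4, 1, 2, 3, 7, 5, 4, 3, 2, 1, 0, 1, 2, 3, 4, 5, 7, 3, 2, 1, 4, 3, 2, 8, 7, 4, 2, 3, 1, 2, 0, 1, 0, 1, 0, 2, 1, 3, 2, 4, 7, 8, 5, 4, 2, 3, 1, 2, 0, 1, 0, 1, 0, 2, 1, 3, 2, 4, 3, 4, 2, 3, 1, 2, 0, 1, 0, 1, 0, 2, 1, 3, 2, 4, 3, 5, 3, 4, 2, 3, 1, 2, 0, 1, 0, 1, 0, 2, 1, 3, 2, 4, 3, 6, 5, 3, 4, 2, 3, 1, 2, 0, 1, 0, 1, 0, 2, 1, 3, 2, 4, 3, 5, 6, 3, 4, 2, 3, 7, 8, 1, 2, 3, 7, 4, 3, 2, 1, 0, 1, 2, 3, 4, 7, 3, 2, 1, 8, 7, 3, 2, 4, 3, 5, 3, 4, 2, 3, 1, 2, 0, 1, 0, 1, 0, 2, 1, 3, 2, 4, 3, 5, 3, 7, 2, 3, 1, 2, 0, 1, 0, 1, 0, 2, 1, 3, 2, 7, 4, 2, 3, 7, 8, 1, 2, 3, 7, 4, 3, 2, 1, 0, 1, 2, 3, 4, 7, 3,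 2, 1, 8, 7, 3, 2, 4, 3, 8, 3, 7, 2, 3, 1, 2, 0, 1, 0, 1, 0, 2, 1, 3, 2, 7, 3, 8, 5, 3, 4, 2, 3, 1, 2, 0, 1, 0, 1, 0, 2, 1, 3, 2, 4, 3, 5, 3, 4, 2, 3, 1, 2, 0, 1, 0, 1, 0, 2, 1, 3, 2, 4, 3],
    [4, 2, 3, 7, 8, 7, 4, 5, 3, 4, 2, 3, 7, 6, 5, 4, 3, 2, 0, 1, 4, 3, 1, 2, 0, 1, 0, 1, 0, 2, 1, 3, 4, 7, 8, 1, 2, 3, 7, 6, 5, 4, 3, 2, 1, 0, 1, 2, 3, 4, 5, 6, 7, 3, 2, 1, 8, 7, 8, 4, 3, 7, 5, 4, 3, 1, 2, 0, 1, 0, 1, 0, 2, 1, 3, 4, 5, 7, 3, 4, 3, 7, 5, 4, 3, 1, 2, 0, 1, 0, 1, 0, 2, 1, 3, 4, 5, 7, 3, 8, 1, 2, 3, 7, 5, 4, 3, 2, 1, 0, 1, 2, 3, 4, 5, 7, 3, 2, 1, 4, 3, 1, 2, 0, 1, 0, 1, 0, 2, 1, 3, 4, 7, 8, 1, 2, 3, 7, 6, 5, 4, 3, 2, 1, 0, 1, 2, 3, 4, 5, 6, 7, 3,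 2, 1, 8, 7, 2, 3, 4, 1, 2, 3, 7, 5, 4, 3, 2, 1, 0, 1, 2, 3, 4, 5, 7, 3, 2, 1, 4, 3, 2, 3, 4, 2, 3, 1, 2, 0, 1, 0, 1, 0, 2, 1, 3, 2, 4, 3, 8, 7, 4, 2, 3, 1, 2, 0, 1, 0, 1, 0, 2, 1, 3, 2, 4, 6, 5, 4, 2, 3, 1, 2, 0, 1, 0, 1, 0, 2, 1, 3, 2, 4, 5, 6, 7, 8, 2, 3, 4, 1, 2, 3, 7, 5, 4, 3, 2, 1, 0, 1, 2, 3, 4, 5, 7, 3, 2, 1, 4, 3, 2, 3, 4, 2, 3, 1, 2, 0, 1, 0, 1, 0, 2, 1, 3, 2, 4, 3, 5, 3, 4, 2, 3, 1, 2, 0, 1, 0, 1, 0, 2, 1, 3, 2, 4, 3, 5, 3, 4, 2, 3, 7, 8, 1, 2, 3, 7, 4, 3, 2, 1, 0, 1, 2, 3, 4, 7, 3, 2, 1, 8, 7, 3, 2, 4, 3, 8, 3, 7, 2, 3, 1, 2, 0, 1, 0, 1, 0, 2, 1, 3, 2, 7, 3, 8, 5, 3, 4, 2, 3, 1, 2, 0, 1, 0, 1, 0, 2, 1, 3, 2, 4, 3, 5, 3, 7, 2, 3, 1, 2,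 0, 1, 0, 1, 0, 2, 1, 3, 2, 7, 3],
    [3, 4, 1, 2, 3, 7, 8, 7, 3, 4, 1, 2, 3, 7, 6, 5, 4, 7, 5, 4, 3, 2, 1, 0, 1, 2, 3, 4, 5, 7, 3, 2, 1, 8, 4, 3, 7, 5, 4, 3, 1, 2, 0, 1, 0, 1, 0, 2, 1, 3, 4, 5, 7, 3, 4, 8, 1, 2, 3, 7, 5, 4, 3, 2, 1, 0, 1, 2, 3, 4, 5, 7, 3, 2, 1, 8, 3, 7, 5, 4, 3, 1, 2, 0, 1, 0, 1, 0, 2, 1, 3, 4, 5, 7, 3, 8, 4, 3, 1, 2, 0, 1, 0, 1, 0, 2, 1, 3, 4, 7, 8, 1, 2, 3, 7, 6, 5, 4, 3, 2, 1, 0, 1, 2, 3, 4, 5, 6, 7, 3, 2, 1, 8, 7, 4, 3, 1, 2, 0, 1, 0, 1, 0, 2, 1, 3, 4, 8, 4, 3, 7, 5, 4, 3, 1, 2, 0, 1, 0, 1, 0, 2, 1, 3, 4, 5, 7, 3, 4, 8, 7, 8, 3, 7, 4, 3, 1, 2, 0, 1, 0, 1, 0, 2, 1, 3, 4, 7, 3, 8, 7, 1, 2, 3, 7, 5, 4, 3, 2, 1, 0, 1, 2, 3, 4,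 5, 7, 3, 2, 1, 2, 3, 4, 1, 2, 3, 7, 5, 4, 3, 2, 1, 0, 1, 2, 3, 4, 5, 7, 3, 2, 1, 4, 3, 2, 8, 7, 4, 2, 3, 1, 2, 0, 1, 0, 1, 0, 2, 1, 3, 2, 4, 6, 5, 4, 2, 3, 1, 2, 0, 1, 0, 1, 0, 2, 1, 3, 2, 4, 5, 6, 7, 8, 2, 3, 4, 1, 2, 3, 7, 5, 4, 3, 2, 1, 0, 1, 2, 3, 4, 5, 7, 3, 2, 1, 4, 3, 2, 8, 7, 4, 2, 3, 1, 2, 0, 1, 0, 1, 0, 2, 1, 3, 2, 4, 7, 8, 5, 4, 2, 3, 1, 2, 0, 1, 0, 1, 0, 2, 1, 3, 2, 4, 3, 4, 2, 3, 1, 2, 0, 1, 0, 1, 0, 2, 1, 3, 2, 4, 3, 5, 6, 5, 3, 4, 2, 3, 1, 2, 0, 1, 0, 1, 0, 2, 1, 3, 2, 4, 3, 5, 6, 3, 4, 2, 3, 7, 8, 1, 2, 3, 7, 4, 3, 2, 1, 0, 1, 2, 3, 4, 7, 3, 2, 1, 8, 7, 1, 2, 0, 1, 0, 1, 0, 2, 1, 3, 2, 4, 3, 5, 3, 4, 2, 3, 1, 2, 0, 1, 0, 1, 0, 2,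 1, 3, 2, 4, 3, 5, 3, 7, 2, 3, 1, 2, 0, 1, 0, 1, 0, 2, 1, 3, 2, 7, 4, 2, 3, 7, 8, 1, 2, 3, 7, 4, 3, 2, 1, 0, 1, 2, 3, 4, 7, 3, 2, 1, 8, 7, 3, 2, 4, 7, 2, 3, 1, 2, 0, 1, 0, 1, 0, 2, 1, 3, 2, 7, 3, 8, 3, 7, 2, 3, 1, 2, 0, 1, 0, 1, 0, 2, 1, 3, 2, 7, 3, 8, 3, 4, 2, 3, 1, 2, 0, 1, 0, 1, 0, 2, 1, 3, 2, 4, 7, 2, 3, 1, 2, 0, 1, 0, 1, 0, 2, 1, 3, 2, 7, 3],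
    [7, 3, 4, 2, 3, 7, 8, 7, 5, 3, 4, 1, 2, 3, 7, 6, 5, 4, 3, 2, 1, 7, 8, 1, 2, 3, 7, 6, 5, 4, 3, 2, 1, 0, 1, 2, 3, 4, 5, 6, 7, 3, 2, 1, 8, 7, 8, 3, 7, 5, 4, 3, 1, 2, 0, 1, 0, 1, 0, 2, 1, 3, 4, 5, 7, 3, 4, 3, 7, 5, 4, 3, 1, 2, 0, 1, 0, 1, 0, 2, 1, 3, 4, 5, 7, 3, 4, 8, 7, 8, 1, 2, 3, 7, 6, 5, 4, 3, 2, 1, 0, 1, 2, 3, 4, 5, 6, 7, 3, 2, 1, 8, 7, 8, 3, 7, 5, 4, 3, 1, 2, 0, 1, 0, 1, 0, 2, 1, 3, 4, 5, 7, 3, 8, 7, 8, 3, 7, 4, 3, 1, 2, 0, 1, 0, 1, 0, 2, 1, 3, 4, 7, 3, 1, 2, 3, 7, 6, 5, 4, 3, 2, 1, 0, 1, 2, 3, 4, 5, 6, 7, 3, 2, 1, 8, 7, 4, 3, 1, 2, 0, 1, 0, 1, 0, 2, 1, 3, 4, 8, 7, 4, 2, 3, 1, 2, 0, 1, 0, 1, 0, 2, 1, 3, 2, 4, 6, 5, 4, 2, 3, 1, 2, 0, 1, 0,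 1, 0, 2, 1, 3, 2, 4, 5, 6, 7, 8, 2, 3, 4, 1, 2, 3, 7, 5, 4, 3, 2, 1, 0, 1, 2, 3, 4, 5, 7, 3, 2, 1, 4, 3, 2, 4, 5, 3, 4, 2, 3, 1, 2, 0, 1, 0, 1, 0, 2, 1, 3, 2, 4, 3, 5, 4, 8, 7, 4, 2, 3, 1, 2, 0, 1, 0, 1, 0, 2, 1, 3, 2, 4, 7, 8, 5, 3, 4, 2, 3, 1, 2, 0, 1, 0, 1, 0, 2, 1, 3, 2, 4, 3, 5, 3, 4, 2, 3, 7, 8, 1, 2, 3, 7, 4, 3, 2, 1, 0, 1, 2, 3, 4, 7, 3, 2, 1, 8, 7, 3, 2, 4, 3, 6, 5, 3, 4, 2, 3, 1, 2, 0, 1, 0, 1, 0, 2, 1, 3, 2, 4, 3, 5, 6, 3, 4, 2, 3, 1, 2, 0, 1, 0, 1, 0, 2, 1, 3, 2, 4, 3, 5, 3, 4, 2, 3, 1, 2, 0, 1, 0, 1, 0, 2, 1, 3, 2, 4, 3, 5, 3, 7, 2, 3, 1, 2, 0, 1, 0, 1, 0, 2, 1, 3, 2, 7, 4, 2, 3, 7, 8, 1, 2, 3, 7, 4, 3, 2, 1, 0, 1, 2, 3, 4, 7, 3, 2,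 1, 8, 7, 1, 2, 0, 1, 0, 1, 0, 2, 1, 3, 2, 4, 3, 5, 3, 4, 2, 3, 1, 2, 0, 1, 0, 1, 0, 2, 1, 3, 2, 4, 3, 5, 3, 4, 2, 3, 1, 2, 0, 1, 0, 1, 0, 2, 1, 3, 2, 4, 3]]

/-- The conjugating elements. -/
def gw : List (List ℕ) := [
    [7, 8, 7, 4, 5, 3, 4, 1, 2, 3, 7, 6, 5, 4, 3, 2, 1, 4, 3, 1, 2, 0, 1, 0, 1, 0, 2, 1, 3, 4, 8, 4, 3, 7, 5, 4, 3, 1, 2, 0, 1, 0, 1, 0, 2, 1, 3, 4, 5, 7, 3, 4, 8, 7, 8, 1, 2, 3, 7, 6, 5, 4, 3, 2, 1, 0, 1, 2, 3, 4, 5, 6, 7, 3, 2, 1, 8, 7, 8, 4, 3, 7, 5, 4, 3, 1, 2, 0, 1, 0, 1, 0, 2, 1, 3, 4, 5, 7, 3, 4, 3, 7, 5, 4, 3, 1, 2, 0, 1, 0, 1, 0, 2, 1, 3, 4, 5, 7, 3, 8, 4, 3, 1, 2, 0, 1, 0, 1, 0, 2, 1, 3, 4, 7, 8, 1, 2, 3, 7, 6, 5, 4, 3,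 2, 1, 0, 1, 2, 3, 4, 5, 6, 7, 3, 2, 1, 8, 7, 8, 4, 3, 7, 5, 4, 3, 1, 2, 0, 1, 0, 1, 0, 2, 1, 3, 4, 5, 7, 3, 4, 8, 4, 5, 3, 4, 2, 3, 1, 2, 0, 1, 0, 1, 0, 2, 1, 3, 2, 4, 3, 5, 4, 8, 7, 4, 2, 3, 1, 2, 0, 1, 0, 1, 0, 2, 1, 3, 2, 4, 6, 5, 4, 2, 3, 1, 2, 0, 1, 0, 1, 0, 2, 1, 3, 2, 4, 5, 6, 7, 8, 2, 3, 4, 1, 2, 3, 7, 5, 4, 3, 2, 1, 0, 1, 2, 3, 4, 5, 7, 3, 2, 1, 4, 3, 2, 4, 5, 3, 4, 2, 3, 1, 2, 0, 1, 0, 1, 0, 2, 1, 3, 2, 4, 3, 5, 4, 8, 7, 4, 2, 3, 1, 2, 0, 1, 0, 1, 0, 2, 1, 3, 2, 4, 7, 8, 6, 5, 3, 4, 2, 3, 1, 2, 0, 1, 0, 1, 0, 2, 1, 3, 2, 4, 3, 5, 6, 3, 4, 2, 3, 7, 8, 1, 2, 3, 7, 4, 3, 2, 1, 0, 1, 2, 3, 4, 7, 3, 2, 1, 8, 7, 3, 2, 4, 3, 5, 3, 4, 2, 3, 1,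 2, 0, 1, 0, 1, 0, 2, 1, 3, 2, 4, 3, 5, 3, 7, 2, 3, 1, 2, 0, 1, 0, 1, 0, 2, 1, 3, 2, 7, 4, 2, 3, 7, 8, 1, 2, 3, 7, 4, 3, 2, 1, 0, 1, 2, 3, 4, 7, 3, 2, 1, 8, 7, 3, 2, 4, 3],
    [4, 3, 7, 3, 4, 5, 2, 3, 4, 1, 2, 3, 7, 8, 4, 5, 2, 3, 4, 1, 2, 3, 7, 6, 5, 4, 3, 2, 1, 4, 3, 1, 2, 0, 1, 0, 1, 0, 2, 1, 3, 4, 1, 2, 3, 7, 5, 4, 3, 2, 1, 0, 1, 2, 3, 4, 5, 7, 3, 2, 1, 8, 3, 7, 5, 4, 3, 1, 2, 0, 1, 0, 1, 0, 2, 1, 3, 4, 5, 7, 3, 4, 3, 7, 5, 4, 3, 1, 2, 0, 1, 0, 1, 0, 2, 1, 3, 4, 5, 7, 3, 4, 8, 1, 2, 3, 7, 5, 4, 3, 2, 1, 0, 1, 2, 3, 4, 5, 7, 3, 2, 1, 7, 8, 3, 7, 4, 3, 1, 2, 0, 1, 0, 1, 0, 2, 1, 3, 4, 7, 3, 1, 2, 3, 7, 6, 5, 4, 3, 2, 1, 0, 1, 2, 3, 4, 5, 6, 7,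 3, 2, 1, 8, 7, 8, 3, 7, 5, 4, 3, 1, 2, 0, 1, 0, 1, 0, 2, 1, 3, 4, 5, 7, 3, 8, 4, 3, 1, 2, 0, 1, 0, 1, 0, 2, 1, 3, 4, 8, 7, 6, 5, 4, 2, 3, 1, 2, 0, 1, 0, 1, 0, 2, 1, 3, 2, 4, 5, 6, 7, 8, 2, 3, 4, 1, 2, 3, 7, 5, 4, 3, 2, 1, 0, 1, 2, 3, 4, 5, 7, 3, 2, 1, 4, 3, 2, 8, 7, 4, 2, 3, 1, 2, 0, 1, 0, 1, 0, 2, 1, 3, 2, 4, 7, 8, 3, 4, 2, 3, 1, 2, 0, 1, 0, 1, 0, 2, 1, 3, 2, 4, 3, 7, 4, 2, 3, 1, 2, 0, 1, 0, 1, 0, 2, 1, 3, 2, 4, 7, 5, 4, 2, 3, 1, 2, 0, 1, 0, 1, 0, 2, 1, 3, 2, 4, 5, 3, 4, 2, 3, 1, 2, 0, 1, 0, 1, 0, 2, 1, 3, 2, 4, 3, 6, 5, 3, 4, 2, 3, 1, 2, 0, 1, 0, 1, 0, 2, 1, 3, 2, 4, 3, 5, 6, 5, 3, 4, 2, 3, 1, 2, 0, 1, 0, 1, 0, 2, 1, 3, 2, 4, 3, 5, 3, 7, 2, 3,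 1, 2, 0, 1, 0, 1, 0, 2, 1, 3, 2, 7, 4, 2, 3, 7, 8, 1, 2, 3, 7, 4, 3, 2, 1, 0, 1, 2, 3, 4, 7, 3, 2, 1, 8, 7, 3, 2, 4, 3, 8, 3, 7, 2, 3, 1, 2, 0, 1, 0, 1, 0, 2, 1, 3, 2, 7, 3, 8, 5, 3, 4, 2, 3, 1, 2, 0, 1, 0, 1, 0, 2, 1, 3, 2, 4, 3, 5, 3, 4, 2, 3, 1, 2, 0, 1, 0, 1, 0, 2, 1, 3, 2, 4, 3],
    [2, 3, 7, 4, 5, 3, 4, 2, 3, 7, 8, 3, 4, 5, 2, 3, 4, 1, 2, 3, 7, 6, 5, 4, 3, 2, 1, 8, 4, 3, 7, 5, 4, 3, 1, 2, 0, 1, 0, 1, 0, 2, 1, 3, 4, 5, 7, 3, 4, 3, 7, 5, 4, 3, 1, 2, 0, 1, 0, 1, 0, 2, 1, 3, 4, 5, 7, 3, 8, 7, 8, 1, 2, 3, 7, 6, 5, 4, 3, 2, 1, 0, 1, 2, 3, 4, 5, 6, 7, 3, 2, 1, 8, 7, 8, 4, 3, 7, 5, 4, 3, 1, 2, 0, 1, 0, 1, 0, 2, 1, 3, 4, 5, 7, 3, 4, 8, 1, 2, 3, 7,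 5, 4, 3, 2, 1, 0, 1, 2, 3, 4, 5, 7, 3, 2, 1, 4, 3, 1, 2, 0, 1, 0, 1, 0, 2, 1, 3, 4, 7, 8, 1, 2, 3, 7, 6, 5, 4, 3, 2, 1, 0, 1, 2, 3, 4, 5, 6, 7, 3, 2, 1, 8, 7, 4, 3, 1, 2, 0, 1, 0, 1, 0, 2, 1, 3, 4, 7, 4, 2, 3, 1, 2, 0, 1, 0, 1, 0, 2, 1, 3, 2, 4, 7, 5, 4, 2, 3, 1, 2, 0, 1, 0, 1, 0, 2, 1, 3, 2, 4, 5, 4, 5, 3, 4, 2, 3, 1, 2, 0, 1, 0, 1, 0, 2, 1, 3, 2, 4, 3, 5, 4, 8, 7, 4, 2, 3, 1, 2, 0, 1, 0, 1, 0, 2, 1, 3, 2, 4, 6, 5, 4, 2, 3, 1, 2, 0, 1, 0, 1, 0, 2, 1, 3, 2, 4, 5, 6, 7, 8, 2, 3, 4, 1, 2, 3, 7, 5, 4, 3, 2, 1, 0, 1, 2, 3, 4, 5, 7, 3, 2, 1, 4, 3, 2, 8, 7, 6, 5, 4, 2, 3, 1, 2, 0, 1, 0, 1, 0, 2, 1, 3, 2, 4, 5, 6, 7, 8, 5, 4, 2, 3, 1, 2, 0, 1, 0, 1, 0,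 2, 1, 3, 2, 4, 5, 3, 4, 2, 3, 1, 2, 0, 1, 0, 1, 0, 2, 1, 3, 2, 4, 3, 5, 3, 4, 2, 3, 1, 2, 0, 1, 0, 1, 0, 2, 1, 3, 2, 4, 3, 5, 3, 7, 2, 3, 1, 2, 0, 1, 0, 1, 0, 2, 1, 3, 2, 7, 4, 2, 3, 7, 8, 1, 2, 3, 7, 4, 3, 2, 1, 0, 1, 2, 3, 4, 7, 3, 2, 1, 8, 7, 3, 2, 4, 3, 8, 3, 7, 2, 3, 1, 2, 0, 1, 0, 1, 0, 2, 1, 3, 2, 7, 3, 8, 3, 4, 2, 3, 1, 2, 0, 1, 0, 1, 0, 2, 1, 3, 2, 4, 7, 2, 3, 1, 2, 0, 1, 0, 1, 0, 2, 1, 3, 2, 7, 3],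
    [8, 7, 6, 5, 3, 4, 2, 3, 7, 8, 4, 5, 2, 3, 4, 1, 2, 3, 7, 6, 5, 4, 3, 2, 1, 4, 3, 1, 2, 0, 1, 0, 1, 0, 2, 1, 3, 4, 8, 4, 3, 7, 5, 4, 3, 1, 2, 0, 1, 0, 1, 0, 2, 1, 3, 4, 5, 7, 3, 4, 3, 7, 5, 4, 3, 1, 2, 0, 1, 0, 1, 0, 2, 1, 3, 4, 5, 7, 3, 8, 7, 8, 1, 2, 3, 7, 6, 5, 4, 3, 2, 1, 0, 1, 2, 3, 4, 5, 6, 7, 3, 2, 1, 8, 7, 8, 4, 3, 7, 5, 4, 3, 1, 2, 0, 1, 0, 1, 0, 2, 1, 3, 4, 5, 7, 3, 4, 8, 1, 2, 3, 7, 5, 4, 3, 2, 1, 0, 1, 2, 3, 4, 5, 7, 3, 2, 1, 7, 4, 2, 3, 1, 2, 0, 1, 0, 1, 0, 2, 1, 3, 2, 4, 7, 8, 7, 4, 2, 3, 1, 2, 0, 1, 0, 1, 0, 2, 1, 3, 2, 4, 7, 8, 2, 3, 4, 1, 2, 3, 7, 5, 4, 3, 2, 1, 0, 1, 2, 3, 4, 5, 7, 3, 2, 1, 4, 3, 2, 5, 4, 2, 3, 1, 2, 0, 1,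 0, 1, 0, 2, 1, 3, 2, 4, 5, 3, 4, 2, 3, 7, 8, 1, 2, 3, 7, 4, 3, 2, 1, 0, 1, 2, 3, 4, 7, 3, 2, 1, 8, 7, 3, 2, 4, 3, 6, 5, 3, 4, 2, 3, 1, 2, 0, 1, 0, 1, 0, 2, 1, 3, 2, 4, 3, 5, 6, 3, 4, 2, 3, 1, 2, 0, 1, 0, 1, 0, 2, 1, 3, 2, 4, 3, 5, 3, 4, 2, 3, 1, 2, 0, 1, 0, 1, 0, 2, 1, 3, 2, 4, 3, 5, 3, 4, 2, 3, 7, 8, 1, 2, 3, 7, 4, 3, 2, 1, 0, 1, 2, 3, 4, 7, 3, 2, 1, 8, 7, 1, 2, 0, 1, 0, 1, 0, 2, 1, 3, 2, 4, 3, 5, 3, 4, 2, 3, 1, 2, 0, 1, 0, 1, 0, 2, 1, 3, 2, 4, 3, 5, 3, 7, 2, 3, 1, 2, 0, 1, 0, 1, 0, 2, 1, 3, 2, 7, 3],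
    [1, 2, 3, 4, 0, 1, 2, 3, 7, 8, 3, 7, 5, 2, 3, 4, 1, 2, 3, 7, 6, 5, 4, 3, 2, 1, 8, 3, 7, 5, 4, 3, 1, 2, 0, 1, 0, 1, 0, 2, 1, 3, 4, 5, 7, 3, 4, 3, 7, 5, 4, 3, 1, 2, 0, 1, 0, 1, 0, 2, 1, 3, 4, 5, 7, 3, 4, 8, 1, 2, 3, 7, 5, 4, 3, 2, 1, 0, 1, 2, 3, 4, 5, 7, 3, 2, 1, 7, 8, 3, 7, 4, 3, 1, 2, 0, 1, 0, 1, 0, 2, 1, 3, 4, 7, 3, 1, 2, 3, 7, 6, 5, 4, 3, 2, 1, 0, 1, 2, 3, 4, 5, 6, 7, 3, 2, 1, 8, 7, 8, 4, 3, 7, 5, 4, 3, 1, 2, 0, 1, 0, 1, 0, 2, 1, 3, 4, 5, 7, 3, 4, 7, 6, 5, 4, 2, 3, 1, 2, 0, 1, 0, 1, 0, 2, 1, 3, 2, 4, 5, 6, 7, 8, 4, 5, 3, 4, 2, 3, 1, 2, 0, 1, 0, 1, 0, 2, 1, 3, 2, 4, 3, 5, 4, 7, 4, 2, 3, 1, 2, 0, 1, 0, 1, 0, 2, 1, 3, 2, 4, 7, 2, 3, 4, 1, 2,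 3, 7, 5, 4, 3, 2, 1, 0, 1, 2, 3, 4, 5, 7, 3, 2, 1, 4, 3, 2, 8, 7, 6, 5, 4, 2, 3, 1, 2, 0, 1, 0, 1, 0, 2, 1, 3, 2, 4, 5, 6, 7, 8, 3, 4, 2, 3, 7, 8, 1, 2, 3, 7, 4, 3, 2, 1, 0, 1, 2, 3, 4, 7, 3, 2, 1, 8, 7, 3, 2, 4, 3, 5, 3, 4, 2, 3, 1, 2, 0, 1, 0, 1, 0, 2, 1, 3, 2, 4, 3, 5, 3, 7, 2, 3, 1, 2, 0, 1, 0, 1, 0, 2, 1, 3, 2, 7, 4, 2, 3, 7, 8, 1, 2, 3, 7, 4, 3, 2, 1, 0, 1, 2, 3, 4, 7, 3, 2, 1, 8, 7, 3, 2, 4, 3, 6, 5, 3, 4, 2, 3, 1, 2, 0, 1, 0, 1, 0, 2, 1, 3, 2, 4, 3, 5, 6, 3, 7, 2, 3, 1, 2, 0, 1, 0, 1, 0, 2, 1, 3, 2, 7, 3, 8, 3, 7, 2, 3, 1, 2, 0, 1, 0, 1, 0, 2, 1, 3, 2, 7, 3, 8, 5, 3, 4, 2, 3, 1, 2, 0, 1, 0, 1, 0, 2, 1, 3, 2, 4, 3, 5, 3, 7, 2, 3, 1, 2, 0,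 1, 0, 1, 0, 2, 1, 3, 2, 7, 3]]

/-- A part of the certificate. -/
def rules0 : List (List ℕ × List ℕ) := [
    ([0, 0], [2, 3, 4, 5, 15, 16]),
    ([1, 1], [4, 6, 7, 8, 10, 13, 14]),
    ([2, 2], [5, 6, 16]),
    ([3, 3], [11, 13, 15]),
    ([4, 4], [10, 12, 14]),
    ([5, 5], []),
    ([6, 6], [14, 15, 16]),
    ([7, 7], []),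
    ([8, 8], []),
    ([9, 9], []),
    ([10, 10], []),
    ([11, 11], []),
    ([12, 12], []),
    ([13, 13], []),
    ([14, 14], []),
    ([15, 15], []),
    ([16, 16], []),
    ([1, 0], [0, 1, 2, 3, 5, 6, 7, 8, 10, 11, 12, 15, 16]),
    ([2, 0], [0, 2, 4, 6, 7, 11, 14, 15, 16]),
    ([2, 1], [1, 2, 4, 5, 7, 8, 11, 12, 13]),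
    ([3, 0], [0, 3, 4, 5, 6, 7, 8, 11, 12, 16]),
    ([3, 1], [1, 3, 4, 6, 7, 8, 10, 11, 14, 15, 16]),
    ([3, 2], [2, 3, 5, 11, 15]),
    ([4, 0], [0, 4, 5, 6, 8, 9, 10, 11, 12, 15, 16])]

/-- A part of the certificate. -/
def rules1 : List (List ℕ × List ℕ) := [
    ([4, 1], [1, 4, 9, 13, 16]),
    ([4, 2], [2, 4, 6, 10, 11, 14, 15]),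
    ([4, 3], [3, 4, 10, 12, 16]),
    ([5, 0], [0, 5, 6, 9, 12, 16]),
    ([5, 1], [1, 5, 6, 9, 12, 16]),
    ([5, 2], [2, 5, 10, 12, 13]),
    ([5, 3], [3, 5, 14, 15, 16]),
    ([5, 4], [4, 5, 10, 12, 14]),
    ([6, 0], [0, 6, 11, 12, 16]),
    ([6, 1], [1, 6, 10, 12, 13]),
    ([6, 2], [2, 6, 10, 12, 13, 16]),
    ([6, 3], [3, 6, 10, 12, 13, 16]),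
    ([6, 4], [4, 6, 13]),
    ([6, 5], [5, 6, 13, 16]),
    ([7, 0], [0, 7, 8, 9, 13, 14, 15]),
    ([7, 1], [1, 7, 10, 12, 13, 15, 16]),
    ([7, 2], [2, 7, 9, 10, 13, 14, 16]),
    ([7, 3], [3, 7, 10, 12, 13, 14]),
    ([7, 4], [4, 7, 14, 15, 16]),
    ([7, 5], [5, 7, 10, 12]),
    ([7, 6], [6, 7, 11, 13]),
    ([8, 0], [0, 8, 9, 15]),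
    ([8, 1], [1, 8, 9, 11, 13, 16]),
    ([8, 2], [2, 8, 12, 13])]

/-- A part of the certificate. -/
def rules2 : List (List ℕ × List ℕ) := [
    ([8, 3], [3, 8, 10, 11, 12, 14, 15]),
    ([8, 4], [4, 8, 10, 12, 15, 16]),
    ([8, 5], [5, 8, 15]),
    ([8, 6], [6, 8, 13, 14, 15]),
    ([8, 7], [7, 8]),
    ([9, 0], [0, 9, 11, 12, 14, 16]),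
    ([9, 1], [1, 9, 10, 12, 13, 14, 16]),
    ([9, 2], [2, 9, 10, 11, 12, 13, 14, 16]),
    ([9, 3], [3, 9, 10, 12, 13, 14]),
    ([9, 4], [4, 9, 11, 13]),
    ([9, 5], [5, 9, 13, 16]),
    ([9, 6], [6, 9, 14, 15]),
    ([9, 7], [7, 9]),
    ([9, 8], [8, 9]),
    ([10, 0], [0, 10, 11, 14, 16]),
    ([10, 1], [1, 10, 11, 15, 16]),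
    ([10, 2], [2, 10, 14, 16]),
    ([10, 3], [3, 10, 13, 14, 16]),
    ([10, 4], [4, 10, 14, 15, 16]),
    ([10, 5], [5, 10, 16]),
    ([10, 6], [6, 10, 16]),
    ([10, 7], [7, 10]),
    ([10, 8], [8, 10]),
    ([10, 9], [9, 10])]

/-- A part of the certificate. -/
def rules3 : List (List ℕ × List ℕ) := [
    ([11, 0], [0, 11, 13, 14, 15]),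
    ([11, 1], [1, 11, 14, 15]),
    ([11, 2], [2, 11, 14, 15]),
    ([11, 3], [3, 11, 16]),
    ([11, 4], [4, 11, 16]),
    ([11, 5], [5, 11, 16]),
    ([11, 6], [6, 11]),
    ([11, 7], [7, 11]),
    ([11, 8], [8, 11]),
    ([11, 9], [9, 11]),
    ([11, 10], [10, 11]),
    ([12, 0], [0, 12, 13, 14, 15, 16]),
    ([12, 1], [1, 12, 13, 15, 16]),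
    ([12, 2], [2, 12, 13, 14, 16]),
    ([12, 3], [3, 12, 13, 14, 16]),
    ([12, 4], [4, 12, 14, 15, 16]),
    ([12, 5], [5, 12, 16]),
    ([12, 6], [6, 12]),
    ([12, 7], [7, 12]),
    ([12, 8], [8, 12]),
    ([12, 9], [9, 12]),
    ([12, 10], [10, 12]),
    ([12, 11], [11, 12]),
    ([13, 0], [0, 13, 14, 15])]

/-- A part of the certificate. -/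
def rules4 : List (List ℕ × List ℕ) := [
    ([13, 1], [1, 13, 14, 15, 16]),
    ([13, 2], [2, 13, 16]),
    ([13, 3], [3, 13]),
    ([13, 4], [4, 13, 16]),
    ([13, 5], [5, 13]),
    ([13, 6], [6, 13]),
    ([13, 7], [7, 13]),
    ([13, 8], [8, 13]),
    ([13, 9], [9, 13]),
    ([13, 10], [10, 13]),
    ([13, 11], [11, 13]),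
    ([13, 12], [12, 13]),
    ([14, 0], [0, 14, 16]),
    ([14, 1], [1, 14, 16]),
    ([14, 2], [2, 14]),
    ([14, 3], [3, 14]),
    ([14, 4], [4, 14]),
    ([14, 5], [5, 14]),
    ([14, 6], [6, 14]),
    ([14, 7], [7, 14]),
    ([14, 8], [8, 14]),
    ([14, 9], [9, 14]),
    ([14, 10], [10, 14]),
    ([14, 11], [11, 14])]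

/-- A part of the certificate. -/
def rules5 : List (List ℕ × List ℕ) := [
    ([14, 12], [12, 14]),
    ([14, 13], [13, 14]),
    ([15, 0], [0, 15, 16]),
    ([15, 1], [1, 15]),
    ([15, 2], [2, 15, 16]),
    ([15, 3], [3, 15, 16]),
    ([15, 4], [4, 15]),
    ([15, 5], [5, 15]),
    ([15, 6], [6, 15]),
    ([15, 7], [7, 15]),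
    ([15, 8], [8, 15]),
    ([15, 9], [9, 15]),
    ([15, 10], [10, 15]),
    ([15, 11], [11, 15]),
    ([15, 12], [12, 15]),
    ([15, 13], [13, 15]),
    ([15, 14], [14, 15]),
    ([16, 0], [0, 16]),
    ([16, 1], [1, 16]),
    ([16, 2], [2, 16]),
    ([16, 3], [3, 16]),
    ([16, 4], [4, 16]),
    ([16, 5], [5, 16]),
    ([16, 6], [6, 16])]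

/-- A part of the certificate. -/
def rules6 : List (List ℕ × List ℕ) := [
    ([16, 7], [7, 16]),
    ([16, 8], [8, 16]),
    ([16, 9], [9, 16]),
    ([16, 10], [10, 16]),
    ([16, 11], [11, 16]),
    ([16, 12], [12, 16]),
    ([16, 13], [13, 16]),
    ([16, 14], [14, 16]),
    ([16, 15], [15, 16])]

/-- A part of the certificate. -/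
def maps0 : List (List (List ℕ × List ℕ)) := [
    [([1, 8, 9, 12], [1, 3, 4, 6, 7, 8, 9, 13, 14]), ([3, 8, 9], [13, 16]), ([4, 8, 9], [6, 7, 12, 15]), ([5, 12], [4, 5, 6, 7, 8, 9, 10, 11, 12, 14, 15, 16]), ([6, 9, 12], [3, 6, 8, 12, 16]), ([7, 9], [3, 7, 8, 13, 16]), ([10, 12], [3, 8, 9, 10, 12, 13, 16]), ([11], [3, 4, 6, 7, 10, 11, 13, 14, 15]), ([13], [3, 8, 9, 16]), ([14], [14]), ([15], [4, 6, 7, 8, 9, 11, 12, 14, 15, 16]), ([16], [16])],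
    [([0, 1, 3, 9, 10, 12, 16], [0, 1, 2, 4, 6, 8, 9, 10, 16]), ([2, 3, 4, 8, 9, 12, 16], [5, 6, 9, 10, 12, 14, 15, 16]), ([5], [2, 3, 4, 5, 8, 9, 12, 16]), ([6, 9, 10, 12, 16], [0, 1, 2, 4, 5, 6, 8, 9, 10, 14]), ([11, 12], [2, 3, 4, 5, 6, 8, 10, 11, 12, 14]), ([13], [0, 1, 3, 9, 10, 12, 15, 16]), ([14], [14]), ([15], [0, 1, 2, 4, 6, 8, 9, 10, 13, 16])],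
    [([7, 9], [8, 10, 12, 16]), ([8, 12, 14], [7, 8, 9, 11, 13, 15]), ([10, 14, 16], [8, 11, 13, 15]), ([11, 12, 15, 16], [11, 12, 15, 16]), ([13, 14, 16], [7, 8, 9, 10, 12, 13, 14])],
    [([1, 3], [1, 3, 7, 13, 16]), ([4], [1, 3, 6, 8, 9, 10, 12, 13, 14, 16]), ([6], [1, 3, 4, 8, 9, 10, 11, 12, 14, 16]), ([7], [7, 9, 10, 11, 12]), ([8], [8, 9, 10, 11, 12, 14, 15, 16]), ([9], [7, 10, 12]), ([10], [7, 10, 11, 14, 15, 16]), ([11], [9, 10, 12]), ([12], [12, 14, 15, 16]), ([13], [9, 10, 12, 14, 15]), ([14], [7, 9, 10, 12, 14]), ([15], [7, 9, 10, 11, 12, 13, 14]), ([16], [11, 13, 14, 15, 16])],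
    [([0, 7], [1, 3, 5, 6, 7, 8, 9, 12]), ([1, 7], [0, 2, 4, 7, 9, 10, 11, 13]), ([2, 7], [0, 1, 4, 5, 7, 9, 10, 12, 14, 16]), ([3], [0, 1, 2, 3, 4, 6, 10, 12, 13, 16]), ([4, 7], [0, 1, 3, 4, 7, 8, 9, 12, 14, 15]), ([5], [10, 11, 14]), ([6], [2, 3, 4, 8, 9, 14]), ([8], [0, 1, 3, 9, 10, 11, 13, 14]), ([9], [2, 3, 4, 5, 8, 9, 11, 13, 14]), ([10], [5, 6, 9, 10, 11, 14, 16]), ([11], [6, 9, 10, 11, 16]), ([12], [6, 9, 10, 12, 16]), ([13], [13]), ([14], [14]), ([15], [15]), ([16], [16])]]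

/-- A part of the certificate. -/
def adj0 : List Form := [
    [(0, 1), (2, 1), (19, 1), (170, 1), (172, 1), (174, 1), (175, 1), (191, 1), (206, 1)],
    [(0, 1), (20, 1), (23, 1), (154, 1), (174, 1), (191, 1), (205, 1)],
    [(1, 2), (3, 3), (4, 2), (6, 2), (17, 1), (18, 2), (20, 2), (21, 3), (23, 1), (153, 1), (170, 2), (172, 2), (173, 2), (174, 2), (175, 2), (187, 1), (191, 2), (204, 2), (206, 2), (209, 2), (222, 2)],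
    [(0, 1), (1, 1), (6, 1), (17, 1), (18, 1), (153, 1)],
    [(0, 1), (1, 1), (2, 1), (3, 2), (4, 3), (6, 2), (17, 3), (19, 2), (20, 1), (21, 2), (24, 1), (26, 2), (153, 2), (173, 2), (187, 3), (205, 2)],
    [(0, 3), (1, 3), (2, 1), (4, 2), (6, 2), (17, 1), (18, 3), (19, 2), (20, 1), (21, 2), (23, 1), (24, 3), (26, 3), (187, 2), (204, 2), (222, 2)],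
    [(1, 3), (2, 1), (3, 3), (6, 1), (17, 2), (20, 3), (21, 2), (26, 1), (153, 2), (173, 2), (187, 2), (205, 2), (209, 2), (222, 2)],
    [(1, 1), (6, 1), (19, 1), (23, 1), (26, 1), (187, 1)],
    [(1, 2), (2, 1), (3, 1), (19, 2), (20, 2), (21, 2), (23, 1), (24, 1), (26, 1), (153, 2), (154, 2), (174, 2), (187, 2), (191, 2), (204, 2)],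
    [(0, 3), (3, 3), (4, 2), (6, 2), (17, 3), (18, 1), (19, 1), (21, 1), (23, 3), (24, 2), (26, 3), (153, 2), (173, 2), (204, 2), (205, 2), (209, 2)],
    [(0, 3), (1, 3), (3, 3), (4, 2), (6, 1), (17, 3), (20, 2), (21, 2), (26, 3), (187, 2), (222, 2)],
    [(0, 3), (1, 3), (2, 2), (3, 1), (4, 1), (6, 3), (17, 3), (18, 1), (19, 3), (21, 2), (23, 3), (24, 1), (173, 2)],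
    [(1, 3), (2, 1), (3, 2), (6, 2), (17, 2), (18, 3), (19, 2), (20, 2), (23, 3), (24, 3), (26, 2), (173, 2), (204, 2), (205, 2), (209, 2), (222, 2)],
    [(0, 1), (1, 1), (2, 2), (4, 2), (17, 1), (18, 1), (19, 1), (23, 1), (24, 1), (26, 1), (153, 2), (173, 2), (187, 2)],
    [(0, 1), (1, 2), (2, 3), (3, 3), (4, 1), (6, 3), (17, 3), (18, 3), (19, 2), (20, 2), (23, 3), (24, 1), (26, 3), (173, 2), (204, 2), (205, 2), (209, 2)],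
    [(0, 1), (1, 3), (2, 1), (4, 3), (17, 3), (18, 1), (21, 3), (23, 1), (24, 3), (26, 3), (173, 2), (204, 2)],
    [(0, 1), (1, 2), (2, 3), (3, 3), (4, 2), (6, 1), (17, 3), (18, 1), (19, 2), (21, 2), (23, 1), (24, 1), (173, 2), (187, 2), (204, 2), (205, 2), (209, 2)]]

end CfsgLib.Spor.Fi22Mult.P2
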