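import Cfsg.Agent.Lib.Spor.SchurCert.ActBridge

/-!
A part of the certificate at the prime 2.
-/

set_option autoImplicit false
set_option maxRecDepth 100000
set_option maxHeartbeats 0
set_option Elab.async false

namespace CfsgLib.Spor.Fi22Mult.P2

open CfsgLib.Spor.TC CfsgLib.Spor.ActCert CfsgLib.Spor.SchurCert

/-- A part of the certificate. -/
def overlaps0 : List (List ℕ × List (ℕ × ℕ) × List (ℕ × ℕ)) := [
    ([0, 0, 0], [(0, 0), (137, 5), (122, 4), (27, 3), (23, 2), (20, 1), (18, 0), (140, 8), (125, 7), (111, 6), (75, 5), (41, 4), (35, 3), (26, 2), (143, 6), (89, 5), (68, 4), (149, 6), (16, 7), (93, 6), (10, 5), (12, 5), (144, 6), (102, 5), (147, 7), (105, 6), (149, 8), (107, 7), (150, 9), (13, 8), (151, 8), (148, 9), (119, 8), (94, 7), (16, 10), (14, 9), (16, 10), (126, 9), (87, 8), (76, 7), (66, 6), (42, 5), (36, 4), (4, 3), (114, 5), (89, 4), (68, 3), (149, 5), (151, 6), (150, 7), (121, 6), (144, 8), (115, 7), (102, 6), (90, 5), (69,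 4), (151, 9), (14, 8), (152, 8), (16, 9), (132, 8), (105, 7), (93, 6), (10, 5), (136, 7), (15, 8), (148, 8), (119, 7), (106, 6), (94, 5), (16, 9), (120, 8), (107, 7), (12, 6), (14, 7), (152, 8), (15, 7), (142, 7), (100, 6), (77, 5), (43, 4), (37, 3), (144, 6), (102, 5), (147, 7), (105, 6), (149, 8), (107, 7), (148, 9), (106, 8), (94, 7), (16, 10), (13, 9), (143, 9), (89, 8), (78, 7), (68, 6), (44, 5), (6, 4), (144, 6), (129, 5), (115, 4), (148, 7), (133, 6), (119, 5), (150, 8), (135, 7), (121, 6), (147, 9), (132, 8), (118, 7), (105, 6), (82, 5), (16, 10), (133, 9), (119, 8), (106, 7), (11, 6), (134, 8), (120, 7), (107, 6), (144, 10), (129, 9), (115, 8), (102, 7), (90, 6), (69, 5), (7, 4), (145, 9), (130, 8), (116, 7), (103, 6), (91, 5), (70, 4), (148, 10), (133, 9), (119, 8), (106, 7), (94, 6), (149, 11), (134, 10), (120, 9), (107, 8), (12, 7), (16, 10), (126, 9), (112, 8), (99, 7), (76, 6), (66, 5), (49, 4), (31, 3), (116, 7), (91, 6), (70, 5),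 (118, 8), (93, 7), (10, 6), (120, 7), (12, 6), (147, 8), (132, 7), (118, 6), (151, 9), (136, 8), (14, 7), (152, 8), (15, 7), (16, 7), (150, 8), (16, 9), (127, 10), (113, 9), (100, 8), (77, 7), (67, 6), (50, 5), (5, 4), (132, 5), (148, 7), (133, 6), (16, 8), (135, 7), (136, 8), (15, 9), (114, 8), (101, 7), (78, 6), (68, 5), (51, 4), (132, 8), (118, 7), (105, 6), (148, 10), (133, 9), (119, 8), (106, 7), (150, 11), (135, 10), (121, 9), (13, 8), (151, 10), (136, 9), (14, 8), (145, 9), (130, 8), (80, 7), (70, 6), (8, 5), (146, 8), (131, 7), (81, 6), (71, 5), (147, 9), (132, 8), (82, 7), (10, 6), (148, 8), (133, 7), (11, 6), (149, 7), (134, 6), (152, 8), (15, 7), (16, 7), (88, 6), (58, 5), (37, 4), (146, 7), (104, 6), (150, 8), (13, 7), (16, 7), (143, 8), (89, 7), (59, 6), (6, 5), (146, 7), (131, 6), (117, 5), (151, 8), (136, 7), (14, 6), (152, 7), (15, 6), (149, 6), (16, 7), (92, 6), (9, 5), (12, 5), (152, 5), (16, 6)], [(0, 1)]),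
    ([1, 1, 1], [(1, 0), (109, 6), (96, 5), (63, 4), (46, 3), (39, 2), (33, 1), (24, 0), (143, 4), (101, 3), (59, 2), (135, 5), (121, 4), (147, 7), (132, 6), (118, 5), (105, 4), (149, 8), (134, 7), (120, 6), (107, 5), (150, 9), (135, 8), (121, 7), (13, 6), (144, 8), (129, 7), (115, 6), (90, 5), (69, 4), (60, 3), (147, 9), (132, 8), (118, 7), (93, 6), (10, 5), (149, 8), (134, 7), (120, 6), (12, 5), (150, 7), (135, 6), (121, 5), (152, 8), (15, 7), (16, 7), (116, 6), (103, 5), (61, 4), (117, 7), (104, 6), (9, 5), (119, 6), (106, 5), (121, 7), (13, 6), (147, 7), (118, 6), (82, 5), (148, 8), (119, 7), (11, 6), (152, 7), (16, 8), (135, 7), (121, 6), (136, 8), (14, 7), (15, 7), (151, 7), (16, 8)], [(1, 1)]),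
    ([1, 1, 0], [(1, 0), (108, 6), (95, 5), (62, 4), (45, 3), (38, 2), (32, 1), (23, 0), (143, 10), (128, 9), (89, 8), (78, 7), (68, 6), (59, 5), (51, 4), (6, 3), (145, 5), (130, 4), (116, 3), (150, 6), (135, 5), (121, 4), (151, 7), (136, 6), (14, 5), (152, 6), (15, 5), (146, 5), (104, 4), (151, 6), (152, 7), (147, 8), (132, 7), (118, 6), (105, 5), (16, 9), (133, 8), (119, 7), (106, 6), (134, 9), (120, 8), (107, 7), (15, 10), (148, 10), (119, 9), (106, 8), (94, 7), (11, 6), (149, 9), (120, 8), (107, 7), (12, 6), (16, 8), (115, 7), (102, 6), (69, 5), (60, 4), (52, 3), (116, 8), (103, 7), (70, 6), (61, 5), (8, 4), (117, 7), (104, 6), (71, 5), (9, 4), (121, 6), (13, 5), (14, 5), (130, 5), (70, 4), (131, 6), (71, 5), (15, 7), (10, 6), (150, 8), (121, 7), (151, 9), (14, 8), (152, 8), (151, 9), (136, 8), (16, 10)], [(17, 1), (17, 0), (138, 12), (123, 11), (84, 10), (73, 9), (63, 8), (46, 7), (39, 6), (33, 5), (28, 4), (21, 3), (19, 2), (1, 1), (110,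 7), (97, 6), (64, 5), (47, 4), (40, 3), (34, 2), (25, 1), (128, 7), (114, 6), (78, 5), (68, 4), (6, 3), (147, 5), (132, 4), (118, 3), (16, 6), (133, 5), (119, 4), (136, 6), (14, 5), (15, 5), (82, 4), (10, 3), (144, 6), (102, 5), (90, 4), (79, 3), (146, 7), (104, 6), (92, 5), (81, 4), (147, 8), (105, 7), (93, 6), (82, 5), (150, 9), (13, 8), (151, 8), (16, 9), (116, 8), (91, 7), (80, 6), (70, 5), (61, 4), (120, 9), (12, 8), (121, 8), (118, 9), (105, 8), (82, 7), (10, 6), (14, 8), (150, 8), (13, 7), (16, 7), (112, 7), (76, 6), (57, 5), (49, 4), (42, 3), (4, 2), (115, 4), (90, 3), (69, 2), (14, 5), (145, 6), (130, 5), (91, 4), (70, 3), (147, 7), (132, 6), (93, 5), (10, 4), (149, 6), (134, 5), (12, 4), (152, 5), (15, 4), (16, 4), (106, 6), (11, 5), (151, 6), (142, 7), (113, 6), (100, 5), (58, 4), (50, 3), (43, 2), (91, 5), (70, 4), (131, 7), (92, 6), (71, 5), (135, 8), (150, 10), (135, 9), (13, 8), (151, 9), (136, 8), (16, 10), (129, 9), (115, 8),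 (90, 7), (69, 6), (60, 5), (52, 4), (7, 3), (130, 8), (116, 7), (91, 6), (70, 5), (61, 4), (8, 3), (133, 7), (119, 6), (94, 5), (134, 8), (120, 7), (12, 6), (135, 7), (121, 6), (125, 8), (111, 7), (98, 6), (75, 5), (65, 4), (56, 3), (30, 2), (146, 6), (131, 5), (117, 4), (147, 7), (132, 6), (118, 5), (149, 8), (134, 7), (120, 6), (150, 9), (135, 8), (121, 7), (151, 10), (136, 9), (14, 8), (147, 9), (132, 8), (105, 7), (93, 6), (10, 5), (150, 8), (135, 7), (13, 6), (151, 7), (136, 6), (16, 8), (133, 7), (119, 6), (94, 5), (150, 9), (135, 8), (121, 7), (151, 10), (136, 9), (14, 8), (152, 9), (15, 8), (16, 8), (99, 7), (87, 6), (76, 5), (57, 4), (31, 3), (117, 7), (92, 6), (71, 5), (119, 8), (94, 7), (121, 9), (119, 10), (106, 9), (94, 8), (11, 7), (149, 10), (120, 9), (107, 8), (12, 7), (151, 9), (14, 8), (152, 8), (16, 9), (135, 8), (13, 7), (143, 8), (128, 7), (68, 6), (59, 5), (132, 8), (118, 7), (152, 10), (15, 9), (16, 9), (115, 8), (69, 7),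 (60, 6), (116, 9), (70, 8), (61, 7), (118, 10), (10, 9), (119, 9), (14, 10), (142, 11), (127, 10), (77, 9), (58, 8), (50, 7), (43, 6), (37, 5), (5, 4), (144, 6), (102, 5), (147, 7), (105, 6), (149, 8), (107, 7), (145, 9), (103, 8), (91, 7), (70, 6), (152, 10), (146, 11), (131, 10), (104, 9), (92, 8), (71, 7), (150, 12), (135, 11), (13, 10), (16, 11), (133, 10), (94, 9), (152, 12), (15, 11), (16, 11), (89, 10), (78, 9), (68, 8), (59, 7), (51, 6), (44, 5), (6, 4), (144, 6), (129, 5), (115, 4), (148, 7), (133, 6), (119, 5), (150, 8), (135, 7), (121, 6), (145, 9), (130, 8), (116, 7), (103, 6), (80, 5), (150, 10), (135, 9), (121, 8), (13, 7), (151, 9), (136, 8), (14, 7), (152, 8), (15, 7), (146, 7), (81, 6), (151, 8), (152, 9), (147, 10), (132, 9), (118, 8), (82, 7), (16, 11), (133, 10), (119, 9), (11, 8), (134, 9), (120, 8), (131, 10), (117, 9), (92, 8), (71, 7), (9, 6), (134, 9), (120, 8), (12, 7), (143, 9), (128, 8), (114, 7), (68, 6), (51, 5),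 (44, 4), (103, 7), (80, 6), (13, 8), (132, 9), (118, 8), (82, 7), (151, 11), (136, 10), (14, 9), (152, 10), (15, 9), (16, 9), (82, 8), (10, 7), (102, 9), (90, 8), (79, 7), (52, 6), (7, 5), (105, 8), (93, 7), (82, 6), (107, 9), (12, 8), (13, 8), (145, 9), (130, 8), (80, 7), (70, 6), (8, 5), (146, 8), (131, 7), (81, 6), (71, 5), (148, 9), (133, 8), (11, 7), (150, 8), (135, 7), (16, 9), (132, 8), (105, 7), (10, 6), (133, 7), (106, 6), (15, 8), (148, 8), (106, 7), (11, 6), (151, 7), (152, 8), (149, 9), (134, 8), (120, 7), (107, 6), (150, 10), (135, 9), (121, 8), (13, 7), (152, 9), (15, 8), (16, 8), (139, 9), (124, 8), (110, 7), (85, 6), (55, 5), (34, 4), (25, 3), (22, 2), (2, 1), (140, 3), (35, 2), (30, 1), (143, 5), (128, 4), (114, 3), (147, 6), (132, 5), (118, 4), (149, 7), (134, 6), (120, 5), (150, 8), (135, 7), (121, 6), (16, 9), (142, 9), (127, 8), (113, 7), (100, 6), (88, 5), (67, 4), (37, 3), (5, 2), (147, 4), (105, 3), (16, 5), (107, 4), (150,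 6), (13, 5), (151, 5), (152, 6), (16, 7), (133, 6), (119, 5), (94, 4), (15, 7), (112, 6), (87, 5), (76, 4), (66, 3), (36, 2), (105, 4), (148, 8), (133, 7), (119, 6), (106, 5), (16, 9), (134, 8), (120, 7), (107, 6), (136, 9), (14, 8), (15, 8), (151, 8), (143, 9), (114, 8), (101, 7), (89, 6), (78, 5), (68, 4), (6, 3), (147, 5), (132, 4), (118, 3), (16, 6), (133, 5), (119, 4), (134, 6), (120, 5), (135, 7), (121, 6), (136, 8), (14, 7), (147, 8), (132, 7), (105, 6), (93, 5), (82, 4), (10, 3), (148, 7), (133, 6), (106, 5), (94, 4), (11, 3), (151, 6), (136, 5), (152, 7), (15, 6), (143, 6), (114, 5), (101, 4), (89, 3), (147, 7), (118, 6), (105, 5), (93, 4), (149, 8), (120, 7), (107, 6), (12, 5), (150, 7), (121, 6), (13, 5), (16, 6), (117, 5), (71, 4), (118, 6), (10, 5), (119, 5), (120, 6), (121, 7), (14, 8), (149, 8), (107, 7), (12, 6), (150, 7), (13, 6), (151, 6), (16, 7), (14, 6), (16, 7), (125, 6), (75, 5), (56, 4), (35, 3), (26, 2), (3, 1), (126,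 3), (99, 2), (76, 1), (150, 3), (16, 4), (132, 4), (105, 3), (82, 2), (134, 5), (107, 4), (143, 7), (128, 6), (101, 5), (89, 4), (78, 3), (68, 2), (148, 4), (149, 5), (150, 6), (152, 7), (16, 8), (132, 7), (105, 6), (93, 5), (82, 4), (10, 3), (134, 6), (107, 5), (12, 4), (135, 5), (13, 4), (146, 5), (131, 4), (81, 3), (147, 6), (132, 5), (82, 4), (149, 7), (134, 6), (150, 8), (135, 7), (151, 9), (136, 8), (148, 10), (133, 9), (119, 8), (106, 7), (94, 6), (11, 5), (16, 9), (15, 8), (142, 8), (113, 7), (100, 6), (88, 5), (67, 4), (58, 3), (37, 2), (146, 5), (104, 4), (150, 6), (13, 5), (16, 5), (149, 6), (16, 7), (143, 9), (114, 8), (101, 7), (89, 6), (68, 5), (59, 4), (6, 3), (146, 5), (131, 4), (117, 3), (151, 6), (136, 5), (14, 4), (152, 5), (15, 4), (147, 4), (16, 5), (144, 8), (115, 7), (102, 6), (90, 5), (69, 4), (60, 3), (145, 9), (116, 8), (103, 7), (91, 6), (70, 5), (61, 4), (147, 10), (118, 9), (105, 8), (93, 7), (10, 6), (148, 9), (119,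 8), (106, 7), (94, 6), (149, 10), (120, 9), (107, 8), (12, 7), (152, 9), (16, 10)]),
    ([1, 0, 0], [(0, 1)], [(17, 0), (137, 12), (122, 11), (83, 10), (72, 9), (62, 8), (45, 7), (38, 6), (32, 5), (27, 4), (20, 3), (18, 2), (17, 1), (0, 0), (138, 5), (123, 4), (28, 3), (24, 2), (21, 1), (19, 0), (98, 8), (86, 7), (75, 6), (48, 5), (41, 4), (30, 3), (26, 2), (142, 6), (88, 5), (67, 4), (149, 6), (16, 7), (151, 7), (152, 8), (16, 9), (129, 8), (115, 7), (90, 6), (69, 5), (132, 9), (118, 8), (93, 7), (10, 6), (134, 8), (120, 7), (12, 6), (135, 7), (121, 6), (136, 8), (14, 7), (130, 7), (103, 6), (132, 8), (105, 7), (133, 9), (106, 8), (134, 10), (107, 9), (136, 11), (15, 12), (119, 11), (106, 10), (94, 9), (11, 8), (149, 11), (120, 10), (107, 9), (12, 8), (150, 10), (121, 9), (13, 8), (151, 9), (14, 8), (16, 8), (99, 8), (66, 7), (49, 6), (42, 5), (31, 4), (4, 3), (113, 5), (88, 4), (67, 3), (149, 5), (16, 6), (118, 6), (93, 5), (10, 4), (120, 5),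 (12, 4), (14, 4), (145, 7), (130, 6), (116, 5), (147, 8), (132, 7), (118, 6), (149, 9), (134, 8), (120, 7), (152, 10), (15, 9), (16, 9), (118, 8), (93, 7), (10, 6), (14, 7), (150, 8), (135, 7), (16, 9), (128, 8), (101, 7), (89, 6), (51, 5), (44, 4), (103, 7), (80, 6), (13, 8), (134, 9), (120, 8), (135, 10), (121, 9), (15, 11), (115, 10), (102, 9), (90, 8), (79, 7), (52, 6), (7, 5), (116, 9), (103, 8), (91, 7), (80, 6), (8, 5), (118, 8), (105, 7), (93, 6), (82, 5), (119, 9), (106, 8), (94, 7), (11, 6), (14, 8), (141, 9), (126, 8), (99, 7), (87, 6), (66, 5), (36, 4), (31, 3), (114, 7), (89, 6), (68, 5), (149, 7), (151, 8), (150, 9), (121, 8), (147, 10), (118, 9), (105, 8), (93, 7), (10, 6), (151, 9), (14, 8), (152, 8), (16, 9), (134, 8), (107, 7), (12, 6), (136, 7), (15, 8), (150, 8), (121, 7), (13, 6), (16, 7), (146, 8), (131, 7), (117, 6), (150, 9), (135, 8), (121, 7), (16, 10), (127, 9), (113, 8), (100, 7), (58, 6), (37, 5), (5, 4), (146, 6),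 (104, 5), (150, 7), (13, 6), (16, 6), (128, 8), (114, 7), (101, 6), (59, 5), (6, 4), (146, 6), (131, 5), (117, 4), (151, 7), (136, 6), (14, 5), (152, 6), (15, 5), (150, 5), (151, 6), (152, 7), (146, 8), (131, 7), (117, 6), (104, 5), (9, 4), (149, 7), (134, 6), (120, 5), (107, 4), (16, 8), (15, 7), (139, 7), (110, 6), (97, 5), (85, 4), (25, 3), (22, 2), (2, 1), (140, 3), (35, 2), (30, 1), (143, 5), (128, 4), (114, 3), (147, 6), (132, 5), (118, 4), (149, 7), (134, 6), (120, 5), (150, 8), (135, 7), (121, 6), (16, 9), (142, 9), (127, 8), (113, 7), (100, 6), (88, 5), (67, 4), (37, 3), (5, 2), (147, 4), (105, 3), (16, 5), (107, 4), (150, 6), (13, 5), (151, 5), (152, 6), (16, 7), (133, 6), (119, 5), (94, 4), (15, 7), (112, 6), (87, 5), (76, 4), (66, 3), (36, 2), (105, 4), (148, 8), (133, 7), (119, 6), (106, 5), (16, 9), (134, 8), (120, 7), (107, 6), (136, 9), (14, 8), (15, 8), (151, 8), (143, 9), (114, 8), (101, 7), (89, 6), (78, 5), (68, 4), (6, 3),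 (147, 5), (132, 4), (118, 3), (16, 6), (133, 5), (119, 4), (134, 6), (120, 5), (135, 7), (121, 6), (136, 8), (14, 7), (147, 8), (132, 7), (105, 6), (93, 5), (82, 4), (10, 3), (148, 7), (133, 6), (106, 5), (94, 4), (11, 3), (151, 6), (136, 5), (152, 7), (15, 6), (149, 6), (120, 5), (107, 4), (12, 3), (150, 5), (121, 4), (13, 3), (151, 4), (14, 3), (16, 3), (151, 4), (16, 5), (111, 4), (98, 3), (26, 2), (3, 1), (126, 3), (99, 2), (76, 1), (150, 3), (16, 4), (132, 4), (105, 3), (82, 2), (134, 5), (107, 4), (150, 7), (135, 6), (13, 5), (151, 6), (136, 5), (142, 7), (127, 6), (113, 5), (88, 4), (77, 3), (67, 2), (148, 4), (16, 5), (151, 6), (152, 7), (16, 8), (128, 7), (114, 6), (89, 5), (78, 4), (68, 3), (148, 5), (149, 6), (151, 7), (152, 8), (144, 9), (129, 8), (115, 7), (90, 6), (79, 5), (69, 4), (145, 10), (130, 9), (116, 8), (91, 7), (80, 6), (70, 5), (147, 11), (132, 10), (118, 9), (93, 8), (82, 7), (10, 6), (148, 10), (133, 9), (119, 8), (94,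 7), (11, 6), (149, 9), (134, 8), (120, 7), (12, 6), (152, 8), (15, 7), (16, 7), (110, 6), (47, 5), (40, 4), (34, 3), (29, 2), (25, 1), (127, 7), (113, 6), (77, 5), (67, 4), (37, 3), (147, 6), (105, 5), (16, 7), (106, 6), (151, 8), (152, 9), (147, 10), (132, 9), (118, 8), (105, 7), (82, 6), (10, 5), (149, 9), (134, 8), (120, 7), (107, 6), (150, 10), (135, 9), (121, 8), (13, 7), (143, 9), (128, 8), (114, 7), (89, 6), (78, 5), (6, 4), (148, 6), (133, 5), (119, 4), (149, 7), (134, 6), (120, 5), (151, 8), (136, 7), (14, 6), (152, 7), (15, 6), (16, 6), (93, 5), (82, 4), (12, 6), (144, 7), (102, 6), (79, 5), (69, 4), (146, 8), (104, 7), (81, 6), (71, 5), (147, 9), (105, 8), (82, 7), (10, 6), (150, 8), (13, 7), (151, 7), (16, 8), (116, 7), (80, 6), (61, 5), (120, 8), (121, 9), (14, 10), (99, 9), (87, 8), (76, 7), (57, 6), (49, 5), (42, 4), (31, 3), (4, 2), (113, 4), (88, 3), (67, 2), (149, 4), (16, 5), (118, 5), (93, 4), (10, 3), (120, 4), (12, 3), (14,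 3), (145, 6), (130, 5), (116, 4), (147, 7), (132, 6), (118, 5), (149, 8), (134, 7), (120, 6), (152, 9), (15, 8), (16, 8), (117, 7), (92, 6), (71, 5), (119, 8), (94, 7), (121, 9), (119, 10), (106, 9), (94, 8), (11, 7), (149, 10), (120, 9), (107, 8), (12, 7), (151, 9), (14, 8), (152, 8), (16, 9), (135, 8), (13, 7), (143, 8), (128, 7), (68, 6), (59, 5), (51, 4), (44, 3), (103, 6), (80, 5), (13, 7), (131, 8), (117, 7), (81, 6), (136, 9), (14, 8), (15, 8), (82, 7), (152, 9), (16, 10), (129, 9), (79, 8), (69, 7), (60, 6), (52, 5), (7, 4), (133, 8), (11, 7), (136, 7), (15, 8), (140, 8), (111, 7), (65, 6), (56, 5), (48, 4), (35, 3), (30, 2), (143, 6), (128, 5), (114, 4), (147, 7), (132, 6), (118, 5), (149, 8), (134, 7), (120, 6), (150, 9), (135, 8), (121, 7), (16, 10), (130, 9), (116, 8), (103, 7), (91, 6), (70, 5), (132, 10), (118, 9), (105, 8), (93, 7), (10, 6), (133, 9), (119, 8), (106, 7), (94, 6), (134, 10), (120, 9), (107, 8), (12, 7), (136, 9),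 (14, 8), (15, 8), (104, 7), (81, 6), (105, 8), (82, 7), (107, 9), (13, 10), (118, 10), (93, 9), (82, 8), (10, 7), (121, 9), (14, 10), (151, 10), (16, 11), (112, 10), (99, 9), (87, 8), (76, 7), (57, 6), (49, 5), (36, 4), (31, 3), (114, 7), (89, 6), (68, 5), (149, 7), (151, 8), (150, 9), (121, 8), (145, 10), (116, 9), (103, 8), (91, 7), (70, 6), (147, 11), (118, 10), (105, 9), (93, 8), (10, 7), (149, 10), (120, 9), (107, 8), (12, 7), (152, 9), (16, 10), (131, 9), (117, 8), (104, 7), (133, 10), (119, 9), (106, 8), (135, 11), (121, 10), (13, 9), (133, 10), (119, 9), (11, 8), (149, 10), (134, 9), (120, 8), (151, 11), (136, 10), (14, 9), (152, 10), (15, 9), (16, 9), (151, 10), (142, 11), (113, 10), (100, 9), (88, 8), (58, 7), (50, 6), (37, 5), (5, 4), (145, 6), (103, 5), (152, 7), (146, 8), (131, 7), (104, 6), (150, 9), (135, 8), (13, 7), (16, 8), (134, 7), (150, 9), (135, 8), (151, 10), (136, 9), (16, 11), (128, 10), (114, 9), (101, 8), (89, 7), (59,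 6), (51, 5), (6, 4), (145, 6), (130, 5), (116, 4), (150, 7), (135, 6), (121, 5), (151, 8), (136, 7), (14, 6), (152, 7), (15, 6), (146, 6), (104, 5), (151, 7), (152, 8), (149, 9), (134, 8), (120, 7), (107, 6), (150, 10), (135, 9), (121, 8), (13, 7), (151, 9), (136, 8), (14, 7), (152, 8), (15, 7), (144, 7), (90, 6), (60, 5), (52, 4), (145, 8), (91, 7), (61, 6), (8, 5), (148, 7), (94, 6), (149, 8), (12, 7), (16, 7), (77, 6), (58, 5), (43, 4), (92, 7), (71, 6), (148, 10), (106, 9), (94, 8), (16, 11), (101, 10), (89, 9), (78, 8), (68, 7), (59, 6), (44, 5), (104, 8), (81, 7), (132, 11), (118, 10), (105, 9), (82, 8), (148, 13), (133, 12), (119, 11), (106, 10), (11, 9), (149, 12), (134, 11), (120, 10), (107, 9), (150, 13), (135, 12), (121, 11), (13, 10), (146, 12), (131, 11), (117, 10), (92, 9), (71, 8), (9, 7), (149, 11), (134, 10), (120, 9), (12, 8), (16, 10), (128, 9), (114, 8), (68, 7), (44, 6), (6, 5), (144, 7), (129, 6), (115, 5), (148, 8), (133,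 7), (119, 6), (150, 9), (135, 8), (121, 7), (147, 10), (132, 9), (118, 8), (105, 7), (82, 6), (16, 11), (136, 10), (14, 9), (15, 9), (106, 8), (11, 7), (107, 7), (144, 9), (102, 8), (90, 7), (69, 6), (7, 5), (145, 8), (103, 7), (91, 6), (70, 5), (146, 9), (104, 8), (92, 7), (71, 6), (150, 10), (13, 9), (151, 9), (152, 10), (145, 11), (130, 10), (116, 9), (91, 8), (70, 7), (61, 6), (8, 5), (146, 10), (131, 9), (117, 8), (92, 7), (71, 6), (9, 5), (152, 9), (15, 8), (147, 8), (118, 7), (93, 6), (10, 5), (148, 7), (119, 6), (94, 5), (151, 8), (14, 7), (16, 7), (94, 6), (11, 5), (134, 8), (120, 7), (107, 6), (12, 5), (135, 7), (121, 6), (13, 5), (136, 6), (14, 5), (15, 5), (152, 5), (16, 6)]),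
    ([2, 2, 2], [(2, 0), (139, 2), (34, 1), (29, 0), (101, 4), (89, 3), (68, 2), (149, 4), (150, 5), (147, 6), (105, 5), (93, 4), (10, 3), (149, 5), (107, 4), (12, 3), (150, 4), (13, 3), (16, 3)], [(2, 1)]),
    ([2, 2, 0], [(2, 0), (137, 2), (32, 1), (27, 0), (143, 5), (89, 4), (59, 3), (6, 2), (146, 4), (131, 3), (117, 2), (151, 5), (136, 4), (14, 3), (152, 4), (15, 3), (149, 3), (16, 4), (94, 3), (12, 4), (16, 4)], [(18, 1), (18, 0), (139, 8), (124, 7), (110, 6), (74, 5), (40, 4), (34, 3), (25, 2), (2, 1), (141, 3), (36, 2), (31, 1), (114, 5), (89, 4), (68, 3), (149, 5), (151, 6), (150, 7), (121, 6), (16, 8), (114, 7), (101, 6), (89, 5), (68, 4), (6, 3), (147, 5), (132, 4), (118, 3), (16, 6), (134, 5), (120, 4), (135, 6), (121, 5), (136, 7), (14, 6), (132, 6), (105, 5), (93, 4), (10, 3), (133, 5), (106, 4), (94, 3), (136, 6), (15, 7), (114, 6), (101, 5), (89, 4), (78, 3), (118, 7), (105, 6), (93, 5), (82, 4), (120, 8), (107, 7), (12, 6), (121,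 7), (13, 6), (144, 7), (115, 6), (79, 5), (69, 4), (146, 8), (117, 7), (81, 6), (71, 5), (147, 9), (118, 8), (82, 7), (10, 6), (150, 8), (121, 7), (151, 9), (14, 8), (16, 8), (106, 7), (11, 6), (136, 8), (14, 7), (15, 7), (16, 7), (99, 6), (57, 5), (42, 4), (36, 3), (31, 2), (4, 1), (113, 3), (88, 2), (67, 1), (149, 3), (16, 4), (118, 4), (93, 3), (10, 2), (120, 3), (12, 2), (14, 2), (102, 3), (146, 7), (131, 6), (117, 5), (104, 4), (148, 8), (133, 7), (119, 6), (106, 5), (150, 9), (135, 8), (121, 7), (13, 6), (150, 8), (135, 7), (121, 6), (16, 9), (128, 8), (114, 7), (101, 6), (78, 5), (59, 4), (44, 3), (6, 2), (144, 4), (129, 3), (115, 2), (148, 5), (133, 4), (119, 3), (150, 6), (135, 5), (121, 4), (146, 7), (131, 6), (117, 5), (104, 4), (81, 3), (151, 8), (136, 7), (14, 6), (152, 7), (15, 6), (148, 6), (106, 5), (11, 4), (150, 5), (13, 4), (151, 4), (152, 5), (144, 6), (129, 5), (115, 4), (60, 3), (7, 2), (148, 5), (133, 4), (119, 3), (151,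 6), (136, 5), (14, 4), (152, 5), (15, 4), (16, 4)]),
    ([2, 0, 0], [(0, 1), (2, 0), (140, 2), (35, 1), (30, 0), (143, 4), (128, 3), (114, 2), (147, 5), (132, 4), (118, 3), (149, 6), (134, 5), (120, 4), (150, 7), (135, 6), (121, 5), (16, 8), (141, 8), (126, 7), (112, 6), (99, 5), (87, 4), (66, 3), (36, 2), (31, 1), (114, 5), (89, 4), (68, 3), (149, 5), (151, 6), (150, 7), (121, 6), (147, 8), (118, 7), (105, 6), (93, 5), (10, 4), (151, 7), (14, 6), (152, 6), (16, 7), (134, 6), (107, 5), (12, 4), (136, 5), (15, 6), (150, 6), (121, 5), (13, 4), (16, 5), (14, 4), (142, 5), (127, 4), (37, 3), (5, 2), (152, 4), (16, 5), (15, 4)], [(18, 0), (137, 8), (122, 7), (108, 6), (72, 5), (38, 4), (32, 3), (23, 2), (18, 1), (0, 0), (139, 5), (124, 4), (29, 3), (25, 2), (22, 1), (2, 0), (140, 2), (35, 1), (30, 0), (143, 4), (128, 3), (114, 2), (147, 5), (132, 4), (118, 3), (149, 6), (134, 5), (120, 4), (150, 7), (135, 6), (121, 5), (16, 8), (142, 8), (127, 7),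 (113, 6), (100, 5), (88, 4), (67, 3), (37, 2), (5, 1), (147, 3), (105, 2), (16, 4), (107, 3), (150, 5), (13, 4), (151, 4), (152, 5), (16, 6), (133, 5), (119, 4), (94, 3), (15, 6), (112, 5), (87, 4), (76, 3), (66, 2), (36, 1), (105, 3), (148, 7), (133, 6), (119, 5), (106, 4), (16, 8), (134, 7), (120, 6), (107, 5), (136, 8), (14, 7), (15, 7), (151, 7), (143, 8), (114, 7), (101, 6), (89, 5), (78, 4), (68, 3), (6, 2), (147, 4), (132, 3), (118, 2), (16, 5), (133, 4), (119, 3), (134, 5), (120, 4), (135, 6), (121, 5), (136, 7), (14, 6), (147, 7), (132, 6), (105, 5), (93, 4), (82, 3), (10, 2), (148, 6), (133, 5), (106, 4), (94, 3), (11, 2), (151, 5), (136, 4), (152, 6), (15, 5), (142, 5), (113, 4), (100, 3), (88, 2), (150, 4), (151, 5), (16, 6), (118, 5), (105, 4), (93, 3), (120, 6), (107, 5), (12, 4), (121, 5), (13, 4), (16, 6), (126, 5), (112, 4), (66, 3), (31, 2), (4, 1), (113, 3), (88, 2), (67, 1), (149, 3), (16, 4), (118, 4), (93, 3), (10, 2), (120,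 3), (12, 2), (14, 2), (151, 5), (136, 4), (14, 3), (152, 4), (15, 3), (143, 3), (68, 2), (16, 4), (69, 3), (141, 8), (126, 7), (112, 6), (76, 5), (66, 4), (42, 3), (36, 2), (31, 1), (114, 5), (89, 4), (68, 3), (149, 5), (151, 6), (150, 7), (121, 6), (144, 8), (115, 7), (102, 6), (90, 5), (69, 4), (151, 9), (14, 8), (152, 8), (16, 9), (132, 8), (105, 7), (93, 6), (10, 5), (136, 7), (15, 8), (148, 8), (119, 7), (106, 6), (94, 5), (16, 9), (14, 8), (142, 9), (127, 8), (100, 7), (88, 6), (77, 5), (43, 4), (37, 3), (5, 2), (144, 4), (102, 3), (147, 5), (105, 4), (149, 6), (107, 5), (148, 7), (106, 6), (94, 5), (16, 8), (107, 7), (12, 6), (150, 7), (13, 6), (152, 6), (16, 7), (128, 6), (78, 5), (68, 4), (44, 3), (6, 2), (144, 4), (129, 3), (115, 2), (148, 5), (133, 4), (119, 3), (150, 6), (135, 5), (121, 4), (147, 7), (132, 6), (118, 5), (105, 4), (82, 3), (16, 8), (133, 7), (119, 6), (106, 5), (11, 4), (15, 6), (116, 5), (103, 4), (70, 3), (117, 6),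 (104, 5), (71, 4), (118, 7), (105, 6), (10, 5), (119, 6), (106, 5), (120, 7), (107, 6), (143, 10), (128, 9), (114, 8), (101, 7), (89, 6), (78, 5), (59, 4), (51, 3), (44, 2), (103, 5), (80, 4), (13, 6), (131, 7), (117, 6), (81, 5), (136, 8), (14, 7), (15, 7), (11, 6), (148, 10), (133, 9), (119, 8), (106, 7), (94, 6), (149, 11), (134, 10), (120, 9), (107, 8), (12, 7), (16, 10), (129, 9), (115, 8), (102, 7), (79, 6), (60, 5), (52, 4), (7, 3), (130, 8), (116, 7), (103, 6), (80, 5), (61, 4), (8, 3), (131, 7), (117, 6), (104, 5), (81, 4), (9, 3), (135, 6), (121, 5), (13, 4), (136, 5), (14, 4), (15, 4), (11, 3), (136, 5), (14, 4), (152, 5), (15, 4), (16, 4)]),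
    ([2, 2, 1], [(2, 0), (138, 2), (33, 1), (28, 0), (143, 5), (89, 4), (59, 3), (6, 2), (146, 4), (131, 3), (117, 2), (151, 5), (136, 4), (14, 3), (152, 4), (15, 3), (149, 3), (16, 4), (93, 3), (12, 4)], [(19, 1), (19, 0), (97, 8), (85, 7), (74, 6), (47, 5), (40, 4), (29, 3), (25, 2), (2, 1), (141, 3), (36, 2), (31, 1), (114, 5), (89, 4), (68, 3), (149, 5), (151, 6), (150, 7), (121, 6), (16, 8), (114, 7), (101, 6), (89, 5), (68, 4), (6, 3), (147, 5), (132, 4), (118, 3), (16, 6), (134, 5), (120, 4), (135, 6), (121, 5), (136, 7), (14, 6), (132, 6), (105, 5), (93, 4), (10, 3), (133, 5), (106, 4), (94, 3), (136, 6), (15, 7), (113, 6), (100, 5), (88, 4), (77, 3), (5, 2), (149, 3), (16, 4), (118, 5), (105, 4), (93, 3), (82, 2), (120, 6), (107, 5), (12, 4), (121, 5), (13, 4), (115, 4), (79, 3), (69, 2), (117, 5), (81, 4), (71, 3), (118, 6), (82, 5), (10, 4), (121, 5), (14, 6), (145, 6), (103, 5), (80, 4), (61, 3), (149, 7), (107, 6), (150, 8), (13,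 7), (148, 7), (94, 6), (11, 5), (151, 6), (152, 7), (149, 8), (134, 7), (120, 6), (12, 5), (150, 7), (135, 6), (121, 5), (151, 8), (136, 7), (14, 6), (16, 7), (135, 6), (13, 5), (141, 6), (126, 5), (57, 4), (49, 3), (42, 2), (4, 1), (115, 3), (90, 2), (69, 1), (14, 4), (145, 5), (130, 4), (91, 3), (70, 2), (147, 6), (132, 5), (93, 4), (10, 3), (149, 5), (134, 4), (12, 3), (152, 4), (15, 3), (16, 3), (142, 7), (127, 6), (100, 5), (77, 4), (58, 3), (50, 2), (43, 1), (91, 4), (70, 3), (131, 6), (92, 5), (71, 4), (135, 7), (148, 9), (133, 8), (106, 7), (94, 6), (16, 10), (135, 9), (13, 8), (15, 8), (144, 8), (90, 7), (79, 6), (69, 5), (60, 4), (52, 3), (7, 2), (145, 7), (91, 6), (80, 5), (70, 4), (61, 3), (8, 2), (148, 6), (94, 5), (11, 4), (149, 5), (12, 4), (150, 4)]),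
    ([2, 1, 1], [(1, 1)], [(19, 0), (96, 8), (84, 7), (73, 6), (46, 5), (39, 4), (28, 3), (24, 2), (19, 1), (1, 0), (110, 6), (97, 5), (64, 4), (47, 3), (40, 2), (34, 1), (25, 0), (128, 6), (114, 5), (78, 4), (68, 3), (6, 2), (147, 4), (132, 3), (118, 2), (16, 5), (133, 4), (119, 3), (136, 5), (14, 4), (15, 4), (82, 3), (10, 2), (144, 5), (102, 4), (90, 3), (79, 2), (146, 6), (104, 5), (92, 4), (81, 3), (147, 7), (105, 6), (93, 5), (82, 4), (150, 8), (13, 7), (151, 7), (16, 8), (116, 7), (91, 6), (80, 5), (70, 4), (61, 3), (120, 8), (12, 7), (121, 7), (118, 8), (105, 7), (82, 6), (10, 5), (14, 7), (150, 7), (13, 6), (16, 6), (112, 6), (76, 5), (57, 4), (49, 3), (42, 2), (4, 1), (115, 3), (90, 2), (69, 1), (14, 4), (145, 5), (130, 4), (91, 3), (70, 2), (147, 6), (132, 5), (93, 4), (10, 3), (149, 5), (134, 4), (12, 3), (152, 4), (15, 3), (16, 3), (106, 5), (11, 4), (151, 5), (142, 6), (113, 5), (100, 4), (58, 3), (50, 2), (43, 1), (91, 4), (70,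 3), (131, 6), (92, 5), (71, 4), (135, 7), (150, 9), (135, 8), (13, 7), (151, 8), (136, 7), (16, 9), (129, 8), (115, 7), (90, 6), (69, 5), (60, 4), (52, 3), (7, 2), (130, 7), (116, 6), (91, 5), (70, 4), (61, 3), (8, 2), (133, 6), (119, 5), (94, 4), (134, 7), (120, 6), (12, 5), (135, 6), (121, 5), (126, 7), (112, 6), (99, 5), (76, 4), (66, 3), (57, 2), (31, 1), (117, 5), (92, 4), (71, 3), (119, 6), (94, 5), (121, 7), (118, 8), (105, 7), (93, 6), (82, 5), (10, 4), (14, 7), (148, 8), (133, 7), (106, 6), (94, 5), (11, 4), (16, 7), (135, 6), (13, 5), (151, 6), (136, 5), (152, 7), (15, 6), (146, 6), (117, 5), (92, 4), (9, 3), (150, 5), (121, 4), (16, 6), (113, 5), (100, 4), (88, 3), (5, 2), (150, 3), (151, 4), (143, 5), (114, 4), (101, 3), (89, 2), (146, 6), (117, 5), (104, 4), (92, 3), (149, 7), (120, 6), (107, 5), (12, 4), (16, 6), (115, 5), (102, 4), (60, 3), (118, 6), (105, 5), (120, 7), (107, 6), (121, 8), (13, 7), (145, 9), (130, 8), (116, 7),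 (91, 6), (70, 5), (61, 4), (146, 10), (131, 9), (117, 8), (92, 7), (71, 6), (9, 5), (148, 9), (133, 8), (119, 7), (94, 6), (150, 10), (135, 9), (121, 8), (16, 11), (133, 10), (119, 9), (106, 8), (94, 7), (11, 6), (136, 9), (14, 8), (15, 8), (107, 7), (12, 6), (13, 6), (150, 7), (135, 6), (151, 8), (136, 7), (152, 9), (15, 8), (16, 8)]),
    ([2, 1, 0], [(19, 0), (95, 8), (83, 7), (72, 6), (45, 5), (38, 4), (27, 3), (23, 2), (18, 1), (17, 0), (139, 12), (124, 11), (85, 10), (74, 9), (64, 8), (47, 7), (40, 6), (34, 5), (29, 4), (22, 3), (2, 2), (140, 4), (35, 3), (30, 2), (143, 6), (128, 5), (114, 4), (147, 7), (132, 6), (118, 5), (149, 8), (134, 7), (120, 6), (150, 9), (135, 8), (121, 7), (16, 10), (142, 10), (127, 9), (113, 8), (100, 7), (88, 6), (67, 5), (37, 4), (5, 3), (147, 5), (105, 4), (16, 6), (107, 5), (150, 7), (13, 6), (151, 6), (152, 7), (16, 8), (133, 7), (119, 6), (94, 5), (15, 8), (113, 7), (88, 6), (77, 5), (67, 4), (37, 3), (147,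 6), (105, 5), (16, 7), (106, 6), (149, 8), (107, 7), (16, 9), (118, 9), (105, 8), (93, 7), (82, 6), (10, 5), (120, 8), (107, 7), (12, 6), (121, 7), (13, 6), (114, 6), (78, 5), (6, 4), (148, 6), (133, 5), (119, 4), (151, 7), (136, 6), (14, 5), (147, 6), (132, 5), (82, 4), (149, 7), (134, 6), (150, 8), (135, 7), (16, 9), (129, 8), (102, 7), (90, 6), (79, 5), (69, 4), (131, 9), (104, 8), (92, 7), (81, 6), (71, 5), (132, 10), (105, 9), (93, 8), (82, 7), (10, 6), (135, 9), (13, 8), (136, 8), (145, 10), (130, 9), (116, 8), (91, 7), (80, 6), (61, 5), (149, 11), (134, 10), (120, 9), (12, 8), (150, 10), (135, 9), (121, 8), (147, 11), (132, 10), (118, 9), (105, 8), (82, 7), (151, 12), (136, 11), (14, 10), (16, 11), (133, 10), (106, 9), (11, 8), (136, 9), (15, 10), (120, 9), (107, 8), (121, 10), (13, 9), (14, 9), (152, 9), (16, 10), (141, 10), (126, 9), (87, 8), (66, 7), (57, 6), (49, 5), (42, 4), (31, 3), (115, 7), (90, 6), (69, 5), (14, 8), (145, 9), (130,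 8), (91, 7), (70, 6), (147, 10), (132, 9), (93, 8), (10, 7), (149, 9), (134, 8), (12, 7), (152, 8), (15, 7), (16, 7), (105, 9), (82, 8), (149, 13), (134, 12), (120, 11), (107, 10), (151, 14), (136, 13), (14, 12), (152, 13), (15, 12), (16, 12), (143, 13), (128, 12), (101, 11), (89, 10), (78, 9), (68, 8), (59, 7), (51, 6), (44, 5), (103, 8), (80, 7), (13, 9), (131, 10), (117, 9), (81, 8), (136, 11), (14, 10), (15, 10), (82, 9), (148, 11), (11, 10), (149, 10), (150, 11), (152, 12), (16, 13), (129, 12), (102, 11), (90, 10), (69, 9), (60, 8), (52, 7), (7, 6), (133, 11), (106, 10), (94, 9), (136, 12), (15, 13), (141, 13), (112, 12), (99, 11), (87, 10), (76, 9), (66, 8), (57, 7), (49, 6), (36, 5), (31, 4), (4, 3), (113, 5), (88, 4), (67, 3), (149, 5), (16, 6), (118, 6), (93, 5), (10, 4), (120, 5), (12, 4), (14, 4), (103, 5), (105, 6), (107, 7), (146, 10), (131, 9), (104, 8), (92, 7), (71, 6), (148, 11), (133, 10), (106, 9), (94, 8), (150, 12), (135,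 11), (13, 10), (147, 11), (132, 10), (93, 9), (82, 8), (10, 7), (151, 10), (136, 9), (152, 11), (15, 10), (16, 10), (119, 9), (94, 8), (11, 7), (149, 9), (120, 8), (12, 7), (151, 8), (14, 7), (152, 7), (16, 8), (135, 7), (151, 9), (136, 8), (16, 10), (127, 9), (113, 8), (100, 7), (58, 6), (50, 5), (37, 4), (5, 3), (145, 5), (103, 4), (152, 6), (146, 7), (131, 6), (104, 5), (150, 8), (135, 7), (13, 6), (16, 7), (135, 6), (136, 7), (15, 8), (114, 7), (101, 6), (59, 5), (51, 4), (6, 3), (145, 5), (130, 4), (116, 3), (150, 6), (135, 5), (121, 4), (151, 7), (136, 6), (14, 5), (152, 6), (15, 5), (146, 5), (104, 4), (151, 6), (152, 7), (150, 8), (135, 7), (121, 6), (13, 5), (151, 7), (136, 6), (14, 5), (145, 6), (130, 5), (61, 4), (8, 3), (146, 5), (131, 4), (9, 3), (147, 4), (132, 3), (148, 5), (133, 4), (149, 6), (134, 5), (152, 7), (15, 6), (16, 6), (88, 5), (77, 4), (67, 3), (148, 5), (16, 6), (143, 7), (89, 6), (78, 5), (68, 4), (148, 6), (149,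 7), (16, 8), (92, 7), (81, 6), (71, 5), (12, 8), (144, 8), (79, 7), (69, 6), (60, 5), (145, 9), (80, 8), (70, 7), (61, 6), (146, 10), (81, 9), (71, 8), (9, 7), (150, 9), (151, 10), (152, 11), (145, 12), (130, 11), (116, 10), (103, 9), (80, 8), (70, 7), (8, 6), (146, 11), (131, 10), (117, 9), (104, 8), (81, 7), (71, 6), (152, 12), (15, 11), (148, 11), (119, 10), (106, 9), (11, 8), (150, 10), (121, 9), (13, 8), (151, 9), (14, 8), (152, 8), (149, 9), (134, 8), (150, 10), (135, 9), (151, 11), (136, 10), (152, 12), (15, 11), (16, 11), (121, 10), (13, 9), (14, 9)], [(17, 1), (18, 0), (138, 8), (123, 7), (109, 6), (73, 5), (39, 4), (33, 3), (24, 2), (19, 1), (99, 9), (87, 8), (76, 7), (49, 6), (42, 5), (31, 4), (4, 3), (113, 5), (88, 4), (67, 3), (149, 5), (16, 6), (118, 6), (93, 5), (10, 4), (120, 5), (12, 4), (14, 4), (145, 7), (130, 6), (116, 5), (147, 8), (132, 7), (118, 6), (149, 9), (134, 8), (120, 7), (152, 10), (15, 9), (16, 9), (119, 8), (94,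 7), (149, 10), (120, 9), (12, 8), (151, 9), (14, 8), (152, 8), (16, 9), (135, 8), (146, 10), (131, 9), (104, 8), (81, 7), (71, 6), (150, 11), (135, 10), (13, 9), (16, 10), (128, 9), (78, 8), (68, 7), (59, 6), (51, 5), (44, 4), (103, 7), (80, 6), (13, 8), (131, 9), (117, 8), (81, 7), (136, 10), (14, 9), (15, 9), (82, 8), (148, 10), (11, 9), (152, 9), (147, 10), (132, 9), (10, 8), (149, 9), (134, 8), (150, 10), (135, 9), (144, 11), (129, 10), (102, 9), (90, 8), (60, 7), (52, 6), (7, 5), (147, 10), (132, 9), (105, 8), (93, 7), (149, 11), (134, 10), (107, 9), (12, 8), (150, 10), (135, 9), (13, 8), (152, 9), (15, 8), (16, 8), (136, 10), (14, 9), (152, 10), (15, 9), (16, 9), (74, 8), (64, 7), (55, 6), (47, 5), (34, 4), (29, 3), (2, 2), (142, 4), (37, 3), (5, 2), (16, 4), (105, 3), (107, 4), (13, 5), (89, 4), (68, 3), (6, 2), (147, 4), (132, 3), (118, 2), (16, 5), (134, 4), (120, 3), (132, 5), (118, 4), (93, 3), (10, 2), (134, 4), (120, 3), (12, 2),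 (135, 3), (121, 2), (145, 5), (130, 4), (116, 3), (103, 2), (149, 6), (134, 5), (120, 4), (107, 3), (150, 7), (135, 6), (121, 5), (13, 4), (146, 6), (131, 5), (117, 4), (92, 3), (147, 7), (132, 6), (118, 5), (93, 4), (148, 8), (133, 7), (119, 6), (94, 5), (149, 9), (134, 8), (120, 7), (12, 6), (150, 8), (135, 7), (121, 6), (151, 9), (136, 8), (14, 7), (16, 8), (132, 7), (105, 6), (82, 5), (10, 4), (136, 6), (148, 8), (133, 7), (119, 6), (106, 5), (11, 4), (151, 7), (136, 6), (14, 5), (152, 6), (15, 5), (140, 5), (98, 4), (56, 3), (48, 2), (131, 8), (117, 7), (92, 6), (81, 5), (71, 4), (132, 9), (118, 8), (93, 7), (82, 6), (10, 5), (134, 8), (120, 7), (12, 6), (135, 7), (121, 6), (136, 8), (14, 7), (135, 7), (13, 6), (142, 7), (127, 6), (77, 5), (58, 4), (50, 3), (131, 5), (135, 6), (148, 8), (133, 7), (106, 6), (16, 9), (15, 8), (143, 8), (101, 7), (78, 6), (59, 5), (51, 4), (131, 8), (117, 7), (104, 6), (136, 9), (14, 8), (15, 8), (106, 7), (13,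 8), (144, 8), (79, 7), (60, 6), (52, 5), (145, 9), (80, 8), (61, 7), (8, 6), (147, 8), (82, 7), (148, 9), (11, 8), (149, 8), (152, 9), (16, 10)]),
    ([3, 3, 3], [(3, 0), (125, 2), (98, 1), (75, 0), (150, 2), (152, 3), (16, 4)], [(3, 1)]),
    ([3, 3, 0], [(3, 0), (122, 2), (95, 1), (72, 0), (135, 4), (121, 3), (13, 2), (136, 3), (14, 2), (15, 2)], [(20, 1), (20, 0), (140, 9), (86, 8), (75, 7), (48, 6), (41, 5), (35, 4), (30, 3), (26, 2), (3, 1), (126, 3), (99, 2), (76, 1), (150, 3), (16, 4), (132, 4), (105, 3), (82, 2), (134, 5), (107, 4), (142, 7), (127, 6), (100, 5), (88, 4), (77, 3), (67, 2), (148, 4), (16, 5), (150, 6), (152, 7), (16, 8), (136, 7), (15, 8), (143, 8), (114, 7), (101, 6), (89, 5), (78, 4), (68, 3), (148, 5), (149, 6), (150, 7), (151, 8), (16, 9), (118, 8), (105, 7), (93, 6), (82, 5), (10, 4), (120, 7), (107, 6), (12, 5), (121, 6), (13, 5), (144, 6), (115, 5), (79, 4), (147, 7), (118, 6), (82, 5), (149, 8), (120, 7), (150,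 9), (121, 8), (151, 10), (14, 9), (145, 9), (103, 8), (91, 7), (80, 6), (70, 5), (147, 10), (105, 9), (93, 8), (82, 7), (10, 6), (148, 9), (106, 8), (94, 7), (11, 6), (149, 8), (107, 7), (12, 6), (151, 7), (152, 8), (148, 9), (133, 8), (119, 7), (106, 6), (16, 10), (134, 9), (120, 8), (107, 7), (135, 10), (121, 9), (13, 8), (136, 9), (14, 8), (16, 9), (126, 8), (87, 7), (76, 6), (49, 5), (42, 4), (36, 3), (31, 2), (4, 1), (113, 3), (88, 2), (67, 1), (149, 3), (16, 4), (118, 4), (93, 3), (10, 2), (120, 3), (12, 2), (14, 2), (102, 3), (145, 7), (130, 6), (116, 5), (103, 4), (147, 8), (132, 7), (118, 6), (105, 5), (149, 9), (134, 8), (120, 7), (107, 6), (152, 10), (15, 9), (16, 9), (119, 8), (106, 7), (94, 6), (149, 10), (120, 9), (107, 8), (12, 7), (151, 9), (14, 8), (152, 8), (16, 9), (15, 8), (100, 7), (77, 6), (67, 5), (50, 4), (43, 3), (37, 2), (5, 1), (144, 3), (102, 2), (147, 4), (105, 3), (149, 5), (107, 4), (145, 6), (103, 5), (91, 4), (70,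 3), (152, 7), (147, 8), (132, 7), (105, 6), (93, 5), (10, 4), (16, 7), (133, 6), (106, 5), (94, 4), (150, 8), (135, 7), (13, 6), (143, 7), (128, 6), (89, 5), (78, 4), (51, 3), (44, 2), (6, 1), (144, 3), (129, 2), (115, 1), (148, 4), (133, 3), (119, 2), (150, 5), (135, 4), (121, 3), (145, 6), (130, 5), (116, 4), (103, 3), (80, 2), (150, 7), (135, 6), (121, 5), (13, 4), (151, 6), (136, 5), (14, 4), (152, 5), (15, 4), (148, 4), (11, 3), (149, 3), (152, 4), (16, 5), (129, 4), (90, 3), (52, 2), (7, 1), (130, 3), (91, 2), (8, 1), (133, 2), (94, 1), (134, 3), (12, 2)]),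
    ([3, 0, 0], [(0, 1), (22, 0), (125, 4), (75, 3), (30, 2), (3, 1), (127, 3), (100, 2), (77, 1), (150, 3), (152, 4), (151, 5), (136, 4), (152, 6), (15, 5), (16, 5), (119, 4), (106, 3), (11, 2), (152, 4), (16, 5), (126, 4), (112, 3), (99, 2), (31, 1), (121, 5), (151, 7), (14, 6), (152, 6), (142, 7), (127, 6), (100, 5), (88, 4), (67, 3), (5, 2), (149, 3), (16, 4), (152, 6), (15, 5), (16, 5)], [(20, 0), (137, 9), (83, 8), (72, 7), (45, 6), (38, 5), (32, 4), (27, 3), (23, 2), (20, 1), (0, 0), (140, 5), (125, 4), (30, 3), (26, 2), (3, 1), (126, 3), (99, 2), (76, 1), (150, 3), (16, 4), (132, 4), (105, 3), (82, 2), (134, 5), (107, 4), (142, 7), (127, 6), (100, 5), (88, 4), (77, 3), (67, 2), (148, 4), (16, 5), (150, 6), (152, 7), (16, 8), (136, 7), (15, 8), (152, 8), (16, 9), (141, 9), (126, 8), (112, 7), (99, 6), (87, 5), (76, 4), (66, 3), (31, 2), (4, 1), (113, 3), (88, 2), (67, 1), (149, 3), (16, 4), (118, 4), (93, 3), (10, 2), (120, 3), (12, 2),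 (14, 2), (148, 5), (133, 4), (119, 3), (16, 6), (134, 5), (120, 4), (136, 6), (14, 5), (15, 5), (150, 5), (16, 6), (142, 8), (127, 7), (113, 6), (100, 5), (88, 4), (77, 3), (67, 2), (5, 1), (148, 2), (16, 3), (150, 4), (151, 5), (152, 6), (16, 7), (128, 6), (114, 5), (101, 4), (89, 3), (78, 2), (68, 1), (148, 3), (149, 4), (150, 5), (151, 6), (152, 7), (144, 8), (129, 7), (115, 6), (102, 5), (90, 4), (79, 3), (69, 2), (145, 9), (130, 8), (116, 7), (103, 6), (91, 5), (80, 4), (70, 3), (148, 10), (133, 9), (119, 8), (106, 7), (94, 6), (11, 5), (149, 9), (134, 8), (120, 7), (107, 6), (12, 5), (16, 8), (126, 7), (112, 6), (99, 5), (66, 4), (49, 3), (42, 2), (36, 1), (102, 3), (145, 7), (130, 6), (116, 5), (103, 4), (147, 8), (132, 7), (118, 6), (105, 5), (149, 9), (134, 8), (120, 7), (107, 6), (152, 10), (15, 9), (16, 9), (118, 8), (105, 7), (93, 6), (10, 5), (14, 7), (150, 8), (135, 7), (13, 6), (16, 7), (136, 6), (15, 7), (113, 6), (88, 5), (50,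 4), (43, 3), (37, 2), (144, 5), (102, 4), (147, 6), (105, 5), (149, 7), (107, 6), (145, 8), (103, 7), (91, 6), (70, 5), (152, 9), (149, 10), (134, 9), (107, 8), (12, 7), (16, 9), (136, 8), (128, 9), (114, 8), (101, 7), (68, 6), (51, 5), (44, 4), (6, 3), (144, 5), (129, 4), (115, 3), (148, 6), (133, 5), (119, 4), (150, 7), (135, 6), (121, 5), (145, 8), (130, 7), (116, 6), (103, 5), (80, 4), (150, 9), (135, 8), (121, 7), (13, 6), (151, 8), (136, 7), (14, 6), (152, 7), (15, 6), (147, 6), (82, 5), (16, 7), (130, 9), (116, 8), (103, 7), (80, 6), (70, 5), (8, 4), (131, 8), (117, 7), (104, 6), (81, 5), (71, 4), (132, 9), (118, 8), (105, 7), (82, 6), (10, 5), (133, 8), (119, 7), (106, 6), (11, 5), (134, 7), (120, 6), (107, 5), (15, 8), (142, 8), (113, 7), (100, 6), (88, 5), (58, 4), (43, 3), (5, 2), (92, 4), (71, 3), (149, 7), (107, 6), (12, 5), (16, 6), (13, 5), (143, 6), (114, 5), (68, 4), (59, 3), (44, 2), (104, 5), (81, 4), (132, 8), (118, 7), (105,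 6), (82, 5), (151, 10), (136, 9), (14, 8), (16, 9), (131, 8), (104, 7), (81, 6), (71, 5), (9, 4), (134, 7), (107, 6), (143, 9), (128, 8), (101, 7), (89, 6), (78, 5), (68, 4), (44, 3), (6, 2), (144, 4), (129, 3), (115, 2), (148, 5), (133, 4), (119, 3), (150, 6), (135, 5), (121, 4), (147, 7), (132, 6), (118, 5), (105, 4), (82, 3), (16, 8), (133, 7), (119, 6), (106, 5), (11, 4), (134, 6), (120, 5), (107, 4), (135, 7), (121, 6), (13, 5), (15, 6), (148, 6), (119, 5), (94, 4), (149, 7), (120, 6), (12, 5), (16, 6), (115, 5), (79, 4), (69, 3), (7, 2), (116, 4), (80, 3), (70, 2), (117, 5), (81, 4), (71, 3), (121, 6), (14, 7), (130, 7), (103, 6), (80, 5), (70, 4), (61, 3), (8, 2), (131, 6), (104, 5), (81, 4), (71, 3), (9, 2), (15, 5), (106, 4), (11, 3), (13, 3), (134, 4), (120, 3), (135, 5), (121, 4), (136, 6), (14, 5), (15, 5), (16, 5)]),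
    ([3, 3, 1], [(3, 0), (123, 2), (96, 1), (73, 0), (135, 3), (121, 2), (136, 4), (14, 3), (15, 3), (152, 3)], [(21, 1), (21, 0), (140, 10), (125, 9), (111, 8), (75, 7), (65, 6), (48, 5), (41, 4), (35, 3), (26, 2), (3, 1), (126, 3), (99, 2), (76, 1), (150, 3), (16, 4), (132, 4), (105, 3), (82, 2), (134, 5), (107, 4), (143, 7), (128, 6), (101, 5), (89, 4), (78, 3), (68, 2), (148, 4), (149, 5), (150, 6), (152, 7), (16, 8), (132, 7), (105, 6), (93, 5), (82, 4), (10, 3), (134, 6), (107, 5), (12, 4), (135, 5), (13, 4), (144, 5), (129, 4), (79, 3), (147, 6), (132, 5), (82, 4), (149, 7), (134, 6), (150, 8), (135, 7), (151, 9), (136, 8), (145, 10), (130, 9), (116, 8), (103, 7), (91, 6), (80, 5), (70, 4), (147, 11), (132, 10), (118, 9), (105, 8), (93, 7), (82, 6), (10, 5), (148, 10), (133, 9), (119, 8), (106, 7), (94, 6), (11, 5), (149, 9), (134, 8), (120, 7), (107, 6), (12, 5), (151, 8), (136, 7), (14, 6), (152, 7), (15, 6), (147, 6), (105, 5), (150,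 7), (13, 6), (151, 6), (16, 7), (119, 6), (151, 8), (14, 7), (152, 7), (16, 8), (141, 8), (126, 7), (76, 6), (66, 5), (49, 4), (42, 3), (36, 2), (4, 1), (114, 3), (89, 2), (68, 1), (149, 3), (151, 4), (150, 5), (121, 4), (144, 6), (115, 5), (102, 4), (90, 3), (69, 2), (151, 7), (14, 6), (152, 6), (16, 7), (130, 6), (103, 5), (91, 4), (70, 3), (132, 7), (105, 6), (93, 5), (10, 4), (134, 6), (107, 5), (12, 4), (15, 5), (147, 5), (105, 4), (151, 6), (152, 7), (16, 8), (133, 7), (119, 6), (106, 5), (152, 9), (15, 8), (16, 8), (114, 7), (101, 6), (78, 5), (68, 4), (51, 3), (44, 2), (6, 1), (144, 3), (129, 2), (115, 1), (148, 4), (133, 3), (119, 2), (150, 5), (135, 4), (121, 3), (145, 6), (130, 5), (116, 4), (103, 3), (80, 2), (150, 7), (135, 6), (121, 5), (13, 4), (151, 6), (136, 5), (14, 4), (152, 5), (15, 4), (147, 4), (82, 3), (16, 5), (11, 4), (115, 5), (102, 4), (69, 3), (52, 2), (7, 1), (116, 4), (103, 3), (70, 2), (8, 1), (118, 3), (105, 2),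 (10, 1), (119, 2), (106, 1), (14, 3)]),
    ([3, 1, 1], [(1, 1)], [(21, 0), (138, 10), (123, 9), (109, 8), (73, 7), (63, 6), (46, 5), (39, 4), (33, 3), (24, 2), (21, 1), (1, 0), (111, 6), (98, 5), (65, 4), (48, 3), (41, 2), (35, 1), (26, 0), (143, 4), (89, 3), (68, 2), (149, 4), (16, 5), (93, 4), (10, 3), (12, 3), (144, 4), (102, 3), (147, 5), (105, 4), (149, 6), (107, 5), (150, 7), (13, 6), (151, 6), (145, 7), (116, 6), (91, 5), (70, 4), (147, 8), (118, 7), (93, 6), (10, 5), (148, 7), (119, 6), (94, 5), (149, 8), (120, 7), (12, 6), (151, 7), (14, 6), (152, 6), (147, 7), (132, 6), (82, 5), (150, 8), (135, 7), (151, 9), (136, 8), (16, 10), (135, 9), (121, 8), (13, 7), (136, 8), (14, 7), (126, 7), (76, 6), (66, 5), (49, 4), (42, 3), (36, 2), (4, 1), (114, 3), (89, 2), (68, 1), (149, 3), (151, 4), (150, 5), (121, 4), (144, 6), (115, 5), (102, 4), (90, 3), (69, 2), (151, 7), (14, 6), (152, 6), (16, 7), (130, 6), (103, 5), (91, 4), (70, 3), (132, 7),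 (105, 6), (93, 5), (10, 4), (134, 6), (107, 5), (12, 4), (15, 5), (147, 5), (105, 4), (151, 6), (152, 7), (16, 8), (133, 7), (119, 6), (106, 5), (152, 9), (15, 8), (143, 8), (114, 7), (101, 6), (78, 5), (68, 4), (51, 3), (44, 2), (6, 1), (144, 3), (129, 2), (115, 1), (148, 4), (133, 3), (119, 2), (150, 5), (135, 4), (121, 3), (145, 6), (130, 5), (116, 4), (103, 3), (80, 2), (150, 7), (135, 6), (121, 5), (13, 4), (151, 6), (136, 5), (14, 4), (152, 5), (15, 4), (147, 4), (82, 3), (16, 5), (11, 4), (144, 6), (115, 5), (102, 4), (69, 3), (52, 2), (7, 1), (145, 5), (116, 4), (103, 3), (70, 2), (8, 1), (147, 4), (118, 3), (105, 2), (10, 1), (148, 3), (119, 2), (106, 1), (151, 4), (14, 3), (152, 3), (16, 4), (126, 3), (99, 2), (76, 1), (150, 3), (16, 4), (131, 4), (104, 3), (81, 2), (135, 5), (13, 4), (143, 5), (128, 4), (78, 3), (59, 2), (133, 5), (119, 4), (15, 6), (147, 6), (118, 5), (82, 4), (149, 7), (120, 6), (150, 8), (121, 7), (144, 9), (115,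 8), (102, 7), (90, 6), (79, 5), (69, 4), (60, 3), (147, 10), (118, 9), (105, 8), (93, 7), (82, 6), (10, 5), (149, 9), (120, 8), (107, 7), (12, 6), (150, 8), (121, 7), (13, 6), (152, 7), (16, 8), (130, 7), (116, 6), (80, 5), (61, 4), (131, 8), (117, 7), (81, 6), (9, 5), (133, 7), (119, 6), (11, 5), (135, 6), (121, 5), (147, 8), (132, 7), (118, 6), (105, 5), (148, 9), (133, 8), (119, 7), (106, 6), (152, 10), (15, 9), (16, 9), (119, 8), (106, 7), (11, 6), (14, 7), (136, 7), (152, 9), (15, 8), (16, 8)]),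
    ([3, 1, 0], [(21, 0), (137, 10), (122, 9), (108, 8), (72, 7), (62, 6), (45, 5), (38, 4), (32, 3), (23, 2), (20, 1), (17, 0), (140, 12), (125, 11), (86, 10), (75, 9), (65, 8), (48, 7), (41, 6), (35, 5), (30, 4), (3, 3), (127, 5), (100, 4), (77, 3), (150, 5), (152, 6), (151, 7), (136, 6), (152, 8), (15, 7), (16, 7), (114, 6), (101, 5), (78, 4), (118, 7), (105, 6), (82, 5), (120, 8), (107, 7), (121, 9), (13, 8), (144, 9), (115, 8), (90, 7), (79, 6), (69, 5), (147, 10), (118, 9), (93, 8), (82, 7), (10, 6), (149, 9), (120, 8), (12, 7), (150, 8), (121, 7), (151, 9), (14, 8), (145, 8), (103, 7), (80, 6), (147, 9), (105, 8), (82, 7), (148, 10), (106, 9), (11, 8), (149, 9), (107, 8), (151, 10), (152, 11), (147, 12), (132, 11), (118, 10), (105, 9), (93, 8), (10, 7), (150, 11), (135, 10), (121, 9), (13, 8), (151, 10), (136, 9), (14, 8), (16, 9), (133, 8), (94, 7), (149, 10), (134, 9), (12, 8), (150, 9), (135, 8), (151, 10), (136, 9), (16, 11), (15, 10),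 (16, 10), (112, 9), (99, 8), (76, 7), (49, 6), (42, 5), (36, 4), (31, 3), (114, 7), (89, 6), (68, 5), (149, 7), (151, 8), (150, 9), (121, 8), (144, 10), (115, 9), (102, 8), (90, 7), (69, 6), (151, 11), (14, 10), (152, 10), (16, 11), (130, 10), (103, 9), (91, 8), (70, 7), (132, 11), (105, 10), (93, 9), (10, 8), (134, 10), (107, 9), (12, 8), (15, 9), (148, 9), (106, 8), (16, 10), (13, 9), (151, 9), (142, 10), (113, 9), (77, 8), (50, 7), (43, 6), (37, 5), (5, 4), (144, 6), (102, 5), (147, 7), (105, 6), (149, 8), (107, 7), (145, 9), (103, 8), (91, 7), (70, 6), (152, 10), (148, 11), (133, 10), (106, 9), (94, 8), (16, 12), (136, 11), (143, 13), (128, 12), (114, 11), (101, 10), (89, 9), (78, 8), (68, 7), (51, 6), (44, 5), (6, 4), (144, 6), (129, 5), (115, 4), (148, 7), (133, 6), (119, 5), (150, 8), (135, 7), (121, 6), (145, 9), (130, 8), (116, 7), (103, 6), (80, 5), (150, 10), (135, 9), (121, 8), (13, 7), (151, 9), (136, 8), (14, 7), (152, 8), (15, 7),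 (147, 7), (82, 6), (16, 8), (11, 7), (144, 11), (129, 10), (115, 9), (102, 8), (90, 7), (69, 6), (52, 5), (7, 4), (145, 10), (130, 9), (116, 8), (103, 7), (91, 6), (70, 5), (8, 4), (148, 9), (133, 8), (119, 7), (106, 6), (94, 5), (149, 10), (134, 9), (120, 8), (107, 7), (12, 6), (16, 9), (126, 8), (112, 7), (99, 6), (76, 5), (66, 4), (4, 3), (118, 5), (93, 4), (10, 3), (14, 4), (148, 5), (133, 4), (94, 3), (16, 6), (135, 5), (151, 7), (136, 6), (152, 8), (15, 7), (142, 7), (113, 6), (100, 5), (88, 4), (77, 3), (149, 5), (16, 6), (143, 8), (114, 7), (101, 6), (89, 5), (78, 4), (145, 9), (116, 8), (103, 7), (91, 6), (80, 5), (146, 10), (117, 9), (104, 8), (92, 7), (81, 6), (147, 11), (118, 10), (105, 9), (93, 8), (82, 7), (148, 12), (119, 11), (106, 10), (94, 9), (11, 8), (149, 11), (120, 10), (107, 9), (12, 8), (152, 10), (16, 11), (128, 10), (114, 9), (101, 8), (68, 7), (59, 6), (51, 5), (6, 4), (145, 6), (130, 5), (116, 4), (150, 7), (135, 6),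 (121, 5), (151, 8), (136, 7), (14, 6), (152, 7), (15, 6), (146, 6), (104, 5), (151, 7), (152, 8), (147, 9), (132, 8), (118, 7), (105, 6), (16, 10), (135, 9), (121, 8), (13, 7), (136, 8), (14, 7), (15, 7), (144, 9), (90, 8), (79, 7), (69, 6), (60, 5), (52, 4), (145, 10), (91, 9), (80, 8), (70, 7), (61, 6), (8, 5), (146, 9), (92, 8), (81, 7), (71, 6), (9, 5), (150, 8), (151, 9), (152, 10), (145, 11), (130, 10), (116, 9), (103, 8), (91, 7), (80, 6), (70, 5), (146, 12), (131, 11), (117, 10), (104, 9), (92, 8), (81, 7), (71, 6), (152, 13), (15, 12), (147, 12), (118, 11), (105, 10), (93, 9), (82, 8), (10, 7), (148, 11), (119, 10), (106, 9), (94, 8), (11, 7), (151, 10), (14, 9), (16, 9), (106, 8), (94, 7), (13, 9), (136, 10), (14, 9), (152, 10), (15, 9), (16, 9)], [(17, 1), (20, 0), (138, 9), (84, 8), (73, 7), (46, 6), (39, 5), (33, 4), (28, 3), (24, 2), (21, 1), (141, 11), (126, 10), (112, 9), (76, 8), (66, 7), (49, 6), (42, 5), (36, 4), (4, 3), (114,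 5), (89, 4), (68, 3), (149, 5), (151, 6), (150, 7), (121, 6), (144, 8), (115, 7), (102, 6), (90, 5), (69, 4), (151, 9), (14, 8), (152, 8), (16, 9), (130, 8), (103, 7), (91, 6), (70, 5), (132, 9), (105, 8), (93, 7), (10, 6), (134, 8), (107, 7), (12, 6), (15, 7), (147, 7), (105, 6), (151, 8), (152, 9), (16, 10), (133, 9), (119, 8), (106, 7), (151, 11), (136, 10), (14, 9), (152, 10), (15, 9), (16, 9), (104, 8), (81, 7), (71, 6), (13, 9), (142, 9), (77, 8), (67, 7), (58, 6), (50, 5), (43, 4), (37, 3), (144, 6), (102, 5), (147, 7), (105, 6), (149, 8), (107, 7), (145, 9), (103, 8), (91, 7), (70, 6), (152, 10), (146, 11), (131, 10), (104, 9), (92, 8), (71, 7), (150, 12), (135, 11), (13, 10), (16, 11), (132, 10), (93, 9), (10, 8), (148, 10), (133, 9), (94, 8), (16, 11), (143, 11), (128, 10), (89, 9), (78, 8), (59, 7), (51, 6), (44, 5), (6, 4), (144, 6), (129, 5), (115, 4), (148, 7), (133, 6), (119, 5), (150, 8), (135, 7), (121, 6), (145, 9), (130, 8),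 (116, 7), (103, 6), (80, 5), (150, 10), (135, 9), (121, 8), (13, 7), (151, 9), (136, 8), (14, 7), (152, 8), (15, 7), (146, 7), (81, 6), (151, 8), (152, 9), (148, 10), (133, 9), (119, 8), (11, 7), (149, 9), (134, 8), (120, 7), (152, 10), (15, 9), (16, 9), (117, 8), (92, 7), (9, 6), (120, 7), (12, 6), (143, 7), (114, 6), (51, 5), (44, 4), (103, 7), (80, 6), (13, 8), (136, 9), (14, 8), (147, 9), (132, 8), (82, 7), (149, 10), (134, 9), (150, 11), (135, 10), (144, 12), (129, 11), (102, 10), (90, 9), (79, 8), (69, 7), (52, 6), (7, 5), (147, 11), (132, 10), (105, 9), (93, 8), (82, 7), (10, 6), (149, 10), (134, 9), (107, 8), (12, 7), (150, 9), (135, 8), (13, 7), (152, 8), (15, 7), (16, 7), (80, 6), (8, 5), (81, 5), (11, 6), (148, 7), (106, 6), (151, 8), (152, 9), (149, 10), (134, 9), (120, 8), (107, 7), (150, 11), (135, 10), (121, 9), (13, 8), (152, 10), (15, 9), (16, 9), (139, 9), (110, 8), (85, 7), (74, 6), (55, 5), (34, 4), (29, 3), (22, 2), (127,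 6), (77, 5), (5, 4), (152, 5), (147, 6), (132, 5), (82, 4), (149, 7), (134, 6), (150, 8), (135, 7), (143, 9), (128, 8), (101, 7), (89, 6), (78, 5), (68, 4), (148, 6), (149, 7), (150, 8), (152, 9), (16, 10), (132, 9), (105, 8), (93, 7), (82, 6), (10, 5), (134, 8), (107, 7), (12, 6), (135, 7), (13, 6), (146, 7), (131, 6), (81, 5), (147, 8), (132, 7), (82, 6), (148, 9), (133, 8), (11, 7), (149, 8), (134, 7), (150, 9), (135, 8), (151, 10), (136, 9), (16, 11), (133, 10), (119, 9), (106, 8), (94, 7), (136, 11), (14, 10), (15, 10), (107, 9), (12, 8), (13, 8), (151, 9), (14, 8), (16, 8), (75, 7), (65, 6), (56, 5), (35, 4), (3, 3), (128, 5), (101, 4), (78, 3), (132, 6), (105, 5), (82, 4), (134, 7), (107, 6), (135, 8), (13, 7), (146, 8), (131, 7), (92, 6), (81, 5), (71, 4), (147, 9), (132, 8), (93, 7), (82, 6), (10, 5), (149, 8), (134, 7), (12, 6), (150, 7), (135, 6), (151, 8), (136, 7), (147, 9), (132, 8), (118, 7), (105, 6), (82, 5), (150, 10), (135,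 9), (121, 8), (13, 7), (151, 9), (136, 8), (14, 7), (16, 8), (133, 7), (11, 6), (142, 7), (127, 6), (67, 5), (58, 4), (37, 3), (146, 6), (104, 5), (150, 7), (13, 6), (16, 6), (152, 7), (16, 8), (128, 7), (68, 6), (59, 5), (6, 4), (146, 6), (131, 5), (117, 4), (151, 7), (136, 6), (14, 5), (152, 6), (15, 5), (147, 5), (16, 6), (129, 6), (69, 5), (60, 4), (130, 7), (70, 6), (61, 5), (132, 8), (10, 7), (133, 7), (134, 8), (15, 9)]),
    ([3, 3, 2], [(3, 0), (124, 2), (97, 1), (74, 0), (135, 3), (121, 2), (152, 5), (15, 4), (16, 4)], [(22, 1), (22, 0), (125, 4), (75, 3), (30, 2), (3, 1), (127, 3), (100, 2), (77, 1), (150, 3), (152, 4), (151, 5), (136, 4), (152, 6), (15, 5), (16, 5), (119, 4), (106, 3), (11, 2), (152, 4), (16, 5), (127, 4), (113, 3), (100, 2), (5, 1), (133, 3), (119, 2), (106, 1), (15, 4)]),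
    ([3, 2, 2], [(2, 1)], [(22, 0), (124, 4), (74, 3), (29, 2), (22, 1), (2, 0), (140, 2), (35, 1), (30, 0), (143, 4), (128, 3), (114, 2), (147, 5), (132, 4), (118, 3), (149, 6), (134, 5), (120, 4), (150, 7), (135, 6), (121, 5), (16, 8), (142, 8), (127, 7), (113, 6), (100, 5), (88, 4), (67, 3), (37, 2), (5, 1), (147, 3), (105, 2), (16, 4), (107, 3), (150, 5), (13, 4), (151, 4), (152, 5), (16, 6), (133, 5), (119, 4), (94, 3), (15, 6), (113, 5), (88, 4), (77, 3), (67, 2), (37, 1), (147, 4), (105, 3), (16, 5), (106, 4), (149, 6), (107, 5), (16, 7), (118, 7), (105, 6), (93, 5), (82, 4), (10, 3), (120, 6), (107, 5), (12, 4), (121, 5), (13, 4), (119, 4), (11, 3), (14, 3), (15, 3)]),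
    ([3, 2, 0], [(22, 0), (122, 4), (72, 3), (27, 2), (20, 1), (18, 0), (140, 8), (125, 7), (111, 6), (75, 5), (41, 4), (35, 3), (26, 2), (143, 6), (89, 5), (68, 4), (149, 6), (16, 7), (93, 6), (10, 5), (12, 5), (144, 6), (102, 5), (147, 7), (105, 6), (149, 8), (107, 7), (150, 9), (13, 8), (151, 8), (148, 9), (119, 8), (94, 7), (16, 10), (14, 9), (16, 10), (126, 9), (87, 8), (76, 7), (66, 6), (42, 5), (36, 4), (4, 3), (114, 5), (89, 4), (68, 3), (149, 5), (151, 6), (150, 7), (121, 6), (144, 8), (115, 7), (102, 6), (90, 5), (69, 4), (151, 9), (14, 8), (152, 8), (16, 9), (132, 8), (105, 7), (93, 6), (10, 5), (136, 7), (15, 8), (148, 8), (119, 7), (106, 6), (94, 5), (16, 9), (120, 8), (107, 7), (12, 6), (14, 7), (152, 8), (15, 7), (142, 7), (100, 6), (77, 5), (43, 4), (37, 3), (144, 6), (102, 5), (147, 7), (105, 6), (149, 8), (107, 7), (148, 9), (106, 8), (94, 7), (16, 10), (13, 9), (143, 9), (89, 8), (78, 7), (68, 6), (44, 5), (6, 4), (144, 6),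 (129, 5), (115, 4), (148, 7), (133, 6), (119, 5), (150, 8), (135, 7), (121, 6), (147, 9), (132, 8), (118, 7), (105, 6), (82, 5), (16, 10), (133, 9), (119, 8), (106, 7), (11, 6), (134, 8), (120, 7), (107, 6), (144, 10), (129, 9), (115, 8), (102, 7), (90, 6), (69, 5), (7, 4), (145, 9), (130, 8), (116, 7), (103, 6), (91, 5), (70, 4), (148, 10), (133, 9), (119, 8), (106, 7), (94, 6), (149, 11), (134, 10), (120, 9), (107, 8), (12, 7), (16, 10), (127, 9), (113, 8), (100, 7), (77, 6), (67, 5), (50, 4), (5, 3), (132, 4), (148, 6), (133, 5), (16, 7), (135, 6), (136, 7), (15, 8), (114, 7), (101, 6), (78, 5), (68, 4), (51, 3), (132, 7), (118, 6), (105, 5), (148, 9), (133, 8), (119, 7), (106, 6), (150, 10), (135, 9), (121, 8), (13, 7), (151, 9), (136, 8), (14, 7), (146, 8), (131, 7), (81, 6), (71, 5), (149, 9), (134, 8), (16, 10), (133, 9), (94, 8), (11, 7), (135, 8), (136, 9), (15, 10)], [(18, 1), (20, 0), (139, 9), (85, 8), (74, 7), (47, 6), (40, 5), (34,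 4), (29, 3), (25, 2), (22, 1), (126, 5), (76, 4), (31, 3), (119, 7), (94, 6), (152, 9), (143, 10), (128, 9), (114, 8), (89, 7), (78, 6), (68, 5), (148, 7), (149, 8), (151, 9), (152, 10), (16, 11), (132, 10), (118, 9), (93, 8), (82, 7), (10, 6), (133, 9), (119, 8), (94, 7), (11, 6), (136, 8), (14, 7), (15, 7), (88, 6), (37, 5), (5, 4), (149, 6), (107, 5), (16, 7), (105, 6), (93, 5), (107, 7), (12, 6), (13, 6), (68, 5), (6, 4), (147, 6), (132, 5), (118, 4), (16, 7), (132, 6), (118, 5), (10, 4), (134, 5), (120, 4), (135, 6), (121, 5), (144, 8), (129, 7), (115, 6), (102, 5), (90, 4), (146, 9), (131, 8), (117, 7), (104, 6), (92, 5), (147, 10), (132, 9), (118, 8), (105, 7), (93, 6), (150, 11), (135, 10), (121, 9), (13, 8), (151, 10), (136, 9), (14, 8), (16, 9), (130, 8), (91, 7), (70, 6), (61, 5), (134, 9), (12, 8), (135, 8), (133, 9), (106, 8), (136, 10), (15, 11), (120, 10), (107, 9), (121, 11), (13, 10), (14, 10), (16, 10), (87, 9), (76, 8), (66,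 7), (57, 6), (49, 5), (42, 4), (4, 3), (115, 5), (90, 4), (69, 3), (14, 6), (145, 7), (130, 6), (91, 5), (70, 4), (147, 8), (132, 7), (93, 6), (10, 5), (149, 7), (134, 6), (12, 5), (152, 6), (15, 5), (16, 5), (105, 7), (82, 6), (148, 11), (133, 10), (119, 9), (106, 8), (11, 7), (16, 10), (134, 9), (120, 8), (107, 7), (136, 10), (14, 9), (15, 9), (143, 9), (101, 8), (89, 7), (68, 6), (59, 5), (51, 4), (44, 3), (103, 6), (80, 5), (13, 7), (131, 8), (117, 7), (81, 6), (136, 9), (14, 8), (15, 8), (82, 7), (149, 9), (150, 10), (16, 11), (102, 10), (90, 9), (79, 8), (69, 7), (60, 6), (52, 5), (7, 4), (106, 9), (94, 8), (11, 7)]),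
    ([3, 2, 1], [(22, 0), (123, 4), (73, 3), (28, 2), (21, 1), (19, 0), (98, 8), (86, 7), (75, 6), (48, 5), (41, 4), (30, 3), (26, 2), (142, 6), (88, 5), (67, 4), (149, 6), (16, 7), (151, 7), (152, 8), (16, 9), (129, 8), (115, 7), (90, 6), (69, 5), (132, 9), (118, 8), (93, 7), (10, 6), (134, 8), (120, 7), (12, 6), (135, 7), (121, 6), (136, 8), (14, 7), (130, 7), (103, 6), (132, 8), (105, 7), (133, 9), (106, 8), (134, 10), (107, 9), (136, 11), (15, 12), (119, 11), (106, 10), (94, 9), (11, 8), (149, 11), (120, 10), (107, 9), (12, 8), (150, 10), (121, 9), (13, 8), (151, 9), (14, 8), (16, 8), (99, 8), (66, 7), (49, 6), (42, 5), (31, 4), (4, 3), (113, 5), (88, 4), (67, 3), (149, 5), (16, 6), (118, 6), (93, 5), (10, 4), (120, 5), (12, 4), (14, 4), (145, 7), (130, 6), (116, 5), (147, 8), (132, 7), (118, 6), (149, 9), (134, 8), (120, 7), (152, 10), (15, 9), (16, 9), (118, 8), (93, 7), (10, 6), (14, 7), (150, 8), (135, 7), (16, 9), (128, 8), (101, 7),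 (89, 6), (51, 5), (44, 4), (103, 7), (80, 6), (13, 8), (134, 9), (120, 8), (135, 10), (121, 9), (15, 11), (115, 10), (102, 9), (90, 8), (79, 7), (52, 6), (7, 5), (116, 9), (103, 8), (91, 7), (80, 6), (8, 5), (118, 8), (105, 7), (93, 6), (82, 5), (119, 9), (106, 8), (94, 7), (11, 6), (14, 8), (142, 9), (127, 8), (100, 7), (88, 6), (67, 5), (37, 4), (5, 3), (147, 5), (105, 4), (16, 6), (107, 5), (150, 7), (13, 6), (152, 6), (16, 7), (128, 6), (89, 5), (68, 4), (6, 3), (147, 5), (132, 4), (118, 3), (16, 6), (134, 5), (120, 4), (15, 6), (117, 5), (92, 4), (71, 3), (120, 6), (12, 5), (148, 6), (119, 5), (151, 7), (14, 6), (152, 6), (152, 7), (15, 6)], [(19, 1), (21, 0), (139, 10), (124, 9), (110, 8), (74, 7), (64, 6), (47, 5), (40, 4), (34, 3), (25, 2), (22, 1), (126, 5), (76, 4), (31, 3), (119, 7), (94, 6), (152, 9), (143, 10), (128, 9), (114, 8), (89, 7), (78, 6), (68, 5), (148, 7), (149, 8), (151, 9), (152, 10), (16, 11), (132, 10), (118, 9), (93,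 8), (82, 7), (10, 6), (133, 9), (119, 8), (94, 7), (11, 6), (136, 8), (14, 7), (15, 7), (89, 6), (6, 5), (149, 7), (134, 6), (120, 5), (147, 8), (132, 7), (118, 6), (93, 5), (149, 9), (134, 8), (120, 7), (12, 6), (150, 8), (135, 7), (121, 6), (16, 9), (129, 8), (115, 7), (102, 6), (69, 5), (131, 9), (117, 8), (104, 7), (71, 6), (132, 10), (118, 9), (105, 8), (10, 7), (135, 9), (121, 8), (13, 7), (136, 8), (14, 7), (145, 8), (130, 7), (61, 6), (149, 9), (134, 8), (150, 10), (135, 9), (147, 11), (132, 10), (105, 9), (93, 8), (151, 12), (136, 11), (16, 13), (133, 12), (119, 11), (106, 10), (94, 9), (136, 13), (14, 12), (15, 12), (16, 14), (126, 13), (112, 12), (99, 11), (87, 10), (76, 9), (66, 8), (57, 7), (49, 6), (42, 5), (31, 4), (4, 3), (113, 5), (88, 4), (67, 3), (149, 5), (16, 6), (118, 6), (93, 5), (10, 4), (120, 5), (12, 4), (14, 4), (145, 7), (130, 6), (116, 5), (147, 8), (132, 7), (118, 6), (149, 9), (134, 8), (120, 7), (152, 10), (15,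 9), (16, 9), (117, 8), (92, 7), (71, 6), (119, 9), (94, 8), (121, 10), (118, 11), (105, 10), (93, 9), (82, 8), (10, 7), (14, 10), (148, 11), (133, 10), (106, 9), (94, 8), (11, 7), (16, 10), (134, 9), (107, 8), (12, 7), (136, 8), (15, 9), (150, 9), (121, 8), (13, 7), (16, 8), (14, 7), (127, 7), (58, 6), (50, 5), (43, 4), (5, 3), (91, 5), (70, 4), (131, 7), (92, 6), (71, 5), (135, 8), (152, 10), (15, 9), (144, 9), (102, 8), (90, 7), (69, 6), (60, 5), (52, 4), (7, 3), (145, 8), (103, 7), (91, 6), (70, 5), (61, 4), (8, 3), (148, 7), (106, 6), (94, 5), (149, 8), (107, 7), (12, 6), (150, 7), (13, 6)]),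
    ([4, 4, 4], [(4, 0), (112, 2), (87, 1), (66, 0), (149, 4), (134, 3), (120, 2), (151, 5), (136, 4), (14, 3), (152, 4), (15, 3), (16, 3)], [(4, 1)]),
    ([4, 4, 0], [(4, 0), (108, 2), (83, 1), (62, 0), (149, 4), (120, 3), (150, 5), (121, 4), (151, 6), (14, 5), (152, 5), (16, 6), (136, 5)], [(23, 1), (23, 0), (141, 10), (126, 9), (87, 8), (76, 7), (66, 6), (57, 5), (49, 4), (36, 3), (31, 2), (4, 1), (113, 3), (88, 2), (67, 1), (149, 3), (16, 4), (118, 4), (93, 3), (10, 2), (120, 3), (12, 2), (14, 2), (103, 3), (105, 4), (107, 5), (146, 8), (131, 7), (104, 6), (92, 5), (71, 4), (148, 9), (133, 8), (106, 7), (94, 6), (150, 10), (135, 9), (13, 8), (147, 9), (132, 8), (93, 7), (82, 6), (10, 5), (151, 8), (136, 7), (152, 9), (15, 8), (16, 8), (119, 7), (94, 6), (11, 5), (149, 7), (120, 6), (12, 5), (151, 6), (14, 5), (152, 5), (16, 6), (15, 5), (142, 5), (58, 4), (50, 3), (37, 2), (5, 1), (145, 3), (103, 2), (152, 4), (146, 5), (131, 4), (104, 3),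 (150, 6), (135, 5), (13, 4), (16, 5), (143, 5), (128, 4), (59, 3), (51, 2), (6, 1), (145, 3), (130, 2), (116, 1), (150, 4), (135, 3), (121, 2), (151, 5), (136, 4), (14, 3), (152, 4), (15, 3), (146, 3), (104, 2), (151, 4), (152, 5), (152, 6), (15, 5), (16, 5), (116, 4), (103, 3), (61, 2), (8, 1), (117, 3), (104, 2), (9, 1), (118, 2), (105, 1), (119, 3), (106, 2), (120, 4), (107, 3)]),
    ([4, 0, 0], [(0, 1), (25, 0), (125, 6), (111, 5), (75, 4), (65, 3), (35, 2), (26, 1), (143, 5), (89, 4), (68, 3), (149, 5), (16, 6), (93, 5), (10, 4), (12, 4), (147, 5), (105, 4), (150, 6), (13, 5), (151, 5), (16, 6), (119, 5), (151, 7), (14, 6), (152, 6), (16, 7), (126, 6), (76, 5), (66, 4), (36, 3), (4, 2), (114, 4), (89, 3), (68, 2), (149, 4), (151, 5), (150, 6), (121, 5), (147, 7), (118, 6), (105, 5), (93, 4), (10, 3), (151, 6), (14, 5), (152, 5), (16, 6), (133, 5), (106, 4), (94, 3), (152, 7), (15, 6), (142, 6), (100, 5), (88, 4), (77, 3), (37, 2), (148,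 5), (106, 4), (16, 6), (107, 5), (150, 7), (13, 6), (16, 6)], [(23, 0), (137, 10), (122, 9), (83, 8), (72, 7), (62, 6), (53, 5), (45, 4), (32, 3), (27, 2), (23, 1), (0, 0), (141, 5), (126, 4), (31, 3), (4, 2), (113, 4), (88, 3), (67, 2), (149, 4), (16, 5), (118, 5), (93, 4), (10, 3), (120, 4), (12, 3), (14, 3), (142, 4), (127, 3), (5, 2), (143, 3), (128, 2), (145, 4), (130, 3), (146, 5), (131, 4), (147, 6), (132, 5), (148, 7), (133, 6), (149, 8), (134, 7), (152, 9), (15, 8), (16, 8), (88, 7), (77, 6), (67, 5), (58, 4), (50, 3), (37, 2), (145, 5), (103, 4), (152, 6), (146, 7), (131, 6), (104, 5), (150, 8), (135, 7), (13, 6), (16, 7), (132, 6), (148, 8), (133, 7), (16, 9), (134, 8), (143, 10), (128, 9), (89, 8), (78, 7), (68, 6), (59, 5), (51, 4), (6, 3), (145, 5), (130, 4), (116, 3), (150, 6), (135, 5), (121, 4), (151, 7), (136, 6), (14, 5), (152, 6), (15, 5), (146, 5), (104, 4), (151, 6), (152, 7), (147, 8), (132, 7), (118, 6), (105, 5), (16,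 9), (133, 8), (119, 7), (106, 6), (134, 9), (120, 8), (107, 7), (15, 10), (146, 10), (117, 9), (104, 8), (92, 7), (81, 6), (71, 5), (9, 4), (149, 9), (120, 8), (107, 7), (12, 6), (16, 8), (114, 7), (101, 6), (78, 5), (68, 4), (51, 3), (132, 7), (118, 6), (105, 5), (148, 9), (133, 8), (119, 7), (106, 6), (150, 10), (135, 9), (121, 8), (13, 7), (151, 9), (136, 8), (14, 7), (148, 8), (133, 7), (11, 6), (149, 7), (134, 6), (16, 8), (130, 7), (91, 6), (70, 5), (8, 4), (131, 6), (92, 5), (71, 4), (15, 7), (92, 6), (71, 5), (9, 4), (94, 5), (12, 6), (147, 7), (118, 6), (82, 5), (10, 4), (148, 6), (119, 5), (11, 4), (151, 5), (14, 4), (16, 4), (134, 7), (120, 6), (107, 5), (135, 8), (121, 7), (13, 6), (136, 7), (14, 6), (15, 6), (152, 6), (16, 7)]),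
    ([4, 4, 1], [(4, 0), (109, 2), (84, 1), (63, 0), (149, 4), (134, 3), (150, 5), (135, 4), (152, 6), (15, 5), (16, 5)], [(24, 1), (24, 0), (141, 4), (99, 3), (57, 2), (4, 1), (117, 3), (92, 2), (71, 1), (119, 4), (94, 3), (121, 5), (121, 6), (13, 5), (16, 6), (117, 5), (92, 4), (81, 3), (71, 2), (9, 1), (121, 4)])]

/-- A part of the certificate. -/
def overlaps1 : List (List ℕ × List (ℕ × ℕ) × List (ℕ × ℕ)) := [
    ([4, 1, 1], [(1, 1), (4, 0), (114, 2), (89, 1), (68, 0), (149, 2), (151, 3), (144, 4), (115, 3), (90, 2), (69, 1), (145, 5), (116, 4), (91, 3), (70, 2), (147, 6), (118, 5), (93, 4), (10, 3), (150, 5), (121, 4), (151, 6), (14, 5)], [(24, 0), (138, 4), (96, 3), (54, 2), (24, 1), (1, 0), (112, 6), (99, 5), (66, 4), (49, 3), (42, 2), (36, 1), (4, 0), (114, 2), (89, 1), (68, 0), (149, 2), (151, 3), (150, 4), (121, 3), (144, 5), (115, 4), (102, 3), (90, 2), (69, 1), (151, 6), (14, 5), (152, 5), (16, 6), (130, 5), (103, 4), (91, 3), (70,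 2), (132, 6), (105, 5), (93, 4), (10, 3), (134, 5), (107, 4), (12, 3), (15, 4), (147, 4), (105, 3), (151, 5), (152, 6), (16, 7), (135, 6), (121, 5), (13, 4), (151, 6), (136, 5), (14, 4), (146, 5), (131, 4), (71, 3), (150, 6), (135, 5), (16, 7), (131, 6), (104, 5), (71, 4), (9, 3), (132, 5), (105, 4), (10, 3), (134, 4), (107, 3), (135, 5), (13, 4), (136, 4), (150, 6), (135, 5), (121, 4), (151, 7), (136, 6), (14, 5), (152, 6), (15, 5), (16, 5)]),
    ([4, 1, 0], [(24, 0), (137, 4), (95, 3), (53, 2), (23, 1), (17, 0), (141, 12), (126, 11), (87, 10), (76, 9), (66, 8), (49, 7), (42, 6), (36, 5), (31, 4), (114, 8), (89, 7), (68, 6), (149, 8), (151, 9), (150, 10), (121, 9), (144, 11), (115, 10), (102, 9), (90, 8), (69, 7), (151, 12), (14, 11), (152, 11), (16, 12), (130, 11), (103, 10), (91, 9), (70, 8), (132, 12), (105, 11), (93, 10), (10, 9), (134, 11), (107, 10), (12, 9), (15, 10), (147, 10), (105, 9), (151, 11), (152, 12), (16, 13), (133, 12), (119,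 11), (106, 10), (149, 14), (134, 13), (120, 12), (107, 11), (151, 15), (136, 14), (14, 13), (152, 14), (15, 13), (16, 13), (142, 14), (127, 13), (100, 12), (88, 11), (77, 10), (67, 9), (50, 8), (43, 7), (37, 6), (5, 5), (144, 7), (102, 6), (147, 8), (105, 7), (149, 9), (107, 8), (145, 10), (103, 9), (91, 8), (70, 7), (152, 11), (147, 12), (132, 11), (105, 10), (93, 9), (10, 8), (16, 11), (133, 10), (106, 9), (94, 8), (149, 12), (134, 11), (107, 10), (12, 9), (16, 11), (135, 10), (13, 9), (15, 9), (143, 9), (78, 8), (51, 7), (44, 6), (6, 5), (144, 7), (129, 6), (115, 5), (148, 8), (133, 7), (119, 6), (150, 9), (135, 8), (121, 7), (145, 10), (130, 9), (116, 8), (103, 7), (80, 6), (150, 11), (135, 10), (121, 9), (13, 8), (151, 10), (136, 9), (14, 8), (152, 9), (15, 8), (148, 8), (11, 7), (16, 7), (8, 6), (146, 11), (131, 10), (92, 9), (81, 8), (71, 7), (9, 6), (148, 10), (133, 9), (94, 8), (11, 7), (149, 9), (134, 8), (12, 7), (151, 8), (136, 7),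 (16, 9), (135, 8), (121, 7), (136, 9), (14, 8), (15, 8)], [(17, 1), (23, 0), (138, 10), (123, 9), (84, 8), (73, 7), (63, 6), (54, 5), (46, 4), (33, 3), (28, 2), (24, 1), (142, 5), (100, 4), (58, 3), (150, 6), (13, 5), (16, 5), (59, 4), (131, 7), (117, 6), (9, 5), (134, 6), (120, 5), (143, 8), (128, 7), (114, 6), (89, 5), (6, 4), (149, 6), (134, 5), (120, 4), (151, 7), (136, 6), (14, 5), (152, 6), (15, 5), (16, 5), (93, 4), (12, 5), (103, 5), (70, 4), (104, 6), (71, 5), (106, 7), (13, 8), (146, 8), (81, 7), (71, 6), (9, 5), (147, 7), (82, 6), (10, 5), (149, 6), (150, 7), (151, 8), (16, 9), (118, 8), (105, 7), (93, 6), (82, 5), (119, 9), (106, 8), (94, 7), (11, 6), (148, 10), (133, 9), (119, 8), (106, 7), (94, 6), (151, 11), (136, 10), (14, 9), (152, 10), (15, 9), (149, 9), (107, 8), (12, 7), (150, 8), (13, 7), (152, 7), (16, 8), (15, 7), (139, 7), (74, 6), (64, 5), (47, 4), (29, 3), (25, 2), (127, 8), (113, 7), (77, 6), (67, 5), (37, 4), (147,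 7), (105, 6), (16, 8), (106, 7), (151, 9), (152, 10), (147, 11), (132, 10), (118, 9), (105, 8), (82, 7), (10, 6), (149, 10), (134, 9), (120, 8), (107, 7), (150, 11), (135, 10), (121, 9), (13, 8), (145, 10), (130, 9), (116, 8), (91, 7), (80, 6), (149, 11), (134, 10), (120, 9), (12, 8), (150, 10), (135, 9), (121, 8), (147, 11), (132, 10), (118, 9), (105, 8), (82, 7), (151, 12), (136, 11), (14, 10), (16, 11), (133, 10), (106, 9), (11, 8), (136, 9), (15, 10), (140, 10), (111, 9), (98, 8), (65, 7), (48, 6), (35, 5), (30, 4), (26, 3), (142, 7), (88, 6), (67, 5), (149, 7), (16, 8), (151, 8), (152, 9), (16, 10), (128, 9), (114, 8), (89, 7), (68, 6), (149, 8), (151, 9), (152, 10), (147, 11), (132, 10), (118, 9), (93, 8), (10, 7), (149, 10), (134, 9), (120, 8), (12, 7), (150, 9), (135, 8), (121, 7), (16, 10), (130, 9), (116, 8), (103, 7), (132, 10), (118, 9), (105, 8), (133, 11), (119, 10), (106, 9), (134, 12), (120, 11), (107, 10), (136, 13), (14, 12),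 (15, 12), (105, 11), (93, 10), (82, 9), (10, 8), (13, 10), (150, 11), (121, 10), (151, 12), (14, 11), (16, 11), (100, 10), (88, 9), (77, 8), (50, 7), (37, 6), (5, 5), (145, 7), (103, 6), (152, 8), (148, 9), (133, 8), (106, 7), (16, 10), (134, 9), (107, 8), (150, 11), (135, 10), (13, 9), (143, 10), (128, 9), (89, 8), (78, 7), (51, 6), (6, 5), (145, 7), (130, 6), (116, 5), (150, 8), (135, 7), (121, 6), (151, 9), (136, 8), (14, 7), (152, 8), (15, 7), (148, 7), (106, 6), (149, 8), (107, 7), (152, 9), (16, 10), (129, 9), (102, 8), (90, 7), (79, 6), (52, 5), (130, 10), (103, 9), (91, 8), (80, 7), (8, 6), (132, 9), (105, 8), (93, 7), (82, 6), (133, 10), (106, 9), (94, 8), (11, 7), (134, 9), (107, 8), (12, 7), (15, 8)]),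
    ([4, 4, 2], [(4, 0), (110, 2), (85, 1), (64, 0), (149, 3), (120, 2), (150, 4), (121, 3), (151, 5), (14, 4), (16, 4)], [(25, 1), (25, 0), (126, 6), (112, 5), (76, 4), (66, 3), (36, 2), (4, 1), (114, 3), (89, 2), (68, 1), (149, 3), (151, 4), (150, 5), (121, 4), (147, 6), (118, 5), (105, 4), (93, 3), (10, 2), (151, 5), (14, 4), (152, 4), (16, 5), (133, 4), (106, 3), (94, 2), (151, 6), (136, 5), (152, 7), (15, 6), (143, 6), (114, 5), (101, 4), (89, 3), (78, 2), (6, 1), (148, 3), (133, 2), (119, 1), (149, 4), (134, 3), (120, 2), (150, 5), (135, 4), (121, 3), (151, 6), (136, 5), (14, 4), (16, 5), (132, 4), (105, 3), (93, 2), (82, 1), (133, 5), (106, 4), (94, 3), (11, 2), (136, 4), (15, 5)]),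
    ([4, 2, 2], [(2, 1)], [(25, 0), (124, 6), (110, 5), (74, 4), (64, 3), (34, 2), (25, 1), (2, 0), (141, 2), (36, 1), (31, 0), (114, 4), (89, 3), (68, 2), (149, 4), (151, 5), (150, 6), (121, 5), (16, 7), (114, 6), (101, 5), (89, 4), (68, 3), (6, 2), (147, 4), (132, 3), (118, 2), (16, 5), (134, 4), (120, 3), (135, 5), (121, 4), (136, 6), (14, 5), (132, 5), (105, 4), (93, 3), (10, 2), (133, 4), (106, 3), (94, 2), (136, 5), (15, 6), (114, 5), (101, 4), (89, 3), (78, 2), (118, 6), (105, 5), (93, 4), (82, 3), (120, 7), (107, 6), (12, 5), (121, 6), (13, 5), (147, 6), (118, 5), (82, 4), (10, 3), (151, 5), (14, 4), (16, 4), (11, 3), (136, 4), (14, 3), (15, 3)]),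
    ([4, 2, 0], [(25, 0), (122, 6), (108, 5), (72, 4), (62, 3), (32, 2), (23, 1), (18, 0), (141, 8), (126, 7), (112, 6), (76, 5), (42, 4), (36, 3), (4, 2), (114, 4), (89, 3), (68, 2), (149, 4), (151, 5), (150, 6), (121, 5), (144, 7), (115, 6), (102, 5), (90, 4), (69, 3), (151, 8), (14, 7), (152, 7), (16, 8), (133, 7), (106, 6), (94, 5), (151, 9), (136, 8), (152, 10), (15, 9), (16, 9), (113, 8), (100, 7), (88, 6), (77, 5), (67, 4), (43, 3), (37, 2), (144, 5), (102, 4), (147, 6), (105, 5), (149, 7), (107, 6), (147, 8), (105, 7), (93, 6), (10, 5), (16, 7), (106, 6), (94, 5), (149, 8), (107, 7), (12, 6), (16, 7), (13, 6), (114, 6), (78, 5), (44, 4), (6, 3), (144, 5), (129, 4), (115, 3), (148, 6), (133, 5), (119, 4), (150, 7), (135, 6), (121, 5), (148, 8), (133, 7), (119, 6), (106, 5), (11, 4), (151, 7), (136, 6), (14, 5), (145, 6), (130, 5), (103, 4), (146, 7), (131, 6), (104, 5), (147, 8), (132, 7), (105, 6), (148, 9), (133, 8), (106, 7), (149, 10),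 (134, 9), (107, 8), (152, 11), (15, 10), (16, 10), (101, 9), (89, 8), (78, 7), (68, 6), (59, 5), (51, 4), (44, 3), (103, 6), (80, 5), (13, 7), (131, 8), (117, 7), (81, 6), (136, 9), (14, 8), (15, 8), (82, 7), (148, 9), (11, 8), (149, 8), (150, 9), (148, 10), (106, 9), (94, 8), (149, 11), (107, 10), (12, 9), (16, 10), (105, 9), (82, 8), (10, 7), (106, 8), (11, 7), (148, 9), (119, 8), (106, 7), (150, 10), (121, 9), (13, 8), (151, 9), (14, 8), (152, 8), (151, 9), (136, 8), (16, 10), (15, 9)], [(18, 1), (23, 0), (139, 10), (124, 9), (85, 8), (74, 7), (64, 6), (55, 5), (47, 4), (34, 3), (29, 2), (25, 1), (127, 7), (113, 6), (77, 5), (67, 4), (37, 3), (147, 6), (105, 5), (16, 7), (106, 6), (151, 8), (152, 9), (147, 10), (132, 9), (118, 8), (105, 7), (82, 6), (10, 5), (149, 9), (134, 8), (120, 7), (107, 6), (150, 10), (135, 9), (121, 8), (13, 7), (143, 9), (128, 8), (114, 7), (89, 6), (78, 5), (6, 4), (148, 6), (133, 5), (119, 4), (149, 7), (134, 6),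 (120, 5), (151, 8), (136, 7), (14, 6), (152, 7), (15, 6), (16, 6), (93, 5), (82, 4), (12, 6), (145, 7), (103, 6), (80, 5), (70, 4), (149, 8), (107, 7), (150, 9), (13, 8), (146, 8), (92, 7), (81, 6), (71, 5), (147, 9), (93, 8), (82, 7), (10, 6), (148, 8), (94, 7), (11, 6), (149, 7), (12, 6), (150, 6), (151, 7), (16, 8), (118, 7), (105, 6), (14, 8), (148, 8), (106, 7), (151, 9), (152, 10), (149, 11), (134, 10), (120, 9), (107, 8), (150, 12), (135, 11), (121, 10), (13, 9), (151, 11), (136, 10), (14, 9), (16, 10), (15, 9), (16, 9), (87, 8), (76, 7), (66, 6), (57, 5), (49, 4), (31, 3), (4, 2), (113, 4), (88, 3), (67, 2), (149, 4), (16, 5), (118, 5), (93, 4), (10, 3), (120, 4), (12, 3), (14, 3), (146, 7), (131, 6), (92, 5), (71, 4), (148, 8), (133, 7), (94, 6), (150, 9), (135, 8), (147, 10), (132, 9), (105, 8), (93, 7), (82, 6), (10, 5), (151, 9), (136, 8), (152, 10), (15, 9), (16, 9), (119, 8), (106, 7), (94, 6), (11, 5), (149, 8), (120, 7), (107,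 6), (12, 5), (151, 7), (14, 6), (152, 6), (16, 7), (128, 6), (101, 5), (59, 4), (51, 3), (131, 7), (117, 6), (104, 5), (136, 8), (14, 7), (15, 7), (13, 6), (129, 6), (60, 5), (52, 4), (133, 7), (136, 8), (15, 9)]),
    ([4, 2, 1], [(25, 0), (123, 6), (109, 5), (73, 4), (63, 3), (33, 2), (24, 1), (19, 0), (99, 8), (87, 7), (76, 6), (49, 5), (42, 4), (31, 3), (4, 2), (113, 4), (88, 3), (67, 2), (149, 4), (16, 5), (118, 5), (93, 4), (10, 3), (120, 4), (12, 3), (14, 3), (145, 6), (130, 5), (116, 4), (147, 7), (132, 6), (118, 5), (149, 8), (134, 7), (120, 6), (152, 9), (15, 8), (16, 8), (119, 7), (94, 6), (149, 9), (120, 8), (12, 7), (151, 8), (14, 7), (152, 7), (16, 8), (135, 7), (146, 9), (131, 8), (104, 7), (81, 6), (71, 5), (150, 10), (135, 9), (13, 8), (16, 9), (128, 8), (78, 7), (68, 6), (59, 5), (51, 4), (44, 3), (103, 6), (80, 5), (13, 7), (131, 8), (117, 7), (81, 6), (136, 9), (14, 8), (15, 8), (82, 7), (148, 9), (11, 8), (152, 8), (147, 9),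 (132, 8), (10, 7), (149, 8), (134, 7), (150, 9), (135, 8), (147, 10), (132, 9), (105, 8), (93, 7), (148, 11), (133, 10), (106, 9), (94, 8), (152, 12), (15, 11), (16, 11), (106, 10), (94, 9), (11, 8), (136, 11), (14, 10), (152, 11), (15, 10)], [(19, 1), (24, 0), (139, 4), (97, 3), (55, 2), (25, 1), (131, 7), (117, 6), (81, 5), (71, 4), (132, 8), (118, 7), (82, 6), (10, 5), (133, 7), (119, 6), (11, 5), (134, 6), (120, 5), (135, 7), (121, 6), (136, 8), (14, 7), (150, 8), (135, 7), (13, 6), (16, 7), (141, 7), (126, 6), (87, 5), (57, 4), (36, 3), (4, 2), (114, 4), (89, 3), (68, 2), (149, 4), (151, 5), (150, 6), (121, 5), (146, 7), (117, 6), (104, 5), (92, 4), (71, 3), (148, 8), (119, 7), (106, 6), (94, 5), (150, 9), (121, 8), (13, 7), (149, 8), (120, 7), (12, 6), (151, 7), (14, 6), (152, 6), (16, 7), (15, 6), (142, 6), (77, 5), (67, 4), (58, 3), (37, 2), (146, 5), (104, 4), (150, 6), (13, 5), (16, 5), (148, 6), (16, 7), (144, 7), (79, 6), (69, 5),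 (60, 4), (145, 8), (80, 7), (70, 6), (61, 5), (148, 9), (11, 8), (149, 8), (150, 9)]),
    ([4, 4, 3], [(4, 0), (111, 2), (86, 1), (65, 0), (149, 4), (120, 3), (107, 2), (150, 5), (121, 4), (13, 3), (151, 4), (14, 3), (16, 3)], [(26, 1), (26, 0), (141, 4), (87, 3), (66, 2), (4, 1), (118, 3), (93, 2), (10, 1), (14, 2), (149, 3), (134, 2), (12, 1), (151, 2), (136, 1), (152, 3), (15, 2), (16, 2), (147, 2), (118, 1), (149, 3), (120, 2), (16, 4)]),
    ([4, 3, 3], [(3, 1)], [(26, 0), (140, 4), (86, 3), (65, 2), (26, 1), (3, 0), (126, 2), (99, 1), (76, 0), (150, 2), (16, 3), (132, 3), (105, 2), (82, 1), (134, 4), (107, 3), (147, 6), (132, 5), (105, 4), (93, 3), (82, 2), (10, 1), (150, 5), (135, 4), (13, 3), (151, 4), (136, 3), (16, 5), (134, 4), (120, 3), (12, 2), (135, 3), (121, 2), (136, 4), (14, 3), (16, 4)]),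
    ([4, 3, 0], [(26, 0), (137, 4), (83, 3), (62, 2), (23, 1), (20, 0), (141, 9), (87, 8), (76, 7), (49, 6), (42, 5), (36, 4), (31, 3), (4, 2), (113, 4), (88, 3), (67, 2), (149, 4), (16, 5), (118, 5), (93, 4), (10, 3), (120, 4), (12, 3), (14, 3), (102, 4), (145, 8), (130, 7), (116, 6), (103, 5), (147, 9), (132, 8), (118, 7), (105, 6), (149, 10), (134, 9), (120, 8), (107, 7), (152, 11), (15, 10), (16, 10), (119, 9), (106, 8), (94, 7), (149, 11), (120, 10), (107, 9), (12, 8), (151, 10), (14, 9), (152, 9), (16, 10), (142, 10), (127, 9), (100, 8), (77, 7), (67, 6), (50, 5), (43, 4), (37, 3), (5, 2), (144, 4), (102, 3), (147, 5), (105, 4), (149, 6), (107, 5), (145, 7), (103, 6), (91, 5), (70, 4), (152, 8), (147, 9), (132, 8), (105, 7), (93, 6), (10, 5), (16, 8), (133, 7), (106, 6), (94, 5), (150, 9), (135, 8), (13, 7), (152, 8), (15, 7), (16, 7), (89, 6), (78, 5), (51, 4), (44, 3), (6, 2), (144, 4), (129, 3), (115, 2), (148, 5), (133, 4), (119, 3),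 (150, 6), (135, 5), (121, 4), (145, 7), (130, 6), (116, 5), (103, 4), (80, 3), (150, 8), (135, 7), (121, 6), (13, 5), (151, 7), (136, 6), (14, 5), (152, 6), (15, 5), (148, 5), (11, 4), (149, 4), (145, 5), (91, 4), (8, 3), (146, 4), (92, 3), (147, 5), (93, 4), (148, 6), (94, 5), (149, 7), (12, 6), (152, 6), (16, 7), (132, 6), (82, 5), (10, 4), (133, 5), (11, 4), (136, 4), (149, 6), (134, 5), (120, 4), (150, 7), (135, 6), (121, 5), (151, 8), (136, 7), (14, 6), (152, 7), (15, 6), (16, 6)], [(20, 1), (23, 0), (140, 10), (125, 9), (86, 8), (75, 7), (65, 6), (56, 5), (48, 4), (35, 3), (30, 2), (26, 1), (142, 5), (88, 4), (67, 3), (149, 5), (16, 6), (151, 6), (152, 7), (16, 8), (128, 7), (114, 6), (89, 5), (68, 4), (149, 6), (151, 7), (152, 8), (147, 9), (132, 8), (118, 7), (93, 6), (10, 5), (149, 8), (134, 7), (120, 6), (12, 5), (150, 7), (135, 6), (121, 5), (16, 8), (130, 7), (116, 6), (103, 5), (132, 8), (118, 7), (105, 6), (133, 9), (119, 8), (106,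 7), (134, 10), (120, 9), (107, 8), (136, 11), (14, 10), (15, 10), (104, 9), (92, 8), (81, 7), (71, 6), (105, 10), (93, 9), (82, 8), (10, 7), (107, 9), (12, 8), (13, 8), (118, 8), (82, 7), (121, 9), (14, 10), (148, 10), (106, 9), (11, 8), (16, 9), (107, 8), (13, 9), (152, 10), (16, 11), (141, 11), (126, 10), (112, 9), (87, 8), (66, 7), (57, 6), (49, 5), (36, 4), (31, 3), (4, 2), (113, 4), (88, 3), (67, 2), (149, 4), (16, 5), (118, 5), (93, 4), (10, 3), (120, 4), (12, 3), (14, 3), (103, 4), (105, 5), (107, 6), (146, 9), (131, 8), (104, 7), (92, 6), (71, 5), (148, 10), (133, 9), (106, 8), (94, 7), (150, 11), (135, 10), (13, 9), (147, 10), (132, 9), (93, 8), (82, 7), (10, 6), (151, 9), (136, 8), (152, 10), (15, 9), (16, 9), (120, 8), (12, 7), (14, 7), (151, 8), (136, 7), (152, 9), (15, 8), (16, 8), (113, 7), (77, 6), (58, 5), (50, 4), (37, 3), (5, 2), (145, 4), (103, 3), (152, 5), (146, 6), (131, 5), (104, 4), (150, 7), (135, 6), (13, 5), (16, 6),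 (133, 5), (151, 7), (136, 6), (143, 8), (128, 7), (114, 6), (78, 5), (59, 4), (51, 3), (6, 2), (145, 4), (130, 3), (116, 2), (150, 5), (135, 4), (121, 3), (151, 6), (136, 5), (14, 4), (152, 5), (15, 4), (146, 4), (104, 3), (151, 5), (152, 6), (148, 7), (133, 6), (119, 5), (106, 4), (151, 8), (136, 7), (14, 6), (152, 7), (15, 6), (16, 6), (102, 5), (79, 4), (60, 3), (52, 2), (103, 6), (80, 5), (61, 4), (8, 3), (106, 5), (11, 4), (107, 4)]),
    ([4, 3, 1], [(26, 0), (138, 4), (84, 3), (63, 2), (24, 1), (21, 0), (141, 10), (126, 9), (112, 8), (76, 7), (66, 6), (49, 5), (42, 4), (36, 3), (4, 2), (114, 4), (89, 3), (68, 2), (149, 4), (151, 5), (150, 6), (121, 5), (144, 7), (115, 6), (102, 5), (90, 4), (69, 3), (151, 8), (14, 7), (152, 7), (16, 8), (130, 7), (103, 6), (91, 5), (70, 4), (132, 8), (105, 7), (93, 6), (10, 5), (134, 7), (107, 6), (12, 5), (15, 6), (147, 6), (105, 5), (151, 7), (152, 8), (16, 9), (133, 8), (119, 7), (106, 6), (151, 10),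 (136, 9), (14, 8), (152, 9), (15, 8), (16, 8), (104, 7), (81, 6), (71, 5), (13, 8), (147, 8), (82, 7), (10, 6), (148, 7), (11, 6), (152, 6), (16, 7), (134, 6), (135, 7), (15, 8), (16, 8)], [(21, 1), (24, 0), (140, 4), (98, 3), (56, 2), (26, 1), (146, 5), (92, 4), (71, 3), (147, 6), (93, 5), (10, 4), (149, 5), (12, 4), (150, 4), (151, 5), (150, 6), (121, 5), (13, 4), (16, 5), (112, 4), (57, 3), (4, 2), (117, 4), (92, 3), (71, 2), (119, 5), (94, 4), (121, 6), (14, 7), (101, 6), (89, 5), (78, 4), (68, 3), (59, 2), (132, 5), (118, 4), (148, 7), (133, 6), (119, 5), (149, 8), (134, 7), (120, 6), (150, 9), (135, 8), (121, 7), (144, 10), (129, 9), (115, 8), (102, 7), (90, 6), (79, 5), (69, 4), (60, 3), (145, 11), (130, 10), (116, 9), (103, 8), (91, 7), (80, 6), (70, 5), (61, 4), (147, 12), (132, 11), (118, 10), (105, 9), (93, 8), (82, 7), (10, 6), (148, 11), (133, 10), (119, 9), (106, 8), (94, 7), (11, 6), (151, 10), (136, 9), (14, 8), (152, 9), (15,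 8), (16, 8)]),
    ([4, 3, 2], [(26, 0), (139, 4), (85, 3), (64, 2), (25, 1), (22, 0), (126, 4), (76, 3), (31, 2), (119, 6), (94, 5), (152, 8), (143, 9), (128, 8), (114, 7), (89, 6), (78, 5), (68, 4), (148, 6), (149, 7), (151, 8), (152, 9), (16, 10), (132, 9), (118, 8), (93, 7), (82, 6), (10, 5), (133, 8), (119, 7), (94, 6), (11, 5), (136, 7), (14, 6), (15, 6), (93, 5), (149, 8), (120, 7), (12, 6), (150, 7), (121, 6), (151, 8), (14, 7), (16, 7)], [(22, 1), (25, 0), (125, 6), (111, 5), (75, 4), (65, 3), (35, 2), (26, 1), (143, 5), (89, 4), (68, 3), (149, 5), (16, 6), (93, 5), (10, 4), (12, 4), (147, 5), (105, 4), (150, 6), (13, 5), (151, 5), (16, 6), (119, 5), (151, 7), (14, 6), (152, 6), (16, 7), (127, 6), (77, 5), (67, 4), (37, 3), (147, 6), (105, 5), (16, 7), (106, 6), (152, 8), (148, 9), (133, 8), (106, 7), (11, 6), (152, 8), (15, 7)]),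
    ([5, 5, 0], [(5, 0)], [(27, 1), (27, 0), (142, 5), (88, 4), (58, 3), (37, 2), (5, 1), (146, 3), (104, 2), (150, 4), (13, 3), (16, 3), (16, 4), (89, 3), (59, 2), (6, 1), (146, 3), (131, 2), (117, 1), (151, 4), (136, 3), (14, 2), (152, 3), (15, 2), (149, 2), (146, 3), (92, 2), (9, 1), (149, 2), (12, 1), (16, 1)]),
    ([5, 0, 0], [(0, 1), (29, 0), (98, 4), (86, 3), (65, 2), (30, 1), (147, 5), (132, 4), (118, 3), (150, 6), (135, 5), (121, 4), (151, 7), (136, 6), (14, 5), (16, 6), (134, 5), (107, 4), (135, 6), (13, 5), (136, 5), (150, 7), (135, 6), (121, 5), (141, 8), (126, 7), (112, 6), (99, 5), (87, 4), (66, 3), (31, 2), (118, 6), (93, 5), (10, 4), (14, 5), (149, 6), (134, 5), (12, 4), (151, 5), (136, 4), (152, 6), (15, 5), (16, 5), (121, 4), (151, 6), (14, 5), (152, 5), (16, 6), (127, 5), (100, 4), (5, 3), (15, 4)], [(27, 0), (137, 5), (83, 4), (53, 3), (32, 2), (27, 1), (0, 0), (142, 5), (127, 4), (5, 3), (143, 4), (128, 3), (146, 5), (131,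 4), (149, 6), (134, 5), (16, 7), (128, 6), (89, 5), (59, 4), (6, 3), (146, 5), (131, 4), (117, 3), (151, 6), (136, 5), (14, 4), (152, 5), (15, 4), (149, 4), (152, 5), (148, 6), (133, 5), (94, 4), (149, 7), (134, 6), (12, 5), (16, 6), (131, 5), (81, 4), (9, 3), (133, 4), (11, 3), (134, 3), (136, 4), (149, 6), (134, 5), (120, 4), (12, 3), (150, 5), (135, 4), (121, 3), (151, 6), (136, 5), (14, 4), (152, 5), (15, 4), (16, 4)]),
    ([5, 5, 1], [(5, 0)], [(28, 1), (28, 0), (142, 5), (88, 4), (58, 3), (37, 2), (5, 1), (146, 3), (104, 2), (150, 4), (13, 3), (16, 3), (16, 4), (89, 3), (59, 2), (6, 1), (146, 3), (131, 2), (117, 1), (151, 4), (136, 3), (14, 2), (152, 3), (15, 2), (149, 2), (146, 3), (92, 2), (9, 1), (149, 2), (12, 1), (16, 1)]),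
    ([5, 1, 1], [(1, 1), (31, 0), (114, 4), (89, 3), (68, 2), (149, 4), (151, 5), (144, 6), (115, 5), (90, 4), (69, 3), (145, 7), (116, 6), (91, 5), (70, 4), (147, 8), (118, 7), (93, 6), (10, 5), (150, 7), (121, 6), (151, 8), (14, 7)], [(28, 0), (138, 5), (84, 4), (54, 3), (33, 2), (28, 1), (1, 0), (113, 6), (100, 5), (67, 4), (50, 3), (43, 2), (37, 1), (144, 4), (102, 3), (147, 5), (105, 4), (149, 6), (107, 5), (145, 7), (103, 6), (91, 5), (70, 4), (152, 8), (147, 9), (132, 8), (105, 7), (93, 6), (10, 5), (16, 8), (135, 7), (13, 6), (136, 6), (128, 7), (114, 6), (89, 5), (51, 4), (44, 3), (6, 2), (144, 4), (129, 3), (115, 2), (148, 5), (133, 4), (119, 3), (150, 6), (135, 5), (121, 4), (145, 7), (130, 6), (116, 5), (103, 4), (80, 3), (150, 8), (135, 7), (121, 6), (13, 5), (151, 7), (136, 6), (14, 5), (152, 6), (15, 5), (149, 5), (151, 6), (152, 7), (146, 8), (131, 7), (117, 6), (92, 5), (81, 4), (149, 9), (134, 8), (120, 7), (12, 6), (16, 8),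 (128, 7), (114, 6), (78, 5), (59, 4), (51, 3), (44, 2), (103, 5), (80, 4), (13, 6), (131, 7), (117, 6), (81, 5), (136, 8), (14, 7), (15, 7), (11, 6), (132, 7), (118, 6), (134, 8), (120, 7), (135, 9), (121, 8), (131, 10), (117, 9), (104, 8), (92, 7), (71, 6), (9, 5), (132, 9), (118, 8), (105, 7), (93, 6), (10, 5), (134, 8), (120, 7), (107, 6), (12, 5), (135, 7), (121, 6), (13, 5), (136, 6), (14, 5), (149, 6), (134, 5), (150, 7), (135, 6), (152, 8), (15, 7), (16, 7)]),
    ([5, 1, 0], [(28, 0), (137, 5), (83, 4), (53, 3), (32, 2), (27, 1), (17, 0), (142, 12), (127, 11), (88, 10), (77, 9), (67, 8), (50, 7), (43, 6), (37, 5), (5, 4), (144, 6), (102, 5), (147, 7), (105, 6), (149, 8), (107, 7), (145, 9), (103, 8), (91, 7), (70, 6), (152, 10), (147, 11), (132, 10), (105, 9), (93, 8), (10, 7), (16, 10), (133, 9), (106, 8), (94, 7), (149, 11), (134, 10), (107, 9), (12, 8), (16, 10), (15, 9), (143, 9), (101, 8), (78, 7), (51, 6), (44, 5), (6, 4), (144,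 6), (129, 5), (115, 4), (148, 7), (133, 6), (119, 5), (150, 8), (135, 7), (121, 6), (145, 9), (130, 8), (116, 7), (103, 6), (80, 5), (150, 10), (135, 9), (121, 8), (13, 7), (151, 9), (136, 8), (14, 7), (152, 8), (15, 7), (148, 7), (11, 6), (150, 6), (16, 7), (104, 6), (107, 7), (143, 9), (101, 8), (89, 7), (59, 6), (51, 5), (44, 4), (103, 7), (80, 6), (13, 8), (131, 9), (117, 8), (81, 7), (136, 10), (14, 9), (15, 9), (148, 11), (106, 10), (94, 9), (11, 8), (149, 10), (107, 9), (12, 8), (16, 9), (104, 8), (9, 7), (106, 7), (107, 8), (149, 11), (120, 10), (107, 9), (12, 8), (150, 10), (121, 9), (13, 8), (151, 9), (14, 8), (152, 8), (16, 9)], [(17, 1), (27, 0), (138, 5), (84, 4), (54, 3), (33, 2), (28, 1), (143, 6), (89, 5), (59, 4), (6, 3), (146, 5), (131, 4), (117, 3), (151, 6), (136, 5), (14, 4), (152, 5), (15, 4), (149, 4), (16, 5), (93, 4), (12, 5), (104, 5), (71, 4), (9, 3), (105, 4), (10, 3), (107, 3), (13, 4), (149, 5), (120, 4), (12, 3),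 (150, 4), (121, 3), (152, 5), (16, 6), (139, 6), (124, 5), (110, 4), (97, 3), (29, 2), (13, 6), (151, 6), (152, 7), (16, 8), (140, 8), (125, 7), (111, 6), (86, 5), (65, 4), (30, 3), (147, 7), (132, 6), (118, 5), (150, 8), (135, 7), (121, 6), (151, 9), (136, 8), (14, 7), (16, 8), (134, 7), (107, 6), (135, 8), (13, 7), (136, 7), (151, 9), (136, 8), (14, 7), (152, 8), (15, 7), (16, 7), (142, 7), (88, 6), (67, 5), (5, 4), (149, 5), (16, 6), (143, 6), (89, 5), (68, 4), (149, 6), (16, 7), (90, 6), (69, 5), (91, 7), (70, 6), (93, 8), (10, 7), (94, 7), (12, 8)]),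
    ([5, 5, 2], [(5, 0)], [(29, 1), (29, 0), (100, 4), (88, 3), (67, 2), (5, 1), (149, 2), (16, 3), (105, 3), (93, 2), (10, 1), (107, 2), (12, 1), (13, 1)]),
    ([5, 2, 2], [(2, 1), (5, 0)], [(29, 0), (97, 4), (85, 3), (64, 2), (29, 1), (2, 0), (142, 2), (37, 1), (5, 0), (16, 2), (105, 1), (107, 2), (13, 3), (93, 2), (10, 1), (149, 3), (120, 2), (12, 1), (150, 2), (121, 1), (151, 3), (14, 2), (16, 2), (13, 1)]),
    ([5, 2, 0], [(29, 0), (95, 4), (83, 3), (62, 2), (27, 1), (18, 0), (142, 8), (127, 7), (113, 6), (77, 5), (43, 4), (37, 3), (144, 6), (102, 5), (147, 7), (105, 6), (149, 8), (107, 7), (148, 9), (106, 8), (94, 7), (16, 10), (143, 12), (128, 11), (114, 10), (101, 9), (89, 8), (78, 7), (68, 6), (44, 5), (6, 4), (144, 6), (129, 5), (115, 4), (148, 7), (133, 6), (119, 5), (150, 8), (135, 7), (121, 6), (147, 9), (132, 8), (118, 7), (105, 6), (82, 5), (16, 10), (133, 9), (119, 8), (106, 7), (11, 6), (134, 8), (120, 7), (107, 6), (135, 9),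 (121, 8), (13, 7), (136, 8), (14, 7), (15, 7), (146, 7), (92, 6), (71, 5), (149, 8), (12, 7), (16, 7), (10, 6), (149, 8), (120, 7), (150, 9), (121, 8), (151, 10), (14, 9), (152, 9), (16, 10), (135, 9), (13, 8), (136, 8), (15, 9)], [(18, 1), (27, 0), (139, 5), (85, 4), (55, 3), (34, 2), (29, 1), (101, 5), (89, 4), (68, 3), (149, 5), (150, 6), (147, 7), (105, 6), (93, 5), (10, 4), (149, 6), (107, 5), (12, 4), (150, 5), (13, 4), (16, 4), (149, 10), (120, 9), (107, 8), (12, 7), (150, 9), (121, 8), (13, 7), (151, 8), (14, 7), (16, 7), (141, 7), (76, 6), (66, 5), (57, 4), (36, 3), (31, 2), (114, 6), (89, 5), (68, 4), (149, 6), (151, 7), (150, 8), (121, 7), (146, 9), (117, 8), (104, 7), (92, 6), (71, 5), (148, 10), (119, 9), (106, 8), (94, 7), (150, 11), (121, 10), (13, 9), (147, 10), (118, 9), (93, 8), (82, 7), (10, 6), (151, 9), (14, 8), (152, 8), (16, 9), (133, 8), (94, 7), (11, 6), (16, 8), (128, 7), (89, 6), (59, 5), (6, 4), (146, 6), (131, 5),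 (117, 4), (151, 7), (136, 6), (14, 5), (152, 6), (15, 5), (149, 5), (152, 6), (144, 7), (129, 6), (90, 5), (60, 4), (148, 8), (133, 7), (94, 6), (151, 9), (136, 8), (152, 10), (15, 9), (16, 9)]),
    ([5, 2, 1], [(29, 0), (96, 4), (84, 3), (63, 2), (28, 1), (19, 0), (100, 8), (88, 7), (77, 6), (50, 5), (43, 4), (5, 3), (91, 5), (70, 4), (133, 7), (94, 6), (149, 9), (134, 8), (12, 7), (16, 8), (135, 7), (128, 8), (101, 7), (78, 6), (68, 5), (51, 4), (44, 3), (103, 6), (80, 5), (13, 7), (132, 8), (118, 7), (82, 6), (148, 10), (133, 9), (119, 8), (11, 7), (150, 9), (135, 8), (121, 7), (152, 10), (15, 9), (146, 9), (117, 8), (104, 7), (71, 6), (149, 10), (120, 9), (107, 8), (16, 11), (118, 10), (105, 9), (93, 8), (10, 7), (119, 9), (106, 8), (94, 7), (149, 12), (134, 11), (120, 10), (107, 9), (12, 8), (150, 11), (135, 10), (121, 9), (13, 8), (152, 10), (15, 9), (16, 9), (121, 8), (14, 9)], [(19, 1), (28, 0), (139, 5), (85, 4), (55, 3), (34, 2), (29,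 1), (101, 5), (89, 4), (68, 3), (149, 5), (150, 6), (147, 7), (105, 6), (93, 5), (10, 4), (149, 6), (107, 5), (12, 4), (150, 5), (13, 4), (16, 4), (149, 10), (120, 9), (107, 8), (12, 7), (150, 9), (121, 8), (13, 7), (151, 8), (14, 7), (16, 7), (141, 7), (76, 6), (66, 5), (57, 4), (36, 3), (31, 2), (114, 6), (89, 5), (68, 4), (149, 6), (151, 7), (150, 8), (121, 7), (146, 9), (117, 8), (104, 7), (92, 6), (71, 5), (148, 10), (119, 9), (106, 8), (94, 7), (150, 11), (121, 10), (13, 9), (147, 10), (118, 9), (93, 8), (82, 7), (10, 6), (151, 9), (14, 8), (152, 8), (16, 9), (133, 8), (94, 7), (11, 6), (16, 8), (127, 7), (88, 6), (58, 5), (37, 4), (5, 3), (146, 5), (104, 4), (150, 6), (13, 5), (16, 5), (152, 6), (144, 7), (129, 6), (90, 5), (60, 4), (145, 8), (130, 7), (91, 6), (61, 5), (148, 9), (133, 8), (94, 7), (149, 10), (134, 9), (12, 8), (150, 9), (135, 8)]),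
    ([5, 5, 3], [(5, 0)], [(30, 1), (30, 0), (142, 4), (127, 3), (113, 2), (5, 1), (151, 3), (136, 2), (14, 1), (152, 2), (15, 1), (16, 1)]),
    ([5, 3, 3], [(3, 1)], [(30, 0), (140, 4), (125, 3), (111, 2), (30, 1), (3, 0), (127, 2), (100, 1), (77, 0), (150, 2), (152, 3), (151, 4), (136, 3), (152, 5), (15, 4), (16, 4), (14, 3), (16, 4)]),
    ([5, 3, 0], [(30, 0), (137, 4), (122, 3), (108, 2), (27, 1), (20, 0), (142, 9), (88, 8), (77, 7), (50, 6), (43, 5), (37, 4), (5, 3), (144, 5), (102, 4), (147, 6), (105, 5), (149, 7), (107, 6), (145, 8), (103, 7), (91, 6), (70, 5), (152, 9), (148, 10), (133, 9), (106, 8), (94, 7), (16, 11), (134, 10), (107, 9), (12, 8), (16, 10), (128, 9), (101, 8), (78, 7), (68, 6), (51, 5), (44, 4), (6, 3), (144, 5), (129, 4), (115, 3), (148, 6), (133, 5), (119, 4), (150, 7), (135, 6), (121, 5), (145, 8), (130, 7), (116, 6), (103, 5), (80, 4), (150, 9), (135, 8), (121, 7), (13, 6), (151, 8), (136, 7), (14, 6), (152, 7),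 (15, 6), (147, 6), (82, 5), (16, 7), (11, 6), (131, 7), (104, 6), (71, 5), (134, 8), (107, 7), (151, 10), (136, 9), (16, 11), (15, 10), (16, 10)], [(20, 1), (27, 0), (140, 5), (86, 4), (56, 3), (35, 2), (30, 1), (143, 5), (128, 4), (114, 3), (147, 6), (132, 5), (118, 4), (149, 7), (134, 6), (120, 5), (150, 8), (135, 7), (121, 6), (16, 9), (131, 8), (117, 7), (104, 6), (92, 5), (71, 4), (132, 9), (118, 8), (105, 7), (93, 6), (10, 5), (134, 8), (120, 7), (107, 6), (12, 5), (135, 7), (121, 6), (13, 5), (136, 6), (14, 5), (134, 5), (135, 6), (136, 7), (16, 9), (126, 8), (112, 7), (99, 6), (87, 5), (57, 4), (36, 3), (31, 2), (114, 6), (89, 5), (68, 4), (149, 6), (151, 7), (150, 8), (121, 7), (146, 9), (117, 8), (104, 7), (92, 6), (71, 5), (148, 10), (119, 9), (106, 8), (94, 7), (150, 11), (121, 10), (13, 9), (149, 10), (120, 9), (12, 8), (151, 9), (14, 8), (152, 8), (16, 9), (135, 8), (151, 10), (136, 9), (152, 11), (15, 10), (142, 10), (113, 9), (100,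 8), (77, 7), (67, 6), (58, 5), (37, 4), (5, 3), (146, 5), (104, 4), (150, 6), (13, 5), (16, 5), (148, 6), (16, 7), (143, 9), (114, 8), (101, 7), (78, 6), (68, 5), (59, 4), (6, 3), (146, 5), (131, 4), (117, 3), (151, 6), (136, 5), (14, 4), (152, 5), (15, 4), (147, 4), (16, 5), (144, 8), (115, 7), (102, 6), (79, 5), (69, 4), (60, 3), (145, 9), (116, 8), (103, 7), (80, 6), (70, 5), (61, 4), (148, 10), (119, 9), (106, 8), (11, 7), (149, 9), (120, 8), (107, 7), (16, 10)]),
    ([5, 3, 1], [(30, 0), (138, 4), (123, 3), (109, 2), (28, 1), (21, 0), (142, 10), (127, 9), (113, 8), (77, 7), (67, 6), (50, 5), (43, 4), (37, 3), (144, 6), (102, 5), (147, 7), (105, 6), (149, 8), (107, 7), (145, 9), (103, 8), (91, 7), (70, 6), (152, 10), (147, 11), (132, 10), (105, 9), (93, 8), (10, 7), (16, 10), (133, 9), (106, 8), (94, 7), (151, 11), (136, 10), (152, 12), (15, 11), (16, 11), (114, 10), (101, 9), (89, 8), (78, 7), (51, 6), (44, 5), (6, 4), (144, 6), (129, 5),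 (115, 4), (148, 7), (133, 6), (119, 5), (150, 8), (135, 7), (121, 6), (145, 9), (130, 8), (116, 7), (103, 6), (80, 5), (150, 10), (135, 9), (121, 8), (13, 7), (151, 9), (136, 8), (14, 7), (152, 8), (15, 7), (148, 7), (11, 6), (149, 6), (150, 7), (151, 8), (146, 9), (117, 8), (104, 7), (92, 6), (149, 10), (120, 9), (107, 8), (12, 7), (16, 9), (14, 8), (152, 8), (16, 9)], [(21, 1), (28, 0), (140, 5), (86, 4), (56, 3), (35, 2), (30, 1), (143, 5), (128, 4), (114, 3), (147, 6), (132, 5), (118, 4), (149, 7), (134, 6), (120, 5), (150, 8), (135, 7), (121, 6), (16, 9), (131, 8), (117, 7), (104, 6), (92, 5), (71, 4), (132, 9), (118, 8), (105, 7), (93, 6), (10, 5), (134, 8), (120, 7), (107, 6), (12, 5), (135, 7), (121, 6), (13, 5), (136, 6), (14, 5), (134, 5), (135, 6), (136, 7), (16, 9), (126, 8), (112, 7), (99, 6), (87, 5), (57, 4), (36, 3), (31, 2), (114, 6), (89, 5), (68, 4), (149, 6), (151, 7), (150, 8), (121, 7), (146, 9), (117, 8), (104, 7), (92,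 6), (71, 5), (148, 10), (119, 9), (106, 8), (94, 7), (150, 11), (121, 10), (13, 9), (149, 10), (120, 9), (12, 8), (151, 9), (14, 8), (152, 8), (16, 9), (135, 8), (151, 10), (136, 9), (152, 11), (15, 10), (143, 10), (114, 9), (101, 8), (78, 7), (68, 6), (59, 5), (6, 4), (146, 6), (131, 5), (117, 4), (151, 7), (136, 6), (14, 5), (152, 6), (15, 5), (147, 5), (16, 6), (144, 9), (115, 8), (102, 7), (79, 6), (69, 5), (60, 4), (145, 10), (116, 9), (103, 8), (80, 7), (70, 6), (61, 5), (147, 11), (118, 10), (105, 9), (82, 8), (10, 7), (148, 10), (119, 9), (106, 8), (11, 7), (151, 9), (14, 8), (152, 8), (16, 9)])]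

/-- A part of the certificate. -/
def overlaps2 : List (List ℕ × List (ℕ × ℕ) × List (ℕ × ℕ)) := [
    ([5, 3, 2], [(30, 0), (139, 4), (124, 3), (110, 2), (29, 1), (22, 0), (127, 4), (77, 3), (5, 2), (152, 3), (147, 4), (132, 3), (82, 2), (149, 5), (134, 4), (150, 6), (135, 5), (151, 7), (136, 6), (152, 8), (15, 7), (16, 7)], [(22, 1), (29, 0), (98, 4), (86, 3), (65, 2), (30, 1), (147, 5), (132, 4), (118, 3), (150, 6), (135, 5), (121, 4), (151, 7), (136, 6), (14, 5), (16, 6), (134, 5), (107, 4), (135, 6), (13, 5), (136, 5), (150, 7), (135, 6), (121, 5), (142, 8), (127, 7), (113, 6), (100, 5), (88, 4), (67, 3), (5, 2), (149, 3), (16, 4), (148, 7), (133, 6), (119, 5), (106, 4), (94, 3), (152, 8), (15, 7)]),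
    ([5, 5, 4], [(5, 0)], [(31, 1), (31, 0), (113, 4), (88, 3), (67, 2), (5, 1), (149, 2), (16, 3), (118, 3), (93, 2), (10, 1), (120, 2), (12, 1), (14, 1)]),
    ([5, 4, 0], [(31, 0), (108, 4), (83, 3), (62, 2), (27, 1), (23, 0), (142, 10), (127, 9), (88, 8), (77, 7), (67, 6), (58, 5), (50, 4), (37, 3), (5, 2), (145, 4), (103, 3), (152, 5), (146, 6), (131, 5), (104, 4), (150, 7), (135, 6), (13, 5), (16, 6), (132, 5), (148, 7), (133, 6), (16, 8), (134, 7), (152, 9), (15, 8), (16, 8), (89, 7), (78, 6), (68, 5), (59, 4), (51, 3), (6, 2), (145, 4), (130, 3), (116, 2), (150, 5), (135, 4), (121, 3), (151, 6), (136, 5), (14, 4), (152, 5), (15, 4), (146, 4), (104, 3), (151, 5), (152, 6), (147, 7), (132, 6), (118, 5), (105, 4), (16, 8), (133, 7), (119, 6), (106, 5), (134, 8), (120, 7), (107, 6), (131, 9), (117, 8), (104, 7), (92, 6), (81, 5), (71, 4), (9, 3), (134, 8), (120, 7), (107, 6), (12, 5), (147, 8), (132, 7), (118, 6), (105, 5), (82, 4), (10, 3),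 (148, 7), (133, 6), (119, 5), (106, 4), (11, 3), (151, 6), (136, 5), (14, 4), (16, 5), (134, 4), (107, 3), (135, 5), (13, 4), (136, 4), (15, 5), (151, 5), (14, 4), (16, 4)], [(23, 1), (27, 0), (141, 5), (87, 4), (57, 3), (36, 2), (31, 1), (114, 5), (89, 4), (68, 3), (149, 5), (151, 6), (150, 7), (121, 6), (146, 8), (117, 7), (104, 6), (92, 5), (71, 4), (148, 9), (119, 8), (106, 7), (94, 6), (150, 10), (121, 9), (13, 8), (149, 9), (120, 8), (12, 7), (151, 8), (14, 7), (152, 7), (16, 8), (142, 8), (127, 7), (77, 6), (67, 5), (58, 4), (37, 3), (5, 2), (146, 4), (104, 3), (150, 5), (13, 4), (16, 4), (148, 5), (16, 6), (143, 7), (128, 6), (78, 5), (68, 4), (59, 3), (6, 2), (146, 4), (131, 3), (117, 2), (151, 5), (136, 4), (14, 3), (152, 4), (15, 3), (147, 3), (16, 4), (145, 6), (130, 5), (80, 4), (70, 3), (61, 2), (146, 7), (131, 6), (81, 5), (71, 4), (9, 3), (147, 6), (132, 5), (82, 4), (10, 3), (148, 5), (133, 4), (11, 3), (149, 4), (134, 3), (152,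 5), (15, 4), (16, 4)]),
    ([5, 4, 1], [(31, 0), (109, 4), (84, 3), (63, 2), (28, 1), (24, 0), (142, 4), (100, 3), (58, 2), (150, 5), (13, 4), (16, 4), (59, 3), (131, 6), (117, 5), (9, 4), (134, 5), (120, 4), (147, 7), (132, 6), (118, 5), (93, 4), (148, 8), (133, 7), (119, 6), (94, 5), (152, 9), (15, 8), (16, 8), (120, 7), (12, 6), (121, 6), (151, 9), (136, 8), (14, 7), (16, 8)], [(24, 1), (28, 0), (141, 5), (87, 4), (57, 3), (36, 2), (31, 1), (114, 5), (89, 4), (68, 3), (149, 5), (151, 6), (150, 7), (121, 6), (146, 8), (117, 7), (104, 6), (92, 5), (71, 4), (148, 9), (119, 8), (106, 7), (94, 6), (150, 10), (121, 9), (13, 8), (149, 9), (120, 8), (12, 7), (151, 8), (14, 7), (152, 7), (16, 8), (146, 8), (131, 7), (81, 6), (71, 5), (9, 4), (150, 7), (135, 6), (16, 8)]),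
    ([5, 4, 2], [(31, 0), (110, 4), (85, 3), (64, 2), (29, 1), (25, 0), (127, 6), (113, 5), (77, 4), (67, 3), (37, 2), (147, 5), (105, 4), (16, 6), (106, 5), (151, 7), (152, 8), (147, 9), (132, 8), (118, 7), (105, 6), (82, 5), (10, 4), (149, 8), (134, 7), (120, 6), (107, 5), (150, 9), (135, 8), (121, 7), (13, 6), (147, 8), (132, 7), (118, 6), (93, 5), (82, 4), (151, 9), (136, 8), (14, 7), (16, 8), (134, 7), (12, 6), (135, 6), (136, 7), (151, 9), (136, 8), (14, 7)], [(25, 1), (29, 0), (99, 4), (87, 3), (66, 2), (31, 1), (118, 5), (93, 4), (10, 3), (14, 4), (149, 5), (134, 4), (12, 3), (151, 4), (136, 3), (152, 5), (15, 4), (16, 4), (121, 3), (143, 5), (114, 4), (101, 3), (147, 6), (118, 5), (105, 4), (148, 7), (119, 6), (106, 5), (151, 8), (14, 7), (152, 7)]),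
    ([5, 4, 3], [(31, 0), (111, 4), (86, 3), (65, 2), (30, 1), (26, 0), (142, 4), (88, 3), (67, 2), (149, 4), (16, 5), (151, 5), (152, 6), (16, 7), (132, 6), (118, 5), (93, 4), (10, 3), (135, 5), (121, 4), (136, 6), (14, 5), (149, 6), (134, 5), (107, 4), (12, 3), (150, 5), (135, 4), (13, 3), (151, 4), (136, 3), (16, 5), (136, 4), (14, 3)], [(26, 1), (30, 0), (141, 4), (126, 3), (112, 2), (31, 1), (14, 5), (147, 6), (132, 5), (93, 4), (10, 3), (149, 5), (134, 4), (12, 3), (16, 4)]),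
    ([6, 6, 6], [(6, 0), (143, 2), (128, 1), (114, 0)], [(6, 1)]),
    ([6, 6, 0], [(6, 0), (137, 2), (122, 1), (108, 0), (152, 2), (16, 3)], [(32, 1), (32, 0), (143, 4), (89, 3), (78, 2), (6, 1), (148, 3), (133, 2), (119, 1), (149, 4), (134, 3), (120, 2), (16, 5), (133, 4), (119, 3), (94, 2), (11, 1), (134, 3), (120, 2), (12, 1)]),
    ([6, 0, 0], [(0, 1), (34, 0), (140, 5), (98, 4), (86, 3), (65, 2), (35, 1), (147, 6), (105, 5), (93, 4), (10, 3), (150, 5), (13, 4), (151, 4), (16, 5), (120, 4), (12, 3), (121, 3), (14, 4), (150, 4), (13, 3), (16, 3), (36, 2), (100, 4), (37, 3), (150, 6), (13, 5), (152, 5), (16, 6)], [(32, 0), (137, 4), (83, 3), (72, 2), (32, 1), (0, 0), (143, 5), (128, 4), (148, 6), (133, 5), (149, 7), (134, 6), (16, 8), (133, 7), (94, 6), (11, 5), (135, 6), (136, 7), (15, 8), (120, 7), (107, 6), (12, 5), (121, 6), (13, 5), (14, 5), (16, 6)]),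
    ([6, 6, 1], [(6, 0), (138, 2), (123, 1), (109, 0), (152, 2), (16, 3)], [(33, 1), (33, 0), (101, 4), (89, 3), (68, 2), (6, 1), (147, 3), (132, 2), (118, 1), (16, 4), (134, 3), (120, 2), (135, 4), (121, 3), (132, 5), (118, 4), (105, 3), (93, 2), (10, 1), (134, 4), (120, 3), (107, 2), (12, 1), (135, 3), (121, 2), (13, 1)]),
    ([6, 1, 1], [(1, 1), (36, 0), (101, 2), (6, 1), (150, 3), (135, 2), (121, 1), (144, 4), (129, 3), (115, 2), (102, 1), (145, 5), (130, 4), (116, 3), (103, 2), (147, 6), (132, 5), (118, 4), (105, 3), (150, 7), (135, 6), (121, 5), (13, 4), (151, 6), (136, 5), (14, 4)], [(33, 0), (96, 4), (84, 3), (63, 2), (33, 1), (1, 0), (114, 6), (101, 5), (68, 4), (51, 3), (44, 2), (6, 1), (144, 3), (129, 2), (115, 1), (148, 4), (133, 3), (119, 2), (150, 5), (135, 4), (121, 3), (145, 6), (130, 5), (116, 4), (103, 3), (80, 2), (150, 7), (135, 6), (121, 5), (13, 4), (151, 6), (136, 5), (14, 4), (152, 5), (15, 4), (147, 4), (82, 3), (16,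 5), (118, 6), (105, 5), (82, 4), (10, 3), (120, 5), (107, 4), (121, 6), (13, 5), (118, 5), (93, 4), (82, 3), (119, 6), (94, 5), (11, 4), (149, 7), (134, 6), (120, 5), (12, 4), (150, 6), (135, 5), (121, 4), (152, 7), (15, 6), (16, 6), (121, 5), (13, 4), (14, 4)]),
    ([6, 1, 0], [(33, 0), (95, 4), (83, 3), (62, 2), (32, 1), (17, 0), (143, 12), (128, 11), (89, 10), (78, 9), (68, 8), (51, 7), (44, 6), (6, 5), (144, 7), (129, 6), (115, 5), (148, 8), (133, 7), (119, 6), (150, 9), (135, 8), (121, 7), (145, 10), (130, 9), (116, 8), (103, 7), (80, 6), (150, 11), (135, 10), (121, 9), (13, 8), (151, 10), (136, 9), (14, 8), (152, 9), (15, 8), (147, 8), (82, 7), (16, 9), (11, 8), (148, 10), (133, 9), (94, 8), (149, 11), (134, 10), (12, 9), (16, 10), (132, 9), (82, 8), (10, 7), (133, 8), (11, 7), (136, 7), (149, 9), (134, 8), (120, 7), (150, 10), (135, 9), (121, 8), (151, 11), (136, 10), (14, 9), (152, 10), (15, 9), (16, 9), (13, 8)], [(17, 1), (32, 0), (138,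 4), (84, 3), (73, 2), (33, 1), (106, 5), (94, 4), (134, 8), (120, 7), (107, 6), (12, 5), (135, 7), (121, 6), (13, 5), (15, 6), (16, 6), (110, 5), (74, 4), (64, 3), (34, 2), (147, 7), (105, 6), (93, 5), (10, 4), (151, 6), (16, 7), (119, 6), (106, 5), (94, 4), (14, 7), (136, 7), (125, 8), (111, 7), (98, 6), (86, 5), (75, 4), (35, 3), (148, 8), (106, 7), (94, 6), (16, 9), (107, 8), (12, 7), (13, 7), (150, 8), (121, 7), (151, 9), (14, 8), (152, 8), (16, 9), (127, 8), (100, 7), (77, 6), (67, 5), (37, 4), (147, 7), (105, 6), (16, 8), (106, 7), (150, 9), (13, 8), (152, 8), (143, 9), (128, 8), (78, 7), (68, 6), (6, 5), (147, 7), (132, 6), (118, 5), (16, 8), (133, 7), (119, 6), (15, 8), (144, 8), (115, 7), (79, 6), (69, 5), (145, 9), (116, 8), (80, 7), (70, 6), (147, 10), (118, 9), (82, 8), (10, 7), (148, 9), (119, 8), (11, 7), (149, 8), (120, 7), (152, 9), (16, 10)]),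
    ([6, 6, 2], [(6, 0), (139, 2), (124, 1), (110, 0), (16, 3)], [(34, 1), (34, 0), (143, 5), (101, 4), (89, 3), (68, 2), (6, 1), (147, 3), (132, 2), (118, 1), (16, 4), (134, 3), (120, 2), (135, 4), (121, 3), (147, 6), (132, 5), (118, 4), (105, 3), (93, 2), (10, 1), (149, 5), (134, 4), (120, 3), (107, 2), (12, 1), (150, 4), (135, 3), (121, 2), (13, 1), (16, 3)]),
    ([6, 2, 2], [(2, 1), (37, 0), (143, 3), (101, 2), (6, 1), (150, 3), (135, 2), (121, 1), (16, 4)], [(34, 0), (139, 5), (97, 4), (85, 3), (64, 2), (34, 1), (2, 0), (143, 2), (6, 1), (16, 3), (132, 2), (118, 1), (134, 3), (120, 2), (135, 4), (121, 3), (147, 6), (132, 5), (118, 4), (105, 3), (93, 2), (10, 1), (151, 5), (136, 4), (14, 3), (16, 4), (134, 3), (107, 2), (12, 1), (135, 2), (13, 1), (136, 1), (150, 3), (135, 2), (121, 1), (16, 4)]),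
    ([6, 2, 0], [(34, 0), (137, 5), (95, 4), (83, 3), (62, 2), (32, 1), (18, 0), (143, 8), (128, 7), (114, 6), (78, 5), (44, 4), (6, 3), (144, 5), (129, 4), (115, 3), (148, 6), (133, 5), (119, 4), (150, 7), (135, 6), (121, 5), (148, 8), (133, 7), (119, 6), (106, 5), (11, 4), (151, 7), (136, 6), (14, 5), (152, 6), (15, 5), (16, 5), (106, 4), (107, 5), (147, 7), (105, 6), (93, 5), (82, 4), (148, 8), (106, 7), (94, 6), (11, 5), (151, 7), (16, 8), (120, 7), (107, 6), (12, 5), (121, 6), (13, 5), (14, 5), (150, 6), (135, 5), (151, 7), (136, 6), (152, 8), (15, 7), (16, 7)], [(18, 1), (32, 0), (139, 4), (85, 3), (74, 2), (34, 1), (148, 6), (106, 5), (94, 4), (151, 7), (152, 8), (149, 9), (134, 8), (120, 7), (107, 6), (12, 5), (150, 8), (135, 7), (121, 6), (13, 5), (151, 7), (136, 6), (14, 5), (16, 6), (141, 6), (126, 5), (76, 4), (66, 3), (36, 2), (105, 4), (148, 8), (133, 7), (119, 6), (106, 5), (16, 9), (15, 8), (143, 8), (114, 7), (101, 6), (78, 5),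 (68, 4), (6, 3), (147, 5), (132, 4), (118, 3), (16, 6), (133, 5), (119, 4), (135, 6), (121, 5), (136, 7), (14, 6), (144, 7), (129, 6), (102, 5), (79, 4), (69, 3), (148, 8), (133, 7), (106, 6), (11, 5), (151, 7), (136, 6), (152, 8), (15, 7), (16, 7)]),
    ([6, 2, 1], [(34, 0), (138, 5), (96, 4), (84, 3), (63, 2), (33, 1), (19, 0), (101, 8), (89, 7), (78, 6), (51, 5), (44, 4), (103, 7), (80, 6), (13, 8), (133, 9), (119, 8), (11, 7), (134, 8), (120, 7), (135, 9), (121, 8), (132, 10), (118, 9), (105, 8), (93, 7), (134, 11), (120, 10), (107, 9), (12, 8), (135, 10), (121, 9), (13, 8), (132, 9), (118, 8), (10, 7), (133, 8), (119, 7), (15, 9), (149, 9), (120, 8), (150, 10), (121, 9), (152, 11), (16, 12), (135, 11), (121, 10), (13, 9), (136, 10), (14, 9), (15, 9), (16, 9)], [(19, 1), (33, 0), (97, 4), (85, 3), (64, 2), (34, 1), (147, 6), (105, 5), (93, 4), (10, 3), (151, 5), (16, 6), (120, 5), (107, 4), (12, 3), (121, 4), (13, 3), (14, 3), (150, 3), (16,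 4), (99, 3), (36, 2), (13, 4), (142, 4), (37, 3), (16, 6), (102, 5), (103, 6), (106, 7), (107, 8), (13, 9)]),
    ([6, 6, 3], [(6, 0), (140, 2), (125, 1), (111, 0), (16, 3)], [(35, 1), (35, 0), (143, 5), (101, 4), (89, 3), (68, 2), (6, 1), (147, 3), (132, 2), (118, 1), (16, 4), (134, 3), (120, 2), (135, 4), (121, 3), (147, 6), (132, 5), (118, 4), (105, 3), (93, 2), (10, 1), (149, 5), (134, 4), (120, 3), (107, 2), (12, 1), (150, 4), (135, 3), (121, 2), (13, 1), (16, 3)]),
    ([6, 3, 3], [(3, 1)], [(35, 0), (140, 5), (98, 4), (86, 3), (65, 2), (35, 1), (3, 0), (128, 2), (101, 1), (78, 0), (132, 3), (105, 2), (82, 1), (134, 4), (107, 3), (135, 5), (13, 4), (147, 5), (132, 4), (93, 3), (82, 2), (10, 1), (150, 4), (135, 3), (151, 5), (136, 4), (16, 6), (134, 5), (120, 4), (107, 3), (12, 2), (135, 4), (121, 3), (13, 2), (136, 3), (14, 2), (150, 3), (135, 2), (16, 4)]),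
    ([6, 3, 0], [(35, 0), (137, 5), (95, 4), (83, 3), (62, 2), (32, 1), (20, 0), (143, 9), (89, 8), (78, 7), (51, 6), (44, 5), (6, 4), (144, 6), (129, 5), (115, 4), (148, 7), (133, 6), (119, 5), (150, 8), (135, 7), (121, 6), (145, 9), (130, 8), (116, 7), (103, 6), (80, 5), (150, 10), (135, 9), (121, 8), (13, 7), (151, 9), (136, 8), (14, 7), (152, 8), (15, 7), (148, 7), (11, 6), (149, 6), (16, 7), (94, 6), (12, 7), (147, 7), (82, 6), (148, 8), (11, 7), (151, 7), (16, 8), (120, 7), (121, 8), (14, 9), (150, 10), (135, 9), (13, 8), (151, 9), (136, 8), (152, 10), (15, 9), (16, 9)], [(20, 1), (32, 0), (140, 4), (86, 3), (75, 2), (35, 1), (148, 6), (106, 5), (94, 4), (16, 7), (107, 6), (12, 5), (13, 5), (16, 6), (112, 5), (76, 4), (66, 3), (36, 2), (105, 4), (148, 8), (133, 7), (119, 6), (106, 5), (16, 9), (136, 8), (14, 7), (127, 7), (100, 6), (77, 5), (67, 4), (37, 3), (147, 6), (105, 5), (16, 7), (106, 6), (150, 8), (13, 7), (152, 7), (143, 8), (128,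 7), (78, 6), (68, 5), (6, 4), (147, 6), (132, 5), (118, 4), (16, 7), (133, 6), (119, 5), (15, 7), (144, 7), (115, 6), (79, 5), (69, 4), (145, 8), (116, 7), (80, 6), (70, 5), (148, 9), (119, 8), (11, 7), (149, 8), (120, 7), (16, 9)]),
    ([6, 3, 1], [(35, 0), (138, 5), (96, 4), (84, 3), (63, 2), (33, 1), (21, 0), (143, 10), (128, 9), (114, 8), (78, 7), (68, 6), (51, 5), (44, 4), (6, 3), (144, 5), (129, 4), (115, 3), (148, 6), (133, 5), (119, 4), (150, 7), (135, 6), (121, 5), (145, 8), (130, 7), (116, 6), (103, 5), (80, 4), (150, 9), (135, 8), (121, 7), (13, 6), (151, 8), (136, 7), (14, 6), (152, 7), (15, 6), (147, 6), (82, 5), (16, 7), (11, 6), (147, 8), (132, 7), (118, 6), (10, 5), (149, 7), (134, 6), (120, 5), (150, 8), (135, 7), (121, 6), (147, 9), (132, 8), (118, 7), (105, 6), (93, 5), (148, 10), (133, 9), (119, 8), (106, 7), (94, 6), (152, 11), (15, 10), (16, 10), (120, 9), (107, 8), (12, 7), (121, 8), (13, 7), (150, 9), (135, 8), (121, 7),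 (151, 10), (136, 9), (14, 8), (152, 9), (15, 8), (16, 8)], [(21, 1), (33, 0), (98, 4), (86, 3), (65, 2), (35, 1), (147, 6), (105, 5), (93, 4), (10, 3), (150, 5), (13, 4), (151, 4), (16, 5), (120, 4), (12, 3), (121, 3), (14, 4), (150, 4), (13, 3), (141, 3), (36, 2), (143, 5), (101, 4), (6, 3), (150, 5), (135, 4), (121, 3), (16, 6), (129, 5), (115, 4), (102, 3), (130, 6), (116, 5), (103, 4), (132, 7), (118, 6), (105, 5), (133, 8), (119, 7), (106, 6), (136, 9), (14, 8), (15, 8)]),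
    ([6, 3, 2], [(35, 0), (139, 5), (97, 4), (85, 3), (64, 2), (34, 1), (22, 0), (128, 4), (78, 3), (132, 5), (82, 4), (134, 6), (135, 7), (147, 9), (132, 8), (105, 7), (93, 6), (82, 5), (10, 4), (151, 8), (136, 7), (16, 9), (134, 8), (120, 7), (107, 6), (12, 5), (135, 7), (121, 6), (13, 5), (136, 6), (14, 5), (150, 6), (135, 5), (16, 7)], [(22, 1), (34, 0), (140, 5), (98, 4), (86, 3), (65, 2), (35, 1), (147, 6), (105, 5), (93, 4), (10, 3), (150, 5), (13, 4), (151, 4), (16, 5), (120, 4), (12, 3), (121, 3), (14, 4), (150, 4), (13, 3), (16, 3), (37, 2), (148, 5), (106, 4), (152, 6)]),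
    ([6, 6, 4], [(6, 0), (141, 2), (126, 1), (112, 0)], [(36, 1), (36, 0), (101, 2), (6, 1), (150, 3), (135, 2), (121, 1), (150, 4), (135, 3), (121, 2), (13, 1)]),
    ([6, 4, 4], [(4, 1)], [(36, 0), (99, 2), (36, 1), (4, 0), (114, 2), (89, 1), (68, 0), (149, 2), (151, 3), (150, 4), (121, 3), (150, 5), (121, 4), (13, 3), (16, 4)]),
    ([6, 4, 0], [(36, 0), (95, 2), (32, 1), (23, 0), (143, 10), (128, 9), (89, 8), (78, 7), (68, 6), (59, 5), (51, 4), (6, 3), (145, 5), (130, 4), (116, 3), (150, 6), (135, 5), (121, 4), (151, 7), (136, 6), (14, 5), (152, 6), (15, 5), (146, 5), (104, 4), (151, 6), (152, 7), (147, 8), (132, 7), (118, 6), (105, 5), (16, 9), (133, 8), (119, 7), (106, 6), (134, 9), (120, 8), (107, 7), (15, 10), (148, 10), (119, 9), (106, 8), (94, 7), (11, 6), (149, 9), (120, 8), (107, 7), (12, 6), (16, 8), (121, 7), (13, 6), (14, 6)], [(23, 1), (32, 0), (141, 4), (87, 3), (76, 2), (36, 1), (106, 3), (149, 5), (107, 4), (151, 6), (152, 7),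 (16, 8), (142, 8), (127, 7), (113, 6), (100, 5), (88, 4), (77, 3), (37, 2), (148, 5), (106, 4), (16, 6), (107, 5), (150, 7), (13, 6), (151, 6), (152, 7), (16, 8), (128, 7), (114, 6), (89, 5), (78, 4), (6, 3), (148, 5), (133, 4), (119, 3), (149, 6), (134, 5), (120, 4), (151, 7), (136, 6), (14, 5), (152, 6), (15, 5), (145, 5), (91, 4), (80, 3), (146, 6), (92, 5), (81, 4), (147, 7), (93, 6), (82, 5), (148, 8), (94, 7), (11, 6), (149, 7), (12, 6), (152, 6), (16, 7)])]

/-- A part of the certificate. -/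
def overlaps3 : List (List ℕ × List (ℕ × ℕ) × List (ℕ × ℕ)) := [
    ([6, 4, 1], [(36, 0), (96, 2), (33, 1), (24, 0), (143, 4), (101, 3), (59, 2), (135, 5), (121, 4), (147, 7), (132, 6), (118, 5), (105, 4), (149, 8), (134, 7), (120, 6), (107, 5), (150, 9), (135, 8), (121, 7), (13, 6), (150, 8), (135, 7), (121, 6), (151, 9), (136, 8), (14, 7), (152, 8), (15, 7), (16, 7)], [(24, 1), (33, 0), (99, 4), (87, 3), (66, 2), (36, 1), (105, 3), (149, 7), (134, 6), (120, 5), (107, 4), (151, 8), (136, 7), (14, 6), (152, 7), (15, 6), (16, 6), (13, 5), (146, 5), (92, 4), (71, 3), (150, 6), (16, 7)]),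
    ([6, 4, 2], [(36, 0), (97, 2), (34, 1), (25, 0), (128, 6), (114, 5), (78, 4), (68, 3), (6, 2), (147, 4), (132, 3), (118, 2), (16, 5), (133, 4), (119, 3), (136, 5), (14, 4), (15, 4), (82, 3), (10, 2), (150, 5), (13, 4), (16, 4)], [(25, 1), (34, 0), (141, 5), (99, 4), (87, 3), (66, 2), (36, 1), (105, 3), (149, 7), (134, 6), (120, 5), (107, 4), (151, 8), (136, 7), (14, 6), (152, 7), (15, 6), (16, 6), (13, 5), (16, 5), (89, 4), (68, 3), (6, 2), (147, 4), (132, 3), (118, 2), (16, 5), (134, 4), (120, 3), (132, 5), (118, 4), (93, 3), (10, 2), (133, 4), (119, 3), (94, 2), (136, 5), (14, 4), (15, 4)]),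
    ([6, 4, 3], [(36, 0), (98, 2), (35, 1), (26, 0), (143, 4), (89, 3), (68, 2), (149, 4), (16, 5), (93, 4), (10, 3), (12, 3), (150, 4), (13, 3)], [(26, 1), (35, 0), (141, 5), (99, 4), (87, 3), (66, 2), (36, 1), (105, 3), (149, 7), (134, 6), (120, 5), (107, 4), (151, 8), (136, 7), (14, 6), (152, 7), (15, 6), (16, 6), (13, 5), (16, 5), (93, 4), (10, 3), (12, 3)]),
    ([6, 6, 5], [(6, 0), (142, 2), (127, 1), (113, 0)], [(37, 1), (37, 0), (143, 3), (101, 2), (6, 1), (150, 3), (135, 2), (121, 1), (16, 4), (135, 3), (121, 2), (13, 1)]),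
    ([6, 5, 5], [(5, 1)], [(37, 0), (142, 3), (100, 2), (37, 1), (5, 0), (150, 2), (13, 1), (16, 1)]),
    ([6, 5, 0], [(37, 0), (137, 3), (95, 2), (32, 1), (27, 0), (143, 5), (89, 4), (59, 3), (6, 2), (146, 4), (131, 3), (117, 2), (151, 5), (136, 4), (14, 3), (152, 4), (15, 3), (149, 3), (16, 4), (94, 3), (12, 4), (150, 4), (151, 5), (152, 6), (16, 7)], [(27, 1), (32, 0), (142, 4), (88, 3), (77, 2), (37, 1), (148, 4), (106, 3), (16, 5), (107, 4), (16, 6), (101, 5), (89, 4), (78, 3), (6, 2), (148, 4), (133, 3), (119, 2), (149, 5), (134, 4), (120, 3), (150, 6), (135, 5), (121, 4), (146, 7), (131, 6), (117, 5), (104, 4), (92, 3), (81, 2), (149, 8), (134, 7), (120, 6), (107, 5), (12, 4), (16, 7)]),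
    ([6, 5, 1], [(37, 0), (138, 3), (96, 2), (33, 1), (28, 0), (143, 5), (89, 4), (59, 3), (6, 2), (146, 4), (131, 3), (117, 2), (151, 5), (136, 4), (14, 3), (152, 4), (15, 3), (149, 3), (16, 4), (93, 3), (12, 4), (13, 4), (16, 6)], [(28, 1), (33, 0), (100, 4), (88, 3), (67, 2), (37, 1), (147, 4), (105, 3), (16, 5), (107, 4), (150, 6), (13, 5), (143, 5), (89, 4), (68, 3), (6, 2), (147, 4), (132, 3), (118, 2), (16, 5), (134, 4), (120, 3), (146, 6), (131, 5), (117, 4), (92, 3), (71, 2), (149, 7), (134, 6), (120, 5), (12, 4), (16, 6)]),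
    ([6, 5, 2], [(37, 0), (139, 3), (97, 2), (34, 1), (29, 0), (101, 4), (89, 3), (68, 2), (149, 4), (150, 5), (147, 6), (105, 5), (93, 4), (10, 3), (149, 5), (107, 4), (12, 3), (150, 4), (13, 3), (16, 3), (16, 4)], [(29, 1), (34, 0), (142, 5), (100, 4), (88, 3), (67, 2), (37, 1), (147, 4), (105, 3), (16, 5), (107, 4), (150, 6), (13, 5), (16, 5), (93, 4), (10, 3), (12, 3)]),
    ([6, 5, 3], [(37, 0), (140, 3), (98, 2), (35, 1), (30, 0), (143, 4), (128, 3), (114, 2), (147, 5), (132, 4), (118, 3), (149, 6), (134, 5), (120, 4), (150, 7), (135, 6), (121, 5), (16, 8), (135, 7), (121, 6), (13, 5)], [(30, 1), (35, 0), (142, 5), (100, 4), (88, 3), (67, 2), (37, 1), (147, 4), (105, 3), (16, 5), (107, 4), (150, 6), (13, 5), (16, 5)]),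
    ([6, 5, 4], [(37, 0), (141, 3), (99, 2), (36, 1), (31, 0), (114, 4), (89, 3), (68, 2), (149, 4), (151, 5), (150, 6), (121, 5), (150, 7), (121, 6), (13, 5), (16, 6)], [(31, 1), (36, 0), (100, 2), (37, 1), (150, 4), (13, 3), (147, 3), (149, 4), (151, 5)]),
    ([7, 7, 0], [(7, 0)], [(38, 1), (38, 0), (129, 6), (115, 5), (102, 4), (60, 3), (52, 2), (7, 1), (130, 5), (116, 4), (103, 3), (61, 2), (8, 1), (131, 4), (117, 3), (104, 2), (9, 1), (135, 3), (121, 2), (13, 1), (136, 2), (14, 1), (15, 1)]),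
    ([7, 0, 0], [(0, 1), (40, 0), (140, 6), (111, 5), (98, 4), (65, 3), (56, 2), (41, 1), (117, 6), (104, 5), (92, 4), (71, 3), (118, 7), (105, 6), (93, 5), (10, 4), (120, 6), (107, 5), (12, 4), (121, 5), (13, 4), (14, 4), (150, 7), (121, 6), (13, 5), (151, 6), (14, 5), (16, 5), (66, 4), (57, 3), (42, 2), (146, 6), (131, 5), (117, 4), (148, 7), (133, 6), (119, 5), (150, 8), (135, 7), (121, 6), (147, 9), (132, 8), (118, 7), (105, 6), (82, 5), (151, 10), (136, 9), (14, 8), (152, 9), (15, 8), (16, 8), (100, 7), (77, 6), (67, 5), (58, 4), (43, 3), (92, 6), (71, 5), (147, 9), (105, 8), (93, 7), (10, 6), (16, 8), (106, 7), (94, 6), (150, 9), (13, 8), (152, 8), (16, 9)], [(38, 0), (122, 6), (108, 5), (95, 4), (53, 3), (45, 2), (38, 1), (0, 0), (144, 5), (129, 4), (145, 6), (130, 5), (146, 7), (131, 6), (150, 8), (135, 7), (151, 9), (136, 8), (152, 10), (15, 9), (145, 9), (116, 8), (103, 7), (61, 6), (8, 5), (146, 8), (117, 7), (104, 6), (9, 5), (152,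 7), (146, 8), (131, 7), (117, 6), (104, 5), (148, 9), (133, 8), (119, 7), (106, 6), (149, 10), (134, 9), (120, 8), (107, 7), (151, 11), (136, 10), (14, 9), (16, 10), (135, 9), (13, 8), (136, 8), (15, 9), (14, 8), (152, 8), (16, 9)]),
    ([7, 7, 1], [(7, 0)], [(39, 1), (39, 0), (144, 6), (129, 5), (102, 4), (90, 3), (69, 2), (7, 1), (147, 5), (132, 4), (105, 3), (93, 2), (10, 1), (149, 4), (134, 3), (107, 2), (12, 1), (150, 3), (135, 2), (13, 1), (152, 2), (15, 1), (16, 1)]),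
    ([7, 1, 1], [(1, 1), (42, 0), (143, 4), (128, 3), (114, 2), (44, 1), (144, 7), (129, 6), (115, 5), (102, 4), (79, 3), (7, 2), (145, 6), (130, 5), (116, 4), (103, 3), (80, 2), (147, 7), (132, 6), (118, 5), (105, 4), (82, 3), (150, 8), (135, 7), (121, 6), (13, 5), (151, 7), (136, 6), (14, 5)], [(39, 0), (138, 6), (123, 5), (96, 4), (84, 3), (63, 2), (39, 1), (1, 0), (115, 6), (102, 5), (69, 4), (52, 3), (7, 2), (118, 5), (105, 4), (10, 3), (120, 4), (107, 3), (121, 5), (13, 4), (147, 6), (132, 5), (118, 4), (93, 3), (148, 7), (133, 6), (119, 5), (94, 4), (152, 8), (15, 7), (16, 7), (120, 6), (12, 5), (121, 5), (150, 8), (135, 7), (121, 6), (13, 5), (151, 7), (136, 6), (14, 5), (152, 6), (15, 5), (16, 5)]),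
    ([7, 1, 0], [(39, 0), (137, 6), (122, 5), (95, 4), (83, 3), (62, 2), (38, 1), (17, 0), (144, 12), (129, 11), (90, 10), (79, 9), (69, 8), (52, 7), (7, 6), (145, 11), (130, 10), (91, 9), (80, 8), (70, 7), (8, 6), (146, 10), (131, 9), (92, 8), (81, 7), (71, 6), (150, 11), (135, 10), (151, 12), (136, 11), (152, 13), (15, 12), (147, 12), (118, 11), (105, 10), (93, 9), (82, 8), (10, 7), (148, 11), (119, 10), (106, 9), (94, 8), (11, 7), (151, 10), (14, 9), (16, 9), (107, 8), (12, 7), (13, 7), (150, 9), (135, 8), (121, 7), (151, 10), (136, 9), (14, 8), (152, 9), (15, 8), (152, 8), (16, 9)], [(17, 1), (38, 0), (123, 6), (109, 5), (96, 4), (54, 3), (46, 2), (39, 1), (145, 7), (130, 6), (103, 5), (91, 4), (70, 3), (146, 8), (131, 7), (104, 6), (92, 5), (71, 4), (148, 9), (133, 8), (106, 7), (94, 6), (150, 10), (135, 9), (13, 8), (16, 9), (131, 8), (92, 7), (81, 6), (71, 5), (9, 4), (132, 7), (93, 6), (82, 5), (10, 4), (134, 6), (12, 5), (135, 5), (136,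 6), (150, 8), (135, 7), (121, 6), (13, 5), (151, 7), (136, 6), (14, 5), (152, 6), (15, 5), (16, 5), (152, 6), (139, 7), (124, 6), (110, 5), (74, 4), (47, 3), (40, 2), (145, 8), (116, 7), (103, 6), (70, 5), (61, 4), (149, 9), (120, 8), (107, 7), (150, 10), (121, 9), (13, 8), (148, 9), (119, 8), (94, 7), (151, 10), (14, 9), (152, 9), (151, 10), (136, 9), (152, 11), (15, 10), (16, 10), (140, 10), (111, 9), (86, 8), (75, 7), (65, 6), (56, 5), (48, 4), (41, 3), (116, 8), (103, 7), (91, 6), (70, 5), (118, 9), (105, 8), (93, 7), (10, 6), (119, 8), (106, 7), (94, 6), (120, 9), (107, 8), (12, 7), (14, 8), (131, 8), (104, 7), (81, 6), (132, 9), (105, 8), (82, 7), (134, 10), (107, 9), (135, 11), (13, 10), (136, 10), (132, 11), (118, 10), (93, 9), (82, 8), (10, 7), (135, 10), (121, 9), (136, 11), (14, 10), (148, 11), (133, 10), (106, 9), (94, 8), (11, 7), (16, 10), (134, 9), (107, 8), (12, 7), (135, 8), (13, 7), (136, 7), (151, 9), (136, 8), (14, 7), (16,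 8), (127, 7), (58, 6), (50, 5), (43, 4), (91, 7), (70, 6), (131, 9), (92, 8), (71, 7), (135, 10), (152, 12), (15, 11), (143, 11), (101, 10), (89, 9), (68, 8), (59, 7), (51, 6), (44, 5), (103, 8), (80, 7), (13, 9), (131, 10), (117, 9), (81, 8), (136, 11), (14, 10), (15, 10), (82, 9), (149, 11), (150, 12), (16, 13), (102, 12), (90, 11), (79, 10), (69, 9), (60, 8), (52, 7), (7, 6), (103, 11), (91, 10), (80, 9), (70, 8), (61, 7), (8, 6), (105, 10), (93, 9), (82, 8), (10, 7), (106, 9), (94, 8), (11, 7), (107, 8), (12, 7)]),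
    ([7, 7, 2], [(7, 0)], [(40, 1), (40, 0), (144, 6), (115, 5), (102, 4), (69, 3), (60, 2), (7, 1), (146, 5), (117, 4), (104, 3), (71, 2), (9, 1), (147, 4), (118, 3), (105, 2), (10, 1), (150, 3), (121, 2), (13, 1), (151, 2), (14, 1), (16, 1)]),
    ([7, 2, 2], [(2, 1), (43, 0), (89, 3), (68, 2), (44, 1), (105, 4), (82, 3), (149, 6), (107, 5), (16, 7)], [(40, 0), (139, 6), (110, 5), (97, 4), (64, 3), (55, 2), (40, 1), (2, 0), (144, 2), (146, 3), (147, 4), (150, 5), (151, 6), (16, 7), (117, 6), (104, 5), (71, 4), (9, 3), (118, 5), (105, 4), (10, 3), (119, 4), (106, 3), (120, 5), (107, 4), (121, 6), (13, 5), (14, 5), (147, 5), (93, 4), (82, 3), (151, 6), (16, 7), (121, 6), (151, 8), (14, 7), (16, 7)]),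
    ([7, 2, 0], [(40, 0), (137, 6), (108, 5), (95, 4), (62, 3), (53, 2), (38, 1), (18, 0), (144, 8), (129, 7), (115, 6), (79, 5), (7, 4), (145, 7), (130, 6), (116, 5), (80, 4), (146, 8), (131, 7), (117, 6), (81, 5), (150, 9), (135, 8), (121, 7), (151, 10), (136, 9), (14, 8), (152, 9), (15, 8), (146, 8), (104, 7), (81, 6), (9, 5), (148, 7), (106, 6), (11, 5), (149, 6), (107, 5), (151, 7), (16, 8), (118, 7), (105, 6), (93, 5), (119, 8), (106, 7), (94, 6), (14, 9), (150, 9), (13, 8), (151, 8), (152, 9), (151, 10), (136, 9), (14, 8), (16, 9)], [(18, 1), (38, 0), (124, 6), (110, 5), (97, 4), (55, 3), (47, 2), (40, 1), (145, 7), (116, 6), (103, 5), (70, 4), (61, 3), (149, 8), (120, 7), (107, 6), (150, 9), (121, 8), (13, 7), (146, 8), (117, 7), (92, 6), (71, 5), (9, 4), (147, 7), (118, 6), (93, 5), (10, 4), (148, 6), (119, 5), (94, 4), (149, 7), (120, 6), (12, 5), (150, 6), (121, 5), (151, 7), (14, 6), (16, 6), (13, 5), (151, 5), (152, 6), (16, 7), (126,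 6), (112, 5), (76, 4), (49, 3), (42, 2), (145, 6), (130, 5), (116, 4), (147, 7), (132, 6), (118, 5), (149, 8), (134, 7), (120, 6), (152, 9), (15, 8), (16, 8), (119, 7), (94, 6), (151, 9), (14, 8), (152, 8), (143, 9), (128, 8), (89, 7), (78, 6), (68, 5), (51, 4), (44, 3), (103, 6), (80, 5), (13, 7), (132, 8), (118, 7), (82, 6), (148, 10), (133, 9), (119, 8), (11, 7), (149, 9), (134, 8), (120, 7), (152, 10), (15, 9), (16, 9), (115, 8), (90, 7), (69, 6), (52, 5), (7, 4), (119, 7), (94, 6), (14, 8)]),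
    ([7, 2, 1], [(40, 0), (138, 6), (109, 5), (96, 4), (63, 3), (54, 2), (39, 1), (19, 0), (102, 8), (90, 7), (79, 6), (52, 5), (7, 4), (105, 7), (93, 6), (82, 5), (107, 8), (12, 7), (13, 7), (146, 8), (131, 7), (81, 6), (71, 5), (147, 9), (132, 8), (82, 7), (10, 6), (149, 8), (134, 7), (150, 9), (135, 8), (151, 10), (136, 9), (16, 11), (132, 10), (118, 9), (105, 8), (93, 7), (82, 6), (133, 11), (119, 10), (106, 9), (94, 8), (11, 7), (15, 10), (150, 10), (121, 9), (13, 8), (151, 9), (14, 8), (152, 8), (16, 9), (136, 8), (16, 10)], [(19, 1), (39, 0), (139, 6), (124, 5), (97, 4), (85, 3), (64, 2), (40, 1), (147, 7), (118, 6), (105, 5), (10, 4), (151, 6), (14, 5), (16, 5), (107, 4), (13, 5), (150, 6), (121, 5), (16, 7), (16, 8), (126, 7), (112, 6), (99, 5), (87, 4), (57, 3), (42, 2), (146, 6), (131, 5), (117, 4), (148, 7), (133, 6), (119, 5), (150, 8), (135, 7), (121, 6), (149, 9), (134, 8), (120, 7), (107, 6), (151, 10), (136, 9), (14, 8), (152,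 9), (15, 8), (16, 8), (13, 7), (151, 7), (152, 8), (142, 9), (127, 8), (113, 7), (88, 6), (77, 5), (58, 4), (43, 3), (92, 6), (71, 5), (148, 9), (106, 8), (94, 7), (16, 10), (107, 9), (12, 8), (151, 9), (152, 10), (16, 11), (129, 10), (115, 9), (102, 8), (79, 7), (69, 6), (60, 5), (7, 4), (130, 9), (116, 8), (103, 7), (80, 6), (70, 5), (61, 4), (133, 10), (119, 9), (106, 8), (11, 7), (134, 9), (120, 8), (107, 7), (135, 10), (121, 9), (13, 8)]),
    ([7, 7, 3], [(7, 0)], [(41, 1), (41, 0), (115, 5), (102, 4), (90, 3), (69, 2), (7, 1), (118, 4), (105, 3), (93, 2), (10, 1), (120, 3), (107, 2), (12, 1), (121, 2), (13, 1), (14, 1)]),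
    ([7, 3, 3], [(3, 1)], [(41, 0), (111, 5), (98, 4), (86, 3), (65, 2), (41, 1), (3, 0), (129, 2), (102, 1), (79, 0), (132, 3), (105, 2), (82, 1), (134, 4), (107, 3), (135, 5), (13, 4), (136, 4), (132, 5), (118, 4), (93, 3), (82, 2), (10, 1), (135, 4), (121, 3), (136, 5), (14, 4), (149, 5), (134, 4), (107, 3), (12, 2), (150, 4), (135, 3), (13, 2), (151, 3), (136, 2), (16, 4), (135, 3), (121, 2), (136, 4), (14, 3)]),
    ([7, 3, 0], [(41, 0), (108, 5), (95, 4), (83, 3), (62, 2), (38, 1), (20, 0), (144, 9), (90, 8), (79, 7), (52, 6), (7, 5), (145, 8), (91, 7), (80, 6), (8, 5), (146, 7), (92, 6), (81, 5), (150, 8), (151, 9), (152, 10), (147, 11), (132, 10), (118, 9), (105, 8), (93, 7), (82, 6), (148, 12), (133, 11), (119, 10), (106, 9), (94, 8), (11, 7), (151, 11), (136, 10), (14, 9), (16, 10), (134, 9), (107, 8), (12, 7), (135, 8), (13, 7), (136, 7), (15, 8), (150, 8), (121, 7), (151, 9), (14, 8), (152, 8), (151, 9), (136, 8), (16, 10)], [(20,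 1), (38, 0), (125, 6), (111, 5), (98, 4), (56, 3), (48, 2), (41, 1), (116, 6), (103, 5), (91, 4), (70, 3), (118, 7), (105, 6), (93, 5), (10, 4), (119, 6), (106, 5), (94, 4), (120, 7), (107, 6), (12, 5), (14, 6), (131, 6), (104, 5), (81, 4), (132, 7), (105, 6), (82, 5), (134, 8), (107, 7), (135, 9), (13, 8), (136, 8), (135, 9), (121, 8), (136, 10), (14, 9), (15, 9), (141, 9), (99, 8), (87, 7), (76, 6), (66, 5), (57, 4), (49, 3), (42, 2), (145, 6), (130, 5), (116, 4), (147, 7), (132, 6), (118, 5), (149, 8), (134, 7), (120, 6), (152, 9), (15, 8), (16, 8), (117, 7), (92, 6), (71, 5), (119, 8), (94, 7), (121, 9), (118, 10), (105, 9), (93, 8), (82, 7), (10, 6), (14, 9), (148, 10), (133, 9), (106, 8), (94, 7), (11, 6), (16, 9), (134, 8), (107, 7), (12, 6), (136, 7), (15, 8), (150, 8), (121, 7), (13, 6), (16, 7), (142, 7), (113, 6), (58, 5), (50, 4), (43, 3), (91, 6), (70, 5), (131, 8), (92, 7), (71, 6), (135, 9), (151, 11), (136, 10), (16, 12), (128,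 11), (114, 10), (101, 9), (89, 8), (68, 7), (59, 6), (51, 5), (44, 4), (103, 7), (80, 6), (13, 8), (131, 9), (117, 8), (81, 7), (136, 10), (14, 9), (15, 9), (82, 8), (149, 10), (150, 11), (151, 12), (152, 13), (144, 14), (129, 13), (115, 12), (102, 11), (90, 10), (79, 9), (69, 8), (60, 7), (52, 6), (7, 5), (145, 13), (130, 12), (116, 11), (103, 10), (91, 9), (80, 8), (70, 7), (61, 6), (8, 5), (148, 12), (133, 11), (119, 10), (106, 9), (94, 8), (11, 7), (149, 11), (134, 10), (120, 9), (107, 8), (12, 7), (16, 10)]),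
    ([7, 3, 1], [(41, 0), (109, 5), (96, 4), (84, 3), (63, 2), (39, 1), (21, 0), (144, 10), (129, 9), (115, 8), (79, 7), (69, 6), (52, 5), (7, 4), (147, 9), (132, 8), (118, 7), (82, 6), (10, 5), (149, 8), (134, 7), (120, 6), (150, 9), (135, 8), (121, 7), (152, 10), (15, 9), (16, 9), (118, 8), (105, 7), (93, 6), (82, 5), (119, 9), (106, 8), (94, 7), (11, 6), (149, 10), (134, 9), (120, 8), (107, 7), (12, 6), (150, 9), (135, 8), (121, 7), (13, 6), (152, 8), (15, 7), (16, 7), (121, 6), (14, 7), (151, 8), (136, 7), (16, 9)], [(21, 1), (39, 0), (140, 6), (125, 5), (98, 4), (86, 3), (65, 2), (41, 1), (118, 6), (105, 5), (93, 4), (10, 3), (121, 5), (13, 4), (14, 4), (149, 4), (12, 3), (150, 3), (151, 4), (16, 5), (121, 4), (13, 3), (16, 5), (126, 4), (112, 3), (42, 2), (151, 6), (136, 5), (14, 4), (152, 5), (15, 4), (143, 4), (44, 3), (144, 7), (102, 6), (79, 5), (7, 4), (145, 6), (103, 5), (80, 4), (147, 7), (105, 6), (82, 5), (148, 8), (106, 7), (11,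 6), (151, 7), (152, 8), (16, 9)]),
    ([7, 3, 2], [(41, 0), (110, 5), (97, 4), (85, 3), (64, 2), (40, 1), (22, 0), (129, 4), (79, 3), (131, 5), (81, 4), (132, 6), (82, 5), (135, 7), (136, 8), (147, 10), (132, 9), (118, 8), (105, 7), (82, 6), (10, 5), (151, 9), (136, 8), (14, 7), (16, 8), (134, 7), (107, 6), (135, 8), (13, 7), (136, 7), (150, 9), (135, 8), (121, 7), (16, 10), (136, 9), (14, 8)], [(22, 1), (40, 0), (140, 6), (111, 5), (98, 4), (65, 3), (56, 2), (41, 1), (117, 6), (104, 5), (92, 4), (71, 3), (118, 7), (105, 6), (93, 5), (10, 4), (120, 6), (107, 5), (12, 4), (121, 5), (13, 4), (14, 4), (150, 7), (121, 6), (13, 5), (151, 6), (14, 5), (16, 5), (67, 4), (58, 3), (43, 2), (92, 5), (71, 4), (147, 8), (105, 7), (93, 6), (10, 5), (16, 7), (106, 6), (94, 5)])]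

/-- A part of the certificate. -/
def overlaps4 : List (List ℕ × List (ℕ × ℕ) × List (ℕ × ℕ)) := [
    ([7, 7, 4], [(7, 0)], [(42, 1), (42, 0), (144, 4), (129, 3), (115, 2), (7, 1), (151, 3), (136, 2), (14, 1), (152, 2), (15, 1), (16, 1)]),
    ([7, 4, 4], [(4, 1)], [(42, 0), (141, 4), (126, 3), (112, 2), (42, 1), (4, 0), (115, 2), (90, 1), (69, 0), (14, 3), (151, 4), (136, 3), (152, 5), (15, 4), (16, 4)]),
    ([7, 4, 0], [(42, 0), (137, 4), (122, 3), (108, 2), (38, 1), (23, 0), (144, 10), (129, 9), (90, 8), (79, 7), (69, 6), (60, 5), (52, 4), (145, 11), (130, 10), (91, 9), (80, 8), (70, 7), (61, 6), (8, 5), (146, 10), (131, 9), (92, 8), (81, 7), (71, 6), (9, 5), (150, 9), (135, 8), (151, 10), (136, 9), (152, 11), (15, 10), (151, 10), (14, 9), (16, 9), (16, 10)], [(23, 1), (38, 0), (126, 6), (112, 5), (99, 4), (57, 3), (49, 2), (42, 1), (145, 5), (130, 4), (116, 3), (147, 6), (132, 5), (118, 4), (149, 7), (134, 6), (120, 5), (152, 8), (15, 7),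 (16, 7), (117, 6), (92, 5), (71, 4), (119, 7), (94, 6), (121, 8), (121, 9), (13, 8), (151, 9), (14, 8), (152, 8), (142, 9), (127, 8), (88, 7), (77, 6), (67, 5), (58, 4), (50, 3), (43, 2), (91, 5), (70, 4), (131, 7), (92, 6), (71, 5), (135, 8), (147, 10), (132, 9), (105, 8), (93, 7), (10, 6), (16, 9), (133, 8), (106, 7), (94, 6), (149, 10), (134, 9), (107, 8), (12, 7), (16, 9), (15, 8), (143, 8), (101, 7), (78, 6), (59, 5), (51, 4), (44, 3), (103, 6), (80, 5), (13, 7), (131, 8), (117, 7), (81, 6), (136, 9), (14, 8), (15, 8), (11, 7), (145, 8), (103, 7), (61, 6), (8, 5), (146, 7), (104, 6), (9, 5), (147, 6), (105, 5), (148, 7), (106, 6), (149, 8), (107, 7), (152, 9), (16, 10)]),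
    ([7, 4, 1], [(42, 0), (138, 4), (123, 3), (109, 2), (39, 1), (24, 0), (144, 4), (102, 3), (60, 2), (147, 5), (105, 4), (149, 6), (107, 5), (150, 7), (13, 6), (152, 6), (16, 7), (136, 6), (152, 8), (15, 7), (16, 7)], [(24, 1), (39, 0), (141, 6), (126, 5), (99, 4), (87, 3), (66, 2), (42, 1), (147, 5), (132, 4), (118, 3), (151, 6), (136, 5), (14, 4), (152, 5), (15, 4), (16, 4), (150, 7), (135, 6), (121, 5), (16, 8), (15, 7), (146, 7), (117, 6), (104, 5), (92, 4), (71, 3), (150, 8), (121, 7), (13, 6), (16, 7)]),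
    ([7, 4, 2], [(42, 0), (139, 4), (124, 3), (110, 2), (40, 1), (25, 0), (129, 6), (115, 5), (79, 4), (69, 3), (131, 7), (117, 6), (81, 5), (71, 4), (132, 8), (118, 7), (82, 6), (10, 5), (135, 7), (121, 6), (136, 8), (14, 7), (151, 8), (136, 7), (152, 9), (15, 8), (16, 8)], [(25, 1), (40, 0), (141, 6), (112, 5), (99, 4), (66, 3), (57, 2), (42, 1), (146, 5), (131, 4), (117, 3), (148, 6), (133, 5), (119, 4), (150, 7), (135, 6), (121, 5), (147, 8), (132, 7), (118, 6), (105, 5), (82, 4), (151, 9), (136, 8), (14, 7), (152, 8), (15, 7), (16, 7), (13, 6), (151, 6), (16, 7), (114, 6), (78, 5), (68, 4), (59, 3), (44, 2), (104, 5), (81, 4), (132, 8), (118, 7), (105, 6), (82, 5), (148, 10), (133, 9), (119, 8), (106, 7), (11, 6), (151, 9), (136, 8), (14, 7), (147, 8), (132, 7), (105, 6), (10, 5), (148, 7), (133, 6), (106, 5), (151, 8), (136, 7), (152, 9), (15, 8)]),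
    ([7, 4, 3], [(42, 0), (140, 4), (125, 3), (111, 2), (41, 1), (26, 0), (144, 4), (90, 3), (69, 2), (147, 5), (93, 4), (10, 3), (149, 4), (12, 3), (150, 3), (151, 4), (151, 5), (14, 4), (152, 4), (16, 5)], [(26, 1), (41, 0), (112, 5), (99, 4), (87, 3), (66, 2), (42, 1), (147, 5), (132, 4), (118, 3), (151, 6), (136, 5), (14, 4), (152, 5), (15, 4), (16, 4), (150, 7), (135, 6), (121, 5), (16, 8), (136, 7), (14, 6), (132, 6), (105, 5), (93, 4), (10, 3), (134, 5), (107, 4), (12, 3)]),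
    ([7, 7, 5], [(7, 0)], [(43, 1), (43, 0), (90, 3), (69, 2), (7, 1), (93, 2), (10, 1), (12, 1)]),
    ([7, 5, 5], [(5, 1)], [(43, 0), (88, 3), (67, 2), (43, 1), (5, 0), (93, 2), (10, 1), (149, 2), (12, 1), (16, 1)]),
    ([7, 5, 0], [(43, 0), (83, 3), (62, 2), (38, 1), (27, 0), (144, 5), (90, 4), (60, 3), (145, 6), (91, 5), (61, 4), (146, 7), (92, 6), (9, 5), (150, 6), (151, 7), (152, 8), (147, 9), (132, 8), (118, 7), (105, 6), (93, 5), (148, 10), (133, 9), (119, 8), (106, 7), (94, 6), (151, 11), (136, 10), (14, 9), (16, 10), (134, 9), (107, 8), (12, 7), (135, 8), (13, 7), (136, 7), (15, 8)], [(27, 1), (38, 0), (127, 6), (113, 5), (100, 4), (58, 3), (50, 2), (43, 1), (91, 4), (70, 3), (131, 6), (92, 5), (71, 4), (135, 7), (150, 9), (135, 8), (13, 7), (151, 8), (136, 7), (152, 9), (15, 8), (143, 8), (114, 7), (89, 6), (68, 5), (59, 4), (51, 3), (44, 2), (103, 5), (80, 4), (13, 6), (131, 7), (117, 6), (81, 5), (136, 8), (14, 7), (15, 7), (82,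 6), (149, 8), (151, 9), (16, 10), (117, 9), (92, 8), (81, 7), (71, 6), (9, 5), (120, 8), (12, 7)]),
    ([7, 5, 1], [(43, 0), (84, 3), (63, 2), (39, 1), (28, 0), (144, 5), (90, 4), (60, 3), (147, 6), (93, 5), (149, 7), (12, 6), (150, 6), (152, 7), (16, 8), (132, 7), (105, 6), (10, 5), (133, 6), (106, 5), (15, 7), (149, 7), (107, 6), (150, 8), (13, 7), (152, 7), (16, 8)], [(28, 1), (39, 0), (142, 6), (127, 5), (100, 4), (88, 3), (67, 2), (43, 1), (93, 4), (10, 3), (149, 4), (12, 3), (16, 3), (143, 5), (128, 4), (101, 3), (44, 2), (13, 5), (146, 6), (131, 5), (81, 4), (149, 7), (134, 6), (16, 8)]),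
    ([7, 5, 2], [(43, 0), (85, 3), (64, 2), (40, 1), (29, 0), (102, 4), (90, 3), (69, 2), (104, 5), (92, 4), (71, 3), (105, 6), (93, 5), (10, 4), (13, 5), (147, 6), (118, 5), (93, 4), (151, 7), (14, 6), (16, 6), (12, 5)], [(29, 1), (40, 0), (142, 6), (113, 5), (100, 4), (67, 3), (58, 2), (43, 1), (92, 4), (71, 3), (147, 7), (105, 6), (93, 5), (10, 4), (16, 6), (13, 5), (147, 6), (118, 5), (93, 4), (149, 7), (120, 6), (12, 5), (150, 6), (121, 5)]),
    ([7, 5, 3], [(43, 0), (86, 3), (65, 2), (41, 1), (30, 0), (144, 4), (129, 3), (115, 2), (147, 5), (132, 4), (118, 3), (149, 6), (134, 5), (120, 4), (150, 7), (135, 6), (121, 5), (151, 8), (136, 7), (14, 6), (147, 7), (132, 6), (105, 5), (93, 4), (10, 3), (150, 6), (135, 5), (13, 4), (151, 5), (136, 4), (16, 6), (134, 5), (120, 4), (12, 3), (135, 4), (121, 3), (136, 5), (14, 4)], [(30, 1), (41, 0), (113, 5), (100, 4), (88, 3), (67, 2), (43, 1), (93, 4), (10, 3), (149, 4), (12, 3), (16, 3), (14, 4)]),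
    ([7, 5, 4], [(43, 0), (87, 3), (66, 2), (42, 1), (31, 0), (115, 4), (90, 3), (69, 2), (14, 5), (147, 6), (132, 5), (93, 4), (10, 3), (151, 5), (136, 4), (152, 6), (15, 5), (16, 5), (120, 4), (12, 3), (14, 3)], [(31, 1), (42, 0), (142, 4), (127, 3), (113, 2), (43, 1), (147, 7), (132, 6), (118, 5), (93, 4), (10, 3), (149, 6), (134, 5), (120, 4), (12, 3), (151, 5), (136, 4), (14, 3)]),
    ([7, 7, 6], [(7, 0)], [(44, 1), (44, 0), (102, 3), (79, 2), (7, 1), (106, 2), (11, 1), (13, 1)]),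
    ([7, 6, 6], [(6, 1)], [(44, 0), (101, 3), (78, 2), (44, 1), (6, 0), (144, 2), (129, 1), (115, 0), (148, 3), (133, 2), (119, 1), (150, 4), (135, 3), (121, 2), (148, 5), (133, 4), (119, 3), (106, 2), (11, 1), (150, 4), (135, 3), (121, 2), (13, 1)]),
    ([7, 6, 0], [(44, 0), (95, 3), (72, 2), (38, 1), (32, 0), (144, 4), (90, 3), (79, 2), (145, 5), (91, 4), (80, 3), (146, 6), (92, 5), (81, 4), (150, 7), (151, 8), (152, 9), (148, 10), (133, 9), (119, 8), (106, 7), (94, 6), (11, 5), (150, 9), (135, 8), (121, 7), (13, 6), (151, 8), (136, 7), (14, 6), (152, 7), (15, 6), (150, 6), (151, 7), (152, 8)], [(32, 1), (38, 0), (128, 6), (114, 5), (101, 4), (59, 3), (51, 2), (44, 1), (103, 4), (80, 3), (13, 5), (131, 6), (117, 5), (81, 4), (136, 7), (14, 6), (15, 6), (133, 8), (119, 7), (106, 6), (11, 5), (134, 7), (120, 6), (107, 5)]),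
    ([7, 6, 1], [(44, 0), (96, 3), (73, 2), (39, 1), (33, 0), (102, 4), (90, 3), (69, 2), (105, 5), (93, 4), (10, 3), (107, 4), (12, 3), (13, 3), (148, 4), (133, 3), (151, 5), (136, 4), (152, 6), (15, 5), (150, 5), (121, 4), (151, 6), (14, 5), (152, 5), (16, 6)], [(33, 1), (39, 0), (143, 6), (128, 5), (101, 4), (89, 3), (68, 2), (44, 1), (105, 4), (82, 3), (149, 6), (107, 5), (150, 7), (13, 6), (152, 6), (16, 7), (132, 6), (93, 5), (82, 4), (10, 3), (134, 5), (12, 4), (135, 4)]),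
    ([7, 6, 2], [(44, 0), (97, 3), (74, 2), (40, 1), (34, 0), (144, 5), (102, 4), (90, 3), (69, 2), (146, 6), (104, 5), (92, 4), (71, 3), (147, 7), (105, 6), (93, 5), (10, 4), (150, 6), (13, 5), (151, 5), (16, 6), (119, 5), (94, 4), (14, 6), (135, 6)], [(34, 1), (40, 0), (143, 6), (114, 5), (101, 4), (68, 3), (59, 2), (44, 1), (104, 4), (81, 3), (132, 7), (118, 6), (105, 5), (82, 4), (150, 9), (135, 8), (121, 7), (13, 6), (151, 8), (136, 7), (14, 6), (16, 7), (132, 6), (82, 5), (10, 4), (134, 5), (135, 6)]),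
    ([7, 6, 3], [(44, 0), (98, 3), (75, 2), (41, 1), (35, 0), (144, 5), (102, 4), (90, 3), (69, 2), (147, 6), (105, 5), (93, 4), (10, 3), (149, 5), (107, 4), (12, 3), (150, 4), (13, 3), (151, 3), (148, 4), (119, 3), (16, 5), (121, 4)], [(35, 1), (41, 0), (114, 5), (101, 4), (89, 3), (68, 2), (44, 1), (105, 4), (82, 3), (149, 6), (107, 5), (150, 7), (13, 6), (151, 6), (147, 7), (118, 6), (93, 5), (82, 4), (10, 3), (149, 6), (120, 5), (12, 4), (150, 5), (121, 4), (16, 6)]),
    ([7, 6, 4], [(44, 0), (99, 3), (76, 2), (42, 1), (36, 0), (102, 2), (148, 6), (133, 5), (119, 4), (106, 3), (16, 7), (135, 6), (121, 5), (13, 4)], [(36, 1), (42, 0), (143, 4), (128, 3), (114, 2), (44, 1), (150, 7), (135, 6), (121, 5), (13, 4)]),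
    ([7, 6, 5], [(44, 0), (100, 3), (77, 2), (43, 1), (37, 0), (144, 3), (102, 2), (147, 4), (105, 3), (149, 5), (107, 4), (148, 6), (106, 5), (94, 4), (16, 7), (13, 6)], [(37, 1), (43, 0), (89, 3), (68, 2), (44, 1), (105, 4), (82, 3), (149, 6), (107, 5), (150, 7), (13, 6), (16, 6)]),
    ([8, 8, 0], [(8, 0)], [(45, 1), (45, 0), (130, 3), (61, 2), (8, 1), (131, 2), (9, 1), (15, 1)]),
    ([8, 0, 0], [(0, 1), (47, 0), (98, 3), (86, 2), (48, 1), (134, 7), (120, 6), (12, 5), (135, 6), (121, 5), (136, 7), (14, 6), (150, 7), (135, 6), (13, 5), (141, 6), (126, 5), (76, 4), (66, 3), (49, 2), (147, 7), (132, 6), (93, 5), (10, 4), (151, 6), (136, 5), (152, 7), (15, 6), (16, 6), (119, 5), (94, 4), (152, 7), (16, 8), (127, 7), (113, 6), (88, 5), (77, 4), (50, 3), (133, 5), (149, 7), (134, 6), (16, 8), (136, 7), (15, 8)], [(45, 0), (122, 3), (53, 2), (45, 1), (0, 0), (145, 5), (130, 4), (146, 6), (131, 5), (152, 7), (15, 6), (146, 6), (9, 5), (148, 5), (149,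 6), (151, 7), (16, 8)]),
    ([8, 8, 1], [(8, 0)], [(46, 1), (46, 0), (145, 5), (103, 4), (80, 3), (61, 2), (8, 1), (146, 4), (104, 3), (81, 2), (9, 1), (148, 3), (106, 2), (11, 1), (150, 2), (13, 1), (16, 1)])]

/-- A part of the certificate. -/
def overlaps5 : List (List ℕ × List (ℕ × ℕ) × List (ℕ × ℕ)) := [
    ([8, 1, 1], [(1, 1), (49, 0), (143, 5), (128, 4), (89, 3), (68, 2), (51, 1), (132, 5), (118, 4), (105, 3), (149, 7), (134, 6), (120, 5), (107, 4), (152, 8), (15, 7), (16, 7), (115, 6), (102, 5), (90, 4), (69, 3), (52, 2), (116, 7), (103, 6), (91, 5), (70, 4), (8, 3), (118, 6), (105, 5), (93, 4), (10, 3), (121, 5), (13, 4), (14, 4)], [(46, 0), (138, 5), (96, 4), (73, 3), (54, 2), (46, 1), (1, 0), (116, 6), (103, 5), (70, 4), (8, 3), (117, 5), (104, 4), (71, 3), (119, 6), (106, 5), (121, 7), (13, 6), (146, 7), (117, 6), (81, 5), (71, 4), (9, 3), (147, 6), (118, 5), (82, 4), (10, 3), (149, 5), (120, 4), (150, 6), (121, 5), (151, 7), (14,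 6), (16, 6), (106, 5), (94, 4), (11, 3), (135, 6), (121, 5), (13, 4), (136, 5), (14, 4), (15, 4), (16, 4)]),
    ([8, 1, 0], [(46, 0), (137, 5), (95, 4), (72, 3), (53, 2), (45, 1), (17, 0), (145, 12), (130, 11), (91, 10), (80, 9), (70, 8), (8, 7), (146, 11), (131, 10), (92, 9), (81, 8), (71, 7), (152, 12), (15, 11), (146, 11), (92, 10), (81, 9), (71, 8), (9, 7), (148, 10), (94, 9), (11, 8), (149, 9), (12, 8), (151, 8), (16, 9), (119, 8), (121, 9), (14, 10), (135, 10), (13, 9), (136, 9), (15, 10)], [(17, 1), (45, 0), (123, 3), (54, 2), (46, 1), (146, 6), (104, 5), (81, 4), (9, 3), (147, 5), (105, 4), (82, 3), (149, 6), (107, 5), (150, 7), (13, 6), (151, 6), (16, 7), (124, 7), (110, 6), (85, 5), (74, 4), (64, 3), (47, 2), (105, 5), (93, 4), (148, 8), (119, 7), (106, 6), (94, 5), (151, 9), (14, 8), (152, 8), (149, 9), (134, 8), (107, 7), (12, 6), (150, 8), (135, 7), (13, 6), (151, 7), (136, 6), (16, 8), (136, 7), (14, 6), (15, 6), (140, 6), (75,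 5), (65, 4), (48, 3), (132, 9), (118, 8), (93, 7), (82, 6), (10, 5), (135, 8), (121, 7), (136, 9), (14, 8), (148, 9), (133, 8), (106, 7), (94, 6), (11, 5), (16, 8), (142, 8), (127, 7), (100, 6), (88, 5), (50, 4), (134, 6), (150, 8), (135, 7), (152, 9), (15, 8), (16, 8), (101, 7), (89, 6), (51, 5), (134, 9), (120, 8), (107, 7), (135, 10), (121, 9), (13, 8), (129, 9), (115, 8), (90, 7), (52, 6), (130, 10), (116, 9), (91, 8), (8, 7), (132, 9), (118, 8), (93, 7), (133, 10), (119, 9), (94, 8), (134, 11), (120, 10), (12, 9), (15, 10)]),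
    ([8, 8, 2], [(8, 0)], [(47, 1), (47, 0), (103, 3), (91, 2), (8, 1), (107, 2), (12, 1), (13, 1)]),
    ([8, 2, 2], [(2, 1), (50, 0), (128, 2), (51, 1), (15, 5)], [(47, 0), (97, 3), (85, 2), (47, 1), (2, 0), (145, 2), (149, 3), (150, 4), (149, 5), (107, 4), (12, 3), (150, 4), (13, 3), (151, 3), (16, 4), (121, 3)]),
    ([8, 2, 0], [(47, 0), (95, 3), (83, 2), (45, 1), (18, 0), (145, 8), (130, 7), (116, 6), (80, 5), (146, 9), (131, 8), (117, 7), (81, 6), (152, 10), (15, 9), (149, 9), (120, 8), (150, 10), (121, 9), (151, 11), (14, 10), (152, 10), (16, 11), (135, 10), (13, 9), (136, 9), (15, 10)], [(18, 1), (45, 0), (124, 3), (55, 2), (47, 1), (104, 4), (92, 3), (105, 5), (93, 4), (106, 6), (94, 5), (107, 7), (12, 6), (13, 6), (152, 7), (16, 8), (126, 7), (112, 6), (76, 5), (66, 4), (57, 3), (49, 2), (146, 7), (131, 6), (92, 5), (71, 4), (148, 8), (133, 7), (94, 6), (150, 9), (135, 8), (147, 10), (132, 9), (105, 8), (93, 7), (82, 6), (10, 5), (151,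 9), (136, 8), (152, 10), (15, 9), (16, 9), (119, 8), (106, 7), (94, 6), (11, 5), (151, 8), (14, 7), (152, 7), (143, 8), (128, 7), (101, 6), (89, 5), (59, 4), (51, 3), (131, 7), (117, 6), (104, 5), (136, 8), (14, 7), (15, 7), (107, 6), (13, 7), (144, 8), (129, 7), (90, 6), (60, 5), (52, 4), (148, 9), (133, 8), (94, 7), (151, 10), (136, 9), (152, 11), (15, 10), (16, 10)]),
    ([8, 2, 1], [(47, 0), (96, 3), (84, 2), (46, 1), (19, 0), (103, 8), (91, 7), (80, 6), (8, 5), (104, 7), (92, 6), (81, 5), (106, 8), (94, 7), (11, 6), (13, 7), (149, 7), (12, 6), (150, 6), (152, 7), (16, 8), (135, 7), (13, 6), (136, 6), (15, 7)], [(19, 1), (46, 0), (139, 5), (97, 4), (74, 3), (55, 2), (47, 1), (104, 4), (92, 3), (105, 5), (93, 4), (106, 6), (94, 5), (107, 7), (12, 6), (13, 6), (148, 7), (119, 6), (11, 5), (151, 6), (14, 5), (152, 5), (150, 6), (135, 5), (16, 7), (141, 7), (126, 6), (99, 5), (66, 4), (57, 3), (49, 2), (146, 7), (131, 6), (92, 5), (71, 4), (148,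 8), (133, 7), (94, 6), (150, 9), (135, 8), (147, 10), (132, 9), (105, 8), (93, 7), (82, 6), (10, 5), (151, 9), (136, 8), (152, 10), (15, 9), (16, 9), (121, 8), (13, 7), (152, 8), (16, 9), (127, 8), (113, 7), (88, 6), (77, 5), (58, 4), (50, 3), (131, 5), (135, 6), (148, 8), (133, 7), (106, 6), (16, 9), (134, 8), (107, 7), (151, 10), (136, 9), (152, 11), (15, 10), (144, 10), (115, 9), (102, 8), (90, 7), (79, 6), (60, 5), (52, 4), (145, 11), (116, 10), (103, 9), (91, 8), (80, 7), (61, 6), (8, 5), (148, 10), (119, 9), (106, 8), (94, 7), (11, 6), (149, 9), (120, 8), (107, 7), (12, 6), (150, 8), (121, 7), (13, 6)]),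
    ([8, 3, 3], [(3, 1)], [(48, 0), (125, 6), (111, 5), (86, 4), (75, 3), (65, 2), (48, 1), (3, 0), (130, 2), (103, 1), (80, 0), (132, 3), (105, 2), (82, 1), (133, 4), (106, 3), (11, 2), (134, 3), (107, 2), (136, 4), (15, 5), (118, 4), (105, 3), (93, 2), (10, 1), (121, 3), (13, 2), (14, 2), (148, 2), (94, 1), (16, 3), (12, 2), (151, 4), (14, 3), (152, 3), (16, 4)]),
    ([8, 3, 0], [(48, 0), (122, 6), (108, 5), (83, 4), (72, 3), (62, 2), (45, 1), (20, 0), (145, 9), (91, 8), (80, 7), (8, 6), (146, 8), (92, 7), (81, 6), (152, 9), (147, 10), (132, 9), (93, 8), (82, 7), (148, 11), (133, 10), (94, 9), (11, 8), (151, 10), (136, 9), (16, 11), (133, 10), (119, 9), (94, 8), (135, 11), (121, 10), (136, 12), (14, 11), (15, 11), (107, 10), (12, 9), (13, 9), (151, 11), (136, 10), (14, 9), (16, 10), (15, 9)], [(20, 1), (45, 0), (125, 3), (56, 2), (48, 1), (131, 7), (117, 6), (92, 5), (81, 4), (71, 3), (132, 8), (118, 7), (93, 6), (82, 5), (10, 4), (134, 7),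 (120, 6), (12, 5), (135, 6), (121, 5), (136, 7), (14, 6), (15, 6), (141, 6), (99, 5), (76, 4), (57, 3), (49, 2), (146, 7), (131, 6), (92, 5), (71, 4), (148, 8), (133, 7), (94, 6), (150, 9), (135, 8), (148, 10), (133, 9), (106, 8), (94, 7), (11, 6), (16, 9), (135, 8), (13, 7), (16, 8), (127, 7), (88, 6), (67, 5), (58, 4), (50, 3), (131, 5), (135, 6), (147, 8), (132, 7), (105, 6), (16, 9), (134, 8), (107, 7), (152, 10), (15, 9), (143, 9), (101, 8), (89, 7), (68, 6), (59, 5), (51, 4), (131, 8), (117, 7), (104, 6), (136, 9), (14, 8), (15, 8), (105, 7), (149, 9), (107, 8), (150, 10), (13, 9), (16, 9), (90, 8), (69, 7), (60, 6), (52, 5), (91, 9), (70, 8), (61, 7), (8, 6), (94, 8), (12, 9)]),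
    ([8, 3, 1], [(48, 0), (123, 6), (109, 5), (84, 4), (73, 3), (63, 2), (46, 1), (21, 0), (145, 10), (130, 9), (116, 8), (80, 7), (70, 6), (8, 5), (146, 9), (131, 8), (117, 7), (81, 6), (71, 5), (148, 10), (133, 9), (119, 8), (11, 7), (150, 9), (135, 8), (121, 7), (16, 10), (132, 9), (118, 8), (105, 7), (10, 6), (133, 8), (119, 7), (106, 6), (15, 9), (148, 9), (119, 8), (106, 7), (11, 6), (151, 8), (14, 7), (152, 7), (149, 8), (134, 7), (107, 6), (150, 9), (135, 8), (13, 7), (152, 8), (15, 7), (16, 7), (152, 8)], [(21, 1), (46, 0), (140, 5), (98, 4), (75, 3), (56, 2), (48, 1), (131, 7), (117, 6), (92, 5), (81, 4), (71, 3), (132, 8), (118, 7), (93, 6), (82, 5), (10, 4), (134, 7), (120, 6), (12, 5), (135, 6), (121, 5), (136, 7), (14, 6), (133, 6), (106, 5), (11, 4), (150, 6), (135, 5), (13, 4), (16, 5), (126, 4), (57, 3), (49, 2), (146, 7), (131, 6), (92, 5), (71, 4), (148, 8), (133, 7), (94, 6), (150, 9), (135, 8), (152, 10), (15, 9), (143, 9),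 (101, 8), (89, 7), (78, 6), (68, 5), (59, 4), (51, 3), (131, 7), (117, 6), (104, 5), (136, 8), (14, 7), (15, 7), (105, 6), (148, 8), (106, 7), (149, 9), (107, 8), (150, 10), (13, 9), (16, 9), (90, 8), (79, 7), (69, 6), (60, 5), (52, 4), (91, 9), (80, 8), (70, 7), (61, 6), (8, 5), (93, 8), (82, 7), (10, 6), (94, 7), (11, 6)])]

/-- A part of the certificate. -/
def fuses0 : List Fuse := [
    ⟨0, [0, 0], [2, 4, 5, 7, 8, 10, 11], [(84, 3), (54, 2), (46, 1), (1, 0), (116, 6), (103, 5), (70, 4), (8, 3), (117, 5), (104, 4), (71, 3), (119, 6), (106, 5), (121, 7), (13, 6), (146, 7), (117, 6), (81, 5), (71, 4), (9, 3), (147, 6), (118, 5), (82, 4), (10, 3), (149, 5), (120, 4), (150, 6), (121, 5), (151, 7), (14, 6), (16, 6), (107, 5), (12, 4), (13, 4), (145, 5), (130, 4), (80, 3), (146, 6), (131, 5), (81, 4), (149, 7), (134, 6)], [(59, 2), (51, 1), (131, 5), (117, 4), (104, 3), (136, 6), (14, 5), (15, 5), (104, 4), (9, 3), (107, 3), (102, 4), (90, 3), (52,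 2), (104, 5), (92, 4), (106, 6), (94, 5), (13, 7)], [(109, 8), (96, 7), (54, 6), (46, 5), (39, 4), (33, 3), (24, 2), (21, 1), (1, 0), (111, 6), (98, 5), (65, 4), (48, 3), (41, 2), (35, 1), (26, 0), (143, 4), (89, 3), (68, 2), (149, 4), (16, 5), (93, 4), (10, 3), (12, 3), (144, 4), (102, 3), (147, 5), (105, 4), (149, 6), (107, 5), (150, 7), (13, 6), (151, 6), (145, 7), (116, 6), (91, 5), (70, 4), (147, 8), (118, 7), (93, 6), (10, 5), (148, 7), (119, 6), (94, 5), (149, 8), (120, 7), (12, 6), (151, 7), (14, 6), (152, 6), (147, 7), (132, 6), (82, 5), (150, 8), (135, 7), (151, 9), (136, 8), (16, 10), (135, 9), (121, 8), (13, 7), (136, 8), (14, 7), (126, 7), (76, 6), (66, 5), (49, 4), (42, 3), (36, 2), (4, 1), (114, 3), (89, 2), (68, 1), (149, 3), (151, 4), (150, 5), (121, 4), (144, 6), (115, 5), (102, 4), (90, 3), (69, 2), (151, 7), (14, 6), (152, 6), (16, 7), (130, 6), (103, 5), (91, 4), (70, 3), (132, 7), (105, 6), (93, 5), (10, 4), (134, 6), (107,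 5), (12, 4), (15, 5), (147, 5), (105, 4), (151, 6), (152, 7), (16, 8), (133, 7), (119, 6), (106, 5), (152, 9), (15, 8), (143, 8), (114, 7), (101, 6), (78, 5), (68, 4), (51, 3), (44, 2), (6, 1), (144, 3), (129, 2), (115, 1), (148, 4), (133, 3), (119, 2), (150, 5), (135, 4), (121, 3), (145, 6), (130, 5), (116, 4), (103, 3), (80, 2), (150, 7), (135, 6), (121, 5), (13, 4), (151, 6), (136, 5), (14, 4), (152, 5), (15, 4), (147, 4), (82, 3), (16, 5), (11, 4), (144, 6), (115, 5), (102, 4), (69, 3), (52, 2), (7, 1), (145, 5), (116, 4), (103, 3), (70, 2), (8, 1), (147, 4), (118, 3), (105, 2), (10, 1), (148, 3), (119, 2), (106, 1), (151, 4), (14, 3), (152, 3), (16, 4), (126, 3), (99, 2), (76, 1), (150, 3), (16, 4), (131, 4), (104, 3), (81, 2), (135, 5), (13, 4), (143, 5), (128, 4), (78, 3), (59, 2), (133, 5), (119, 4), (15, 6), (147, 6), (118, 5), (82, 4), (149, 7), (120, 6), (150, 8), (121, 7), (144, 9), (115, 8), (102, 7), (90, 6), (79, 5), (69, 4), (60,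 3), (147, 10), (118, 9), (105, 8), (93, 7), (82, 6), (10, 5), (149, 9), (120, 8), (107, 7), (12, 6), (150, 8), (121, 7), (13, 6), (152, 7), (16, 8), (130, 7), (116, 6), (80, 5), (61, 4), (131, 8), (117, 7), (81, 6), (9, 5), (133, 7), (119, 6), (11, 5), (135, 6), (121, 5), (146, 8), (131, 7), (117, 6), (104, 5), (147, 9), (132, 8), (118, 7), (105, 6), (149, 10), (134, 9), (120, 8), (107, 7), (150, 11), (135, 10), (121, 9), (13, 8), (151, 10), (136, 9), (14, 8), (16, 9), (135, 8), (136, 9), (15, 10), (151, 10), (14, 9), (16, 9), (98, 8), (86, 7), (65, 6), (56, 5), (48, 4), (41, 3), (35, 2), (26, 1), (3, 0), (126, 2), (99, 1), (76, 0), (150, 2), (16, 3), (132, 3), (105, 2), (82, 1), (134, 4), (107, 3), (143, 6), (128, 5), (101, 4), (89, 3), (78, 2), (68, 1), (148, 3), (149, 4), (150, 5), (152, 6), (16, 7), (132, 6), (105, 5), (93, 4), (82, 3), (10, 2), (134, 5), (107, 4), (12, 3), (135, 4), (13, 3), (144, 4), (129, 3), (79, 2), (147, 5), (132, 4),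 (82, 3), (149, 6), (134, 5), (150, 7), (135, 6), (151, 8), (136, 7), (145, 9), (130, 8), (116, 7), (103, 6), (91, 5), (80, 4), (70, 3), (147, 10), (132, 9), (118, 8), (105, 7), (93, 6), (82, 5), (10, 4), (148, 9), (133, 8), (119, 7), (106, 6), (94, 5), (11, 4), (149, 8), (134, 7), (120, 6), (107, 5), (12, 4), (151, 7), (136, 6), (14, 5), (152, 6), (15, 5), (146, 5), (104, 4), (147, 6), (105, 5), (149, 7), (107, 6), (150, 8), (13, 7), (151, 7), (147, 8), (118, 7), (93, 6), (10, 5), (150, 7), (121, 6), (151, 8), (14, 7), (16, 7), (107, 6), (12, 5), (13, 5), (150, 6), (121, 5), (141, 7), (112, 6), (99, 5), (57, 4), (49, 3), (42, 2), (36, 1), (4, 0), (114, 2), (89, 1), (68, 0), (149, 2), (151, 3), (150, 4), (121, 3), (144, 5), (115, 4), (102, 3), (90, 2), (69, 1), (151, 6), (14, 5), (152, 5), (16, 6), (130, 5), (103, 4), (91, 3), (70, 2), (132, 6), (105, 5), (93, 4), (10, 3), (134, 5), (107, 4), (12, 3), (15, 4), (146, 4), (104, 3), (148, 5), (106,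 4), (150, 6), (13, 5), (150, 5), (16, 6), (143, 7), (114, 6), (101, 5), (78, 4), (59, 3), (51, 2), (44, 1), (6, 0), (144, 2), (129, 1), (115, 0), (148, 3), (133, 2), (119, 1), (150, 4), (135, 3), (121, 2), (145, 5), (130, 4), (116, 3), (103, 2), (80, 1), (150, 6), (135, 5), (121, 4), (13, 3), (151, 5), (136, 4), (14, 3), (152, 4), (15, 3), (146, 3), (81, 2), (151, 4), (152, 5), (148, 6), (133, 5), (119, 4), (11, 3), (150, 5), (135, 4), (121, 3), (151, 6), (136, 5), (14, 4), (16, 5), (129, 4), (102, 3), (60, 2), (52, 1), (7, 0), (130, 3), (103, 2), (61, 1), (8, 0), (131, 2), (104, 1), (9, 0), (135, 1), (13, 0), (136, 0)], [(125, 3), (86, 2), (41, 1), (35, 0), (144, 5), (102, 4), (90, 3), (69, 2), (147, 6), (105, 5), (93, 4), (10, 3), (149, 5), (107, 4), (12, 3), (150, 4), (13, 3), (151, 3), (149, 4), (120, 3), (150, 5), (121, 4), (151, 6), (14, 5), (16, 5), (143, 6), (128, 5), (101, 4), (89, 3), (44, 2), (6, 1), (144, 3), (129, 2), (115, 1), (148,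 4), (133, 3), (119, 2), (150, 5), (135, 4), (121, 3), (149, 6), (134, 5), (120, 4), (107, 3), (150, 7), (135, 6), (121, 5), (13, 4), (152, 6), (15, 5), (16, 5), (116, 4), (91, 3), (80, 2), (120, 5), (12, 4), (140, 5), (111, 4), (75, 3), (48, 2), (41, 1), (3, 0), (129, 2), (102, 1), (79, 0), (132, 3), (105, 2), (82, 1), (134, 4), (107, 3), (135, 5), (13, 4), (136, 4), (130, 5), (116, 4), (91, 3), (80, 2), (70, 1), (132, 6), (118, 5), (93, 4), (82, 3), (10, 2), (133, 5), (119, 4), (94, 3), (11, 2), (134, 4), (120, 3), (12, 2), (136, 3), (14, 2), (15, 2), (151, 3), (16, 4), (115, 3), (79, 2), (52, 1), (7, 0), (116, 2), (80, 1), (8, 0), (121, 1), (140, 3), (111, 2), (98, 1), (75, 0), (150, 2), (151, 3), (16, 4), (112, 3), (99, 2), (76, 1), (150, 3), (16, 4), (114, 4), (101, 3), (78, 2), (115, 5), (102, 4), (79, 3), (118, 6), (105, 5), (82, 4), (119, 7), (106, 6), (11, 5), (121, 6), (13, 5), (14, 5), (125, 5), (65, 4), (41, 3), (35, 2), (26, 1), (3,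 0), (126, 2), (99, 1), (76, 0), (150, 2), (16, 3), (132, 3), (105, 2), (82, 1), (134, 4), (107, 3), (143, 6), (128, 5), (101, 4), (89, 3), (78, 2), (68, 1), (148, 3), (149, 4), (150, 5), (152, 6), (16, 7), (132, 6), (105, 5), (93, 4), (82, 3), (10, 2), (134, 5), (107, 4), (12, 3), (135, 4), (13, 3), (144, 4), (129, 3), (79, 2), (147, 5), (132, 4), (82, 3), (149, 6), (134, 5), (150, 7), (135, 6), (151, 8), (136, 7), (147, 9), (132, 8), (118, 7), (105, 6), (93, 5), (82, 4), (10, 3), (150, 8), (135, 7), (121, 6), (13, 5), (151, 7), (136, 6), (14, 5), (16, 6), (15, 5), (145, 5), (91, 4), (80, 3), (146, 6), (92, 5), (81, 4), (16, 7), (87, 6), (76, 5), (57, 4), (49, 3), (42, 2), (36, 1), (4, 0), (114, 2), (89, 1), (68, 0), (149, 2), (151, 3), (150, 4), (121, 3), (144, 5), (115, 4), (102, 3), (90, 2), (69, 1), (151, 6), (14, 5), (152, 5), (16, 6), (130, 5), (103, 4), (91, 3), (70, 2), (132, 6), (105, 5), (93, 4), (10, 3), (134, 5), (107, 4), (12, 3),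 (15, 4), (146, 4), (104, 3), (148, 5), (106, 4), (150, 6), (13, 5), (148, 5), (11, 4), (16, 4), (143, 7), (128, 6), (114, 5), (89, 4), (59, 3), (51, 2), (44, 1), (6, 0), (144, 2), (129, 1), (115, 0), (148, 3), (133, 2), (119, 1), (150, 4), (135, 3), (121, 2), (145, 5), (130, 4), (116, 3), (103, 2), (80, 1), (150, 6), (135, 5), (121, 4), (13, 3), (151, 5), (136, 4), (14, 3), (152, 4), (15, 3), (146, 3), (81, 2), (151, 4), (152, 5), (149, 6), (134, 5), (120, 4), (151, 7), (136, 6), (14, 5), (152, 6), (15, 5), (16, 5), (90, 4), (79, 3), (60, 2), (52, 1), (7, 0), (91, 3), (80, 2), (61, 1), (8, 0), (92, 2), (81, 1), (9, 0), (94, 1), (11, 0), (12, 0), (16, 2)]⟩,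
    ⟨0, [1, 0], [0, 1, 2, 4, 5, 7, 8, 10], [(54, 2), (46, 1), (21, 0), (145, 10), (130, 9), (116, 8), (80, 7), (70, 6), (8, 5), (146, 9), (131, 8), (117, 7), (81, 6), (71, 5), (148, 10), (133, 9), (119, 8), (11, 7), (150, 9), (135, 8), (121, 7), (16, 10), (131, 9), (117, 8), (104, 7), (71, 6), (9, 5), (132, 8), (118, 7), (105, 6), (10, 5), (134, 7), (120, 6), (107, 5), (135, 8), (121, 7), (13, 6), (136, 7), (14, 6), (145, 7), (130, 6), (91, 5), (146, 8), (131, 7), (92, 6), (149, 9), (134, 8), (12, 7)], [(86, 3), (56, 2), (48, 1), (131, 7), (117, 6), (92, 5), (81, 4), (71, 3), (132, 8), (118, 7), (93, 6), (82, 5), (10, 4), (134, 7), (120, 6), (12, 5), (135, 6), (121, 5), (136, 7), (14, 6), (134, 6), (107, 5), (135, 7), (13, 6), (136, 6), (145, 8), (130, 7), (116, 6), (91, 5), (80, 4), (61, 3), (8, 2), (146, 7), (131, 6), (117, 5), (92, 4), (81, 3), (9, 2), (141, 6), (126, 5), (112, 4), (87, 3), (76, 2), (149, 4), (151, 5), (152, 6), (16, 7), (136,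 6), (14, 5), (15, 5), (145, 5), (91, 4), (80, 3), (146, 6), (92, 5), (81, 4), (143, 7), (89, 6), (78, 5), (59, 4), (51, 3), (131, 7), (117, 6), (104, 5), (136, 8), (14, 7), (15, 7), (106, 6), (107, 7), (146, 9), (104, 8), (92, 7), (81, 6), (9, 5), (149, 8), (107, 7), (12, 6), (144, 7), (102, 6), (79, 5), (52, 4), (146, 8), (104, 7), (81, 6), (148, 9), (106, 8), (11, 7), (150, 8), (13, 7), (152, 7)], [(138, 1), (96, 0), (16, 4), (125, 3), (111, 2), (98, 1), (141, 5), (126, 4), (112, 3), (99, 2), (151, 4), (152, 5), (16, 6), (128, 5), (114, 4), (101, 3), (129, 6), (115, 5), (102, 4), (130, 7), (116, 6), (103, 5), (131, 8), (117, 7), (104, 6), (135, 9), (121, 8), (13, 7), (136, 8), (14, 7)], [(121, 8), (13, 7), (143, 8), (114, 7), (59, 6), (51, 5), (44, 4), (6, 3), (144, 5), (129, 4), (115, 3), (148, 6), (133, 5), (119, 4), (150, 7), (135, 6), (121, 5), (145, 8), (130, 7), (116, 6), (103, 5), (80, 4), (150, 9), (135, 8), (121, 7), (13, 6), (151,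 8), (136, 7), (14, 6), (152, 7), (15, 6), (146, 6), (81, 5), (151, 7), (152, 8), (151, 9), (136, 8), (14, 7), (16, 8), (129, 7), (79, 6), (60, 5), (52, 4), (7, 3), (134, 6), (15, 7), (86, 6), (75, 5), (56, 4), (48, 3), (26, 2), (3, 1), (126, 3), (99, 2), (76, 1), (150, 3), (16, 4), (132, 4), (105, 3), (82, 2), (134, 5), (107, 4), (145, 7), (130, 6), (103, 5), (91, 4), (80, 3), (70, 2), (147, 8), (132, 7), (105, 6), (93, 5), (82, 4), (10, 3), (148, 7), (133, 6), (106, 5), (94, 4), (11, 3), (149, 6), (134, 5), (107, 4), (12, 3), (151, 5), (136, 4), (152, 6), (15, 5), (146, 5), (117, 4), (104, 3), (147, 6), (118, 5), (105, 4), (149, 7), (120, 6), (107, 5), (150, 8), (121, 7), (13, 6), (151, 7), (14, 6), (148, 6), (94, 5), (16, 7), (12, 6), (143, 8), (114, 7), (101, 6), (78, 5), (68, 4), (59, 3), (51, 2), (131, 6), (117, 5), (104, 4), (136, 7), (14, 6), (15, 6), (105, 5), (148, 7), (106, 6), (150, 8), (13, 7), (151, 7), (16, 8), (116, 7), (80, 6),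 (70, 5), (61, 4), (8, 3), (120, 6), (140, 8), (111, 7), (86, 6), (75, 5), (65, 4), (56, 3), (35, 2), (26, 1), (143, 5), (89, 4), (68, 3), (149, 5), (16, 6), (93, 5), (10, 4), (12, 4), (146, 5), (104, 4), (147, 6), (105, 5), (149, 7), (107, 6), (150, 8), (13, 7), (151, 7), (147, 8), (118, 7), (93, 6), (10, 5), (150, 7), (121, 6), (151, 8), (14, 7), (16, 7), (106, 6), (94, 5), (149, 8), (107, 7), (12, 6), (150, 7), (13, 6), (151, 6), (16, 7), (14, 6), (144, 6), (79, 5), (60, 4), (145, 7), (80, 6), (61, 5), (150, 8), (16, 9), (98, 8), (75, 7), (56, 6), (48, 5), (41, 4), (35, 3), (26, 2), (3, 1), (126, 3), (99, 2), (76, 1), (150, 3), (16, 4), (132, 4), (105, 3), (82, 2), (134, 5), (107, 4), (143, 7), (128, 6), (101, 5), (89, 4), (78, 3), (68, 2), (148, 4), (149, 5), (150, 6), (152, 7), (16, 8), (132, 7), (105, 6), (93, 5), (82, 4), (10, 3), (134, 6), (107, 5), (12, 4), (135, 5), (13, 4), (144, 5), (129, 4), (79, 3), (147, 6), (132, 5), (82, 4), (149,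 7), (134, 6), (150, 8), (135, 7), (151, 9), (136, 8), (145, 10), (130, 9), (116, 8), (103, 7), (91, 6), (80, 5), (70, 4), (147, 11), (132, 10), (118, 9), (105, 8), (93, 7), (82, 6), (10, 5), (148, 10), (133, 9), (119, 8), (106, 7), (94, 6), (11, 5), (149, 9), (134, 8), (120, 7), (107, 6), (12, 5), (151, 8), (136, 7), (14, 6), (152, 7), (15, 6), (146, 6), (104, 5), (147, 7), (105, 6), (149, 8), (107, 7), (150, 9), (13, 8), (151, 8), (148, 9), (119, 8), (94, 7), (16, 10), (121, 9), (112, 10), (99, 9), (87, 8), (76, 7), (66, 6), (57, 5), (49, 4), (42, 3), (36, 2), (4, 1), (114, 3), (89, 2), (68, 1), (149, 3), (151, 4), (150, 5), (121, 4), (144, 6), (115, 5), (102, 4), (90, 3), (69, 2), (151, 7), (14, 6), (152, 6), (16, 7), (130, 6), (103, 5), (91, 4), (70, 3), (132, 7), (105, 6), (93, 5), (10, 4), (134, 6), (107, 5), (12, 4), (15, 5), (146, 5), (104, 4), (148, 6), (106, 5), (150, 7), (13, 6), (147, 6), (82, 5), (151, 7), (152, 8), (16, 9), (133,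 8), (119, 7), (11, 6), (149, 8), (134, 7), (120, 6), (151, 9), (136, 8), (14, 7), (152, 8), (15, 7), (16, 7), (151, 8), (143, 9), (114, 8), (101, 7), (89, 6), (68, 5), (59, 4), (51, 3), (44, 2), (6, 1), (144, 3), (129, 2), (115, 1), (148, 4), (133, 3), (119, 2), (150, 5), (135, 4), (121, 3), (145, 6), (130, 5), (116, 4), (103, 3), (80, 2), (150, 7), (135, 6), (121, 5), (13, 4), (151, 6), (136, 5), (14, 4), (152, 5), (15, 4), (146, 4), (81, 3), (151, 5), (152, 6), (147, 7), (132, 6), (118, 5), (82, 4), (16, 8), (134, 7), (120, 6), (135, 8), (121, 7), (136, 9), (14, 8), (144, 9), (129, 8), (102, 7), (90, 6), (79, 5), (69, 4), (60, 3), (52, 2), (7, 1), (147, 8), (132, 7), (105, 6), (93, 5), (82, 4), (10, 3), (148, 7), (133, 6), (106, 5), (94, 4), (11, 3), (150, 6), (135, 5), (13, 4), (151, 5), (136, 4), (152, 6), (15, 5), (140, 5), (111, 4), (86, 3), (56, 2), (48, 1), (131, 7), (117, 6), (92, 5), (81, 4), (71, 3), (132, 8), (118, 7), (93, 6), (82,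 5), (10, 4), (134, 7), (120, 6), (12, 5), (135, 6), (121, 5), (136, 7), (14, 6), (134, 6), (107, 5), (135, 7), (13, 6), (136, 6), (151, 8), (136, 7), (14, 6), (16, 7), (130, 6), (91, 5), (80, 4), (61, 3), (8, 2), (131, 5), (92, 4), (81, 3), (9, 2), (141, 5), (126, 4), (87, 3), (76, 2), (149, 4), (151, 5), (152, 6), (16, 7), (15, 6), (143, 6), (114, 5), (89, 4), (78, 3), (144, 7), (115, 6), (90, 5), (79, 4), (145, 8), (116, 7), (91, 6), (80, 5), (146, 9), (117, 8), (92, 7), (81, 6), (148, 10), (119, 9), (94, 8), (11, 7), (149, 9), (120, 8), (12, 7), (151, 8), (14, 7), (152, 7), (16, 8)]⟩,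
    ⟨0, [2, 0], [0, 2, 11], [(54, 2), (46, 1), (24, 0), (145, 4), (103, 3), (61, 2), (146, 5), (104, 4), (9, 3), (148, 4), (106, 3), (150, 5), (13, 4), (16, 4), (81, 3), (82, 4), (145, 9), (116, 8), (103, 7), (91, 6), (80, 5), (70, 4), (61, 3), (8, 2), (146, 8), (117, 7), (104, 6), (92, 5), (81, 4), (71, 3), (9, 2), (149, 7), (120, 6), (107, 5), (12, 4)], [(87, 3), (57, 2), (49, 1), (146, 6), (131, 5), (92, 4), (71, 3), (148, 7), (133, 6), (94, 5), (150, 8), (135, 7), (149, 9), (134, 8), (107, 7), (12, 6), (151, 8), (136, 7), (152, 9), (15, 8), (16, 8), (116, 7), (103, 6), (80, 5), (70, 4), (61, 3), (8, 2), (117, 6), (104, 5), (81, 4), (71, 3), (9, 2)], [(123, 3), (84, 2), (39, 1), (33, 0), (102, 4), (90, 3), (69, 2), (105, 5), (93, 4), (10, 3), (107, 4), (12, 3), (13, 3), (149, 4), (134, 3), (150, 5), (135, 4), (152, 6), (15, 5), (16, 5), (125, 5), (98, 4), (86, 3), (41, 2), (35, 1), (144, 6), (102, 5), (90, 4), (69, 3), (147, 7), (105, 6), (93,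 5), (10, 4), (149, 6), (107, 5), (12, 4), (150, 5), (13, 4), (151, 4), (149, 5), (120, 4), (150, 6), (121, 5), (151, 7), (14, 6), (16, 6), (13, 5), (141, 6), (126, 5), (87, 4), (42, 3), (36, 2), (102, 4), (149, 8), (134, 7), (120, 6), (107, 5), (151, 9), (136, 8), (14, 7), (152, 8), (15, 7), (16, 7), (143, 8), (128, 7), (101, 6), (89, 5), (44, 4), (6, 3), (144, 5), (129, 4), (115, 3), (148, 6), (133, 5), (119, 4), (150, 7), (135, 6), (121, 5), (149, 8), (134, 7), (120, 6), (107, 5), (150, 9), (135, 8), (121, 7), (13, 6), (152, 8), (15, 7), (16, 7), (115, 6), (90, 5), (79, 4), (7, 3), (116, 5), (91, 4), (80, 3), (117, 6), (92, 5), (81, 4), (121, 7), (14, 8)], [(114, 8), (101, 7), (59, 6), (51, 5), (44, 4), (6, 3), (144, 5), (129, 4), (115, 3), (148, 6), (133, 5), (119, 4), (150, 7), (135, 6), (121, 5), (145, 8), (130, 7), (116, 6), (103, 5), (80, 4), (150, 9), (135, 8), (121, 7), (13, 6), (151, 8), (136, 7), (14, 6), (152, 7), (15, 6), (146, 6),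 (81, 5), (151, 7), (152, 8), (150, 9), (135, 8), (121, 7), (151, 10), (136, 9), (14, 8), (144, 9), (129, 8), (102, 7), (79, 6), (60, 5), (52, 4), (7, 3), (149, 8), (134, 7), (107, 6), (152, 9), (15, 8), (16, 8)]⟩,
    ⟨0, [4, 0], [0, 4, 9, 10], [(84, 2), (54, 1), (33, 0), (104, 4), (92, 3), (71, 2), (105, 5), (93, 4), (10, 3), (107, 4), (12, 3), (13, 3), (149, 4), (120, 3), (150, 5), (121, 4), (152, 6), (16, 7), (130, 6), (116, 5), (103, 4), (91, 3), (61, 2), (131, 7), (117, 6), (104, 5), (92, 4), (9, 3), (134, 6), (120, 5), (107, 4), (12, 3)], [(89, 3), (59, 2), (51, 1), (131, 5), (117, 4), (104, 3), (136, 6), (14, 5), (15, 5), (107, 4), (104, 5), (92, 4), (9, 3), (107, 4), (12, 3)], [(138, 4), (84, 3), (46, 2), (33, 1), (21, 0), (143, 10), (128, 9), (114, 8), (78, 7), (68, 6), (51, 5), (44, 4), (6, 3), (144, 5), (129, 4), (115, 3), (148, 6), (133, 5), (119, 4), (150, 7), (135, 6), (121, 5), (145, 8), (130, 7), (116, 6), (103, 5), (80, 4), (150,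 9), (135, 8), (121, 7), (13, 6), (151, 8), (136, 7), (14, 6), (152, 7), (15, 6), (147, 6), (82, 5), (16, 7), (11, 6), (147, 8), (132, 7), (118, 6), (10, 5), (149, 7), (134, 6), (120, 5), (150, 8), (135, 7), (121, 6), (145, 9), (130, 8), (116, 7), (103, 6), (91, 5), (8, 4), (146, 8), (131, 7), (117, 6), (104, 5), (92, 4), (148, 9), (133, 8), (119, 7), (106, 6), (94, 5), (150, 10), (135, 9), (121, 8), (13, 7), (16, 9), (134, 8), (120, 7), (12, 6), (135, 7), (121, 6), (15, 8), (16, 8), (111, 7), (98, 6), (75, 5), (56, 4), (41, 3), (26, 2), (3, 1), (126, 3), (99, 2), (76, 1), (150, 3), (16, 4), (132, 4), (105, 3), (82, 2), (134, 5), (107, 4), (144, 7), (129, 6), (102, 5), (90, 4), (79, 3), (69, 2), (147, 8), (132, 7), (105, 6), (93, 5), (82, 4), (10, 3), (149, 7), (134, 6), (107, 5), (12, 4), (150, 6), (135, 5), (13, 4), (151, 5), (136, 4), (146, 6), (131, 5), (117, 4), (81, 3), (147, 7), (132, 6), (118, 5), (82, 4), (149, 8), (134, 7), (120, 6),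 (150, 9), (135, 8), (121, 7), (151, 10), (136, 9), (14, 8), (148, 9), (133, 8), (106, 7), (94, 6), (11, 5), (16, 8), (135, 7), (13, 6), (136, 6), (126, 7), (112, 6), (87, 5), (66, 4), (57, 3), (42, 2), (4, 1), (115, 3), (90, 2), (69, 1), (14, 4), (146, 5), (131, 4), (92, 3), (71, 2), (148, 6), (133, 5), (94, 4), (150, 7), (135, 6), (147, 8), (132, 7), (105, 6), (93, 5), (82, 4), (10, 3), (151, 7), (136, 6), (152, 8), (15, 7), (16, 7), (120, 6), (107, 5), (12, 4), (14, 5), (151, 6), (136, 5), (152, 7), (15, 6), (143, 6), (114, 5), (101, 4), (78, 3), (59, 2), (44, 1), (104, 4), (81, 3), (133, 7), (119, 6), (106, 5), (11, 4), (135, 6), (121, 5), (13, 4), (136, 5), (14, 4), (144, 5), (129, 4), (60, 3), (7, 2), (145, 4), (130, 3), (61, 2), (146, 5), (131, 4), (9, 3), (150, 4), (135, 3), (151, 5), (136, 4)], [(111, 8), (98, 7), (56, 6), (48, 5), (41, 4), (35, 3), (26, 2), (3, 1), (126, 3), (99, 2), (76, 1), (150, 3), (16, 4), (132, 4), (105, 3), (82,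 2), (134, 5), (107, 4), (143, 7), (128, 6), (101, 5), (89, 4), (78, 3), (68, 2), (148, 4), (149, 5), (150, 6), (152, 7), (16, 8), (132, 7), (105, 6), (93, 5), (82, 4), (10, 3), (134, 6), (107, 5), (12, 4), (135, 5), (13, 4), (144, 5), (129, 4), (79, 3), (147, 6), (132, 5), (82, 4), (149, 7), (134, 6), (150, 8), (135, 7), (151, 9), (136, 8), (145, 10), (130, 9), (116, 8), (103, 7), (91, 6), (80, 5), (70, 4), (147, 11), (132, 10), (118, 9), (105, 8), (93, 7), (82, 6), (10, 5), (148, 10), (133, 9), (119, 8), (106, 7), (94, 6), (11, 5), (149, 9), (134, 8), (120, 7), (107, 6), (12, 5), (151, 8), (136, 7), (14, 6), (152, 7), (15, 6), (146, 6), (104, 5), (147, 7), (105, 6), (149, 8), (107, 7), (150, 9), (13, 8), (151, 8), (150, 9), (121, 8), (151, 10), (14, 9), (143, 9), (101, 8), (89, 7), (68, 6), (59, 5), (51, 4), (44, 3), (6, 2), (144, 4), (129, 3), (115, 2), (148, 5), (133, 4), (119, 3), (150, 6), (135, 5), (121, 4), (145, 7), (130, 6), (116, 5),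 (103, 4), (80, 3), (150, 8), (135, 7), (121, 6), (13, 5), (151, 7), (136, 6), (14, 5), (152, 6), (15, 5), (146, 5), (81, 4), (151, 6), (152, 7), (147, 8), (132, 7), (118, 6), (82, 5), (16, 9), (134, 8), (120, 7), (135, 9), (121, 8), (145, 11), (130, 10), (116, 9), (103, 8), (91, 7), (80, 6), (70, 5), (61, 4), (8, 3), (149, 10), (134, 9), (120, 8), (107, 7), (12, 6), (16, 9), (136, 8), (14, 7), (126, 7), (99, 6), (76, 5), (66, 4), (57, 3), (42, 2), (4, 1), (115, 3), (90, 2), (69, 1), (14, 4), (146, 5), (131, 4), (92, 3), (71, 2), (148, 6), (133, 5), (94, 4), (150, 7), (135, 6), (147, 8), (132, 7), (105, 6), (93, 5), (82, 4), (10, 3), (151, 7), (136, 6), (152, 8), (15, 7), (16, 7), (119, 6), (106, 5), (94, 4), (11, 3), (150, 6), (121, 5), (13, 4), (16, 5), (128, 5), (114, 4), (89, 3), (59, 2), (44, 1), (104, 4), (81, 3), (134, 7), (120, 6), (107, 5), (136, 8), (14, 7), (15, 7), (102, 6), (90, 5), (79, 4), (60, 3), (7, 2), (103, 5), (91, 4), (80,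 3), (61, 2), (104, 6), (92, 5), (81, 4), (9, 3), (106, 5), (94, 4), (11, 3), (107, 4), (12, 3)]⟩,
    ⟨0, [5, 0], [0, 5, 9, 10], [(54, 1), (39, 0), (146, 6), (131, 5), (104, 4), (92, 3), (71, 2), (147, 7), (132, 6), (105, 5), (93, 4), (10, 3), (149, 6), (134, 5), (107, 4), (12, 3), (150, 5), (135, 4), (13, 3), (151, 4), (136, 3), (16, 5), (130, 4), (116, 3), (61, 2), (131, 5), (117, 4), (9, 3), (134, 4), (120, 3)], [(90, 3), (60, 2), (52, 1), (92, 4), (9, 3)], [(138, 4), (96, 3), (46, 2), (39, 1), (21, 0), (144, 10), (129, 9), (115, 8), (79, 7), (69, 6), (52, 5), (7, 4), (147, 9), (132, 8), (118, 7), (82, 6), (10, 5), (149, 8), (134, 7), (120, 6), (150, 9), (135, 8), (121, 7), (152, 10), (15, 9), (16, 9), (116, 8), (103, 7), (91, 6), (80, 5), (8, 4), (117, 7), (104, 6), (92, 5), (81, 4), (119, 8), (106, 7), (94, 6), (11, 5), (121, 7), (13, 6), (150, 7), (121, 6), (151, 8), (14, 7), (152, 7), (16, 8), (140, 8), (125, 7), (98, 6), (86, 5), (56,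 4), (35, 3), (26, 2), (3, 1), (126, 3), (99, 2), (76, 1), (150, 3), (16, 4), (132, 4), (105, 3), (82, 2), (134, 5), (107, 4), (143, 7), (128, 6), (101, 5), (89, 4), (78, 3), (68, 2), (148, 4), (149, 5), (150, 6), (152, 7), (16, 8), (132, 7), (105, 6), (93, 5), (82, 4), (10, 3), (134, 6), (107, 5), (12, 4), (135, 5), (13, 4), (146, 5), (131, 4), (81, 3), (147, 6), (132, 5), (82, 4), (149, 7), (134, 6), (150, 8), (135, 7), (151, 9), (136, 8), (149, 10), (134, 9), (120, 8), (107, 7), (12, 6), (150, 9), (135, 8), (121, 7), (13, 6), (151, 8), (136, 7), (14, 6), (16, 7), (135, 6), (15, 7), (16, 7), (99, 6), (76, 5), (66, 4), (57, 3), (36, 2), (4, 1), (114, 3), (89, 2), (68, 1), (149, 3), (151, 4), (150, 5), (121, 4), (146, 6), (117, 5), (104, 4), (92, 3), (71, 2), (148, 7), (119, 6), (106, 5), (94, 4), (150, 8), (121, 7), (13, 6), (147, 7), (118, 6), (93, 5), (82, 4), (10, 3), (151, 6), (14, 5), (152, 5), (16, 6), (133, 5), (94, 4), (11, 3), (150, 5),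 (135, 4), (16, 6), (128, 5), (101, 4), (89, 3), (59, 2), (6, 1), (146, 3), (131, 2), (117, 1), (151, 4), (136, 3), (14, 2), (152, 3), (15, 2), (149, 2), (150, 3), (152, 4), (144, 5), (129, 4), (102, 3), (90, 2), (60, 1), (145, 6), (130, 5), (103, 4), (91, 3), (61, 2), (146, 7), (131, 6), (104, 5), (92, 4), (9, 3), (150, 6), (135, 5), (13, 4), (151, 5), (136, 4)], [(111, 8), (98, 7), (56, 6), (48, 5), (41, 4), (35, 3), (26, 2), (3, 1), (126, 3), (99, 2), (76, 1), (150, 3), (16, 4), (132, 4), (105, 3), (82, 2), (134, 5), (107, 4), (143, 7), (128, 6), (101, 5), (89, 4), (78, 3), (68, 2), (148, 4), (149, 5), (150, 6), (152, 7), (16, 8), (132, 7), (105, 6), (93, 5), (82, 4), (10, 3), (134, 6), (107, 5), (12, 4), (135, 5), (13, 4), (144, 5), (129, 4), (79, 3), (147, 6), (132, 5), (82, 4), (149, 7), (134, 6), (150, 8), (135, 7), (151, 9), (136, 8), (145, 10), (130, 9), (116, 8), (103, 7), (91, 6), (80, 5), (70, 4), (147, 11), (132, 10), (118, 9), (105,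 8), (93, 7), (82, 6), (10, 5), (148, 10), (133, 9), (119, 8), (106, 7), (94, 6), (11, 5), (149, 9), (134, 8), (120, 7), (107, 6), (12, 5), (151, 8), (136, 7), (14, 6), (152, 7), (15, 6), (146, 6), (104, 5), (147, 7), (105, 6), (149, 8), (107, 7), (150, 9), (13, 8), (151, 8), (150, 9), (121, 8), (151, 10), (14, 9), (144, 9), (102, 8), (90, 7), (69, 6), (60, 5), (52, 4), (7, 3), (145, 8), (103, 7), (91, 6), (70, 5), (61, 4), (8, 3), (150, 7), (13, 6), (16, 6), (112, 6), (87, 5), (66, 4), (57, 3), (36, 2), (4, 1), (114, 3), (89, 2), (68, 1), (149, 3), (151, 4), (150, 5), (121, 4), (146, 6), (117, 5), (104, 4), (92, 3), (71, 2), (148, 7), (119, 6), (106, 5), (94, 4), (150, 8), (121, 7), (13, 6), (147, 7), (118, 6), (93, 5), (82, 4), (10, 3), (151, 6), (14, 5), (152, 5), (16, 6), (134, 5), (12, 4), (136, 4), (15, 5), (151, 5), (14, 4), (143, 4), (78, 3), (59, 2), (6, 1), (146, 3), (131, 2), (117, 1), (151, 4), (136, 3), (14, 2), (152, 3), (15, 2),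 (148, 2), (16, 3), (79, 2), (60, 1), (80, 3), (61, 2), (81, 4), (9, 3), (11, 3)]⟩,
    ⟨0, [7, 0], [0, 7, 9, 10], [(73, 0), (130, 3), (116, 2), (80, 1), (131, 4), (117, 3), (81, 2), (134, 5), (120, 4)], [(94, 3)], [(123, 8), (109, 7), (96, 6), (73, 5), (63, 4), (39, 3), (33, 2), (24, 1), (21, 0), (141, 10), (126, 9), (112, 8), (76, 7), (66, 6), (49, 5), (42, 4), (36, 3), (4, 2), (114, 4), (89, 3), (68, 2), (149, 4), (151, 5), (150, 6), (121, 5), (144, 7), (115, 6), (102, 5), (90, 4), (69, 3), (151, 8), (14, 7), (152, 7), (16, 8), (130, 7), (103, 6), (91, 5), (70, 4), (132, 8), (105, 7), (93, 6), (10, 5), (134, 7), (107, 6), (12, 5), (15, 6), (147, 6), (105, 5), (151, 7), (152, 8), (16, 9), (133, 8), (119, 7), (106, 6), (151, 10), (136, 9), (14, 8), (152, 9), (15, 8), (16, 8), (104, 7), (81, 6), (71, 5), (13, 8), (143, 8), (78, 7), (68, 6), (59, 5), (51, 4), (44, 3), (6, 2), (144, 4), (129, 3), (115, 2), (148, 5), (133, 4), (119, 3), (150, 6),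 (135, 5), (121, 4), (145, 7), (130, 6), (116, 5), (103, 4), (80, 3), (150, 8), (135, 7), (121, 6), (13, 5), (151, 7), (136, 6), (14, 5), (152, 6), (15, 5), (146, 5), (81, 4), (151, 6), (152, 7), (147, 8), (132, 7), (118, 6), (82, 5), (16, 9), (133, 8), (119, 7), (11, 6), (147, 8), (132, 7), (118, 6), (10, 5), (149, 7), (134, 6), (120, 5), (150, 8), (135, 7), (121, 6), (144, 9), (129, 8), (115, 7), (102, 6), (90, 5), (60, 4), (52, 3), (7, 2), (147, 8), (132, 7), (118, 6), (105, 5), (93, 4), (149, 9), (134, 8), (120, 7), (107, 6), (12, 5), (150, 8), (135, 7), (121, 6), (13, 5), (152, 7), (15, 6), (16, 6), (118, 5), (10, 4), (119, 4), (148, 7), (133, 6), (119, 5), (11, 4), (151, 6), (136, 5), (14, 4), (152, 5), (15, 4), (150, 4), (151, 5), (152, 6), (16, 7), (136, 6), (14, 5), (152, 6), (15, 5), (140, 5), (98, 4), (56, 3), (48, 2), (3, 1), (130, 3), (103, 2), (80, 1), (132, 4), (105, 3), (82, 2), (133, 5), (106, 4), (11, 3), (134, 4), (107, 3), (136,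 5), (15, 6), (117, 5), (104, 4), (92, 3), (71, 2), (118, 6), (105, 5), (93, 4), (10, 3), (120, 5), (107, 4), (12, 3), (121, 4), (13, 3), (14, 3), (141, 4), (99, 3), (57, 2), (49, 1), (146, 6), (131, 5), (92, 4), (71, 3), (148, 7), (133, 6), (94, 5), (150, 8), (135, 7), (150, 9), (135, 8), (13, 7), (16, 8), (143, 8), (128, 7), (89, 6), (78, 5), (68, 4), (59, 3), (51, 2), (131, 6), (117, 5), (104, 4), (136, 7), (14, 6), (15, 6), (105, 5), (148, 7), (106, 6), (149, 8), (107, 7), (152, 9), (16, 10), (129, 9), (102, 8), (90, 7), (79, 6), (69, 5), (60, 4), (52, 3), (130, 10), (103, 9), (91, 8), (80, 7), (70, 6), (61, 5), (8, 4), (131, 9), (104, 8), (92, 7), (81, 6), (71, 5), (9, 4), (135, 8), (13, 7), (136, 7)], [(111, 8), (98, 7), (56, 6), (48, 5), (41, 4), (35, 3), (26, 2), (3, 1), (126, 3), (99, 2), (76, 1), (150, 3), (16, 4), (132, 4), (105, 3), (82, 2), (134, 5), (107, 4), (143, 7), (128, 6), (101, 5), (89, 4), (78, 3), (68, 2), (148, 4), (149,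 5), (150, 6), (152, 7), (16, 8), (132, 7), (105, 6), (93, 5), (82, 4), (10, 3), (134, 6), (107, 5), (12, 4), (135, 5), (13, 4), (144, 5), (129, 4), (79, 3), (147, 6), (132, 5), (82, 4), (149, 7), (134, 6), (150, 8), (135, 7), (151, 9), (136, 8), (145, 10), (130, 9), (116, 8), (103, 7), (91, 6), (80, 5), (70, 4), (147, 11), (132, 10), (118, 9), (105, 8), (93, 7), (82, 6), (10, 5), (148, 10), (133, 9), (119, 8), (106, 7), (94, 6), (11, 5), (149, 9), (134, 8), (120, 7), (107, 6), (12, 5), (151, 8), (136, 7), (14, 6), (152, 7), (15, 6), (146, 6), (104, 5), (147, 7), (105, 6), (149, 8), (107, 7), (150, 9), (13, 8), (151, 8), (150, 9), (121, 8), (151, 10), (14, 9), (141, 9), (99, 8), (87, 7), (66, 6), (57, 5), (49, 4), (42, 3), (36, 2), (4, 1), (114, 3), (89, 2), (68, 1), (149, 3), (151, 4), (150, 5), (121, 4), (144, 6), (115, 5), (102, 4), (90, 3), (69, 2), (151, 7), (14, 6), (152, 6), (16, 7), (130, 6), (103, 5), (91, 4), (70, 3), (132, 7), (105,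 6), (93, 5), (10, 4), (134, 6), (107, 5), (12, 4), (15, 5), (146, 5), (104, 4), (148, 6), (106, 5), (150, 7), (13, 6), (147, 6), (82, 5), (151, 7), (152, 8), (16, 9), (134, 8), (120, 7), (136, 9), (14, 8), (15, 8), (150, 8), (16, 9), (143, 9), (101, 8), (89, 7), (78, 6), (68, 5), (59, 4), (51, 3), (44, 2), (6, 1), (144, 3), (129, 2), (115, 1), (148, 4), (133, 3), (119, 2), (150, 5), (135, 4), (121, 3), (145, 6), (130, 5), (116, 4), (103, 3), (80, 2), (150, 7), (135, 6), (121, 5), (13, 4), (151, 6), (136, 5), (14, 4), (152, 5), (15, 4), (146, 4), (81, 3), (151, 5), (152, 6), (147, 7), (132, 6), (118, 5), (82, 4), (16, 8), (133, 7), (119, 6), (11, 5), (134, 6), (120, 5), (135, 7), (121, 6), (144, 9), (129, 8), (115, 7), (102, 6), (90, 5), (69, 4), (60, 3), (52, 2), (7, 1), (147, 8), (132, 7), (118, 6), (105, 5), (93, 4), (10, 3), (148, 7), (133, 6), (119, 5), (106, 4), (94, 3), (150, 8), (135, 7), (121, 6), (13, 5), (151, 7), (136, 6), (14, 5),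 (152, 6), (15, 5), (151, 5), (141, 6), (112, 5), (87, 4), (76, 3), (57, 2), (49, 1), (146, 6), (131, 5), (92, 4), (71, 3), (148, 7), (133, 6), (94, 5), (150, 8), (135, 7), (148, 9), (133, 8), (106, 7), (94, 6), (11, 5), (16, 8), (134, 7), (107, 6), (12, 5), (136, 6), (15, 7), (151, 7), (14, 6), (16, 6), (101, 5), (68, 4), (59, 3), (51, 2), (131, 6), (117, 5), (104, 4), (136, 7), (14, 6), (15, 6), (105, 5), (150, 7), (13, 6), (144, 6), (69, 5), (60, 4), (52, 3), (145, 7), (70, 6), (61, 5), (8, 4), (146, 6), (71, 5), (9, 4), (148, 5), (149, 6), (151, 7), (152, 8), (16, 9)]⟩,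
    ⟨0, [1, 1], [], [(56, 2), (48, 1), (3, 0), (130, 2), (103, 1), (80, 0), (132, 3), (105, 2), (82, 1), (133, 4), (106, 3), (11, 2), (134, 3), (107, 2), (136, 4), (15, 5), (117, 4), (104, 3), (92, 2), (71, 1), (118, 5), (105, 4), (93, 3), (10, 2), (120, 4), (107, 3), (12, 2), (121, 3), (13, 2), (14, 2), (61, 1), (8, 0), (9, 0)], [], [(150, 1), (13, 0), (16, 0)], []⟩,
    ⟨1, [0, 0], [], [(137, 6), (83, 5), (62, 4), (53, 3), (20, 2), (17, 1), (0, 0), (138, 5), (123, 4), (28, 3), (24, 2), (21, 1), (19, 0), (98, 8), (86, 7), (75, 6), (48, 5), (41, 4), (30, 3), (26, 2), (142, 6), (88, 5), (67, 4), (149, 6), (16, 7), (151, 7), (152, 8), (16, 9), (129, 8), (115, 7), (90, 6), (69, 5), (132, 9), (118, 8), (93, 7), (10, 6), (134, 8), (120, 7), (12, 6), (135, 7), (121, 6), (136, 8), (14, 7), (130, 7), (103, 6), (132, 8), (105, 7), (133, 9), (106, 8), (134, 10), (107, 9), (136, 11), (15, 12), (119, 11), (106, 10), (94, 9), (11, 8), (149, 11), (120, 10),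 (107, 9), (12, 8), (150, 10), (121, 9), (13, 8), (151, 9), (14, 8), (16, 8), (99, 8), (66, 7), (49, 6), (42, 5), (31, 4), (4, 3), (113, 5), (88, 4), (67, 3), (149, 5), (16, 6), (118, 6), (93, 5), (10, 4), (120, 5), (12, 4), (14, 4), (145, 7), (130, 6), (116, 5), (147, 8), (132, 7), (118, 6), (149, 9), (134, 8), (120, 7), (152, 10), (15, 9), (16, 9), (118, 8), (93, 7), (10, 6), (14, 7), (150, 8), (135, 7), (16, 9), (128, 8), (101, 7), (89, 6), (51, 5), (44, 4), (103, 7), (80, 6), (13, 8), (134, 9), (120, 8), (135, 10), (121, 9), (15, 11), (115, 10), (102, 9), (90, 8), (79, 7), (52, 6), (7, 5), (116, 9), (103, 8), (91, 7), (80, 6), (8, 5), (118, 8), (105, 7), (93, 6), (82, 5), (119, 9), (106, 8), (94, 7), (11, 6), (14, 8), (141, 9), (126, 8), (99, 7), (87, 6), (66, 5), (36, 4), (31, 3), (114, 7), (89, 6), (68, 5), (149, 7), (151, 8), (150, 9), (121, 8), (147, 10), (118, 9), (105, 8), (93, 7), (10, 6), (151, 9), (14, 8), (152, 8), (16, 9), (134,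 8), (107, 7), (12, 6), (136, 7), (15, 8), (150, 8), (121, 7), (13, 6), (16, 7), (146, 8), (131, 7), (117, 6), (150, 9), (135, 8), (121, 7), (16, 10), (127, 9), (113, 8), (100, 7), (58, 6), (37, 5), (5, 4), (146, 6), (104, 5), (150, 7), (13, 6), (16, 6), (128, 8), (114, 7), (101, 6), (59, 5), (6, 4), (146, 6), (131, 5), (117, 4), (151, 7), (136, 6), (14, 5), (152, 6), (15, 5), (150, 5), (151, 6), (152, 7), (146, 8), (131, 7), (117, 6), (104, 5), (9, 4), (149, 7), (134, 6), (120, 5), (107, 4), (16, 8), (15, 7), (139, 7), (110, 6), (97, 5), (85, 4), (25, 3), (22, 2), (2, 1), (140, 3), (35, 2), (30, 1), (143, 5), (128, 4), (114, 3), (147, 6), (132, 5), (118, 4), (149, 7), (134, 6), (120, 5), (150, 8), (135, 7), (121, 6), (16, 9), (142, 9), (127, 8), (113, 7), (100, 6), (88, 5), (67, 4), (37, 3), (5, 2), (147, 4), (105, 3), (16, 5), (107, 4), (150, 6), (13, 5), (151, 5), (152, 6), (16, 7), (133, 6), (119, 5), (94, 4), (15, 7), (112, 6), (87, 5), (76,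 4), (66, 3), (36, 2), (105, 4), (148, 8), (133, 7), (119, 6), (106, 5), (16, 9), (134, 8), (120, 7), (107, 6), (136, 9), (14, 8), (15, 8), (151, 8), (143, 9), (114, 8), (101, 7), (89, 6), (78, 5), (68, 4), (6, 3), (147, 5), (132, 4), (118, 3), (16, 6), (133, 5), (119, 4), (134, 6), (120, 5), (135, 7), (121, 6), (136, 8), (14, 7), (147, 8), (132, 7), (105, 6), (93, 5), (82, 4), (10, 3), (148, 7), (133, 6), (106, 5), (94, 4), (11, 3), (151, 6), (136, 5), (152, 7), (15, 6), (149, 6), (120, 5), (107, 4), (12, 3), (150, 5), (121, 4), (13, 3), (151, 4), (14, 3), (16, 3), (151, 4), (16, 5), (111, 4), (98, 3), (26, 2), (3, 1), (126, 3), (99, 2), (76, 1), (150, 3), (16, 4), (132, 4), (105, 3), (82, 2), (134, 5), (107, 4), (150, 7), (135, 6), (13, 5), (151, 6), (136, 5), (142, 7), (127, 6), (113, 5), (88, 4), (77, 3), (67, 2), (148, 4), (16, 5), (151, 6), (152, 7), (16, 8), (128, 7), (114, 6), (89, 5), (78, 4), (68, 3), (148, 5), (149, 6), (151, 7), (152,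 8), (144, 9), (129, 8), (115, 7), (90, 6), (79, 5), (69, 4), (145, 10), (130, 9), (116, 8), (91, 7), (80, 6), (70, 5), (147, 11), (132, 10), (118, 9), (93, 8), (82, 7), (10, 6), (148, 10), (133, 9), (119, 8), (94, 7), (11, 6), (149, 9), (134, 8), (120, 7), (12, 6), (152, 8), (15, 7), (16, 7), (111, 6), (48, 5), (41, 4), (35, 3), (30, 2), (26, 1), (142, 5), (88, 4), (67, 3), (149, 5), (16, 6), (151, 6), (152, 7), (16, 8), (128, 7), (114, 6), (89, 5), (68, 4), (149, 6), (151, 7), (152, 8), (147, 9), (132, 8), (118, 7), (93, 6), (10, 5), (149, 8), (134, 7), (120, 6), (12, 5), (150, 7), (135, 6), (121, 5), (16, 8), (129, 7), (115, 6), (102, 5), (132, 8), (118, 7), (105, 6), (134, 9), (120, 8), (107, 7), (135, 10), (121, 9), (13, 8), (136, 9), (14, 8), (130, 8), (91, 7), (70, 6), (132, 9), (93, 8), (10, 7), (133, 8), (94, 7), (134, 9), (12, 8), (136, 8), (15, 9), (14, 8), (76, 7), (49, 6), (42, 5), (36, 4), (31, 3), (4, 2), (113, 4), (88, 3), (67,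 2), (149, 4), (16, 5), (118, 5), (93, 4), (10, 3), (120, 4), (12, 3), (14, 3), (102, 4), (145, 8), (130, 7), (116, 6), (103, 5), (147, 9), (132, 8), (118, 7), (105, 6), (149, 10), (134, 9), (120, 8), (107, 7), (152, 11), (15, 10), (16, 10), (119, 9), (106, 8), (94, 7), (142, 11), (113, 10), (100, 9), (88, 8), (77, 7), (67, 6), (50, 5), (43, 4), (37, 3), (5, 2), (144, 4), (102, 3), (147, 5), (105, 4), (149, 6), (107, 5), (145, 7), (103, 6), (91, 5), (70, 4), (152, 8), (147, 9), (132, 8), (105, 7), (93, 6), (10, 5), (16, 8), (133, 7), (106, 6), (94, 5), (149, 9), (134, 8), (107, 7), (12, 6), (16, 8), (135, 7), (13, 6), (136, 6), (143, 8), (128, 7), (114, 6), (78, 5), (51, 4), (44, 3), (6, 2), (144, 4), (129, 3), (115, 2), (148, 5), (133, 4), (119, 3), (150, 6), (135, 5), (121, 4), (145, 7), (130, 6), (116, 5), (103, 4), (80, 3), (150, 8), (135, 7), (121, 6), (13, 5), (151, 7), (136, 6), (14, 5), (152, 6), (15, 5), (148, 5), (11, 4), (151, 4), (152,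 5), (16, 6), (129, 5), (115, 4), (52, 3), (7, 2), (130, 4), (116, 3), (8, 2), (133, 3), (119, 2), (134, 4), (120, 3), (146, 6), (131, 5), (117, 4), (92, 3), (81, 2), (148, 7), (133, 6), (119, 5), (94, 4), (11, 3), (149, 6), (134, 5), (120, 4), (12, 3), (151, 5), (136, 4), (14, 3), (16, 4), (132, 3), (133, 4), (136, 5), (149, 7), (134, 6), (120, 5), (150, 8), (135, 7), (121, 6), (151, 9), (136, 8), (14, 7), (152, 8), (15, 7), (16, 7), (138, 7), (96, 6), (84, 5), (73, 4), (63, 3), (54, 2), (21, 1), (1, 0), (111, 6), (98, 5), (65, 4), (48, 3), (41, 2), (35, 1), (26, 0), (143, 4), (89, 3), (68, 2), (149, 4), (16, 5), (93, 4), (10, 3), (12, 3), (144, 4), (102, 3), (147, 5), (105, 4), (149, 6), (107, 5), (150, 7), (13, 6), (151, 6), (145, 7), (116, 6), (91, 5), (70, 4), (147, 8), (118, 7), (93, 6), (10, 5), (148, 7), (119, 6), (94, 5), (149, 8), (120, 7), (12, 6), (151, 7), (14, 6), (152, 6), (147, 7), (132, 6), (82, 5), (150, 8), (135, 7), (151, 9),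 (136, 8), (16, 10), (135, 9), (121, 8), (13, 7), (136, 8), (14, 7), (126, 7), (76, 6), (66, 5), (49, 4), (42, 3), (36, 2), (4, 1), (114, 3), (89, 2), (68, 1), (149, 3), (151, 4), (150, 5), (121, 4), (144, 6), (115, 5), (102, 4), (90, 3), (69, 2), (151, 7), (14, 6), (152, 6), (16, 7), (130, 6), (103, 5), (91, 4), (70, 3), (132, 7), (105, 6), (93, 5), (10, 4), (134, 6), (107, 5), (12, 4), (15, 5), (147, 5), (105, 4), (151, 6), (152, 7), (16, 8), (133, 7), (119, 6), (106, 5), (152, 9), (15, 8), (143, 8), (114, 7), (101, 6), (78, 5), (68, 4), (51, 3), (44, 2), (6, 1), (144, 3), (129, 2), (115, 1), (148, 4), (133, 3), (119, 2), (150, 5), (135, 4), (121, 3), (145, 6), (130, 5), (116, 4), (103, 3), (80, 2), (150, 7), (135, 6), (121, 5), (13, 4), (151, 6), (136, 5), (14, 4), (152, 5), (15, 4), (147, 4), (82, 3), (16, 5), (11, 4), (144, 6), (115, 5), (102, 4), (69, 3), (52, 2), (7, 1), (145, 5), (116, 4), (103, 3), (70, 2), (8, 1), (147, 4), (118, 3),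 (105, 2), (10, 1), (148, 3), (119, 2), (106, 1), (151, 4), (14, 3), (152, 3), (16, 4), (131, 3), (104, 2), (81, 1), (132, 4), (105, 3), (82, 2), (134, 5), (107, 4), (135, 6), (13, 5), (136, 5), (147, 7), (132, 6), (118, 5), (93, 4), (82, 3), (10, 2), (148, 6), (133, 5), (119, 4), (94, 3), (11, 2), (152, 5), (15, 4), (16, 4), (119, 3), (94, 2), (14, 4), (134, 4), (12, 3), (135, 3), (15, 4), (150, 4), (13, 3), (151, 3), (152, 4), (16, 5), (140, 5), (125, 4), (111, 3), (75, 2), (56, 1), (3, 0), (131, 2), (104, 1), (81, 0), (132, 3), (105, 2), (82, 1), (134, 4), (107, 3), (135, 5), (13, 4), (136, 4), (133, 5), (119, 4), (94, 3), (11, 2), (151, 5), (136, 4), (14, 3), (152, 4), (15, 3), (16, 3), (146, 3), (92, 2), (71, 1), (9, 0), (147, 2), (93, 1), (10, 0), (149, 1), (12, 0), (16, 0)], [], [(137, 8), (62, 7), (53, 6), (45, 5), (32, 4), (23, 3), (18, 2), (17, 1), (0, 0), (138, 5), (123, 4), (28, 3), (24, 2), (21, 1), (19, 0), (98, 8), (86, 7), (75,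 6), (48, 5), (41, 4), (30, 3), (26, 2), (142, 6), (88, 5), (67, 4), (149, 6), (16, 7), (151, 7), (152, 8), (16, 9), (129, 8), (115, 7), (90, 6), (69, 5), (132, 9), (118, 8), (93, 7), (10, 6), (134, 8), (120, 7), (12, 6), (135, 7), (121, 6), (136, 8), (14, 7), (130, 7), (103, 6), (132, 8), (105, 7), (133, 9), (106, 8), (134, 10), (107, 9), (136, 11), (15, 12), (119, 11), (106, 10), (94, 9), (11, 8), (149, 11), (120, 10), (107, 9), (12, 8), (150, 10), (121, 9), (13, 8), (151, 9), (14, 8), (16, 8), (99, 8), (66, 7), (49, 6), (42, 5), (31, 4), (4, 3), (113, 5), (88, 4), (67, 3), (149, 5), (16, 6), (118, 6), (93, 5), (10, 4), (120, 5), (12, 4), (14, 4), (145, 7), (130, 6), (116, 5), (147, 8), (132, 7), (118, 6), (149, 9), (134, 8), (120, 7), (152, 10), (15, 9), (16, 9), (118, 8), (93, 7), (10, 6), (14, 7), (150, 8), (135, 7), (16, 9), (128, 8), (101, 7), (89, 6), (51, 5), (44, 4), (103, 7), (80, 6), (13, 8), (134, 9), (120, 8), (135, 10), (121, 9),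 (15, 11), (115, 10), (102, 9), (90, 8), (79, 7), (52, 6), (7, 5), (116, 9), (103, 8), (91, 7), (80, 6), (8, 5), (118, 8), (105, 7), (93, 6), (82, 5), (119, 9), (106, 8), (94, 7), (11, 6), (14, 8), (141, 9), (126, 8), (99, 7), (87, 6), (66, 5), (36, 4), (31, 3), (114, 7), (89, 6), (68, 5), (149, 7), (151, 8), (150, 9), (121, 8), (147, 10), (118, 9), (105, 8), (93, 7), (10, 6), (151, 9), (14, 8), (152, 8), (16, 9), (134, 8), (107, 7), (12, 6), (136, 7), (15, 8), (150, 8), (121, 7), (13, 6), (16, 7), (146, 8), (131, 7), (117, 6), (150, 9), (135, 8), (121, 7), (16, 10), (127, 9), (113, 8), (100, 7), (58, 6), (37, 5), (5, 4), (146, 6), (104, 5), (150, 7), (13, 6), (16, 6), (128, 8), (114, 7), (101, 6), (59, 5), (6, 4), (146, 6), (131, 5), (117, 4), (151, 7), (136, 6), (14, 5), (152, 6), (15, 5), (150, 5), (151, 6), (152, 7), (146, 8), (131, 7), (117, 6), (104, 5), (9, 4), (149, 7), (134, 6), (120, 5), (107, 4), (16, 8), (15, 7), (139, 7), (110, 6),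 (97, 5), (85, 4), (25, 3), (22, 2), (2, 1), (140, 3), (35, 2), (30, 1), (143, 5), (128, 4), (114, 3), (147, 6), (132, 5), (118, 4), (149, 7), (134, 6), (120, 5), (150, 8), (135, 7), (121, 6), (16, 9), (142, 9), (127, 8), (113, 7), (100, 6), (88, 5), (67, 4), (37, 3), (5, 2), (147, 4), (105, 3), (16, 5), (107, 4), (150, 6), (13, 5), (151, 5), (152, 6), (16, 7), (133, 6), (119, 5), (94, 4), (15, 7), (112, 6), (87, 5), (76, 4), (66, 3), (36, 2), (105, 4), (148, 8), (133, 7), (119, 6), (106, 5), (16, 9), (134, 8), (120, 7), (107, 6), (136, 9), (14, 8), (15, 8), (151, 8), (143, 9), (114, 8), (101, 7), (89, 6), (78, 5), (68, 4), (6, 3), (147, 5), (132, 4), (118, 3), (16, 6), (133, 5), (119, 4), (134, 6), (120, 5), (135, 7), (121, 6), (136, 8), (14, 7), (147, 8), (132, 7), (105, 6), (93, 5), (82, 4), (10, 3), (148, 7), (133, 6), (106, 5), (94, 4), (11, 3), (151, 6), (136, 5), (152, 7), (15, 6), (149, 6), (120, 5), (107, 4), (12, 3), (150, 5), (121, 4),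 (13, 3), (151, 4), (14, 3), (16, 3), (151, 4), (16, 5), (111, 4), (98, 3), (26, 2), (3, 1), (126, 3), (99, 2), (76, 1), (150, 3), (16, 4), (132, 4), (105, 3), (82, 2), (134, 5), (107, 4), (150, 7), (135, 6), (13, 5), (151, 6), (136, 5), (142, 7), (127, 6), (113, 5), (88, 4), (77, 3), (67, 2), (148, 4), (16, 5), (151, 6), (152, 7), (16, 8), (128, 7), (114, 6), (89, 5), (78, 4), (68, 3), (148, 5), (149, 6), (151, 7), (152, 8), (144, 9), (129, 8), (115, 7), (90, 6), (79, 5), (69, 4), (145, 10), (130, 9), (116, 8), (91, 7), (80, 6), (70, 5), (147, 11), (132, 10), (118, 9), (93, 8), (82, 7), (10, 6), (148, 10), (133, 9), (119, 8), (94, 7), (11, 6), (149, 9), (134, 8), (120, 7), (12, 6), (152, 8), (15, 7), (16, 7), (110, 6), (47, 5), (40, 4), (34, 3), (29, 2), (25, 1), (127, 7), (113, 6), (77, 5), (67, 4), (37, 3), (147, 6), (105, 5), (16, 7), (106, 6), (151, 8), (152, 9), (147, 10), (132, 9), (118, 8), (105, 7), (82, 6), (10, 5), (149, 9), (134, 8),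 (120, 7), (107, 6), (150, 10), (135, 9), (121, 8), (13, 7), (143, 9), (128, 8), (114, 7), (89, 6), (78, 5), (6, 4), (148, 6), (133, 5), (119, 4), (149, 7), (134, 6), (120, 5), (151, 8), (136, 7), (14, 6), (152, 7), (15, 6), (16, 6), (93, 5), (82, 4), (12, 6), (144, 7), (102, 6), (79, 5), (69, 4), (146, 8), (104, 7), (81, 6), (71, 5), (147, 9), (105, 8), (82, 7), (10, 6), (150, 8), (13, 7), (151, 7), (16, 8), (116, 7), (80, 6), (61, 5), (120, 8), (121, 9), (14, 10), (99, 9), (87, 8), (76, 7), (57, 6), (49, 5), (42, 4), (31, 3), (4, 2), (113, 4), (88, 3), (67, 2), (149, 4), (16, 5), (118, 5), (93, 4), (10, 3), (120, 4), (12, 3), (14, 3), (145, 6), (130, 5), (116, 4), (147, 7), (132, 6), (118, 5), (149, 8), (134, 7), (120, 6), (152, 9), (15, 8), (16, 8), (117, 7), (92, 6), (71, 5), (119, 8), (94, 7), (121, 9), (119, 10), (106, 9), (94, 8), (11, 7), (149, 10), (120, 9), (107, 8), (12, 7), (151, 9), (14, 8), (152, 8), (16, 9), (135, 8), (13, 7), (143,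 8), (128, 7), (68, 6), (59, 5), (51, 4), (44, 3), (103, 6), (80, 5), (13, 7), (131, 8), (117, 7), (81, 6), (136, 9), (14, 8), (15, 8), (82, 7), (152, 9), (16, 10), (129, 9), (79, 8), (69, 7), (60, 6), (52, 5), (7, 4), (133, 8), (11, 7), (136, 7), (15, 8), (141, 8), (112, 7), (66, 6), (57, 5), (49, 4), (36, 3), (31, 2), (114, 6), (89, 5), (68, 4), (149, 6), (151, 7), (150, 8), (121, 7), (145, 9), (116, 8), (103, 7), (91, 6), (70, 5), (147, 10), (118, 9), (105, 8), (93, 7), (10, 6), (149, 9), (120, 8), (107, 7), (12, 6), (152, 8), (16, 9), (131, 8), (117, 7), (104, 6), (133, 9), (119, 8), (106, 7), (135, 10), (121, 9), (13, 8), (132, 9), (118, 8), (82, 7), (136, 10), (14, 9), (15, 9), (151, 9), (16, 10), (113, 9), (77, 8), (67, 7), (58, 6), (50, 5), (37, 4), (5, 3), (145, 5), (103, 4), (152, 6), (146, 7), (131, 6), (104, 5), (150, 8), (135, 7), (13, 6), (16, 7), (132, 6), (148, 8), (133, 7), (16, 9), (136, 8), (128, 9), (114, 8), (78, 7), (68, 6),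 (59, 5), (51, 4), (6, 3), (145, 5), (130, 4), (116, 3), (150, 6), (135, 5), (121, 4), (151, 7), (136, 6), (14, 5), (152, 6), (15, 5), (146, 5), (104, 4), (151, 6), (152, 7), (147, 8), (132, 7), (118, 6), (105, 5), (16, 9), (133, 8), (119, 7), (106, 6), (136, 9), (14, 8), (15, 8), (103, 7), (80, 6), (70, 5), (61, 4), (8, 3), (104, 6), (81, 5), (71, 4), (9, 3), (105, 5), (82, 4), (10, 3), (106, 4), (11, 3), (107, 3), (143, 6), (128, 5), (101, 4), (89, 3), (148, 7), (133, 6), (106, 5), (94, 4), (149, 8), (134, 7), (107, 6), (12, 5), (16, 7), (130, 6), (103, 5), (80, 4), (131, 7), (104, 6), (81, 5), (15, 8), (104, 7), (81, 6), (9, 5), (106, 6), (11, 5), (107, 5), (147, 8), (118, 7), (105, 6), (93, 5), (148, 9), (119, 8), (106, 7), (94, 6), (151, 10), (14, 9), (16, 9), (138, 9), (96, 8), (84, 7), (73, 6), (63, 5), (46, 4), (33, 3), (24, 2), (19, 1), (1, 0), (110, 6), (97, 5), (64, 4), (47, 3), (40, 2), (34, 1), (25, 0), (128, 6), (114, 5), (78, 4),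 (68, 3), (6, 2), (147, 4), (132, 3), (118, 2), (16, 5), (133, 4), (119, 3), (136, 5), (14, 4), (15, 4), (82, 3), (10, 2), (144, 5), (102, 4), (90, 3), (79, 2), (146, 6), (104, 5), (92, 4), (81, 3), (147, 7), (105, 6), (93, 5), (82, 4), (150, 8), (13, 7), (151, 7), (16, 8), (116, 7), (91, 6), (80, 5), (70, 4), (61, 3), (120, 8), (12, 7), (121, 7), (118, 8), (105, 7), (82, 6), (10, 5), (14, 7), (150, 7), (13, 6), (16, 6), (112, 6), (76, 5), (57, 4), (49, 3), (42, 2), (4, 1), (115, 3), (90, 2), (69, 1), (14, 4), (145, 5), (130, 4), (91, 3), (70, 2), (147, 6), (132, 5), (93, 4), (10, 3), (149, 5), (134, 4), (12, 3), (152, 4), (15, 3), (16, 3), (106, 5), (11, 4), (151, 5), (142, 6), (113, 5), (100, 4), (58, 3), (50, 2), (43, 1), (91, 4), (70, 3), (131, 6), (92, 5), (71, 4), (135, 7), (150, 9), (135, 8), (13, 7), (151, 8), (136, 7), (16, 9), (129, 8), (115, 7), (90, 6), (69, 5), (60, 4), (52, 3), (7, 2), (130, 7), (116, 6), (91, 5), (70, 4), (61, 3),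 (8, 2), (133, 6), (119, 5), (94, 4), (134, 7), (120, 6), (12, 5), (135, 6), (121, 5), (126, 7), (112, 6), (99, 5), (76, 4), (66, 3), (57, 2), (31, 1), (117, 5), (92, 4), (71, 3), (119, 6), (94, 5), (121, 7), (118, 8), (105, 7), (93, 6), (82, 5), (10, 4), (14, 7), (148, 8), (133, 7), (106, 6), (94, 5), (11, 4), (16, 7), (135, 6), (13, 5), (151, 6), (136, 5), (152, 7), (15, 6), (146, 6), (117, 5), (92, 4), (9, 3), (150, 5), (121, 4), (16, 6), (114, 5), (101, 4), (89, 3), (118, 6), (105, 5), (93, 4), (120, 7), (107, 6), (12, 5), (121, 6), (13, 5), (116, 5), (70, 4), (117, 6), (71, 5), (119, 7), (121, 8), (147, 10), (118, 9), (105, 8), (82, 7), (10, 6), (148, 9), (119, 8), (106, 7), (11, 6), (152, 8), (16, 9), (133, 8), (119, 7), (106, 6), (136, 9), (14, 8), (15, 8), (107, 7), (13, 8), (150, 9), (135, 8), (151, 10), (136, 9), (152, 11), (15, 10), (16, 10), (139, 10), (110, 9), (97, 8), (85, 7), (74, 6), (55, 5), (47, 4), (34, 3), (29, 2), (25, 1),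 (2, 0), (141, 2), (36, 1), (31, 0), (114, 4), (89, 3), (68, 2), (149, 4), (151, 5), (150, 6), (121, 5), (16, 7), (114, 6), (101, 5), (89, 4), (68, 3), (6, 2), (147, 4), (132, 3), (118, 2), (16, 5), (134, 4), (120, 3), (135, 5), (121, 4), (136, 6), (14, 5), (132, 5), (105, 4), (93, 3), (10, 2), (133, 4), (106, 3), (94, 2), (136, 5), (15, 6), (113, 5), (100, 4), (88, 3), (77, 2), (5, 1), (149, 2), (16, 3), (118, 4), (105, 3), (93, 2), (82, 1), (120, 5), (107, 4), (12, 3), (121, 4), (13, 3), (114, 3), (78, 2), (68, 1), (148, 3), (151, 4), (147, 5), (118, 4), (82, 3), (10, 2), (149, 4), (120, 3), (150, 5), (121, 4), (16, 6), (116, 5), (103, 4), (91, 3), (80, 2), (120, 6), (107, 5), (12, 4), (121, 5), (13, 4), (117, 4), (81, 3), (118, 5), (82, 4), (119, 6), (11, 5), (120, 5), (121, 6), (14, 7), (148, 7), (106, 6), (94, 5), (151, 8), (152, 9), (149, 10), (134, 9), (120, 8), (107, 7), (12, 6), (150, 9), (135, 8), (121, 7), (13, 6), (151, 8), (136, 7),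 (14, 6), (16, 7), (135, 6), (151, 8), (136, 7), (16, 9), (126, 8), (112, 7), (99, 6), (76, 5), (66, 4), (57, 3), (49, 2), (36, 1), (4, 0), (114, 2), (89, 1), (68, 0), (149, 2), (151, 3), (150, 4), (121, 3), (145, 5), (116, 4), (103, 3), (91, 2), (70, 1), (147, 6), (118, 5), (105, 4), (93, 3), (10, 2), (149, 5), (120, 4), (107, 3), (12, 2), (152, 4), (16, 5), (131, 4), (117, 3), (104, 2), (133, 5), (119, 4), (106, 3), (135, 6), (121, 5), (13, 4), (132, 5), (118, 4), (82, 3), (136, 6), (14, 5), (15, 5), (148, 5), (11, 4), (16, 4), (151, 5), (152, 6), (143, 7), (128, 6), (114, 5), (101, 4), (68, 3), (59, 2), (51, 1), (6, 0), (145, 2), (130, 1), (116, 0), (150, 3), (135, 2), (121, 1), (151, 4), (136, 3), (14, 2), (152, 3), (15, 2), (146, 2), (104, 1), (151, 3), (152, 4), (147, 5), (132, 4), (118, 3), (105, 2), (16, 6), (135, 5), (121, 4), (13, 3), (136, 4), (14, 3), (15, 3), (145, 3), (70, 2), (61, 1), (8, 0), (146, 2), (71, 1), (9, 0), (147, 1),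 (10, 0), (16, 0)], []⟩,
    ⟨1, [1, 0], [0, 1], [(137, 6), (83, 5), (53, 4), (45, 3), (23, 2), (20, 1), (18, 0), (140, 8), (125, 7), (111, 6), (75, 5), (41, 4), (35, 3), (26, 2), (143, 6), (89, 5), (68, 4), (149, 6), (16, 7), (93, 6), (10, 5), (12, 5), (144, 6), (102, 5), (147, 7), (105, 6), (149, 8), (107, 7), (150, 9), (13, 8), (151, 8), (148, 9), (119, 8), (94, 7), (16, 10), (14, 9), (16, 10), (126, 9), (87, 8), (76, 7), (66, 6), (42, 5), (36, 4), (4, 3), (114, 5), (89, 4), (68, 3), (149, 5), (151, 6), (150, 7), (121, 6), (144, 8), (115, 7), (102, 6), (90, 5), (69, 4), (151, 9), (14, 8), (152, 8), (16, 9), (132, 8), (105, 7), (93, 6), (10, 5), (136, 7), (15, 8), (148, 8), (119, 7), (106, 6), (94, 5), (16, 9), (120, 8), (107, 7), (12, 6), (14, 7), (152, 8), (15, 7), (142, 7), (100, 6), (77, 5), (43, 4), (37, 3), (144, 6), (102, 5), (147, 7), (105, 6), (149, 8), (107, 7), (148, 9), (106, 8), (94, 7), (16, 10), (13, 9), (143, 9), (89, 8), (78,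 7), (68, 6), (44, 5), (6, 4), (144, 6), (129, 5), (115, 4), (148, 7), (133, 6), (119, 5), (150, 8), (135, 7), (121, 6), (147, 9), (132, 8), (118, 7), (105, 6), (82, 5), (16, 10), (133, 9), (119, 8), (106, 7), (11, 6), (134, 8), (120, 7), (107, 6), (144, 10), (129, 9), (115, 8), (102, 7), (90, 6), (69, 5), (7, 4), (145, 9), (130, 8), (116, 7), (103, 6), (91, 5), (70, 4), (148, 10), (133, 9), (119, 8), (106, 7), (94, 6), (149, 11), (134, 10), (120, 9), (107, 8), (12, 7), (16, 10), (126, 9), (112, 8), (99, 7), (76, 6), (66, 5), (49, 4), (31, 3), (116, 7), (91, 6), (70, 5), (118, 8), (93, 7), (10, 6), (120, 7), (12, 6), (147, 8), (132, 7), (118, 6), (151, 9), (136, 8), (14, 7), (152, 8), (15, 7), (16, 7), (150, 8), (16, 9), (127, 10), (113, 9), (100, 8), (77, 7), (67, 6), (50, 5), (5, 4), (132, 5), (148, 7), (133, 6), (16, 8), (135, 7), (136, 8), (15, 9), (114, 8), (101, 7), (78, 6), (68, 5), (51, 4), (132, 8), (118, 7), (105, 6), (148, 10), (133,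 9), (119, 8), (106, 7), (150, 11), (135, 10), (121, 9), (13, 8), (151, 10), (136, 9), (14, 8), (145, 9), (130, 8), (80, 7), (70, 6), (8, 5), (146, 8), (131, 7), (81, 6), (71, 5), (147, 9), (132, 8), (82, 7), (10, 6), (148, 8), (133, 7), (11, 6), (149, 7), (134, 6), (152, 8), (15, 7), (16, 7), (91, 6), (61, 5), (92, 7), (9, 6), (131, 7), (92, 6), (133, 8), (94, 7), (134, 9), (12, 8), (136, 8), (149, 10), (134, 9), (120, 8), (150, 11), (135, 10), (121, 9), (151, 12), (136, 11), (14, 10), (152, 11), (15, 10), (16, 10), (138, 10), (96, 9), (84, 8), (73, 7), (54, 6), (46, 5), (33, 4), (24, 3), (21, 2), (19, 1), (98, 9), (86, 8), (75, 7), (48, 6), (41, 5), (30, 4), (26, 3), (142, 7), (88, 6), (67, 5), (149, 7), (16, 8), (151, 8), (152, 9), (16, 10), (129, 9), (115, 8), (90, 7), (69, 6), (132, 10), (118, 9), (93, 8), (10, 7), (134, 9), (120, 8), (12, 7), (135, 8), (121, 7), (136, 9), (14, 8), (130, 8), (103, 7), (132, 9), (105, 8), (133, 10), (106, 9),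 (134, 11), (107, 10), (136, 12), (15, 13), (119, 12), (106, 11), (94, 10), (11, 9), (149, 12), (120, 11), (107, 10), (12, 9), (150, 11), (121, 10), (13, 9), (151, 10), (14, 9), (16, 9), (99, 9), (66, 8), (49, 7), (42, 6), (31, 5), (4, 4), (113, 6), (88, 5), (67, 4), (149, 6), (16, 7), (118, 7), (93, 6), (10, 5), (120, 6), (12, 5), (14, 5), (145, 8), (130, 7), (116, 6), (147, 9), (132, 8), (118, 7), (149, 10), (134, 9), (120, 8), (152, 11), (15, 10), (16, 10), (118, 9), (93, 8), (10, 7), (14, 8), (150, 9), (135, 8), (16, 10), (128, 9), (101, 8), (89, 7), (51, 6), (44, 5), (103, 8), (80, 7), (13, 9), (134, 10), (120, 9), (135, 11), (121, 10), (15, 12), (115, 11), (102, 10), (90, 9), (79, 8), (52, 7), (7, 6), (116, 10), (103, 9), (91, 8), (80, 7), (8, 6), (118, 9), (105, 8), (93, 7), (82, 6), (119, 10), (106, 9), (94, 8), (11, 7), (14, 9), (141, 10), (126, 9), (99, 8), (87, 7), (66, 6), (36, 5), (31, 4), (114, 8), (89, 7), (68, 6), (149, 8), (151,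 9), (150, 10), (121, 9), (147, 11), (118, 10), (105, 9), (93, 8), (10, 7), (151, 10), (14, 9), (152, 9), (16, 10), (134, 9), (107, 8), (12, 7), (136, 8), (15, 9), (150, 9), (121, 8), (13, 7), (16, 8), (146, 9), (131, 8), (117, 7), (150, 10), (135, 9), (121, 8), (16, 11), (128, 10), (114, 9), (101, 8), (59, 7), (6, 6), (146, 8), (131, 7), (117, 6), (151, 9), (136, 8), (14, 7), (152, 8), (15, 7), (150, 7), (151, 8), (152, 9), (147, 10), (132, 9), (118, 8), (105, 7), (149, 11), (134, 10), (120, 9), (107, 8), (150, 12), (135, 11), (121, 10), (13, 9), (145, 11), (130, 10), (116, 9), (91, 8), (70, 7), (61, 6), (146, 12), (131, 11), (117, 10), (92, 9), (71, 8), (9, 7), (148, 11), (133, 10), (119, 9), (94, 8), (150, 12), (135, 11), (121, 10), (16, 13), (131, 12), (117, 11), (104, 10), (92, 9), (81, 8), (71, 7), (132, 13), (118, 12), (105, 11), (93, 10), (82, 9), (10, 8), (134, 12), (120, 11), (107, 10), (12, 9), (135, 11), (121, 10), (13, 9), (136, 10),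 (14, 9), (148, 10), (133, 9), (11, 8), (151, 9), (136, 8), (152, 10), (15, 9), (149, 9), (120, 8), (150, 10), (121, 9), (152, 11), (16, 12), (135, 11), (121, 10), (13, 9), (136, 10), (14, 9), (15, 9), (16, 9), (86, 8), (56, 7), (48, 6), (30, 5), (26, 4), (3, 3), (126, 5), (99, 4), (76, 3), (150, 5), (16, 6), (132, 6), (105, 5), (82, 4), (134, 7), (107, 6), (142, 9), (127, 8), (100, 7), (88, 6), (77, 5), (67, 4), (148, 6), (16, 7), (150, 8), (152, 9), (16, 10), (136, 9), (15, 10), (145, 10), (116, 9), (103, 8), (91, 7), (80, 6), (70, 5), (147, 11), (118, 10), (105, 9), (93, 8), (82, 7), (10, 6), (148, 10), (119, 9), (106, 8), (94, 7), (11, 6), (149, 9), (120, 8), (107, 7), (12, 6), (151, 8), (14, 7), (152, 7), (146, 8), (131, 7), (104, 6), (147, 9), (132, 8), (105, 7), (149, 10), (134, 9), (107, 8), (150, 11), (135, 10), (13, 9), (151, 10), (136, 9), (149, 11), (134, 10), (120, 9), (12, 8), (150, 10), (135, 9), (121, 8), (151, 11), (136, 10), (14,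 9), (16, 10), (131, 9), (104, 8), (71, 7), (9, 6), (132, 8), (105, 7), (10, 6), (134, 7), (107, 6)], [(139, 6), (85, 5), (64, 4), (55, 3), (22, 2), (131, 6), (81, 5), (132, 7), (82, 6), (133, 8), (11, 7), (134, 7), (135, 8), (136, 9), (147, 11), (132, 10), (118, 9), (105, 8), (93, 7), (10, 6), (151, 10), (136, 9), (14, 8), (16, 9), (134, 8), (107, 7), (12, 6), (135, 7), (13, 6), (136, 6), (16, 8), (125, 7), (111, 6), (56, 5), (30, 4), (3, 3), (127, 5), (100, 4), (77, 3), (150, 5), (152, 6), (151, 7), (136, 6), (152, 8), (15, 7), (16, 7), (117, 6), (104, 5), (81, 4), (118, 7), (105, 6), (82, 5), (120, 8), (107, 7), (121, 9), (13, 8), (14, 8), (141, 10), (126, 9), (112, 8), (87, 7), (76, 6), (66, 5), (57, 4), (31, 3), (117, 7), (92, 6), (71, 5), (119, 8), (94, 7), (121, 9), (118, 10), (105, 9), (93, 8), (82, 7), (10, 6), (14, 9), (148, 10), (133, 9), (106, 8), (94, 7), (11, 6), (16, 9), (134, 8), (107, 7), (12, 6), (136, 7), (15, 8), (151, 8), (14,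 7), (152, 7), (16, 8), (130, 7), (103, 6), (61, 5), (131, 8), (104, 7), (9, 6), (134, 7), (107, 6)], [(137, 7), (122, 6), (108, 5), (83, 4), (62, 3), (53, 2), (32, 1), (27, 0), (143, 5), (89, 4), (59, 3), (6, 2), (146, 4), (131, 3), (117, 2), (151, 5), (136, 4), (14, 3), (152, 4), (15, 3), (149, 3), (16, 4), (94, 3), (12, 4), (146, 4), (81, 3), (9, 2), (148, 3), (11, 2), (149, 2), (151, 3), (16, 4), (118, 3), (93, 2), (119, 4), (94, 3), (14, 5), (149, 5), (12, 4), (150, 4), (151, 5), (152, 6), (16, 7), (136, 6), (14, 5), (152, 6), (15, 5), (16, 5), (138, 5), (96, 4), (73, 3), (63, 2), (28, 1), (147, 6), (93, 5), (148, 7), (94, 6), (152, 8), (16, 9), (133, 8), (94, 7), (11, 6), (136, 7), (15, 8), (121, 7), (14, 8), (16, 9), (124, 8), (97, 7), (85, 6), (64, 5), (55, 4), (34, 3), (29, 2), (101, 6), (89, 5), (68, 4), (149, 6), (150, 7), (147, 8), (105, 7), (93, 6), (10, 5), (149, 7), (107, 6), (12, 5), (150, 6), (13, 5), (16, 5), (147, 11), (118,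 10), (105, 9), (93, 8), (82, 7), (10, 6), (151, 10), (14, 9), (16, 9), (107, 8), (12, 7), (13, 7), (150, 8), (121, 7), (16, 9), (141, 10), (126, 9), (112, 8), (99, 7), (76, 6), (57, 5), (36, 4), (31, 3), (114, 7), (89, 6), (68, 5), (149, 7), (151, 8), (150, 9), (121, 8), (146, 10), (117, 9), (104, 8), (92, 7), (71, 6), (148, 11), (119, 10), (106, 9), (94, 8), (150, 12), (121, 11), (13, 10), (148, 11), (119, 10), (94, 9), (11, 8), (16, 10), (121, 9), (151, 11), (14, 10), (152, 10), (16, 11), (128, 10), (101, 9), (89, 8), (68, 7), (59, 6), (6, 5), (146, 7), (131, 6), (117, 5), (151, 8), (136, 7), (14, 6), (152, 7), (15, 6), (147, 6), (16, 7), (130, 9), (103, 8), (91, 7), (70, 6), (61, 5), (131, 10), (104, 9), (92, 8), (71, 7), (9, 6), (132, 9), (105, 8), (93, 7), (10, 6)], [(142, 8), (67, 7), (58, 6), (50, 5), (37, 4), (145, 7), (103, 6), (152, 8), (146, 9), (131, 8), (104, 7), (150, 10), (135, 9), (13, 8), (16, 9), (132, 8), (16, 10), (128, 9),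 (68, 8), (59, 7), (51, 6), (6, 5), (145, 7), (130, 6), (116, 5), (150, 8), (135, 7), (121, 6), (151, 9), (136, 8), (14, 7), (152, 8), (15, 7), (146, 7), (104, 6), (151, 8), (152, 9), (147, 10), (132, 9), (118, 8), (105, 7), (16, 11), (15, 10), (117, 9), (104, 8), (71, 7), (9, 6), (118, 8), (105, 7), (10, 6), (120, 7), (107, 6), (14, 8)]⟩,
    ⟨1, [2, 2], [], [(5, 0)], [], [(139, 7), (85, 6), (55, 5), (47, 4), (29, 3), (25, 2), (22, 1), (2, 0), (140, 2), (35, 1), (30, 0), (143, 4), (128, 3), (114, 2), (147, 5), (132, 4), (118, 3), (149, 6), (134, 5), (120, 4), (150, 7), (135, 6), (121, 5), (16, 8), (142, 8), (127, 7), (113, 6), (100, 5), (88, 4), (67, 3), (37, 2), (5, 1), (147, 3), (105, 2), (16, 4), (107, 3), (150, 5), (13, 4), (151, 4), (152, 5), (16, 6), (133, 5), (119, 4), (94, 3), (15, 6), (112, 5), (87, 4), (76, 3), (66, 2), (36, 1), (105, 3), (148, 7), (133, 6), (119, 5), (106, 4), (16, 8), (134, 7), (120, 6), (107, 5), (136, 8), (14, 7),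 (15, 7), (151, 7), (143, 8), (114, 7), (101, 6), (89, 5), (78, 4), (68, 3), (6, 2), (147, 4), (132, 3), (118, 2), (16, 5), (133, 4), (119, 3), (134, 5), (120, 4), (135, 6), (121, 5), (136, 7), (14, 6), (147, 7), (132, 6), (105, 5), (93, 4), (82, 3), (10, 2), (148, 6), (133, 5), (106, 4), (94, 3), (11, 2), (151, 5), (136, 4), (152, 6), (15, 5), (142, 5), (113, 4), (100, 3), (88, 2), (150, 4), (151, 5), (16, 6), (118, 5), (105, 4), (93, 3), (120, 6), (107, 5), (12, 4), (121, 5), (13, 4), (116, 4), (70, 3), (120, 5), (121, 6), (117, 7), (104, 6), (92, 5), (71, 4), (118, 8), (105, 7), (93, 6), (10, 5), (119, 7), (106, 6), (94, 5), (120, 8), (107, 7), (12, 6), (121, 7), (13, 6), (14, 6), (149, 6), (150, 7), (151, 8), (16, 9), (140, 9), (111, 8), (98, 7), (86, 6), (75, 5), (56, 4), (48, 3), (30, 2), (26, 1), (3, 0), (126, 2), (99, 1), (76, 0), (150, 2), (16, 3), (132, 3), (105, 2), (82, 1), (134, 4), (107, 3), (142, 6), (127, 5), (100, 4), (88, 3),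 (77, 2), (67, 1), (148, 3), (16, 4), (150, 5), (152, 6), (16, 7), (136, 6), (15, 7), (145, 7), (116, 6), (103, 5), (91, 4), (80, 3), (70, 2), (147, 8), (118, 7), (105, 6), (93, 5), (82, 4), (10, 3), (148, 7), (119, 6), (106, 5), (94, 4), (11, 3), (149, 6), (120, 5), (107, 4), (12, 3), (151, 5), (14, 4), (152, 4), (146, 5), (131, 4), (104, 3), (147, 6), (132, 5), (105, 4), (149, 7), (134, 6), (107, 5), (150, 8), (135, 7), (13, 6), (151, 7), (136, 6), (148, 8), (133, 7), (119, 6), (94, 5), (16, 9), (134, 8), (120, 7), (12, 6), (135, 7), (121, 6), (136, 8), (14, 7), (150, 8), (135, 7), (13, 6), (151, 7), (136, 6), (16, 8), (126, 7), (112, 6), (76, 5), (66, 4), (57, 3), (49, 2), (31, 1), (4, 0), (113, 2), (88, 1), (67, 0), (149, 2), (16, 3), (118, 3), (93, 2), (10, 1), (120, 2), (12, 1), (14, 1), (146, 5), (131, 4), (92, 3), (71, 2), (148, 6), (133, 5), (94, 4), (150, 7), (135, 6), (147, 8), (132, 7), (105, 6), (93, 5), (82, 4), (10, 3), (151, 7),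 (136, 6), (152, 8), (15, 7), (16, 7), (119, 6), (106, 5), (94, 4), (11, 3), (151, 6), (14, 5), (152, 5), (142, 6), (127, 5), (100, 4), (88, 3), (58, 2), (50, 1), (5, 0), (131, 1), (135, 2), (149, 4), (134, 3), (107, 2), (16, 5), (135, 4), (13, 3), (15, 3), (145, 3), (91, 2), (61, 1), (8, 0), (146, 2), (92, 1), (9, 0), (149, 1), (12, 0), (16, 0)], []⟩,
    ⟨1, [3, 3], [], [(143, 4), (89, 3), (68, 2), (59, 1), (6, 0), (146, 2), (131, 1), (117, 0), (151, 3), (136, 2), (14, 1), (152, 2), (15, 1), (147, 1), (16, 2), (146, 3), (92, 2), (71, 1), (9, 0), (147, 2), (93, 1), (10, 0), (149, 1), (12, 0), (16, 0)], [], [(108, 9), (62, 8), (53, 7), (45, 6), (32, 5), (27, 4), (23, 3), (18, 2), (17, 1), (0, 0), (138, 5), (123, 4), (28, 3), (24, 2), (21, 1), (19, 0), (98, 8), (86, 7), (75, 6), (48, 5), (41, 4), (30, 3), (26, 2), (142, 6), (88, 5), (67, 4), (149, 6), (16, 7), (151, 7), (152, 8), (16, 9), (129, 8), (115, 7), (90, 6), (69, 5), (132, 9), (118, 8),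 (93, 7), (10, 6), (134, 8), (120, 7), (12, 6), (135, 7), (121, 6), (136, 8), (14, 7), (130, 7), (103, 6), (132, 8), (105, 7), (133, 9), (106, 8), (134, 10), (107, 9), (136, 11), (15, 12), (119, 11), (106, 10), (94, 9), (11, 8), (149, 11), (120, 10), (107, 9), (12, 8), (150, 10), (121, 9), (13, 8), (151, 9), (14, 8), (16, 8), (99, 8), (66, 7), (49, 6), (42, 5), (31, 4), (4, 3), (113, 5), (88, 4), (67, 3), (149, 5), (16, 6), (118, 6), (93, 5), (10, 4), (120, 5), (12, 4), (14, 4), (145, 7), (130, 6), (116, 5), (147, 8), (132, 7), (118, 6), (149, 9), (134, 8), (120, 7), (152, 10), (15, 9), (16, 9), (118, 8), (93, 7), (10, 6), (14, 7), (150, 8), (135, 7), (16, 9), (128, 8), (101, 7), (89, 6), (51, 5), (44, 4), (103, 7), (80, 6), (13, 8), (134, 9), (120, 8), (135, 10), (121, 9), (15, 11), (115, 10), (102, 9), (90, 8), (79, 7), (52, 6), (7, 5), (116, 9), (103, 8), (91, 7), (80, 6), (8, 5), (118, 8), (105, 7), (93, 6), (82, 5), (119, 9), (106, 8), (94,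 7), (11, 6), (14, 8), (141, 9), (126, 8), (99, 7), (87, 6), (66, 5), (36, 4), (31, 3), (114, 7), (89, 6), (68, 5), (149, 7), (151, 8), (150, 9), (121, 8), (147, 10), (118, 9), (105, 8), (93, 7), (10, 6), (151, 9), (14, 8), (152, 8), (16, 9), (134, 8), (107, 7), (12, 6), (136, 7), (15, 8), (150, 8), (121, 7), (13, 6), (16, 7), (146, 8), (131, 7), (117, 6), (150, 9), (135, 8), (121, 7), (16, 10), (127, 9), (113, 8), (100, 7), (58, 6), (37, 5), (5, 4), (146, 6), (104, 5), (150, 7), (13, 6), (16, 6), (128, 8), (114, 7), (101, 6), (59, 5), (6, 4), (146, 6), (131, 5), (117, 4), (151, 7), (136, 6), (14, 5), (152, 6), (15, 5), (150, 5), (151, 6), (152, 7), (146, 8), (131, 7), (117, 6), (104, 5), (9, 4), (149, 7), (134, 6), (120, 5), (107, 4), (16, 8), (15, 7), (139, 7), (110, 6), (97, 5), (85, 4), (25, 3), (22, 2), (2, 1), (140, 3), (35, 2), (30, 1), (143, 5), (128, 4), (114, 3), (147, 6), (132, 5), (118, 4), (149, 7), (134, 6), (120, 5), (150, 8), (135,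 7), (121, 6), (16, 9), (142, 9), (127, 8), (113, 7), (100, 6), (88, 5), (67, 4), (37, 3), (5, 2), (147, 4), (105, 3), (16, 5), (107, 4), (150, 6), (13, 5), (151, 5), (152, 6), (16, 7), (133, 6), (119, 5), (94, 4), (15, 7), (112, 6), (87, 5), (76, 4), (66, 3), (36, 2), (105, 4), (148, 8), (133, 7), (119, 6), (106, 5), (16, 9), (134, 8), (120, 7), (107, 6), (136, 9), (14, 8), (15, 8), (151, 8), (143, 9), (114, 8), (101, 7), (89, 6), (78, 5), (68, 4), (6, 3), (147, 5), (132, 4), (118, 3), (16, 6), (133, 5), (119, 4), (134, 6), (120, 5), (135, 7), (121, 6), (136, 8), (14, 7), (147, 8), (132, 7), (105, 6), (93, 5), (82, 4), (10, 3), (148, 7), (133, 6), (106, 5), (94, 4), (11, 3), (151, 6), (136, 5), (152, 7), (15, 6), (149, 6), (120, 5), (107, 4), (12, 3), (150, 5), (121, 4), (13, 3), (151, 4), (14, 3), (16, 3), (151, 4), (16, 5), (111, 4), (98, 3), (26, 2), (3, 1), (126, 3), (99, 2), (76, 1), (150, 3), (16, 4), (132, 4), (105, 3), (82, 2), (134, 5),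 (107, 4), (150, 7), (135, 6), (13, 5), (151, 6), (136, 5), (142, 7), (127, 6), (113, 5), (88, 4), (77, 3), (67, 2), (148, 4), (16, 5), (151, 6), (152, 7), (16, 8), (128, 7), (114, 6), (89, 5), (78, 4), (68, 3), (148, 5), (149, 6), (151, 7), (152, 8), (144, 9), (129, 8), (115, 7), (90, 6), (79, 5), (69, 4), (145, 10), (130, 9), (116, 8), (91, 7), (80, 6), (70, 5), (147, 11), (132, 10), (118, 9), (93, 8), (82, 7), (10, 6), (148, 10), (133, 9), (119, 8), (94, 7), (11, 6), (149, 9), (134, 8), (120, 7), (12, 6), (152, 8), (15, 7), (16, 7), (110, 6), (47, 5), (40, 4), (34, 3), (29, 2), (25, 1), (127, 7), (113, 6), (77, 5), (67, 4), (37, 3), (147, 6), (105, 5), (16, 7), (106, 6), (151, 8), (152, 9), (147, 10), (132, 9), (118, 8), (105, 7), (82, 6), (10, 5), (149, 9), (134, 8), (120, 7), (107, 6), (150, 10), (135, 9), (121, 8), (13, 7), (143, 9), (128, 8), (114, 7), (89, 6), (78, 5), (6, 4), (148, 6), (133, 5), (119, 4), (149, 7), (134, 6), (120, 5),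 (151, 8), (136, 7), (14, 6), (152, 7), (15, 6), (16, 6), (93, 5), (82, 4), (12, 6), (144, 7), (102, 6), (79, 5), (69, 4), (146, 8), (104, 7), (81, 6), (71, 5), (147, 9), (105, 8), (82, 7), (10, 6), (150, 8), (13, 7), (151, 7), (16, 8), (116, 7), (80, 6), (61, 5), (120, 8), (121, 9), (14, 10), (99, 9), (87, 8), (76, 7), (57, 6), (49, 5), (42, 4), (31, 3), (4, 2), (113, 4), (88, 3), (67, 2), (149, 4), (16, 5), (118, 5), (93, 4), (10, 3), (120, 4), (12, 3), (14, 3), (145, 6), (130, 5), (116, 4), (147, 7), (132, 6), (118, 5), (149, 8), (134, 7), (120, 6), (152, 9), (15, 8), (16, 8), (117, 7), (92, 6), (71, 5), (119, 8), (94, 7), (121, 9), (119, 10), (106, 9), (94, 8), (11, 7), (149, 10), (120, 9), (107, 8), (12, 7), (151, 9), (14, 8), (152, 8), (16, 9), (135, 8), (13, 7), (143, 8), (128, 7), (68, 6), (59, 5), (51, 4), (44, 3), (103, 6), (80, 5), (13, 7), (131, 8), (117, 7), (81, 6), (136, 9), (14, 8), (15, 8), (82, 7), (152, 9), (16, 10), (129, 9),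 (79, 8), (69, 7), (60, 6), (52, 5), (7, 4), (133, 8), (11, 7), (136, 7), (15, 8), (141, 8), (112, 7), (66, 6), (57, 5), (49, 4), (36, 3), (31, 2), (114, 6), (89, 5), (68, 4), (149, 6), (151, 7), (150, 8), (121, 7), (145, 9), (116, 8), (103, 7), (91, 6), (70, 5), (147, 10), (118, 9), (105, 8), (93, 7), (10, 6), (149, 9), (120, 8), (107, 7), (12, 6), (152, 8), (16, 9), (131, 8), (117, 7), (104, 6), (133, 9), (119, 8), (106, 7), (135, 10), (121, 9), (13, 8), (132, 9), (118, 8), (82, 7), (136, 10), (14, 9), (15, 9), (151, 9), (16, 10), (113, 9), (77, 8), (67, 7), (58, 6), (50, 5), (37, 4), (5, 3), (145, 5), (103, 4), (152, 6), (146, 7), (131, 6), (104, 5), (150, 8), (135, 7), (13, 6), (16, 7), (132, 6), (148, 8), (133, 7), (16, 9), (136, 8), (128, 9), (114, 8), (78, 7), (68, 6), (59, 5), (51, 4), (6, 3), (145, 5), (130, 4), (116, 3), (150, 6), (135, 5), (121, 4), (151, 7), (136, 6), (14, 5), (152, 6), (15, 5), (146, 5), (104, 4), (151, 6), (152, 7),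 (147, 8), (132, 7), (118, 6), (105, 5), (16, 9), (133, 8), (119, 7), (106, 6), (136, 9), (14, 8), (15, 8), (103, 7), (80, 6), (70, 5), (61, 4), (8, 3), (104, 6), (81, 5), (71, 4), (9, 3), (105, 5), (82, 4), (10, 3), (106, 4), (11, 3), (107, 3), (142, 6), (127, 5), (100, 4), (88, 3), (150, 5), (152, 6), (16, 7), (128, 6), (101, 5), (89, 4), (131, 7), (104, 6), (92, 5), (134, 8), (107, 7), (12, 6), (143, 8), (128, 7), (101, 6), (59, 5), (6, 4), (146, 6), (131, 5), (117, 4), (151, 7), (136, 6), (14, 5), (152, 6), (15, 5), (150, 5), (152, 6), (16, 7), (133, 6), (106, 5), (134, 7), (107, 6), (145, 9), (130, 8), (103, 7), (91, 6), (80, 5), (61, 4), (146, 10), (131, 9), (104, 8), (92, 7), (81, 6), (9, 5), (152, 9), (15, 8), (146, 8), (104, 7), (92, 6), (81, 5), (148, 9), (106, 8), (94, 7), (11, 6), (149, 8), (107, 7), (12, 6), (151, 7), (16, 8), (118, 7), (105, 6), (119, 8), (106, 7), (14, 9), (151, 9), (16, 10), (109, 9), (96, 8), (73, 7), (63, 6),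 (54, 5), (46, 4), (28, 3), (24, 2), (19, 1), (1, 0), (110, 6), (97, 5), (64, 4), (47, 3), (40, 2), (34, 1), (25, 0), (128, 6), (114, 5), (78, 4), (68, 3), (6, 2), (147, 4), (132, 3), (118, 2), (16, 5), (133, 4), (119, 3), (136, 5), (14, 4), (15, 4), (82, 3), (10, 2), (144, 5), (102, 4), (90, 3), (79, 2), (146, 6), (104, 5), (92, 4), (81, 3), (147, 7), (105, 6), (93, 5), (82, 4), (150, 8), (13, 7), (151, 7), (16, 8), (116, 7), (91, 6), (80, 5), (70, 4), (61, 3), (120, 8), (12, 7), (121, 7), (118, 8), (105, 7), (82, 6), (10, 5), (14, 7), (150, 7), (13, 6), (16, 6), (112, 6), (76, 5), (57, 4), (49, 3), (42, 2), (4, 1), (115, 3), (90, 2), (69, 1), (14, 4), (145, 5), (130, 4), (91, 3), (70, 2), (147, 6), (132, 5), (93, 4), (10, 3), (149, 5), (134, 4), (12, 3), (152, 4), (15, 3), (16, 3), (106, 5), (11, 4), (151, 5), (142, 6), (113, 5), (100, 4), (58, 3), (50, 2), (43, 1), (91, 4), (70, 3), (131, 6), (92, 5), (71, 4), (135, 7), (150, 9), (135, 8), (13,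 7), (151, 8), (136, 7), (16, 9), (129, 8), (115, 7), (90, 6), (69, 5), (60, 4), (52, 3), (7, 2), (130, 7), (116, 6), (91, 5), (70, 4), (61, 3), (8, 2), (133, 6), (119, 5), (94, 4), (134, 7), (120, 6), (12, 5), (135, 6), (121, 5), (126, 7), (112, 6), (99, 5), (76, 4), (66, 3), (57, 2), (31, 1), (117, 5), (92, 4), (71, 3), (119, 6), (94, 5), (121, 7), (118, 8), (105, 7), (93, 6), (82, 5), (10, 4), (14, 7), (148, 8), (133, 7), (106, 6), (94, 5), (11, 4), (16, 7), (135, 6), (13, 5), (151, 6), (136, 5), (152, 7), (15, 6), (146, 6), (117, 5), (92, 4), (9, 3), (150, 5), (121, 4), (16, 6), (113, 5), (100, 4), (88, 3), (5, 2), (150, 3), (151, 4), (143, 5), (114, 4), (101, 3), (89, 2), (146, 6), (117, 5), (104, 4), (92, 3), (149, 7), (120, 6), (107, 5), (12, 4), (16, 6), (116, 5), (103, 4), (61, 3), (117, 6), (104, 5), (9, 4), (119, 5), (106, 4), (121, 6), (13, 5), (146, 6), (117, 5), (81, 4), (147, 7), (118, 6), (82, 5), (149, 8), (120, 7), (150, 9), (121,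 8), (151, 10), (14, 9), (16, 9), (105, 8), (93, 7), (82, 6), (10, 5), (106, 7), (94, 6), (11, 5), (148, 8), (133, 7), (106, 6), (94, 5), (151, 9), (136, 8), (152, 10), (15, 9), (150, 9), (121, 8), (13, 7), (151, 8), (14, 7), (152, 7), (16, 8), (136, 7), (139, 9), (124, 8), (110, 7), (85, 6), (74, 5), (55, 4), (47, 3), (34, 2), (25, 1), (2, 0), (141, 2), (36, 1), (31, 0), (114, 4), (89, 3), (68, 2), (149, 4), (151, 5), (150, 6), (121, 5), (16, 7), (114, 6), (101, 5), (89, 4), (68, 3), (6, 2), (147, 4), (132, 3), (118, 2), (16, 5), (134, 4), (120, 3), (135, 5), (121, 4), (136, 6), (14, 5), (132, 5), (105, 4), (93, 3), (10, 2), (133, 4), (106, 3), (94, 2), (136, 5), (15, 6), (114, 5), (101, 4), (89, 3), (78, 2), (118, 6), (105, 5), (93, 4), (82, 3), (120, 7), (107, 6), (12, 5), (121, 6), (13, 5), (145, 6), (116, 5), (80, 4), (70, 3), (149, 7), (120, 6), (150, 8), (121, 7), (146, 9), (117, 8), (104, 7), (92, 6), (81, 5), (71, 4), (147, 10), (118,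 9), (105, 8), (93, 7), (82, 6), (10, 5), (148, 9), (119, 8), (106, 7), (94, 6), (11, 5), (149, 8), (120, 7), (107, 6), (12, 5), (150, 7), (121, 6), (13, 5), (151, 6), (14, 5), (16, 5), (134, 7), (120, 6), (135, 8), (121, 7), (136, 9), (14, 8), (151, 9), (136, 8), (152, 10), (15, 9), (16, 9), (141, 9), (112, 8), (99, 7), (87, 6), (76, 5), (57, 4), (49, 3), (36, 2), (31, 1), (4, 0), (113, 2), (88, 1), (67, 0), (149, 2), (16, 3), (118, 3), (93, 2), (10, 1), (120, 2), (12, 1), (14, 1), (103, 2), (105, 3), (107, 4), (146, 7), (131, 6), (104, 5), (92, 4), (71, 3), (148, 8), (133, 7), (106, 6), (94, 5), (150, 9), (135, 8), (13, 7), (148, 8), (133, 7), (94, 6), (11, 5), (16, 7), (134, 6), (12, 5), (136, 5), (15, 6), (150, 6), (121, 5), (16, 7), (14, 6), (142, 6), (100, 5), (67, 4), (58, 3), (50, 2), (37, 1), (5, 0), (145, 2), (103, 1), (152, 3), (146, 4), (131, 3), (104, 2), (150, 5), (135, 4), (13, 3), (16, 4), (132, 3), (150, 5), (135, 4), (16, 6),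 (128, 5), (101, 4), (68, 3), (59, 2), (51, 1), (6, 0), (145, 2), (130, 1), (116, 0), (150, 3), (135, 2), (121, 1), (151, 4), (136, 3), (14, 2), (152, 3), (15, 2), (146, 2), (104, 1), (151, 3), (152, 4), (147, 5), (132, 4), (118, 3), (105, 2), (16, 6), (135, 5), (121, 4), (13, 3), (15, 4), (116, 3), (70, 2), (61, 1), (8, 0), (117, 2), (71, 1), (9, 0), (118, 1), (10, 0), (14, 0)], []⟩,
    ⟨1, [4, 4], [], [(94, 1), (11, 0), (12, 0)], [], [(110, 9), (85, 8), (74, 7), (64, 6), (47, 5), (34, 4), (29, 3), (25, 2), (22, 1), (2, 0), (140, 2), (35, 1), (30, 0), (143, 4), (128, 3), (114, 2), (147, 5), (132, 4), (118, 3), (149, 6), (134, 5), (120, 4), (150, 7), (135, 6), (121, 5), (16, 8), (142, 8), (127, 7), (113, 6), (100, 5), (88, 4), (67, 3), (37, 2), (5, 1), (147, 3), (105, 2), (16, 4), (107, 3), (150, 5), (13, 4), (151, 4), (152, 5), (16, 6), (133, 5), (119, 4), (94, 3), (15, 6), (112, 5), (87, 4), (76, 3), (66, 2), (36, 1), (105, 3), (148, 7), (133,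 6), (119, 5), (106, 4), (16, 8), (134, 7), (120, 6), (107, 5), (136, 8), (14, 7), (15, 7), (151, 7), (143, 8), (114, 7), (101, 6), (89, 5), (78, 4), (68, 3), (6, 2), (147, 4), (132, 3), (118, 2), (16, 5), (133, 4), (119, 3), (134, 5), (120, 4), (135, 6), (121, 5), (136, 7), (14, 6), (147, 7), (132, 6), (105, 5), (93, 4), (82, 3), (10, 2), (148, 6), (133, 5), (106, 4), (94, 3), (11, 2), (151, 5), (136, 4), (152, 6), (15, 5), (142, 5), (113, 4), (100, 3), (88, 2), (150, 4), (151, 5), (16, 6), (118, 5), (105, 4), (93, 3), (120, 6), (107, 5), (12, 4), (121, 5), (13, 4), (114, 4), (68, 3), (151, 5), (147, 6), (118, 5), (10, 4), (149, 5), (120, 4), (150, 6), (121, 5), (16, 7), (116, 6), (103, 5), (91, 4), (120, 7), (107, 6), (12, 5), (121, 6), (13, 5), (118, 5), (14, 6), (148, 6), (151, 7), (152, 8), (149, 9), (134, 8), (120, 7), (150, 10), (135, 9), (121, 8), (151, 11), (136, 10), (14, 9), (16, 10), (136, 9), (125, 10), (111, 9), (98, 8), (86, 7),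 (75, 6), (65, 5), (48, 4), (35, 3), (30, 2), (26, 1), (3, 0), (126, 2), (99, 1), (76, 0), (150, 2), (16, 3), (132, 3), (105, 2), (82, 1), (134, 4), (107, 3), (142, 6), (127, 5), (100, 4), (88, 3), (77, 2), (67, 1), (148, 3), (16, 4), (150, 5), (152, 6), (16, 7), (136, 6), (15, 7), (143, 7), (114, 6), (101, 5), (89, 4), (78, 3), (68, 2), (148, 4), (149, 5), (150, 6), (151, 7), (16, 8), (118, 7), (105, 6), (93, 5), (82, 4), (10, 3), (120, 6), (107, 5), (12, 4), (121, 5), (13, 4), (145, 5), (116, 4), (80, 3), (147, 6), (118, 5), (82, 4), (148, 7), (119, 6), (11, 5), (149, 6), (120, 5), (151, 7), (14, 6), (152, 6), (147, 7), (132, 6), (93, 5), (10, 4), (150, 6), (135, 5), (151, 7), (136, 6), (16, 8), (133, 7), (119, 6), (106, 5), (94, 4), (149, 9), (134, 8), (120, 7), (107, 6), (12, 5), (150, 8), (135, 7), (121, 6), (13, 5), (151, 7), (136, 6), (14, 5), (16, 6), (135, 5), (136, 6), (15, 7), (141, 7), (112, 6), (99, 5), (76, 4), (49, 3), (36, 2), (31,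 1), (4, 0), (113, 2), (88, 1), (67, 0), (149, 2), (16, 3), (118, 3), (93, 2), (10, 1), (120, 2), (12, 1), (14, 1), (103, 2), (105, 3), (107, 4), (148, 7), (133, 6), (106, 5), (94, 4), (16, 8), (135, 7), (13, 6), (151, 7), (136, 6), (16, 8), (127, 7), (113, 6), (88, 5), (77, 4), (67, 3), (50, 2), (37, 1), (5, 0), (145, 2), (103, 1), (152, 3), (147, 4), (132, 3), (105, 2), (16, 5), (133, 4), (106, 3), (149, 6), (134, 5), (107, 4), (16, 7), (136, 6), (15, 7), (114, 6), (101, 5), (89, 4), (78, 3), (68, 2), (51, 1), (6, 0), (145, 2), (130, 1), (116, 0), (150, 3), (135, 2), (121, 1), (151, 4), (136, 3), (14, 2), (152, 3), (15, 2), (147, 2), (105, 1), (16, 3), (106, 2), (107, 3), (13, 4), (116, 4), (91, 3), (80, 2), (70, 1), (8, 0), (118, 3), (93, 2), (82, 1), (10, 0), (119, 2), (94, 1), (11, 0), (120, 1), (12, 0), (14, 0)], []⟩,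
    ⟨1, [5, 5], [], [(13, 0)], [], [(137, 7), (122, 6), (83, 5), (62, 4), (53, 3), (20, 2), (17, 1), (0, 0), (138, 5), (123, 4), (28, 3), (24, 2), (21, 1), (19, 0), (98, 8), (86, 7), (75, 6), (48, 5), (41, 4), (30, 3), (26, 2), (142, 6), (88, 5), (67, 4), (149, 6), (16, 7), (151, 7), (152, 8), (16, 9), (129, 8), (115, 7), (90, 6), (69, 5), (132, 9), (118, 8), (93, 7), (10, 6), (134, 8), (120, 7), (12, 6), (135, 7), (121, 6), (136, 8), (14, 7), (130, 7), (103, 6), (132, 8), (105, 7), (133, 9), (106, 8), (134, 10), (107, 9), (136, 11), (15, 12), (119, 11), (106, 10), (94, 9), (11, 8), (149, 11), (120, 10), (107, 9), (12, 8), (150, 10), (121, 9), (13, 8), (151, 9), (14, 8), (16, 8), (99, 8), (66, 7), (49, 6), (42, 5), (31, 4), (4, 3), (113, 5), (88, 4), (67, 3), (149, 5), (16, 6), (118, 6), (93, 5), (10, 4), (120, 5), (12, 4), (14, 4), (145, 7), (130, 6), (116, 5), (147, 8), (132, 7), (118, 6), (149, 9), (134, 8), (120, 7), (152, 10), (15, 9), (16,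 9), (118, 8), (93, 7), (10, 6), (14, 7), (150, 8), (135, 7), (16, 9), (128, 8), (101, 7), (89, 6), (51, 5), (44, 4), (103, 7), (80, 6), (13, 8), (134, 9), (120, 8), (135, 10), (121, 9), (15, 11), (115, 10), (102, 9), (90, 8), (79, 7), (52, 6), (7, 5), (116, 9), (103, 8), (91, 7), (80, 6), (8, 5), (118, 8), (105, 7), (93, 6), (82, 5), (119, 9), (106, 8), (94, 7), (11, 6), (14, 8), (141, 9), (126, 8), (99, 7), (87, 6), (66, 5), (36, 4), (31, 3), (114, 7), (89, 6), (68, 5), (149, 7), (151, 8), (150, 9), (121, 8), (147, 10), (118, 9), (105, 8), (93, 7), (10, 6), (151, 9), (14, 8), (152, 8), (16, 9), (134, 8), (107, 7), (12, 6), (136, 7), (15, 8), (150, 8), (121, 7), (13, 6), (16, 7), (146, 8), (131, 7), (117, 6), (150, 9), (135, 8), (121, 7), (16, 10), (127, 9), (113, 8), (100, 7), (58, 6), (37, 5), (5, 4), (146, 6), (104, 5), (150, 7), (13, 6), (16, 6), (128, 8), (114, 7), (101, 6), (59, 5), (6, 4), (146, 6), (131, 5), (117, 4), (151, 7), (136, 6),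 (14, 5), (152, 6), (15, 5), (150, 5), (151, 6), (152, 7), (146, 8), (131, 7), (117, 6), (104, 5), (9, 4), (149, 7), (134, 6), (120, 5), (107, 4), (16, 8), (15, 7), (139, 7), (110, 6), (97, 5), (85, 4), (25, 3), (22, 2), (2, 1), (140, 3), (35, 2), (30, 1), (143, 5), (128, 4), (114, 3), (147, 6), (132, 5), (118, 4), (149, 7), (134, 6), (120, 5), (150, 8), (135, 7), (121, 6), (16, 9), (142, 9), (127, 8), (113, 7), (100, 6), (88, 5), (67, 4), (37, 3), (5, 2), (147, 4), (105, 3), (16, 5), (107, 4), (150, 6), (13, 5), (151, 5), (152, 6), (16, 7), (133, 6), (119, 5), (94, 4), (15, 7), (112, 6), (87, 5), (76, 4), (66, 3), (36, 2), (105, 4), (148, 8), (133, 7), (119, 6), (106, 5), (16, 9), (134, 8), (120, 7), (107, 6), (136, 9), (14, 8), (15, 8), (151, 8), (143, 9), (114, 8), (101, 7), (89, 6), (78, 5), (68, 4), (6, 3), (147, 5), (132, 4), (118, 3), (16, 6), (133, 5), (119, 4), (134, 6), (120, 5), (135, 7), (121, 6), (136, 8), (14, 7), (147, 8), (132,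 7), (105, 6), (93, 5), (82, 4), (10, 3), (148, 7), (133, 6), (106, 5), (94, 4), (11, 3), (151, 6), (136, 5), (152, 7), (15, 6), (149, 6), (120, 5), (107, 4), (12, 3), (150, 5), (121, 4), (13, 3), (151, 4), (14, 3), (16, 3), (151, 4), (16, 5), (111, 4), (98, 3), (26, 2), (3, 1), (126, 3), (99, 2), (76, 1), (150, 3), (16, 4), (132, 4), (105, 3), (82, 2), (134, 5), (107, 4), (150, 7), (135, 6), (13, 5), (151, 6), (136, 5), (142, 7), (127, 6), (113, 5), (88, 4), (77, 3), (67, 2), (148, 4), (16, 5), (151, 6), (152, 7), (16, 8), (128, 7), (114, 6), (89, 5), (78, 4), (68, 3), (148, 5), (149, 6), (151, 7), (152, 8), (144, 9), (129, 8), (115, 7), (90, 6), (79, 5), (69, 4), (145, 10), (130, 9), (116, 8), (91, 7), (80, 6), (70, 5), (147, 11), (132, 10), (118, 9), (93, 8), (82, 7), (10, 6), (148, 10), (133, 9), (119, 8), (94, 7), (11, 6), (149, 9), (134, 8), (120, 7), (12, 6), (152, 8), (15, 7), (16, 7), (111, 6), (48, 5), (41, 4), (35, 3), (30, 2), (26,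 1), (142, 5), (88, 4), (67, 3), (149, 5), (16, 6), (151, 6), (152, 7), (16, 8), (128, 7), (114, 6), (89, 5), (68, 4), (149, 6), (151, 7), (152, 8), (147, 9), (132, 8), (118, 7), (93, 6), (10, 5), (149, 8), (134, 7), (120, 6), (12, 5), (150, 7), (135, 6), (121, 5), (16, 8), (129, 7), (115, 6), (102, 5), (132, 8), (118, 7), (105, 6), (134, 9), (120, 8), (107, 7), (135, 10), (121, 9), (13, 8), (136, 9), (14, 8), (130, 8), (91, 7), (70, 6), (132, 9), (93, 8), (10, 7), (133, 8), (94, 7), (134, 9), (12, 8), (136, 8), (15, 9), (14, 8), (76, 7), (49, 6), (42, 5), (36, 4), (31, 3), (4, 2), (113, 4), (88, 3), (67, 2), (149, 4), (16, 5), (118, 5), (93, 4), (10, 3), (120, 4), (12, 3), (14, 3), (102, 4), (145, 8), (130, 7), (116, 6), (103, 5), (147, 9), (132, 8), (118, 7), (105, 6), (149, 10), (134, 9), (120, 8), (107, 7), (152, 11), (15, 10), (16, 10), (119, 9), (106, 8), (94, 7), (142, 11), (113, 10), (100, 9), (88, 8), (77, 7), (67, 6), (50, 5), (43, 4),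 (37, 3), (5, 2), (144, 4), (102, 3), (147, 5), (105, 4), (149, 6), (107, 5), (145, 7), (103, 6), (91, 5), (70, 4), (152, 8), (147, 9), (132, 8), (105, 7), (93, 6), (10, 5), (16, 8), (133, 7), (106, 6), (94, 5), (149, 9), (134, 8), (107, 7), (12, 6), (16, 8), (135, 7), (13, 6), (136, 6), (143, 8), (128, 7), (114, 6), (78, 5), (51, 4), (44, 3), (6, 2), (144, 4), (129, 3), (115, 2), (148, 5), (133, 4), (119, 3), (150, 6), (135, 5), (121, 4), (145, 7), (130, 6), (116, 5), (103, 4), (80, 3), (150, 8), (135, 7), (121, 6), (13, 5), (151, 7), (136, 6), (14, 5), (152, 6), (15, 5), (148, 5), (11, 4), (151, 4), (152, 5), (16, 6), (129, 5), (115, 4), (52, 3), (7, 2), (130, 4), (116, 3), (8, 2), (133, 3), (119, 2), (134, 4), (120, 3), (146, 6), (131, 5), (117, 4), (92, 3), (81, 2), (148, 7), (133, 6), (119, 5), (94, 4), (11, 3), (149, 6), (134, 5), (120, 4), (12, 3), (151, 5), (136, 4), (14, 3), (16, 4), (132, 3), (133, 4), (136, 5), (149, 7), (134, 6), (120,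 5), (150, 8), (135, 7), (121, 6), (151, 9), (136, 8), (14, 7), (152, 8), (15, 7), (16, 7), (16, 8), (123, 7), (96, 6), (84, 5), (73, 4), (63, 3), (54, 2), (21, 1), (1, 0), (111, 6), (98, 5), (65, 4), (48, 3), (41, 2), (35, 1), (26, 0), (143, 4), (89, 3), (68, 2), (149, 4), (16, 5), (93, 4), (10, 3), (12, 3), (144, 4), (102, 3), (147, 5), (105, 4), (149, 6), (107, 5), (150, 7), (13, 6), (151, 6), (145, 7), (116, 6), (91, 5), (70, 4), (147, 8), (118, 7), (93, 6), (10, 5), (148, 7), (119, 6), (94, 5), (149, 8), (120, 7), (12, 6), (151, 7), (14, 6), (152, 6), (147, 7), (132, 6), (82, 5), (150, 8), (135, 7), (151, 9), (136, 8), (16, 10), (135, 9), (121, 8), (13, 7), (136, 8), (14, 7), (126, 7), (76, 6), (66, 5), (49, 4), (42, 3), (36, 2), (4, 1), (114, 3), (89, 2), (68, 1), (149, 3), (151, 4), (150, 5), (121, 4), (144, 6), (115, 5), (102, 4), (90, 3), (69, 2), (151, 7), (14, 6), (152, 6), (16, 7), (130, 6), (103, 5), (91, 4), (70, 3), (132, 7), (105,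 6), (93, 5), (10, 4), (134, 6), (107, 5), (12, 4), (15, 5), (147, 5), (105, 4), (151, 6), (152, 7), (16, 8), (133, 7), (119, 6), (106, 5), (152, 9), (15, 8), (143, 8), (114, 7), (101, 6), (78, 5), (68, 4), (51, 3), (44, 2), (6, 1), (144, 3), (129, 2), (115, 1), (148, 4), (133, 3), (119, 2), (150, 5), (135, 4), (121, 3), (145, 6), (130, 5), (116, 4), (103, 3), (80, 2), (150, 7), (135, 6), (121, 5), (13, 4), (151, 6), (136, 5), (14, 4), (152, 5), (15, 4), (147, 4), (82, 3), (16, 5), (11, 4), (144, 6), (115, 5), (102, 4), (69, 3), (52, 2), (7, 1), (145, 5), (116, 4), (103, 3), (70, 2), (8, 1), (147, 4), (118, 3), (105, 2), (10, 1), (148, 3), (119, 2), (106, 1), (151, 4), (14, 3), (152, 3), (16, 4), (131, 3), (104, 2), (81, 1), (132, 4), (105, 3), (82, 2), (134, 5), (107, 4), (135, 6), (13, 5), (136, 5), (147, 7), (132, 6), (118, 5), (93, 4), (82, 3), (10, 2), (148, 6), (133, 5), (119, 4), (94, 3), (11, 2), (152, 5), (15, 4), (16, 4), (119, 3), (94,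 2), (14, 4), (134, 4), (12, 3), (135, 3), (15, 4), (150, 4), (13, 3), (151, 3), (152, 4), (16, 5), (15, 4), (111, 3), (75, 2), (56, 1), (3, 0), (131, 2), (104, 1), (81, 0), (132, 3), (105, 2), (82, 1), (134, 4), (107, 3), (135, 5), (13, 4), (136, 4), (133, 5), (119, 4), (94, 3), (11, 2), (151, 5), (136, 4), (14, 3), (146, 4), (131, 3), (92, 2), (71, 1), (9, 0), (147, 3), (132, 2), (93, 1), (10, 0), (149, 2), (134, 1), (12, 0), (152, 1), (15, 0), (16, 0)], []⟩,
    ⟨2, [0, 0], [], [(60, 1), (7, 0), (9, 0)], [], [(145, 3), (91, 2), (70, 1), (8, 0), (147, 2), (93, 1), (10, 0), (149, 1), (12, 0), (16, 0)], []⟩,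
    ⟨2, [1, 0], [0, 1], [(115, 2), (90, 1), (52, 0), (117, 3), (92, 2)], [(61, 1)], [(130, 5), (103, 4), (80, 3), (61, 2), (8, 1), (132, 4), (105, 3), (82, 2), (134, 5), (107, 4)], [(144, 3), (90, 2), (69, 1), (52, 0), (145, 4), (91, 3), (70, 2), (8, 1), (146, 3), (92, 2), (71, 1), (148, 4), (94, 3), (150, 5), (152, 6)]⟩,
    ⟨2, [4, 0], [0, 4], [(144, 2), (115, 1), (102, 0), (146, 3), (117, 2), (104, 1)], [], [(116, 6), (103, 5), (91, 4), (70, 3), (61, 2), (8, 1), (118, 5), (105, 4), (93, 3), (10, 2), (120, 4), (107, 3), (12, 2)], [(144, 3), (90, 2), (69, 1), (52, 0), (145, 4), (91, 3), (70, 2), (8, 1), (146, 3), (92, 2), (71, 1), (147, 4), (93, 3), (10, 2), (149, 3), (12, 2), (150, 2), (151, 3)]⟩,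
    ⟨2, [4, 4], [], [(150, 2), (121, 1), (13, 0), (151, 1), (14, 0), (16, 0)], [], [(115, 6), (102, 5), (90, 4), (69, 3), (60, 2), (52, 1), (7, 0), (116, 5), (103, 4), (91, 3), (70, 2), (61, 1), (8, 0), (117, 4), (104, 3), (92, 2), (71, 1), (9, 0), (118, 3), (105, 2), (93, 1), (10, 0), (120, 2), (107, 1), (12, 0), (121, 1), (13, 0), (14, 0)], []⟩,
    ⟨3, [0, 0], [], [(21, 1), (1, 0), (111, 6), (98, 5), (65, 4), (48, 3), (41, 2), (35, 1), (26, 0), (143, 4), (89, 3), (68, 2), (149, 4), (16, 5), (93, 4), (10, 3), (12, 3), (144, 4), (102, 3), (147, 5), (105, 4), (149, 6), (107, 5), (150, 7), (13, 6), (151, 6), (145, 7), (116, 6), (91, 5), (70, 4), (147, 8), (118, 7), (93, 6), (10, 5), (148, 7), (119, 6), (94, 5), (149, 8), (120, 7), (12, 6), (151, 7), (14, 6), (152, 6), (147, 7), (132, 6), (82, 5), (150, 8), (135, 7), (151, 9), (136, 8), (16, 10), (135, 9), (121, 8), (13, 7), (136, 8), (14, 7), (126, 7), (76, 6), (66, 5), (49, 4), (42, 3), (36, 2),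 (4, 1), (114, 3), (89, 2), (68, 1), (149, 3), (151, 4), (150, 5), (121, 4), (144, 6), (115, 5), (102, 4), (90, 3), (69, 2), (151, 7), (14, 6), (152, 6), (16, 7), (130, 6), (103, 5), (91, 4), (70, 3), (132, 7), (105, 6), (93, 5), (10, 4), (134, 6), (107, 5), (12, 4), (15, 5), (147, 5), (105, 4), (151, 6), (152, 7), (16, 8), (133, 7), (119, 6), (106, 5), (152, 9), (15, 8), (143, 8), (114, 7), (101, 6), (78, 5), (68, 4), (51, 3), (44, 2), (6, 1), (144, 3), (129, 2), (115, 1), (148, 4), (133, 3), (119, 2), (150, 5), (135, 4), (121, 3), (145, 6), (130, 5), (116, 4), (103, 3), (80, 2), (150, 7), (135, 6), (121, 5), (13, 4), (151, 6), (136, 5), (14, 4), (152, 5), (15, 4), (147, 4), (82, 3), (16, 5), (11, 4), (144, 6), (115, 5), (102, 4), (69, 3), (52, 2), (7, 1), (145, 5), (116, 4), (103, 3), (70, 2), (8, 1), (147, 4), (118, 3), (105, 2), (10, 1), (148, 3), (119, 2), (106, 1), (151, 4), (14, 3), (152, 3), (16, 4), (125, 3), (98, 2), (75, 1), (3, 0),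 (133, 2), (106, 1), (11, 0), (150, 2), (135, 1), (13, 0), (152, 1), (15, 0), (16, 0)], [], [(138, 4), (96, 3), (39, 2), (21, 1), (1, 0), (111, 6), (98, 5), (65, 4), (48, 3), (41, 2), (35, 1), (26, 0), (143, 4), (89, 3), (68, 2), (149, 4), (16, 5), (93, 4), (10, 3), (12, 3), (144, 4), (102, 3), (147, 5), (105, 4), (149, 6), (107, 5), (150, 7), (13, 6), (151, 6), (145, 7), (116, 6), (91, 5), (70, 4), (147, 8), (118, 7), (93, 6), (10, 5), (148, 7), (119, 6), (94, 5), (149, 8), (120, 7), (12, 6), (151, 7), (14, 6), (152, 6), (147, 7), (132, 6), (82, 5), (150, 8), (135, 7), (151, 9), (136, 8), (16, 10), (135, 9), (121, 8), (13, 7), (136, 8), (14, 7), (126, 7), (76, 6), (66, 5), (49, 4), (42, 3), (36, 2), (4, 1), (114, 3), (89, 2), (68, 1), (149, 3), (151, 4), (150, 5), (121, 4), (144, 6), (115, 5), (102, 4), (90, 3), (69, 2), (151, 7), (14, 6), (152, 6), (16, 7), (130, 6), (103, 5), (91, 4), (70, 3), (132, 7), (105, 6), (93, 5), (10, 4), (134, 6),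 (107, 5), (12, 4), (15, 5), (147, 5), (105, 4), (151, 6), (152, 7), (16, 8), (133, 7), (119, 6), (106, 5), (152, 9), (15, 8), (143, 8), (114, 7), (101, 6), (78, 5), (68, 4), (51, 3), (44, 2), (6, 1), (144, 3), (129, 2), (115, 1), (148, 4), (133, 3), (119, 2), (150, 5), (135, 4), (121, 3), (145, 6), (130, 5), (116, 4), (103, 3), (80, 2), (150, 7), (135, 6), (121, 5), (13, 4), (151, 6), (136, 5), (14, 4), (152, 5), (15, 4), (147, 4), (82, 3), (16, 5), (11, 4), (144, 6), (115, 5), (102, 4), (69, 3), (52, 2), (7, 1), (145, 5), (116, 4), (103, 3), (70, 2), (8, 1), (147, 4), (118, 3), (105, 2), (10, 1), (148, 3), (119, 2), (106, 1), (151, 4), (14, 3), (152, 3), (16, 4), (129, 3), (102, 2), (79, 1), (132, 4), (105, 3), (82, 2), (134, 5), (107, 4), (135, 6), (13, 5), (15, 5), (150, 5), (151, 6), (152, 7), (16, 8), (140, 8), (125, 7), (111, 6), (98, 5), (86, 4), (75, 3), (65, 2), (41, 1), (3, 0), (129, 2), (102, 1), (79, 0), (132, 3), (105, 2), (82, 1),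 (134, 4), (107, 3), (135, 5), (13, 4), (136, 4), (132, 5), (118, 4), (93, 3), (82, 2), (10, 1), (135, 4), (121, 3), (136, 5), (14, 4), (148, 5), (133, 4), (106, 3), (94, 2), (11, 1), (16, 4), (134, 3), (107, 2), (12, 1), (135, 2), (13, 1), (136, 1), (150, 3), (135, 2), (121, 1), (151, 4), (136, 3), (14, 2), (152, 3), (15, 2), (16, 2), (144, 2), (102, 1), (7, 0), (150, 1), (13, 0), (16, 0)], []⟩,
    ⟨3, [1, 0], [0, 1, 5, 10], [(24, 0), (140, 4), (98, 3), (56, 2), (26, 1), (146, 5), (92, 4), (71, 3), (147, 6), (93, 5), (10, 4), (149, 5), (12, 4), (150, 4), (151, 5), (150, 6), (121, 5), (13, 4), (16, 5)], [], [(138, 9), (109, 8), (96, 7), (84, 6), (63, 5), (54, 4), (46, 3), (33, 2), (21, 1), (1, 0), (111, 6), (98, 5), (65, 4), (48, 3), (41, 2), (35, 1), (26, 0), (143, 4), (89, 3), (68, 2), (149, 4), (16, 5), (93, 4), (10, 3), (12, 3), (144, 4), (102, 3), (147, 5), (105, 4), (149, 6), (107, 5), (150, 7), (13, 6), (151, 6), (145, 7), (116, 6), (91,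 5), (70, 4), (147, 8), (118, 7), (93, 6), (10, 5), (148, 7), (119, 6), (94, 5), (149, 8), (120, 7), (12, 6), (151, 7), (14, 6), (152, 6), (147, 7), (132, 6), (82, 5), (150, 8), (135, 7), (151, 9), (136, 8), (16, 10), (135, 9), (121, 8), (13, 7), (136, 8), (14, 7), (126, 7), (76, 6), (66, 5), (49, 4), (42, 3), (36, 2), (4, 1), (114, 3), (89, 2), (68, 1), (149, 3), (151, 4), (150, 5), (121, 4), (144, 6), (115, 5), (102, 4), (90, 3), (69, 2), (151, 7), (14, 6), (152, 6), (16, 7), (130, 6), (103, 5), (91, 4), (70, 3), (132, 7), (105, 6), (93, 5), (10, 4), (134, 6), (107, 5), (12, 4), (15, 5), (147, 5), (105, 4), (151, 6), (152, 7), (16, 8), (133, 7), (119, 6), (106, 5), (152, 9), (15, 8), (143, 8), (114, 7), (101, 6), (78, 5), (68, 4), (51, 3), (44, 2), (6, 1), (144, 3), (129, 2), (115, 1), (148, 4), (133, 3), (119, 2), (150, 5), (135, 4), (121, 3), (145, 6), (130, 5), (116, 4), (103, 3), (80, 2), (150, 7), (135, 6), (121, 5), (13, 4), (151, 6), (136,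 5), (14, 4), (152, 5), (15, 4), (147, 4), (82, 3), (16, 5), (11, 4), (144, 6), (115, 5), (102, 4), (69, 3), (52, 2), (7, 1), (145, 5), (116, 4), (103, 3), (70, 2), (8, 1), (147, 4), (118, 3), (105, 2), (10, 1), (148, 3), (119, 2), (106, 1), (151, 4), (14, 3), (152, 3), (16, 4), (128, 3), (101, 2), (78, 1), (132, 4), (105, 3), (82, 2), (134, 5), (107, 4), (135, 6), (13, 5), (130, 5), (91, 4), (80, 3), (70, 2), (131, 6), (92, 5), (81, 4), (71, 3), (133, 7), (94, 6), (11, 5), (135, 6), (146, 8), (131, 7), (104, 6), (92, 5), (71, 4), (9, 3), (147, 7), (132, 6), (105, 5), (93, 4), (10, 3), (149, 6), (134, 5), (107, 4), (12, 3), (150, 5), (135, 4), (13, 3), (151, 4), (136, 3), (16, 5), (132, 4), (118, 3), (133, 5), (119, 4), (15, 6), (149, 6), (120, 5), (150, 7), (121, 6), (152, 8), (16, 9), (135, 8), (121, 7), (13, 6), (136, 7), (14, 6), (15, 6), (151, 6), (16, 7), (140, 7), (111, 6), (86, 5), (75, 4), (65, 3), (48, 2), (35, 1), (3, 0), (128, 2), (101,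 1), (78, 0), (132, 3), (105, 2), (82, 1), (134, 4), (107, 3), (135, 5), (13, 4), (145, 5), (130, 4), (91, 3), (80, 2), (70, 1), (147, 6), (132, 5), (93, 4), (82, 3), (10, 2), (148, 5), (133, 4), (94, 3), (11, 2), (149, 4), (134, 3), (12, 2), (151, 3), (136, 2), (152, 4), (15, 3), (147, 3), (118, 2), (150, 4), (121, 3), (151, 5), (14, 4), (16, 4), (106, 3), (149, 5), (107, 4), (150, 6), (13, 5), (151, 5), (16, 6), (14, 5), (144, 5), (90, 4), (79, 3), (69, 2), (52, 1), (150, 6), (16, 7)], [(138, 4), (96, 3), (39, 2), (21, 1), (1, 0), (111, 6), (98, 5), (65, 4), (48, 3), (41, 2), (35, 1), (26, 0), (143, 4), (89, 3), (68, 2), (149, 4), (16, 5), (93, 4), (10, 3), (12, 3), (144, 4), (102, 3), (147, 5), (105, 4), (149, 6), (107, 5), (150, 7), (13, 6), (151, 6), (145, 7), (116, 6), (91, 5), (70, 4), (147, 8), (118, 7), (93, 6), (10, 5), (148, 7), (119, 6), (94, 5), (149, 8), (120, 7), (12, 6), (151, 7), (14, 6), (152, 6), (147, 7), (132, 6), (82, 5),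 (150, 8), (135, 7), (151, 9), (136, 8), (16, 10), (135, 9), (121, 8), (13, 7), (136, 8), (14, 7), (126, 7), (76, 6), (66, 5), (49, 4), (42, 3), (36, 2), (4, 1), (114, 3), (89, 2), (68, 1), (149, 3), (151, 4), (150, 5), (121, 4), (144, 6), (115, 5), (102, 4), (90, 3), (69, 2), (151, 7), (14, 6), (152, 6), (16, 7), (130, 6), (103, 5), (91, 4), (70, 3), (132, 7), (105, 6), (93, 5), (10, 4), (134, 6), (107, 5), (12, 4), (15, 5), (147, 5), (105, 4), (151, 6), (152, 7), (16, 8), (133, 7), (119, 6), (106, 5), (152, 9), (15, 8), (143, 8), (114, 7), (101, 6), (78, 5), (68, 4), (51, 3), (44, 2), (6, 1), (144, 3), (129, 2), (115, 1), (148, 4), (133, 3), (119, 2), (150, 5), (135, 4), (121, 3), (145, 6), (130, 5), (116, 4), (103, 3), (80, 2), (150, 7), (135, 6), (121, 5), (13, 4), (151, 6), (136, 5), (14, 4), (152, 5), (15, 4), (147, 4), (82, 3), (16, 5), (11, 4), (144, 6), (115, 5), (102, 4), (69, 3), (52, 2), (7, 1), (145, 5), (116, 4), (103, 3), (70, 2),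 (8, 1), (147, 4), (118, 3), (105, 2), (10, 1), (148, 3), (119, 2), (106, 1), (151, 4), (14, 3), (152, 3), (16, 4), (129, 3), (102, 2), (79, 1), (132, 4), (105, 3), (82, 2), (134, 5), (107, 4), (135, 6), (13, 5), (15, 5), (150, 5), (151, 6), (152, 7), (16, 8), (140, 8), (125, 7), (111, 6), (98, 5), (86, 4), (75, 3), (65, 2), (41, 1), (3, 0), (129, 2), (102, 1), (79, 0), (132, 3), (105, 2), (82, 1), (134, 4), (107, 3), (135, 5), (13, 4), (136, 4), (132, 5), (118, 4), (93, 3), (82, 2), (10, 1), (135, 4), (121, 3), (136, 5), (14, 4), (148, 5), (133, 4), (106, 3), (94, 2), (11, 1), (16, 4), (134, 3), (107, 2), (12, 1), (135, 2), (13, 1), (136, 1), (150, 3), (135, 2), (121, 1), (151, 4), (136, 3), (14, 2), (152, 3), (15, 2), (16, 2), (143, 2), (101, 1), (44, 0), (13, 3), (145, 3), (80, 2), (146, 4), (81, 3), (147, 5), (82, 4), (149, 6), (150, 7), (151, 8), (16, 9), (115, 8), (102, 7), (90, 6), (79, 5), (69, 4), (60, 3), (52, 2), (7, 1), (118, 7), (105,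 6), (93, 5), (82, 4), (10, 3), (120, 6), (107, 5), (12, 4), (115, 5), (102, 4), (79, 3), (60, 2), (52, 1), (117, 6), (104, 5), (81, 4), (9, 3), (118, 5), (105, 4), (82, 3), (120, 6), (107, 5), (14, 7)]⟩,
    ⟨3, [2, 0], [0, 2, 12], [(33, 0), (98, 4), (86, 3), (65, 2), (35, 1), (147, 6), (105, 5), (93, 4), (10, 3), (150, 5), (13, 4), (151, 4), (16, 5), (120, 4), (12, 3), (121, 3), (14, 4), (150, 4), (13, 3)], [], [(138, 9), (109, 8), (84, 7), (73, 6), (63, 5), (54, 4), (46, 3), (24, 2), (21, 1), (1, 0), (111, 6), (98, 5), (65, 4), (48, 3), (41, 2), (35, 1), (26, 0), (143, 4), (89, 3), (68, 2), (149, 4), (16, 5), (93, 4), (10, 3), (12, 3), (144, 4), (102, 3), (147, 5), (105, 4), (149, 6), (107, 5), (150, 7), (13, 6), (151, 6), (145, 7), (116, 6), (91, 5), (70, 4), (147, 8), (118, 7), (93, 6), (10, 5), (148, 7), (119, 6), (94, 5), (149, 8), (120, 7), (12, 6), (151, 7), (14, 6), (152, 6), (147, 7), (132, 6), (82, 5), (150, 8), (135, 7), (151, 9),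 (136, 8), (16, 10), (135, 9), (121, 8), (13, 7), (136, 8), (14, 7), (126, 7), (76, 6), (66, 5), (49, 4), (42, 3), (36, 2), (4, 1), (114, 3), (89, 2), (68, 1), (149, 3), (151, 4), (150, 5), (121, 4), (144, 6), (115, 5), (102, 4), (90, 3), (69, 2), (151, 7), (14, 6), (152, 6), (16, 7), (130, 6), (103, 5), (91, 4), (70, 3), (132, 7), (105, 6), (93, 5), (10, 4), (134, 6), (107, 5), (12, 4), (15, 5), (147, 5), (105, 4), (151, 6), (152, 7), (16, 8), (133, 7), (119, 6), (106, 5), (152, 9), (15, 8), (143, 8), (114, 7), (101, 6), (78, 5), (68, 4), (51, 3), (44, 2), (6, 1), (144, 3), (129, 2), (115, 1), (148, 4), (133, 3), (119, 2), (150, 5), (135, 4), (121, 3), (145, 6), (130, 5), (116, 4), (103, 3), (80, 2), (150, 7), (135, 6), (121, 5), (13, 4), (151, 6), (136, 5), (14, 4), (152, 5), (15, 4), (147, 4), (82, 3), (16, 5), (11, 4), (144, 6), (115, 5), (102, 4), (69, 3), (52, 2), (7, 1), (145, 5), (116, 4), (103, 3), (70, 2), (8, 1), (147, 4), (118, 3),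 (105, 2), (10, 1), (148, 3), (119, 2), (106, 1), (151, 4), (14, 3), (152, 3), (16, 4), (126, 3), (99, 2), (76, 1), (150, 3), (16, 4), (131, 4), (104, 3), (81, 2), (135, 5), (13, 4), (145, 5), (130, 4), (80, 3), (61, 2), (146, 6), (131, 5), (81, 4), (9, 3), (148, 5), (133, 4), (11, 3), (150, 4), (135, 3), (16, 5), (131, 4), (104, 3), (132, 5), (105, 4), (134, 6), (107, 5), (135, 7), (13, 6), (136, 6), (147, 8), (132, 7), (118, 6), (93, 5), (10, 4), (148, 7), (133, 6), (119, 5), (94, 4), (152, 8), (15, 7), (16, 7), (119, 6), (94, 5), (11, 4), (14, 5), (134, 5), (12, 4), (135, 4), (15, 5), (151, 5), (16, 6), (140, 6), (111, 5), (98, 4), (56, 3), (48, 2), (26, 1), (3, 0), (126, 2), (99, 1), (76, 0), (150, 2), (16, 3), (132, 3), (105, 2), (82, 1), (134, 4), (107, 3), (145, 6), (130, 5), (103, 4), (91, 3), (80, 2), (70, 1), (147, 7), (132, 6), (105, 5), (93, 4), (82, 3), (10, 2), (148, 6), (133, 5), (106, 4), (94, 3), (11, 2), (149, 5), (134, 4), (107,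 3), (12, 2), (151, 4), (136, 3), (152, 5), (15, 4), (146, 4), (117, 3), (104, 2), (147, 5), (118, 4), (105, 3), (149, 6), (120, 5), (107, 4), (150, 7), (121, 6), (13, 5), (151, 6), (14, 5), (150, 5), (151, 6), (16, 7), (115, 6), (102, 5), (90, 4), (69, 3), (60, 2), (52, 1), (121, 7), (13, 6)], [(138, 4), (96, 3), (39, 2), (21, 1), (1, 0), (111, 6), (98, 5), (65, 4), (48, 3), (41, 2), (35, 1), (26, 0), (143, 4), (89, 3), (68, 2), (149, 4), (16, 5), (93, 4), (10, 3), (12, 3), (144, 4), (102, 3), (147, 5), (105, 4), (149, 6), (107, 5), (150, 7), (13, 6), (151, 6), (145, 7), (116, 6), (91, 5), (70, 4), (147, 8), (118, 7), (93, 6), (10, 5), (148, 7), (119, 6), (94, 5), (149, 8), (120, 7), (12, 6), (151, 7), (14, 6), (152, 6), (147, 7), (132, 6), (82, 5), (150, 8), (135, 7), (151, 9), (136, 8), (16, 10), (135, 9), (121, 8), (13, 7), (136, 8), (14, 7), (126, 7), (76, 6), (66, 5), (49, 4), (42, 3), (36, 2), (4, 1), (114, 3), (89, 2), (68, 1), (149, 3),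 (151, 4), (150, 5), (121, 4), (144, 6), (115, 5), (102, 4), (90, 3), (69, 2), (151, 7), (14, 6), (152, 6), (16, 7), (130, 6), (103, 5), (91, 4), (70, 3), (132, 7), (105, 6), (93, 5), (10, 4), (134, 6), (107, 5), (12, 4), (15, 5), (147, 5), (105, 4), (151, 6), (152, 7), (16, 8), (133, 7), (119, 6), (106, 5), (152, 9), (15, 8), (143, 8), (114, 7), (101, 6), (78, 5), (68, 4), (51, 3), (44, 2), (6, 1), (144, 3), (129, 2), (115, 1), (148, 4), (133, 3), (119, 2), (150, 5), (135, 4), (121, 3), (145, 6), (130, 5), (116, 4), (103, 3), (80, 2), (150, 7), (135, 6), (121, 5), (13, 4), (151, 6), (136, 5), (14, 4), (152, 5), (15, 4), (147, 4), (82, 3), (16, 5), (11, 4), (144, 6), (115, 5), (102, 4), (69, 3), (52, 2), (7, 1), (145, 5), (116, 4), (103, 3), (70, 2), (8, 1), (147, 4), (118, 3), (105, 2), (10, 1), (148, 3), (119, 2), (106, 1), (151, 4), (14, 3), (152, 3), (16, 4), (129, 3), (102, 2), (79, 1), (132, 4), (105, 3), (82, 2), (134, 5), (107, 4), (135,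 6), (13, 5), (15, 5), (150, 5), (151, 6), (152, 7), (16, 8), (140, 8), (125, 7), (111, 6), (98, 5), (86, 4), (75, 3), (65, 2), (41, 1), (3, 0), (129, 2), (102, 1), (79, 0), (132, 3), (105, 2), (82, 1), (134, 4), (107, 3), (135, 5), (13, 4), (136, 4), (132, 5), (118, 4), (93, 3), (82, 2), (10, 1), (135, 4), (121, 3), (136, 5), (14, 4), (148, 5), (133, 4), (106, 3), (94, 2), (11, 1), (16, 4), (134, 3), (107, 2), (12, 1), (135, 2), (13, 1), (136, 1), (150, 3), (135, 2), (121, 1), (151, 4), (136, 3), (14, 2), (152, 3), (15, 2), (16, 2), (141, 2), (99, 1), (42, 0), (150, 4), (135, 3), (121, 2), (16, 5), (145, 5), (130, 4), (116, 3), (103, 2), (146, 6), (131, 5), (117, 4), (104, 3), (147, 7), (132, 6), (118, 5), (105, 4), (148, 8), (133, 7), (119, 6), (106, 5), (149, 9), (134, 8), (120, 7), (107, 6), (151, 10), (136, 9), (14, 8), (16, 9), (133, 8), (106, 7), (94, 6), (11, 5), (135, 7), (13, 6), (136, 6), (15, 7)]⟩,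
    ⟨3, [3, 0], [0, 3, 10, 11], [(39, 0), (140, 6), (125, 5), (98, 4), (86, 3), (65, 2), (41, 1), (118, 6), (105, 5), (93, 4), (10, 3), (121, 5), (13, 4), (14, 4), (149, 4), (12, 3), (150, 3), (151, 4), (16, 5), (121, 4), (13, 3), (16, 5)], [], [(84, 4), (73, 3), (63, 2), (54, 1), (39, 0), (146, 6), (131, 5), (104, 4), (92, 3), (71, 2), (147, 7), (132, 6), (105, 5), (93, 4), (10, 3), (149, 6), (134, 5), (107, 4), (12, 3), (150, 5), (135, 4), (13, 3), (151, 4), (136, 3), (16, 5), (132, 4), (118, 3), (133, 5), (119, 4), (15, 6), (148, 6), (119, 5), (11, 4), (151, 5), (14, 4), (152, 4), (149, 5), (134, 4), (150, 6), (135, 5), (152, 7), (15, 6), (16, 6), (98, 5), (86, 4), (65, 3), (56, 2), (41, 1), (117, 6), (104, 5), (92, 4), (71, 3), (118, 7), (105, 6), (93, 5), (10, 4), (120, 6), (107, 5), (12, 4), (121, 5), (13, 4), (14, 4), (149, 7), (120, 6), (107, 5), (150, 8), (121, 7), (13, 6), (151, 7), (14, 6), (16, 6), (102, 6), (90, 5), (69, 4), (60,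 3), (7, 2), (13, 5)], [(144, 4), (102, 3), (7, 2), (146, 3), (104, 2), (147, 4), (105, 3), (148, 5), (106, 4), (149, 6), (107, 5), (144, 7), (102, 6), (90, 5), (79, 4), (69, 3), (60, 2), (146, 8), (104, 7), (92, 6), (81, 5), (71, 4), (9, 3), (147, 7), (105, 6), (93, 5), (82, 4), (10, 3), (149, 6), (107, 5), (12, 4), (151, 5), (144, 6), (115, 5), (102, 4), (79, 3), (7, 2), (146, 5), (117, 4), (104, 3), (81, 2), (147, 6), (118, 5), (105, 4), (82, 3), (148, 7), (119, 6), (106, 5), (11, 4), (149, 6), (120, 5), (107, 4), (150, 7), (121, 6), (13, 5), (151, 6), (14, 5)]⟩,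
    ⟨3, [4, 0], [0, 4, 5, 11], [(46, 0), (140, 5), (98, 4), (75, 3), (56, 2), (48, 1), (131, 7), (117, 6), (92, 5), (81, 4), (71, 3), (132, 8), (118, 7), (93, 6), (82, 5), (10, 4), (134, 7), (120, 6), (12, 5), (135, 6), (121, 5), (136, 7), (14, 6), (133, 6), (106, 5), (11, 4), (150, 6), (135, 5), (13, 4), (16, 5)], [], [(138, 7), (123, 6), (109, 5), (84, 4), (73, 3), (63, 2), (54, 1), (46, 0), (146, 5), (104, 4), (81, 3), (9, 2), (147, 4), (105, 3), (82, 2), (149, 5), (107, 4), (150, 6), (13, 5), (151, 5), (16, 6), (118, 5), (93, 4), (82, 3), (10, 2), (119, 4), (94, 3), (11, 2), (148, 5), (133, 4), (119, 3), (94, 2), (151, 6), (136, 5), (14, 4), (152, 5), (15, 4), (149, 4), (12, 3), (150, 3), (152, 4), (16, 5), (136, 4), (152, 6), (15, 5), (16, 5), (111, 4), (98, 3), (75, 2), (48, 1), (133, 7), (119, 6), (94, 5), (11, 4), (150, 7), (135, 6), (121, 5), (151, 8), (136, 7), (14, 6), (144, 7), (129, 6), (102, 5), (90, 4), (69, 3), (52, 2), (150, 8),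 (135, 7), (13, 6), (16, 7)], [(145, 4), (103, 3), (146, 5), (104, 4), (147, 6), (105, 5), (148, 7), (106, 6), (149, 8), (107, 7), (151, 9), (152, 10), (16, 11), (129, 10), (115, 9), (102, 8), (90, 7), (79, 6), (69, 5), (60, 4), (52, 3), (7, 2), (132, 9), (118, 8), (105, 7), (93, 6), (82, 5), (10, 4), (134, 8), (120, 7), (107, 6), (12, 5), (129, 7), (115, 6), (102, 5), (79, 4), (60, 3), (52, 2), (131, 8), (117, 7), (104, 6), (81, 5), (9, 4), (132, 7), (118, 6), (105, 5), (82, 4), (133, 8), (119, 7), (106, 6), (11, 5), (134, 7), (120, 6), (107, 5), (135, 8), (121, 7), (13, 6), (136, 7), (14, 6)]⟩,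
    ⟨3, [5, 0], [0, 5, 12], [(54, 0), (140, 6), (111, 5), (98, 4), (86, 3), (65, 2), (56, 1), (118, 6), (105, 5), (93, 4), (10, 3), (121, 5), (13, 4), (14, 4), (149, 4), (12, 3), (150, 3), (151, 4), (16, 5), (121, 4), (13, 3), (14, 3)], [], [(84, 2), (63, 1), (39, 0), (147, 6), (132, 5), (105, 4), (93, 3), (10, 2), (148, 5), (133, 4), (106, 3), (94, 2), (152, 6), (15, 5), (16, 5), (107, 4), (12, 3), (13, 3), (140, 4), (125, 3), (75, 2), (41, 1), (119, 6), (106, 5), (94, 4), (152, 8), (16, 9), (144, 9), (129, 8), (115, 7), (102, 6), (90, 5), (79, 4), (69, 3), (7, 2), (150, 8), (135, 7), (121, 6), (13, 5), (16, 7)], [(144, 4), (102, 3), (7, 2), (147, 3), (105, 2), (149, 4), (107, 3), (148, 5), (106, 4), (94, 3), (150, 6), (13, 5), (151, 5), (152, 6), (16, 7)]⟩,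
    ⟨3, [10, 0], [0, 10, 12], [(109, 0), (140, 2), (111, 1)], [], [(109, 4), (84, 3), (63, 2), (54, 1), (39, 0), (146, 6), (131, 5), (104, 4), (92, 3), (71, 2), (147, 7), (132, 6), (105, 5), (93, 4), (10, 3), (149, 6), (134, 5), (107, 4), (12, 3), (150, 5), (135, 4), (13, 3), (151, 4), (136, 3), (16, 5), (132, 4), (118, 3), (133, 5), (119, 4), (15, 6), (149, 6), (120, 5), (150, 7), (121, 6), (152, 8), (16, 9), (136, 8), (14, 7), (140, 8), (125, 7), (98, 6), (86, 5), (75, 4), (65, 3), (56, 2), (41, 1), (117, 6), (104, 5), (92, 4), (71, 3), (118, 7), (105, 6), (93, 5), (10, 4), (120, 6), (107, 5), (12, 4), (121, 5), (13, 4), (14, 4), (148, 7), (119, 6), (106, 5), (16, 8), (120, 7), (107, 6), (121, 8), (13, 7), (14, 7), (150, 7), (152, 8), (16, 9), (144, 9), (129, 8), (102, 7), (90, 6), (79, 5), (69, 4), (60, 3), (7, 2), (150, 8), (135, 7), (13, 6), (16, 7)], [(144, 4), (102, 3), (7, 2), (146, 3), (104, 2), (147, 4), (105, 3), (149, 5), (107, 4),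 (151, 6), (148, 7), (119, 6), (106, 5), (94, 4), (150, 8), (121, 7), (13, 6), (151, 7), (14, 6), (152, 6), (16, 7)]⟩]

/-- A part of the certificate. -/
def fuses1 : List Fuse := [
    ⟨3, [1, 1], [6, 8, 10], [(4, 0)], [], [(138, 9), (109, 8), (96, 7), (84, 6), (63, 5), (54, 4), (46, 3), (33, 2), (21, 1), (1, 0), (111, 6), (98, 5), (65, 4), (48, 3), (41, 2), (35, 1), (26, 0), (143, 4), (89, 3), (68, 2), (149, 4), (16, 5), (93, 4), (10, 3), (12, 3), (144, 4), (102, 3), (147, 5), (105, 4), (149, 6), (107, 5), (150, 7), (13, 6), (151, 6), (145, 7), (116, 6), (91, 5), (70, 4), (147, 8), (118, 7), (93, 6), (10, 5), (148, 7), (119, 6), (94, 5), (149, 8), (120, 7), (12, 6), (151, 7), (14, 6), (152, 6), (147, 7), (132, 6), (82, 5), (150, 8), (135, 7), (151, 9), (136, 8), (16, 10), (135, 9), (121, 8), (13, 7), (136, 8), (14, 7), (126, 7), (76, 6), (66, 5), (49, 4), (42, 3), (36, 2), (4, 1), (114, 3), (89, 2), (68, 1), (149, 3), (151, 4), (150, 5), (121,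 4), (144, 6), (115, 5), (102, 4), (90, 3), (69, 2), (151, 7), (14, 6), (152, 6), (16, 7), (130, 6), (103, 5), (91, 4), (70, 3), (132, 7), (105, 6), (93, 5), (10, 4), (134, 6), (107, 5), (12, 4), (15, 5), (147, 5), (105, 4), (151, 6), (152, 7), (16, 8), (133, 7), (119, 6), (106, 5), (152, 9), (15, 8), (143, 8), (114, 7), (101, 6), (78, 5), (68, 4), (51, 3), (44, 2), (6, 1), (144, 3), (129, 2), (115, 1), (148, 4), (133, 3), (119, 2), (150, 5), (135, 4), (121, 3), (145, 6), (130, 5), (116, 4), (103, 3), (80, 2), (150, 7), (135, 6), (121, 5), (13, 4), (151, 6), (136, 5), (14, 4), (152, 5), (15, 4), (147, 4), (82, 3), (16, 5), (11, 4), (144, 6), (115, 5), (102, 4), (69, 3), (52, 2), (7, 1), (145, 5), (116, 4), (103, 3), (70, 2), (8, 1), (147, 4), (118, 3), (105, 2), (10, 1), (148, 3), (119, 2), (106, 1), (151, 4), (14, 3), (152, 3), (16, 4), (128, 3), (101, 2), (78, 1), (132, 4), (105, 3), (82, 2), (134, 5), (107, 4), (135, 6), (13, 5), (130, 5), (91,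 4), (80, 3), (70, 2), (131, 6), (92, 5), (81, 4), (71, 3), (133, 7), (94, 6), (11, 5), (135, 6), (146, 8), (131, 7), (104, 6), (92, 5), (71, 4), (9, 3), (147, 7), (132, 6), (105, 5), (93, 4), (10, 3), (149, 6), (134, 5), (107, 4), (12, 3), (150, 5), (135, 4), (13, 3), (151, 4), (136, 3), (16, 5), (132, 4), (118, 3), (133, 5), (119, 4), (15, 6), (149, 6), (120, 5), (150, 7), (121, 6), (152, 8), (16, 9), (135, 8), (121, 7), (13, 6), (136, 7), (14, 6), (15, 6), (151, 6), (16, 7), (140, 7), (111, 6), (86, 5), (75, 4), (65, 3), (48, 2), (35, 1), (3, 0), (128, 2), (101, 1), (78, 0), (132, 3), (105, 2), (82, 1), (134, 4), (107, 3), (135, 5), (13, 4), (145, 5), (130, 4), (91, 3), (80, 2), (70, 1), (147, 6), (132, 5), (93, 4), (82, 3), (10, 2), (148, 5), (133, 4), (94, 3), (11, 2), (149, 4), (134, 3), (12, 2), (151, 3), (136, 2), (152, 4), (15, 3), (147, 3), (118, 2), (150, 4), (121, 3), (151, 5), (14, 4), (16, 4), (106, 3), (149, 5), (107, 4), (150, 6),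 (13, 5), (151, 5), (16, 6), (14, 5), (143, 5), (89, 4), (78, 3), (68, 2), (51, 1), (6, 0), (145, 2), (130, 1), (116, 0), (150, 3), (135, 2), (121, 1), (151, 4), (136, 3), (14, 2), (152, 3), (15, 2), (147, 2), (105, 1), (16, 3), (106, 2), (107, 3), (145, 5), (103, 4), (91, 3), (80, 2), (70, 1), (8, 0), (146, 4), (104, 3), (92, 2), (81, 1), (71, 0), (147, 5), (105, 4), (93, 3), (82, 2), (10, 1), (149, 4), (107, 3), (12, 2), (150, 3), (13, 2), (151, 2), (16, 3)], [(149, 5), (134, 4), (120, 3), (151, 6), (136, 5), (14, 4), (152, 5), (15, 4), (16, 4), (90, 3), (79, 2), (69, 1), (7, 0), (92, 2), (81, 1), (71, 0), (93, 3), (82, 2), (10, 1), (12, 2)]⟩,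
    ⟨3, [4, 1], [1, 4, 6, 8, 11, 12], [(49, 0)], [], [(138, 7), (123, 6), (109, 5), (84, 4), (73, 3), (63, 2), (54, 1), (46, 0), (146, 5), (104, 4), (81, 3), (9, 2), (147, 4), (105, 3), (82, 2), (149, 5), (107, 4), (150, 6), (13, 5), (151, 5), (16, 6), (118, 5), (93, 4), (82, 3), (10, 2), (119, 4), (94, 3), (11, 2), (148, 5), (133, 4), (119, 3), (94, 2), (151, 6), (136, 5), (14, 4), (152, 5), (15, 4), (149, 4), (12, 3), (150, 3), (152, 4), (16, 5), (136, 4), (152, 6), (15, 5), (16, 5), (111, 4), (98, 3), (75, 2), (48, 1), (133, 7), (119, 6), (94, 5), (11, 4), (150, 7), (135, 6), (121, 5), (151, 8), (136, 7), (14, 6), (143, 7), (128, 6), (101, 5), (89, 4), (68, 3), (51, 2), (132, 6), (118, 5), (105, 4), (149, 8), (134, 7), (120, 6), (107, 5), (150, 9), (135, 8), (121, 7), (13, 6), (152, 8), (15, 7), (16, 7), (116, 6), (91, 5), (70, 4), (8, 3), (117, 5), (92, 4), (71, 3), (118, 6), (93, 5), (10, 4), (120, 5), (12, 4), (121, 4), (14, 5)], [(145,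 9), (116, 8), (103, 7), (91, 6), (70, 5), (61, 4), (8, 3), (146, 8), (117, 7), (104, 6), (92, 5), (71, 4), (9, 3), (147, 7), (118, 6), (105, 5), (93, 4), (10, 3), (148, 6), (119, 5), (106, 4), (94, 3), (149, 7), (120, 6), (107, 5), (12, 4), (151, 6), (14, 5), (152, 5), (16, 6), (129, 5), (102, 4), (79, 3), (132, 6), (105, 5), (82, 4), (133, 7), (106, 6), (11, 5), (136, 6), (15, 7), (149, 7), (120, 6), (107, 5), (151, 8), (14, 7), (152, 7), (16, 8), (129, 7), (102, 6), (90, 5), (69, 4), (7, 3), (131, 6), (104, 5), (92, 4), (71, 3), (132, 7), (105, 6), (93, 5), (10, 4), (133, 6), (106, 5), (94, 4), (134, 7), (107, 6), (12, 5), (135, 6), (13, 5), (136, 5), (133, 6), (119, 5), (11, 4), (135, 5), (121, 4), (136, 6), (14, 5), (15, 5)]⟩,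
    ⟨3, [2, 2], [10, 11, 12], [(6, 0)], [], [(138, 9), (109, 8), (84, 7), (73, 6), (63, 5), (54, 4), (46, 3), (24, 2), (21, 1), (1, 0), (111, 6), (98, 5), (65, 4), (48, 3), (41, 2), (35, 1), (26, 0), (143, 4), (89, 3), (68, 2), (149, 4), (16, 5), (93, 4), (10, 3), (12, 3), (144, 4), (102, 3), (147, 5), (105, 4), (149, 6), (107, 5), (150, 7), (13, 6), (151, 6), (145, 7), (116, 6), (91, 5), (70, 4), (147, 8), (118, 7), (93, 6), (10, 5), (148, 7), (119, 6), (94, 5), (149, 8), (120, 7), (12, 6), (151, 7), (14, 6), (152, 6), (147, 7), (132, 6), (82, 5), (150, 8), (135, 7), (151, 9), (136, 8), (16, 10), (135, 9), (121, 8), (13, 7), (136, 8), (14, 7), (126, 7), (76, 6), (66, 5), (49, 4), (42, 3), (36, 2), (4, 1), (114, 3), (89, 2), (68, 1), (149, 3), (151, 4), (150, 5), (121, 4), (144, 6), (115, 5), (102, 4), (90, 3), (69, 2), (151, 7), (14, 6), (152, 6), (16, 7), (130, 6), (103, 5), (91, 4), (70, 3), (132, 7), (105, 6), (93, 5), (10, 4), (134, 6), (107,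 5), (12, 4), (15, 5), (147, 5), (105, 4), (151, 6), (152, 7), (16, 8), (133, 7), (119, 6), (106, 5), (152, 9), (15, 8), (143, 8), (114, 7), (101, 6), (78, 5), (68, 4), (51, 3), (44, 2), (6, 1), (144, 3), (129, 2), (115, 1), (148, 4), (133, 3), (119, 2), (150, 5), (135, 4), (121, 3), (145, 6), (130, 5), (116, 4), (103, 3), (80, 2), (150, 7), (135, 6), (121, 5), (13, 4), (151, 6), (136, 5), (14, 4), (152, 5), (15, 4), (147, 4), (82, 3), (16, 5), (11, 4), (144, 6), (115, 5), (102, 4), (69, 3), (52, 2), (7, 1), (145, 5), (116, 4), (103, 3), (70, 2), (8, 1), (147, 4), (118, 3), (105, 2), (10, 1), (148, 3), (119, 2), (106, 1), (151, 4), (14, 3), (152, 3), (16, 4), (126, 3), (99, 2), (76, 1), (150, 3), (16, 4), (131, 4), (104, 3), (81, 2), (135, 5), (13, 4), (145, 5), (130, 4), (80, 3), (61, 2), (146, 6), (131, 5), (81, 4), (9, 3), (148, 5), (133, 4), (11, 3), (150, 4), (135, 3), (16, 5), (131, 4), (104, 3), (132, 5), (105, 4), (134, 6), (107, 5), (135,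 7), (13, 6), (136, 6), (147, 8), (132, 7), (118, 6), (93, 5), (10, 4), (148, 7), (133, 6), (119, 5), (94, 4), (152, 8), (15, 7), (16, 7), (119, 6), (94, 5), (11, 4), (14, 5), (134, 5), (12, 4), (135, 4), (15, 5), (151, 5), (16, 6), (140, 6), (111, 5), (98, 4), (56, 3), (48, 2), (26, 1), (3, 0), (126, 2), (99, 1), (76, 0), (150, 2), (16, 3), (132, 3), (105, 2), (82, 1), (134, 4), (107, 3), (145, 6), (130, 5), (103, 4), (91, 3), (80, 2), (70, 1), (147, 7), (132, 6), (105, 5), (93, 4), (82, 3), (10, 2), (148, 6), (133, 5), (106, 4), (94, 3), (11, 2), (149, 5), (134, 4), (107, 3), (12, 2), (151, 4), (136, 3), (152, 5), (15, 4), (146, 4), (117, 3), (104, 2), (147, 5), (118, 4), (105, 3), (149, 6), (120, 5), (107, 4), (150, 7), (121, 6), (13, 5), (151, 6), (14, 5), (150, 5), (151, 6), (16, 7), (112, 6), (99, 5), (87, 4), (66, 3), (57, 2), (49, 1), (4, 0), (116, 2), (91, 1), (70, 0), (118, 3), (93, 2), (10, 1), (120, 2), (12, 1), (146, 3), (131, 2),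 (117, 1), (148, 4), (133, 3), (119, 2), (150, 5), (135, 4), (121, 3), (147, 6), (132, 5), (118, 4), (105, 3), (82, 2), (151, 7), (136, 6), (14, 5), (152, 6), (15, 5), (16, 5), (107, 4), (150, 8), (135, 7), (121, 6), (13, 5), (16, 7), (136, 6), (14, 5), (130, 5), (91, 4), (80, 3), (70, 2), (61, 1), (8, 0), (131, 4), (92, 3), (81, 2), (71, 1), (9, 0), (132, 3), (93, 2), (82, 1), (10, 0), (133, 2), (94, 1), (11, 0), (134, 1), (12, 0), (136, 0)], [(115, 4), (90, 3), (69, 2), (60, 1), (7, 0), (117, 3), (92, 2), (71, 1), (9, 0), (118, 2), (93, 1), (10, 0), (119, 1), (94, 0), (120, 2), (12, 1), (121, 1), (14, 2), (106, 1), (11, 0), (13, 0)]⟩,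
    ⟨3, [5, 5], [], [(9, 0)], [], [(90, 2), (69, 1), (7, 0), (93, 1), (10, 0), (12, 0)], []⟩,
    ⟨4, [0, 0], [2, 3, 4, 5, 7, 8, 9, 11, 13, 14, 15], [(38, 1), (0, 0), (144, 5), (129, 4), (145, 6), (130, 5), (146, 7), (131, 6), (150, 8), (135, 7), (151, 9), (136, 8), (152, 10), (15, 9), (144, 9), (115, 8), (102, 7), (60, 6), (52, 5), (7, 4)], [(41, 1), (112, 6), (99, 5), (87, 4), (66, 3), (42, 2), (147, 6), (132, 5), (118, 4), (151, 7), (136, 6), (14, 5), (152, 6), (15, 5), (16, 5), (150, 8), (135, 7), (121, 6), (16, 9), (136, 8), (14, 7), (129, 7), (102, 6), (90, 5), (69, 4), (7, 3), (127, 6), (100, 5), (88, 4), (67, 3), (149, 5), (16, 6), (130, 7), (103, 6), (91, 5), (70, 4), (131, 8), (104, 7), (92, 6), (71, 5), (132, 9), (105, 8), (93, 7), (10, 6), (134, 8), (107, 7), (12, 6), (136, 7), (15, 8)], [(84, 7), (54, 6), (46, 5), (39, 4), (33, 3), (28, 2), (21, 1), (1, 0), (111, 6), (98, 5), (65, 4), (48, 3), (41, 2), (35, 1), (26, 0), (143, 4),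 (89, 3), (68, 2), (149, 4), (16, 5), (93, 4), (10, 3), (12, 3), (144, 4), (102, 3), (147, 5), (105, 4), (149, 6), (107, 5), (150, 7), (13, 6), (151, 6), (145, 7), (116, 6), (91, 5), (70, 4), (147, 8), (118, 7), (93, 6), (10, 5), (148, 7), (119, 6), (94, 5), (149, 8), (120, 7), (12, 6), (151, 7), (14, 6), (152, 6), (147, 7), (132, 6), (82, 5), (150, 8), (135, 7), (151, 9), (136, 8), (16, 10), (135, 9), (121, 8), (13, 7), (136, 8), (14, 7), (126, 7), (76, 6), (66, 5), (49, 4), (42, 3), (36, 2), (4, 1), (114, 3), (89, 2), (68, 1), (149, 3), (151, 4), (150, 5), (121, 4), (144, 6), (115, 5), (102, 4), (90, 3), (69, 2), (151, 7), (14, 6), (152, 6), (16, 7), (130, 6), (103, 5), (91, 4), (70, 3), (132, 7), (105, 6), (93, 5), (10, 4), (134, 6), (107, 5), (12, 4), (15, 5), (147, 5), (105, 4), (151, 6), (152, 7), (16, 8), (133, 7), (119, 6), (106, 5), (152, 9), (15, 8), (143, 8), (114, 7), (101, 6), (78, 5), (68, 4), (51, 3), (44, 2), (6, 1), (144, 3), (129,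 2), (115, 1), (148, 4), (133, 3), (119, 2), (150, 5), (135, 4), (121, 3), (145, 6), (130, 5), (116, 4), (103, 3), (80, 2), (150, 7), (135, 6), (121, 5), (13, 4), (151, 6), (136, 5), (14, 4), (152, 5), (15, 4), (147, 4), (82, 3), (16, 5), (11, 4), (144, 6), (115, 5), (102, 4), (69, 3), (52, 2), (7, 1), (145, 5), (116, 4), (103, 3), (70, 2), (8, 1), (147, 4), (118, 3), (105, 2), (10, 1), (148, 3), (119, 2), (106, 1), (151, 4), (14, 3), (152, 3), (16, 4), (127, 3), (100, 2), (77, 1), (150, 3), (152, 4), (143, 5), (128, 4), (101, 3), (78, 2), (146, 6), (131, 5), (104, 4), (81, 3), (149, 7), (134, 6), (107, 5), (16, 8), (128, 7), (101, 6), (89, 5), (78, 4), (59, 3), (6, 2), (146, 4), (131, 3), (117, 2), (151, 5), (136, 4), (14, 3), (152, 4), (15, 3), (148, 3), (149, 4), (150, 5), (152, 6), (147, 7), (132, 6), (105, 5), (93, 4), (82, 3), (149, 8), (134, 7), (107, 6), (12, 5), (150, 7), (135, 6), (13, 5), (144, 6), (129, 5), (79, 4), (69, 3), (60, 2),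 (147, 7), (132, 6), (82, 5), (10, 4), (149, 6), (134, 5), (150, 7), (135, 6), (152, 8), (15, 7), (16, 7), (103, 6), (91, 5), (80, 4), (61, 3), (104, 7), (92, 6), (81, 5), (9, 4), (106, 6), (94, 5), (11, 4), (13, 5), (146, 5), (92, 4), (147, 6), (93, 5), (149, 7), (12, 6), (150, 6), (151, 7), (16, 8), (120, 7), (107, 6), (121, 8), (13, 7), (140, 9), (125, 8), (111, 7), (86, 6), (65, 5), (56, 4), (48, 3), (41, 2), (30, 1), (3, 0), (127, 2), (100, 1), (77, 0), (150, 2), (152, 3), (151, 4), (136, 3), (152, 5), (15, 4), (16, 4), (115, 3), (102, 2), (79, 1), (118, 4), (105, 3), (82, 2), (120, 5), (107, 4), (121, 6), (13, 5), (14, 5), (91, 4), (80, 3), (70, 2), (93, 5), (82, 4), (10, 3), (94, 4), (11, 3), (12, 3), (131, 4), (117, 3), (132, 5), (118, 4), (134, 6), (120, 5), (135, 7), (121, 6), (136, 8), (14, 7), (132, 7), (105, 6), (93, 5), (10, 4), (135, 6), (13, 5), (136, 5), (149, 7), (134, 6), (120, 5), (12, 4), (150, 6), (135, 5), (121, 4), (151,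 7), (136, 6), (14, 5), (16, 6), (136, 5), (15, 6), (16, 6), (113, 5), (100, 4), (58, 3), (50, 2), (43, 1), (5, 0), (91, 2), (70, 1), (131, 4), (92, 3), (71, 2), (135, 5), (150, 7), (135, 6), (13, 5), (151, 6), (136, 5), (143, 7), (128, 6), (114, 5), (89, 4), (68, 3), (59, 2), (51, 1), (44, 0), (103, 3), (80, 2), (13, 4), (131, 5), (117, 4), (81, 3), (136, 6), (14, 5), (15, 5), (82, 4), (149, 6), (151, 7), (152, 8), (16, 9), (129, 8), (115, 7), (90, 6), (79, 5), (69, 4), (60, 3), (52, 2), (7, 1), (130, 7), (116, 6), (91, 5), (80, 4), (70, 3), (61, 2), (8, 1), (131, 6), (117, 5), (92, 4), (81, 3), (71, 2), (9, 1), (134, 5), (120, 4), (12, 3)], [(137, 9), (108, 8), (83, 7), (62, 6), (53, 5), (38, 4), (27, 3), (23, 2), (17, 1), (0, 0), (138, 5), (123, 4), (28, 3), (24, 2), (21, 1), (19, 0), (98, 8), (86, 7), (75, 6), (48, 5), (41, 4), (30, 3), (26, 2), (142, 6), (88, 5), (67, 4), (149, 6), (16, 7), (151, 7), (152, 8), (16, 9), (129, 8), (115, 7),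 (90, 6), (69, 5), (132, 9), (118, 8), (93, 7), (10, 6), (134, 8), (120, 7), (12, 6), (135, 7), (121, 6), (136, 8), (14, 7), (130, 7), (103, 6), (132, 8), (105, 7), (133, 9), (106, 8), (134, 10), (107, 9), (136, 11), (15, 12), (119, 11), (106, 10), (94, 9), (11, 8), (149, 11), (120, 10), (107, 9), (12, 8), (150, 10), (121, 9), (13, 8), (151, 9), (14, 8), (16, 8), (99, 8), (66, 7), (49, 6), (42, 5), (31, 4), (4, 3), (113, 5), (88, 4), (67, 3), (149, 5), (16, 6), (118, 6), (93, 5), (10, 4), (120, 5), (12, 4), (14, 4), (145, 7), (130, 6), (116, 5), (147, 8), (132, 7), (118, 6), (149, 9), (134, 8), (120, 7), (152, 10), (15, 9), (16, 9), (118, 8), (93, 7), (10, 6), (14, 7), (150, 8), (135, 7), (16, 9), (128, 8), (101, 7), (89, 6), (51, 5), (44, 4), (103, 7), (80, 6), (13, 8), (134, 9), (120, 8), (135, 10), (121, 9), (15, 11), (115, 10), (102, 9), (90, 8), (79, 7), (52, 6), (7, 5), (116, 9), (103, 8), (91, 7), (80, 6), (8, 5), (118, 8), (105, 7), (93,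 6), (82, 5), (119, 9), (106, 8), (94, 7), (11, 6), (14, 8), (141, 9), (126, 8), (99, 7), (87, 6), (66, 5), (36, 4), (31, 3), (114, 7), (89, 6), (68, 5), (149, 7), (151, 8), (150, 9), (121, 8), (147, 10), (118, 9), (105, 8), (93, 7), (10, 6), (151, 9), (14, 8), (152, 8), (16, 9), (134, 8), (107, 7), (12, 6), (136, 7), (15, 8), (150, 8), (121, 7), (13, 6), (16, 7), (146, 8), (131, 7), (117, 6), (150, 9), (135, 8), (121, 7), (16, 10), (127, 9), (113, 8), (100, 7), (58, 6), (37, 5), (5, 4), (146, 6), (104, 5), (150, 7), (13, 6), (16, 6), (128, 8), (114, 7), (101, 6), (59, 5), (6, 4), (146, 6), (131, 5), (117, 4), (151, 7), (136, 6), (14, 5), (152, 6), (15, 5), (150, 5), (151, 6), (152, 7), (146, 8), (131, 7), (117, 6), (104, 5), (9, 4), (149, 7), (134, 6), (120, 5), (107, 4), (16, 8), (15, 7), (139, 7), (110, 6), (97, 5), (85, 4), (25, 3), (22, 2), (2, 1), (140, 3), (35, 2), (30, 1), (143, 5), (128, 4), (114, 3), (147, 6), (132, 5), (118, 4), (149,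 7), (134, 6), (120, 5), (150, 8), (135, 7), (121, 6), (16, 9), (142, 9), (127, 8), (113, 7), (100, 6), (88, 5), (67, 4), (37, 3), (5, 2), (147, 4), (105, 3), (16, 5), (107, 4), (150, 6), (13, 5), (151, 5), (152, 6), (16, 7), (133, 6), (119, 5), (94, 4), (15, 7), (112, 6), (87, 5), (76, 4), (66, 3), (36, 2), (105, 4), (148, 8), (133, 7), (119, 6), (106, 5), (16, 9), (134, 8), (120, 7), (107, 6), (136, 9), (14, 8), (15, 8), (151, 8), (143, 9), (114, 8), (101, 7), (89, 6), (78, 5), (68, 4), (6, 3), (147, 5), (132, 4), (118, 3), (16, 6), (133, 5), (119, 4), (134, 6), (120, 5), (135, 7), (121, 6), (136, 8), (14, 7), (147, 8), (132, 7), (105, 6), (93, 5), (82, 4), (10, 3), (148, 7), (133, 6), (106, 5), (94, 4), (11, 3), (151, 6), (136, 5), (152, 7), (15, 6), (149, 6), (120, 5), (107, 4), (12, 3), (150, 5), (121, 4), (13, 3), (151, 4), (14, 3), (16, 3), (151, 4), (16, 5), (111, 4), (98, 3), (26, 2), (3, 1), (126, 3), (99, 2), (76, 1), (150, 3), (16,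 4), (132, 4), (105, 3), (82, 2), (134, 5), (107, 4), (150, 7), (135, 6), (13, 5), (151, 6), (136, 5), (142, 7), (127, 6), (113, 5), (88, 4), (77, 3), (67, 2), (148, 4), (16, 5), (151, 6), (152, 7), (16, 8), (128, 7), (114, 6), (89, 5), (78, 4), (68, 3), (148, 5), (149, 6), (151, 7), (152, 8), (144, 9), (129, 8), (115, 7), (90, 6), (79, 5), (69, 4), (145, 10), (130, 9), (116, 8), (91, 7), (80, 6), (70, 5), (147, 11), (132, 10), (118, 9), (93, 8), (82, 7), (10, 6), (148, 10), (133, 9), (119, 8), (94, 7), (11, 6), (149, 9), (134, 8), (120, 7), (12, 6), (152, 8), (15, 7), (16, 7), (112, 6), (49, 5), (42, 4), (36, 3), (31, 2), (4, 1), (113, 3), (88, 2), (67, 1), (149, 3), (16, 4), (118, 4), (93, 3), (10, 2), (120, 3), (12, 2), (14, 2), (102, 3), (145, 7), (130, 6), (116, 5), (103, 4), (147, 8), (132, 7), (118, 6), (105, 5), (149, 9), (134, 8), (120, 7), (107, 6), (152, 10), (15, 9), (16, 9), (14, 8), (100, 7), (88, 6), (67, 5), (50, 4), (43, 3), (37,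 2), (5, 1), (144, 3), (102, 2), (147, 4), (105, 3), (149, 5), (107, 4), (145, 6), (103, 5), (91, 4), (70, 3), (152, 7), (147, 8), (132, 7), (105, 6), (93, 5), (10, 4), (16, 7), (134, 6), (107, 5), (12, 4), (150, 6), (135, 5), (13, 4), (143, 5), (128, 4), (51, 3), (44, 2), (6, 1), (144, 3), (129, 2), (115, 1), (148, 4), (133, 3), (119, 2), (150, 5), (135, 4), (121, 3), (145, 6), (130, 5), (116, 4), (103, 3), (80, 2), (150, 7), (135, 6), (121, 5), (13, 4), (151, 6), (136, 5), (14, 4), (152, 5), (15, 4), (152, 4), (16, 5), (130, 4), (80, 3), (8, 2), (131, 3), (81, 2), (132, 4), (82, 3), (133, 5), (11, 4), (134, 4), (15, 5), (142, 5), (88, 4), (67, 3), (58, 2), (43, 1), (92, 4), (71, 3), (147, 7), (105, 6), (93, 5), (10, 4), (16, 6), (107, 5), (12, 4), (16, 5), (101, 4), (59, 3), (44, 2), (104, 5), (81, 4), (135, 8), (121, 7), (13, 6), (131, 7), (117, 6), (81, 5), (9, 4), (134, 6), (120, 5), (144, 8), (129, 7), (115, 6), (90, 5), (79, 4), (7, 3),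 (145, 7), (130, 6), (116, 5), (91, 4), (80, 3), (146, 8), (131, 7), (117, 6), (92, 5), (81, 4), (150, 9), (135, 8), (121, 7), (151, 10), (136, 9), (14, 8), (152, 9), (15, 8), (146, 8), (104, 7), (92, 6), (81, 5), (9, 4), (148, 7), (106, 6), (94, 5), (11, 4), (149, 6), (107, 5), (12, 4), (151, 5), (16, 6), (118, 5), (105, 4), (119, 6), (106, 5), (14, 7), (149, 7), (107, 6), (150, 8), (13, 7), (151, 7), (152, 8), (16, 9), (136, 8), (14, 7), (16, 8), (123, 7), (84, 6), (73, 5), (63, 4), (46, 3), (33, 2), (28, 1), (1, 0), (113, 6), (100, 5), (67, 4), (50, 3), (43, 2), (37, 1), (144, 4), (102, 3), (147, 5), (105, 4), (149, 6), (107, 5), (145, 7), (103, 6), (91, 5), (70, 4), (152, 8), (147, 9), (132, 8), (105, 7), (93, 6), (10, 5), (16, 8), (135, 7), (13, 6), (136, 6), (128, 7), (114, 6), (89, 5), (51, 4), (44, 3), (6, 2), (144, 4), (129, 3), (115, 2), (148, 5), (133, 4), (119, 3), (150, 6), (135, 5), (121, 4), (145, 7), (130, 6), (116, 5), (103, 4),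 (80, 3), (150, 8), (135, 7), (121, 6), (13, 5), (151, 7), (136, 6), (14, 5), (152, 6), (15, 5), (149, 5), (151, 6), (152, 7), (146, 8), (131, 7), (117, 6), (92, 5), (81, 4), (149, 9), (134, 8), (120, 7), (12, 6), (16, 8), (128, 7), (114, 6), (78, 5), (59, 4), (51, 3), (44, 2), (103, 5), (80, 4), (13, 6), (131, 7), (117, 6), (81, 5), (136, 8), (14, 7), (15, 7), (11, 6), (132, 7), (118, 6), (134, 8), (120, 7), (135, 9), (121, 8), (130, 10), (116, 9), (103, 8), (91, 7), (70, 6), (61, 5), (8, 4), (131, 9), (117, 8), (104, 7), (92, 6), (71, 5), (9, 4), (133, 8), (119, 7), (106, 6), (94, 5), (135, 9), (121, 8), (13, 7), (147, 9), (132, 8), (118, 7), (93, 6), (82, 5), (10, 4), (148, 8), (133, 7), (119, 6), (94, 5), (11, 4), (152, 7), (15, 6), (16, 6), (119, 5), (94, 4), (14, 6), (134, 6), (12, 5), (135, 5), (15, 6), (152, 6), (139, 7), (124, 6), (97, 5), (74, 4), (40, 3), (34, 2), (29, 1), (25, 0), (127, 6), (113, 5), (77, 4), (67, 3), (37, 2), (147,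 5), (105, 4), (16, 6), (106, 5), (151, 7), (152, 8), (147, 9), (132, 8), (118, 7), (105, 6), (82, 5), (10, 4), (149, 8), (134, 7), (120, 6), (107, 5), (150, 9), (135, 8), (121, 7), (13, 6), (143, 8), (128, 7), (114, 6), (89, 5), (78, 4), (6, 3), (148, 5), (133, 4), (119, 3), (149, 6), (134, 5), (120, 4), (151, 7), (136, 6), (14, 5), (152, 6), (15, 5), (16, 5), (93, 4), (82, 3), (12, 5), (144, 6), (102, 5), (79, 4), (69, 3), (146, 7), (104, 6), (81, 5), (71, 4), (147, 8), (105, 7), (82, 6), (10, 5), (150, 7), (13, 6), (151, 6), (16, 7), (119, 6), (11, 5), (14, 5), (135, 5), (152, 7), (15, 6), (16, 6), (140, 6), (98, 5), (56, 4), (41, 3), (30, 2), (26, 1), (142, 5), (88, 4), (67, 3), (149, 5), (16, 6), (151, 6), (152, 7), (16, 8), (129, 7), (115, 6), (90, 5), (69, 4), (132, 8), (118, 7), (93, 6), (10, 5), (134, 7), (120, 6), (12, 5), (135, 6), (121, 5), (136, 7), (14, 6), (131, 6), (104, 5), (132, 7), (105, 6), (134, 8), (107, 7), (135, 9), (13,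 8), (136, 8), (135, 9), (121, 8), (141, 11), (126, 10), (112, 9), (99, 8), (87, 7), (66, 6), (57, 5), (42, 4), (31, 3), (4, 2), (113, 4), (88, 3), (67, 2), (149, 4), (16, 5), (118, 5), (93, 4), (10, 3), (120, 4), (12, 3), (14, 3), (146, 6), (131, 5), (117, 4), (148, 7), (133, 6), (119, 5), (150, 8), (135, 7), (121, 6), (147, 9), (132, 8), (118, 7), (105, 6), (82, 5), (151, 10), (136, 9), (14, 8), (152, 9), (15, 8), (16, 8), (107, 7), (150, 11), (135, 10), (121, 9), (13, 8), (16, 10), (136, 9), (14, 8), (15, 8), (143, 8), (89, 7), (78, 6), (68, 5), (59, 4), (44, 3), (104, 6), (81, 5), (132, 9), (118, 8), (105, 7), (82, 6), (148, 11), (133, 10), (119, 9), (106, 8), (11, 7), (149, 10), (134, 9), (120, 8), (107, 7), (16, 11), (132, 10), (118, 9), (105, 8), (93, 7), (10, 6), (134, 9), (120, 8), (107, 7), (12, 6), (135, 8), (121, 7), (13, 6), (137, 8), (122, 7), (108, 6), (53, 5), (38, 4), (32, 3), (27, 2), (20, 1), (18, 0), (140, 8), (125, 7), (111,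 6), (75, 5), (41, 4), (35, 3), (26, 2), (143, 6), (89, 5), (68, 4), (149, 6), (16, 7), (93, 6), (10, 5), (12, 5), (144, 6), (102, 5), (147, 7), (105, 6), (149, 8), (107, 7), (150, 9), (13, 8), (151, 8), (148, 9), (119, 8), (94, 7), (16, 10), (14, 9), (16, 10), (126, 9), (87, 8), (76, 7), (66, 6), (42, 5), (36, 4), (4, 3), (114, 5), (89, 4), (68, 3), (149, 5), (151, 6), (150, 7), (121, 6), (144, 8), (115, 7), (102, 6), (90, 5), (69, 4), (151, 9), (14, 8), (152, 8), (16, 9), (132, 8), (105, 7), (93, 6), (10, 5), (136, 7), (15, 8), (148, 8), (119, 7), (106, 6), (94, 5), (16, 9), (120, 8), (107, 7), (12, 6), (14, 7), (152, 8), (15, 7), (142, 7), (100, 6), (77, 5), (43, 4), (37, 3), (144, 6), (102, 5), (147, 7), (105, 6), (149, 8), (107, 7), (148, 9), (106, 8), (94, 7), (16, 10), (13, 9), (143, 9), (89, 8), (78, 7), (68, 6), (44, 5), (6, 4), (144, 6), (129, 5), (115, 4), (148, 7), (133, 6), (119, 5), (150, 8), (135, 7), (121, 6), (147, 9), (132, 8),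 (118, 7), (105, 6), (82, 5), (16, 10), (133, 9), (119, 8), (106, 7), (11, 6), (134, 8), (120, 7), (107, 6), (144, 10), (129, 9), (115, 8), (102, 7), (90, 6), (69, 5), (7, 4), (145, 9), (130, 8), (116, 7), (103, 6), (91, 5), (70, 4), (148, 10), (133, 9), (119, 8), (106, 7), (94, 6), (149, 11), (134, 10), (120, 9), (107, 8), (12, 7), (16, 10), (127, 9), (113, 8), (100, 7), (77, 6), (67, 5), (50, 4), (5, 3), (132, 4), (148, 6), (133, 5), (16, 7), (135, 6), (136, 7), (15, 8), (114, 7), (101, 6), (78, 5), (68, 4), (51, 3), (132, 7), (118, 6), (105, 5), (148, 9), (133, 8), (119, 7), (106, 6), (150, 10), (135, 9), (121, 8), (13, 7), (151, 9), (136, 8), (14, 7), (146, 8), (131, 7), (81, 6), (71, 5), (149, 9), (134, 8), (16, 10), (128, 9), (89, 8), (78, 7), (68, 6), (59, 5), (51, 4), (6, 3), (145, 5), (130, 4), (116, 3), (150, 6), (135, 5), (121, 4), (151, 7), (136, 6), (14, 5), (152, 6), (15, 5), (146, 5), (104, 4), (151, 6), (152, 7), (147, 8), (132,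 7), (118, 6), (105, 5), (16, 9), (133, 8), (119, 7), (106, 6), (134, 9), (120, 8), (107, 7), (15, 10), (119, 9), (106, 8), (94, 7), (11, 6), (120, 8), (107, 7), (12, 6), (144, 8), (115, 7), (102, 6), (69, 5), (60, 4), (52, 3), (145, 9), (116, 8), (103, 7), (70, 6), (61, 5), (8, 4), (146, 8), (117, 7), (104, 6), (71, 5), (9, 4), (150, 7), (121, 6), (13, 5), (151, 6), (14, 5), (152, 5), (146, 6), (131, 5), (71, 4), (148, 7), (133, 6), (149, 8), (134, 7), (151, 9), (136, 8), (16, 10), (136, 9), (14, 8), (152, 9), (15, 8), (16, 8), (138, 8), (84, 7), (73, 6), (63, 5), (54, 4), (39, 3), (21, 2), (19, 1), (98, 9), (86, 8), (75, 7), (48, 6), (41, 5), (30, 4), (26, 3), (142, 7), (88, 6), (67, 5), (149, 7), (16, 8), (151, 8), (152, 9), (16, 10), (129, 9), (115, 8), (90, 7), (69, 6), (132, 10), (118, 9), (93, 8), (10, 7), (134, 9), (120, 8), (12, 7), (135, 8), (121, 7), (136, 9), (14, 8), (130, 8), (103, 7), (132, 9), (105, 8), (133, 10), (106, 9), (134,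 11), (107, 10), (136, 12), (15, 13), (119, 12), (106, 11), (94, 10), (11, 9), (149, 12), (120, 11), (107, 10), (12, 9), (150, 11), (121, 10), (13, 9), (151, 10), (14, 9), (16, 9), (99, 9), (66, 8), (49, 7), (42, 6), (31, 5), (4, 4), (113, 6), (88, 5), (67, 4), (149, 6), (16, 7), (118, 7), (93, 6), (10, 5), (120, 6), (12, 5), (14, 5), (145, 8), (130, 7), (116, 6), (147, 9), (132, 8), (118, 7), (149, 10), (134, 9), (120, 8), (152, 11), (15, 10), (16, 10), (118, 9), (93, 8), (10, 7), (14, 8), (150, 9), (135, 8), (16, 10), (128, 9), (101, 8), (89, 7), (51, 6), (44, 5), (103, 8), (80, 7), (13, 9), (134, 10), (120, 9), (135, 11), (121, 10), (15, 12), (115, 11), (102, 10), (90, 9), (79, 8), (52, 7), (7, 6), (116, 10), (103, 9), (91, 8), (80, 7), (8, 6), (118, 9), (105, 8), (93, 7), (82, 6), (119, 10), (106, 9), (94, 8), (11, 7), (14, 9), (144, 10), (129, 9), (102, 8), (90, 7), (69, 6), (147, 11), (132, 10), (105, 9), (93, 8), (10, 7), (149, 10), (134,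 9), (107, 8), (12, 7), (150, 9), (135, 8), (13, 7), (152, 8), (15, 7), (16, 7), (147, 12), (118, 11), (105, 10), (93, 9), (10, 8), (148, 11), (119, 10), (106, 9), (94, 8), (152, 12), (16, 13), (133, 12), (119, 11), (106, 10), (94, 9), (11, 8), (136, 11), (14, 10), (15, 10), (107, 9), (12, 8), (13, 8), (16, 9), (125, 8), (56, 7), (41, 6), (35, 5), (30, 4), (3, 3), (127, 5), (100, 4), (77, 3), (150, 5), (152, 6), (151, 7), (136, 6), (152, 8), (15, 7), (16, 7), (114, 6), (101, 5), (78, 4), (118, 7), (105, 6), (82, 5), (120, 8), (107, 7), (121, 9), (13, 8), (144, 9), (115, 8), (90, 7), (79, 6), (69, 5), (147, 10), (118, 9), (93, 8), (82, 7), (10, 6), (149, 9), (120, 8), (12, 7), (150, 8), (121, 7), (151, 9), (14, 8), (146, 8), (104, 7), (81, 6), (147, 9), (105, 8), (82, 7), (149, 10), (107, 9), (150, 11), (13, 10), (151, 10), (152, 11), (16, 12), (126, 11), (112, 10), (87, 9), (76, 8), (66, 7), (57, 6), (42, 5), (36, 4), (31, 3), (114, 7), (89, 6),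 (68, 5), (149, 7), (151, 8), (150, 9), (121, 8), (144, 10), (115, 9), (102, 8), (90, 7), (69, 6), (151, 11), (14, 10), (152, 10), (16, 11), (131, 10), (104, 9), (92, 8), (71, 7), (133, 11), (106, 10), (94, 9), (135, 12), (13, 11), (132, 11), (93, 10), (82, 9), (10, 8), (136, 10), (15, 11), (148, 11), (119, 10), (94, 9), (11, 8), (16, 10), (120, 9), (12, 8), (14, 8), (151, 9), (136, 8), (152, 10), (15, 9), (144, 9), (115, 8), (60, 7), (7, 6), (145, 8), (116, 7), (61, 6), (146, 9), (117, 8), (9, 7), (149, 8), (120, 7), (151, 9), (14, 8), (152, 8), (147, 9), (132, 8), (93, 7), (148, 10), (133, 9), (94, 8), (151, 11), (136, 10), (137, 12), (122, 11), (108, 10), (83, 9), (72, 8), (62, 7), (45, 6), (32, 5), (27, 4), (23, 3), (18, 2), (17, 1), (0, 0), (138, 5), (123, 4), (28, 3), (24, 2), (21, 1), (19, 0), (98, 8), (86, 7), (75, 6), (48, 5), (41, 4), (30, 3), (26, 2), (142, 6), (88, 5), (67, 4), (149, 6), (16, 7), (151, 7), (152, 8), (16, 9), (129, 8),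 (115, 7), (90, 6), (69, 5), (132, 9), (118, 8), (93, 7), (10, 6), (134, 8), (120, 7), (12, 6), (135, 7), (121, 6), (136, 8), (14, 7), (130, 7), (103, 6), (132, 8), (105, 7), (133, 9), (106, 8), (134, 10), (107, 9), (136, 11), (15, 12), (119, 11), (106, 10), (94, 9), (11, 8), (149, 11), (120, 10), (107, 9), (12, 8), (150, 10), (121, 9), (13, 8), (151, 9), (14, 8), (16, 8), (99, 8), (66, 7), (49, 6), (42, 5), (31, 4), (4, 3), (113, 5), (88, 4), (67, 3), (149, 5), (16, 6), (118, 6), (93, 5), (10, 4), (120, 5), (12, 4), (14, 4), (145, 7), (130, 6), (116, 5), (147, 8), (132, 7), (118, 6), (149, 9), (134, 8), (120, 7), (152, 10), (15, 9), (16, 9), (118, 8), (93, 7), (10, 6), (14, 7), (150, 8), (135, 7), (16, 9), (128, 8), (101, 7), (89, 6), (51, 5), (44, 4), (103, 7), (80, 6), (13, 8), (134, 9), (120, 8), (135, 10), (121, 9), (15, 11), (115, 10), (102, 9), (90, 8), (79, 7), (52, 6), (7, 5), (116, 9), (103, 8), (91, 7), (80, 6), (8, 5), (118, 8), (105,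 7), (93, 6), (82, 5), (119, 9), (106, 8), (94, 7), (11, 6), (14, 8), (141, 9), (126, 8), (99, 7), (87, 6), (66, 5), (36, 4), (31, 3), (114, 7), (89, 6), (68, 5), (149, 7), (151, 8), (150, 9), (121, 8), (147, 10), (118, 9), (105, 8), (93, 7), (10, 6), (151, 9), (14, 8), (152, 8), (16, 9), (134, 8), (107, 7), (12, 6), (136, 7), (15, 8), (150, 8), (121, 7), (13, 6), (16, 7), (146, 8), (131, 7), (117, 6), (150, 9), (135, 8), (121, 7), (16, 10), (127, 9), (113, 8), (100, 7), (58, 6), (37, 5), (5, 4), (146, 6), (104, 5), (150, 7), (13, 6), (16, 6), (128, 8), (114, 7), (101, 6), (59, 5), (6, 4), (146, 6), (131, 5), (117, 4), (151, 7), (136, 6), (14, 5), (152, 6), (15, 5), (150, 5), (151, 6), (152, 7), (146, 8), (131, 7), (117, 6), (104, 5), (9, 4), (149, 7), (134, 6), (120, 5), (107, 4), (16, 8), (15, 7), (139, 7), (110, 6), (97, 5), (85, 4), (25, 3), (22, 2), (2, 1), (140, 3), (35, 2), (30, 1), (143, 5), (128, 4), (114, 3), (147, 6), (132, 5), (118,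 4), (149, 7), (134, 6), (120, 5), (150, 8), (135, 7), (121, 6), (16, 9), (142, 9), (127, 8), (113, 7), (100, 6), (88, 5), (67, 4), (37, 3), (5, 2), (147, 4), (105, 3), (16, 5), (107, 4), (150, 6), (13, 5), (151, 5), (152, 6), (16, 7), (133, 6), (119, 5), (94, 4), (15, 7), (112, 6), (87, 5), (76, 4), (66, 3), (36, 2), (105, 4), (148, 8), (133, 7), (119, 6), (106, 5), (16, 9), (134, 8), (120, 7), (107, 6), (136, 9), (14, 8), (15, 8), (151, 8), (143, 9), (114, 8), (101, 7), (89, 6), (78, 5), (68, 4), (6, 3), (147, 5), (132, 4), (118, 3), (16, 6), (133, 5), (119, 4), (134, 6), (120, 5), (135, 7), (121, 6), (136, 8), (14, 7), (147, 8), (132, 7), (105, 6), (93, 5), (82, 4), (10, 3), (148, 7), (133, 6), (106, 5), (94, 4), (11, 3), (151, 6), (136, 5), (152, 7), (15, 6), (149, 6), (120, 5), (107, 4), (12, 3), (150, 5), (121, 4), (13, 3), (151, 4), (14, 3), (16, 3), (151, 4), (16, 5), (111, 4), (98, 3), (26, 2), (3, 1), (126, 3), (99, 2), (76, 1), (150,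 3), (16, 4), (132, 4), (105, 3), (82, 2), (134, 5), (107, 4), (150, 7), (135, 6), (13, 5), (151, 6), (136, 5), (142, 7), (127, 6), (113, 5), (88, 4), (77, 3), (67, 2), (148, 4), (16, 5), (151, 6), (152, 7), (16, 8), (128, 7), (114, 6), (89, 5), (78, 4), (68, 3), (148, 5), (149, 6), (151, 7), (152, 8), (144, 9), (129, 8), (115, 7), (90, 6), (79, 5), (69, 4), (145, 10), (130, 9), (116, 8), (91, 7), (80, 6), (70, 5), (147, 11), (132, 10), (118, 9), (93, 8), (82, 7), (10, 6), (148, 10), (133, 9), (119, 8), (94, 7), (11, 6), (149, 9), (134, 8), (120, 7), (12, 6), (152, 8), (15, 7), (16, 7), (110, 6), (47, 5), (40, 4), (34, 3), (29, 2), (25, 1), (127, 7), (113, 6), (77, 5), (67, 4), (37, 3), (147, 6), (105, 5), (16, 7), (106, 6), (151, 8), (152, 9), (147, 10), (132, 9), (118, 8), (105, 7), (82, 6), (10, 5), (149, 9), (134, 8), (120, 7), (107, 6), (150, 10), (135, 9), (121, 8), (13, 7), (143, 9), (128, 8), (114, 7), (89, 6), (78, 5), (6, 4), (148, 6),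 (133, 5), (119, 4), (149, 7), (134, 6), (120, 5), (151, 8), (136, 7), (14, 6), (152, 7), (15, 6), (16, 6), (93, 5), (82, 4), (12, 6), (144, 7), (102, 6), (79, 5), (69, 4), (146, 8), (104, 7), (81, 6), (71, 5), (147, 9), (105, 8), (82, 7), (10, 6), (150, 8), (13, 7), (151, 7), (16, 8), (116, 7), (80, 6), (61, 5), (120, 8), (121, 9), (14, 10), (99, 9), (87, 8), (76, 7), (57, 6), (49, 5), (42, 4), (31, 3), (4, 2), (113, 4), (88, 3), (67, 2), (149, 4), (16, 5), (118, 5), (93, 4), (10, 3), (120, 4), (12, 3), (14, 3), (145, 6), (130, 5), (116, 4), (147, 7), (132, 6), (118, 5), (149, 8), (134, 7), (120, 6), (152, 9), (15, 8), (16, 8), (117, 7), (92, 6), (71, 5), (119, 8), (94, 7), (121, 9), (119, 10), (106, 9), (94, 8), (11, 7), (149, 10), (120, 9), (107, 8), (12, 7), (151, 9), (14, 8), (152, 8), (16, 9), (135, 8), (13, 7), (143, 8), (128, 7), (68, 6), (59, 5), (51, 4), (44, 3), (103, 6), (80, 5), (13, 7), (131, 8), (117, 7), (81, 6), (136, 9), (14,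 8), (15, 8), (82, 7), (152, 9), (16, 10), (129, 9), (79, 8), (69, 7), (60, 6), (52, 5), (7, 4), (133, 8), (11, 7), (136, 7), (15, 8), (141, 8), (112, 7), (66, 6), (57, 5), (49, 4), (36, 3), (31, 2), (114, 6), (89, 5), (68, 4), (149, 6), (151, 7), (150, 8), (121, 7), (145, 9), (116, 8), (103, 7), (91, 6), (70, 5), (147, 10), (118, 9), (105, 8), (93, 7), (10, 6), (149, 9), (120, 8), (107, 7), (12, 6), (152, 8), (16, 9), (131, 8), (117, 7), (104, 6), (133, 9), (119, 8), (106, 7), (135, 10), (121, 9), (13, 8), (132, 9), (118, 8), (82, 7), (136, 10), (14, 9), (15, 9), (151, 9), (16, 10), (113, 9), (77, 8), (67, 7), (58, 6), (50, 5), (37, 4), (5, 3), (145, 5), (103, 4), (152, 6), (146, 7), (131, 6), (104, 5), (150, 8), (135, 7), (13, 6), (16, 7), (132, 6), (148, 8), (133, 7), (16, 9), (136, 8), (128, 9), (114, 8), (78, 7), (68, 6), (59, 5), (51, 4), (6, 3), (145, 5), (130, 4), (116, 3), (150, 6), (135, 5), (121, 4), (151, 7), (136, 6), (14, 5), (152,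 6), (15, 5), (146, 5), (104, 4), (151, 6), (152, 7), (147, 8), (132, 7), (118, 6), (105, 5), (16, 9), (133, 8), (119, 7), (106, 6), (136, 9), (14, 8), (15, 8), (103, 7), (80, 6), (70, 5), (61, 4), (8, 3), (104, 6), (81, 5), (71, 4), (9, 3), (105, 5), (82, 4), (10, 3), (106, 4), (11, 3), (107, 3), (142, 6), (127, 5), (100, 4), (88, 3), (150, 5), (152, 6), (16, 7), (128, 6), (101, 5), (89, 4), (131, 7), (104, 6), (92, 5), (134, 8), (107, 7), (12, 6), (143, 8), (128, 7), (101, 6), (59, 5), (6, 4), (146, 6), (131, 5), (117, 4), (151, 7), (136, 6), (14, 5), (152, 6), (15, 5), (150, 5), (152, 6), (16, 7), (133, 6), (106, 5), (134, 7), (107, 6), (145, 9), (130, 8), (103, 7), (91, 6), (80, 5), (61, 4), (146, 10), (131, 9), (104, 8), (92, 7), (81, 6), (9, 5), (152, 9), (15, 8), (147, 8), (105, 7), (93, 6), (82, 5), (148, 9), (106, 8), (94, 7), (11, 6), (151, 8), (16, 9), (119, 8), (106, 7), (94, 6), (121, 9), (13, 8), (14, 8), (134, 8), (12, 7), (135,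 7), (136, 8), (15, 9), (151, 9), (14, 8), (16, 8), (16, 9), (123, 8), (96, 7), (73, 6), (63, 5), (46, 4), (28, 3), (24, 2), (19, 1), (1, 0), (110, 6), (97, 5), (64, 4), (47, 3), (40, 2), (34, 1), (25, 0), (128, 6), (114, 5), (78, 4), (68, 3), (6, 2), (147, 4), (132, 3), (118, 2), (16, 5), (133, 4), (119, 3), (136, 5), (14, 4), (15, 4), (82, 3), (10, 2), (144, 5), (102, 4), (90, 3), (79, 2), (146, 6), (104, 5), (92, 4), (81, 3), (147, 7), (105, 6), (93, 5), (82, 4), (150, 8), (13, 7), (151, 7), (16, 8), (116, 7), (91, 6), (80, 5), (70, 4), (61, 3), (120, 8), (12, 7), (121, 7), (118, 8), (105, 7), (82, 6), (10, 5), (14, 7), (150, 7), (13, 6), (16, 6), (112, 6), (76, 5), (57, 4), (49, 3), (42, 2), (4, 1), (115, 3), (90, 2), (69, 1), (14, 4), (145, 5), (130, 4), (91, 3), (70, 2), (147, 6), (132, 5), (93, 4), (10, 3), (149, 5), (134, 4), (12, 3), (152, 4), (15, 3), (16, 3), (106, 5), (11, 4), (151, 5), (142, 6), (113, 5), (100, 4), (58, 3), (50, 2),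 (43, 1), (91, 4), (70, 3), (131, 6), (92, 5), (71, 4), (135, 7), (150, 9), (135, 8), (13, 7), (151, 8), (136, 7), (16, 9), (129, 8), (115, 7), (90, 6), (69, 5), (60, 4), (52, 3), (7, 2), (130, 7), (116, 6), (91, 5), (70, 4), (61, 3), (8, 2), (133, 6), (119, 5), (94, 4), (134, 7), (120, 6), (12, 5), (135, 6), (121, 5), (126, 7), (112, 6), (99, 5), (76, 4), (66, 3), (57, 2), (31, 1), (117, 5), (92, 4), (71, 3), (119, 6), (94, 5), (121, 7), (118, 8), (105, 7), (93, 6), (82, 5), (10, 4), (14, 7), (148, 8), (133, 7), (106, 6), (94, 5), (11, 4), (16, 7), (135, 6), (13, 5), (151, 6), (136, 5), (152, 7), (15, 6), (146, 6), (117, 5), (92, 4), (9, 3), (150, 5), (121, 4), (16, 6), (113, 5), (100, 4), (88, 3), (5, 2), (150, 3), (151, 4), (143, 5), (114, 4), (101, 3), (89, 2), (146, 6), (117, 5), (104, 4), (92, 3), (149, 7), (120, 6), (107, 5), (12, 4), (16, 6), (116, 5), (103, 4), (61, 3), (117, 6), (104, 5), (9, 4), (119, 5), (106, 4), (121, 6), (13, 5),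 (147, 6), (118, 5), (82, 4), (148, 7), (119, 6), (11, 5), (152, 6), (16, 7), (133, 6), (119, 5), (136, 7), (14, 6), (15, 6), (152, 9), (15, 8), (140, 8), (111, 7), (98, 6), (75, 5), (65, 4), (48, 3), (35, 2), (26, 1), (143, 5), (89, 4), (68, 3), (149, 5), (16, 6), (93, 5), (10, 4), (12, 4), (145, 5), (103, 4), (147, 6), (105, 5), (148, 7), (106, 6), (149, 8), (107, 7), (151, 9), (152, 10), (147, 11), (132, 10), (118, 9), (105, 8), (93, 7), (82, 6), (10, 5), (150, 10), (135, 9), (121, 8), (13, 7), (151, 9), (136, 8), (14, 7), (16, 8), (133, 7), (94, 6), (11, 5), (150, 7), (135, 6), (151, 8), (136, 7), (16, 9), (131, 8), (117, 7), (104, 6), (92, 5), (132, 9), (118, 8), (105, 7), (93, 6), (133, 10), (119, 9), (106, 8), (94, 7), (135, 11), (121, 10), (13, 9), (136, 10), (14, 9), (124, 9), (85, 8), (74, 7), (64, 6), (55, 5), (47, 4), (34, 3), (25, 2), (22, 1), (2, 0), (140, 2), (35, 1), (30, 0), (143, 4), (128, 3), (114, 2), (147, 5), (132, 4), (118,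 3), (149, 6), (134, 5), (120, 4), (150, 7), (135, 6), (121, 5), (16, 8), (142, 8), (127, 7), (113, 6), (100, 5), (88, 4), (67, 3), (37, 2), (5, 1), (147, 3), (105, 2), (16, 4), (107, 3), (150, 5), (13, 4), (151, 4), (152, 5), (16, 6), (133, 5), (119, 4), (94, 3), (15, 6), (112, 5), (87, 4), (76, 3), (66, 2), (36, 1), (105, 3), (148, 7), (133, 6), (119, 5), (106, 4), (16, 8), (134, 7), (120, 6), (107, 5), (136, 8), (14, 7), (15, 7), (151, 7), (143, 8), (114, 7), (101, 6), (89, 5), (78, 4), (68, 3), (6, 2), (147, 4), (132, 3), (118, 2), (16, 5), (133, 4), (119, 3), (134, 5), (120, 4), (135, 6), (121, 5), (136, 7), (14, 6), (147, 7), (132, 6), (105, 5), (93, 4), (82, 3), (10, 2), (148, 6), (133, 5), (106, 4), (94, 3), (11, 2), (151, 5), (136, 4), (152, 6), (15, 5), (143, 5), (114, 4), (101, 3), (89, 2), (147, 6), (118, 5), (105, 4), (93, 3), (149, 7), (120, 6), (107, 5), (12, 4), (150, 6), (121, 5), (13, 4), (16, 5), (116, 4), (70, 3), (120, 5),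 (121, 6), (117, 7), (104, 6), (92, 5), (71, 4), (118, 8), (105, 7), (93, 6), (10, 5), (119, 7), (106, 6), (94, 5), (120, 8), (107, 7), (12, 6), (121, 7), (13, 6), (14, 6), (147, 6), (82, 5), (151, 7), (16, 8), (119, 7), (11, 6), (14, 6), (134, 6), (135, 7), (136, 8), (152, 10), (15, 9), (16, 9), (111, 8), (98, 7), (86, 6), (65, 5), (56, 4), (48, 3), (35, 2), (26, 1), (3, 0), (126, 2), (99, 1), (76, 0), (150, 2), (16, 3), (132, 3), (105, 2), (82, 1), (134, 4), (107, 3), (143, 6), (128, 5), (101, 4), (89, 3), (78, 2), (68, 1), (148, 3), (149, 4), (150, 5), (152, 6), (16, 7), (132, 6), (105, 5), (93, 4), (82, 3), (10, 2), (134, 5), (107, 4), (12, 3), (135, 4), (13, 3), (145, 4), (130, 3), (80, 2), (147, 5), (132, 4), (82, 3), (148, 6), (133, 5), (11, 4), (149, 5), (134, 4), (151, 6), (136, 5), (152, 7), (15, 6), (146, 6), (117, 5), (92, 4), (71, 3), (147, 7), (118, 6), (93, 5), (10, 4), (149, 6), (120, 5), (12, 4), (150, 5), (121, 4), (151, 6), (14,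 5), (147, 5), (105, 4), (150, 6), (13, 5), (151, 5), (16, 6), (120, 5), (121, 6), (14, 7), (150, 7), (13, 6), (151, 6), (141, 7), (112, 6), (87, 5), (66, 4), (57, 3), (49, 2), (36, 1), (4, 0), (114, 2), (89, 1), (68, 0), (149, 2), (151, 3), (150, 4), (121, 3), (145, 5), (116, 4), (103, 3), (91, 2), (70, 1), (147, 6), (118, 5), (105, 4), (93, 3), (10, 2), (149, 5), (120, 4), (107, 3), (12, 2), (152, 4), (16, 5), (131, 4), (117, 3), (104, 2), (133, 5), (119, 4), (106, 3), (135, 6), (121, 5), (13, 4), (132, 5), (118, 4), (82, 3), (136, 6), (14, 5), (15, 5), (149, 5), (151, 6), (152, 7), (16, 8), (136, 7), (14, 6), (142, 7), (127, 6), (88, 5), (77, 4), (67, 3), (58, 2), (50, 1), (37, 0), (145, 3), (103, 2), (152, 4), (146, 5), (131, 4), (104, 3), (150, 6), (135, 5), (13, 4), (16, 5), (132, 4), (148, 6), (133, 5), (16, 7), (134, 6), (152, 8), (15, 7), (16, 7), (91, 6), (80, 5), (70, 4), (61, 3), (8, 2), (92, 5), (81, 4), (71, 3), (9, 2), (94, 4), (11,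 3), (113, 5), (100, 4), (88, 3), (67, 2), (37, 1), (5, 0), (147, 2), (105, 1), (16, 3), (107, 2), (150, 4), (13, 3), (151, 3), (143, 4), (114, 3), (89, 2), (68, 1), (6, 0), (147, 2), (132, 1), (118, 0), (16, 3), (134, 2), (120, 1), (136, 3), (14, 2), (146, 3), (131, 2), (92, 1), (71, 0), (147, 4), (132, 3), (93, 2), (10, 1), (148, 3), (133, 2), (94, 1), (151, 4), (136, 3), (16, 5), (128, 4), (114, 3), (89, 2), (78, 1), (59, 0), (133, 3), (119, 2), (134, 4), (120, 3), (136, 5), (14, 4), (15, 4), (92, 3), (81, 2), (9, 1), (93, 2), (82, 1), (12, 3), (151, 3), (152, 4), (16, 5)]⟩,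
    ⟨4, [1, 0], [0, 1, 2, 3, 5, 6, 8, 12, 14], [(38, 1), (17, 0), (144, 12), (129, 11), (90, 10), (79, 9), (69, 8), (52, 7), (7, 6), (145, 11), (130, 10), (91, 9), (80, 8), (70, 7), (8, 6), (146, 10), (131, 9), (92, 8), (81, 7), (71, 6), (150, 11), (135, 10), (151, 12), (136, 11), (152, 13), (15, 12), (144, 12), (115, 11), (102, 10), (90, 9), (79, 8), (69, 7), (60, 6)], [(39, 1), (144, 7), (129, 6), (102, 5), (90, 4), (69, 3), (7, 2), (139, 6), (124, 5), (97, 4), (85, 3), (64, 2), (149, 5), (120, 4), (150, 6), (121, 5), (151, 7), (14, 6), (16, 6), (13, 5), (152, 5), (16, 6), (144, 6), (129, 5), (90, 4), (69, 3), (140, 7), (125, 6), (86, 5), (65, 4), (41, 3), (118, 8), (105, 7), (93, 6), (10, 5), (121, 7), (13, 6), (14, 6), (149, 6), (12, 5), (150, 5), (151, 6), (16, 7), (16, 8), (127, 7), (113, 6), (100, 5), (43, 4), (128, 10), (114, 9), (101, 8), (89, 7), (68, 6), (44, 5), (105, 8), (82, 7), (149, 10), (107, 9), (150, 11), (13, 10), (151, 10),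 (152, 11), (146, 12), (131, 11), (117, 10), (92, 9), (81, 8), (71, 7), (150, 13), (135, 12), (121, 11), (152, 14), (15, 13)], [(96, 7), (73, 6), (63, 5), (54, 4), (39, 3), (24, 2), (19, 1), (99, 9), (87, 8), (76, 7), (49, 6), (42, 5), (31, 4), (4, 3), (113, 5), (88, 4), (67, 3), (149, 5), (16, 6), (118, 6), (93, 5), (10, 4), (120, 5), (12, 4), (14, 4), (145, 7), (130, 6), (116, 5), (147, 8), (132, 7), (118, 6), (149, 9), (134, 8), (120, 7), (152, 10), (15, 9), (16, 9), (119, 8), (94, 7), (149, 10), (120, 9), (12, 8), (151, 9), (14, 8), (152, 8), (16, 9), (135, 8), (146, 10), (131, 9), (104, 8), (81, 7), (71, 6), (150, 11), (135, 10), (13, 9), (16, 10), (129, 9), (79, 8), (69, 7), (60, 6), (52, 5), (7, 4), (132, 8), (82, 7), (10, 6), (134, 7), (135, 8), (15, 9), (146, 9), (104, 8), (92, 7), (81, 6), (9, 5), (147, 8), (105, 7), (93, 6), (82, 5), (149, 9), (107, 8), (12, 7), (150, 8), (13, 7), (151, 7), (16, 8), (118, 7), (82, 6), (10, 5), (119,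 6), (11, 5), (148, 7), (133, 6), (119, 5), (151, 8), (136, 7), (14, 6), (152, 7), (15, 6), (150, 6), (151, 7), (152, 8), (16, 9), (125, 8), (111, 7), (98, 6), (75, 5), (48, 4), (30, 3), (145, 7), (130, 6), (116, 5), (147, 8), (132, 7), (118, 6), (148, 9), (133, 8), (119, 7), (149, 10), (134, 9), (120, 8), (151, 11), (136, 10), (14, 9), (152, 10), (15, 9), (148, 9), (94, 8), (11, 7), (16, 8), (142, 11), (127, 10), (113, 9), (100, 8), (88, 7), (67, 6), (50, 5), (5, 4), (132, 5), (149, 7), (134, 6), (16, 8), (135, 7), (136, 8), (15, 9), (143, 9), (114, 8), (101, 7), (89, 6), (68, 5), (51, 4), (132, 8), (118, 7), (105, 6), (149, 10), (134, 9), (120, 8), (107, 7), (150, 11), (135, 10), (121, 9), (13, 8), (151, 10), (136, 9), (14, 8), (16, 9), (129, 8), (90, 7), (69, 6), (52, 5), (130, 9), (91, 8), (70, 7), (8, 6), (131, 8), (92, 7), (71, 6), (134, 9), (12, 8)], [(83, 7), (53, 6), (45, 5), (38, 4), (32, 3), (27, 2), (20, 1), (17, 0), (140, 12), (125,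 11), (86, 10), (75, 9), (65, 8), (48, 7), (41, 6), (35, 5), (30, 4), (3, 3), (127, 5), (100, 4), (77, 3), (150, 5), (152, 6), (151, 7), (136, 6), (152, 8), (15, 7), (16, 7), (114, 6), (101, 5), (78, 4), (118, 7), (105, 6), (82, 5), (120, 8), (107, 7), (121, 9), (13, 8), (144, 9), (115, 8), (90, 7), (79, 6), (69, 5), (147, 10), (118, 9), (93, 8), (82, 7), (10, 6), (149, 9), (120, 8), (12, 7), (150, 8), (121, 7), (151, 9), (14, 8), (145, 8), (103, 7), (80, 6), (147, 9), (105, 8), (82, 7), (148, 10), (106, 9), (11, 8), (149, 9), (107, 8), (151, 10), (152, 11), (147, 12), (132, 11), (118, 10), (105, 9), (93, 8), (10, 7), (150, 11), (135, 10), (121, 9), (13, 8), (151, 10), (136, 9), (14, 8), (16, 9), (133, 8), (94, 7), (149, 10), (134, 9), (12, 8), (150, 9), (135, 8), (151, 10), (136, 9), (16, 11), (15, 10), (16, 10), (112, 9), (99, 8), (76, 7), (49, 6), (42, 5), (36, 4), (31, 3), (114, 7), (89, 6), (68, 5), (149, 7), (151, 8), (150, 9), (121, 8),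 (144, 10), (115, 9), (102, 8), (90, 7), (69, 6), (151, 11), (14, 10), (152, 10), (16, 11), (130, 10), (103, 9), (91, 8), (70, 7), (132, 11), (105, 10), (93, 9), (10, 8), (134, 10), (107, 9), (12, 8), (15, 9), (148, 9), (106, 8), (16, 10), (13, 9), (151, 9), (142, 10), (113, 9), (77, 8), (50, 7), (43, 6), (37, 5), (5, 4), (144, 6), (102, 5), (147, 7), (105, 6), (149, 8), (107, 7), (145, 9), (103, 8), (91, 7), (70, 6), (152, 10), (148, 11), (133, 10), (106, 9), (94, 8), (16, 12), (136, 11), (143, 13), (128, 12), (114, 11), (101, 10), (89, 9), (78, 8), (68, 7), (51, 6), (44, 5), (6, 4), (144, 6), (129, 5), (115, 4), (148, 7), (133, 6), (119, 5), (150, 8), (135, 7), (121, 6), (145, 9), (130, 8), (116, 7), (103, 6), (80, 5), (150, 10), (135, 9), (121, 8), (13, 7), (151, 9), (136, 8), (14, 7), (152, 8), (15, 7), (147, 7), (82, 6), (16, 8), (11, 7), (144, 11), (129, 10), (115, 9), (102, 8), (90, 7), (69, 6), (52, 5), (7, 4), (145, 10), (130, 9), (116,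 8), (103, 7), (91, 6), (70, 5), (8, 4), (148, 9), (133, 8), (119, 7), (106, 6), (94, 5), (149, 10), (134, 9), (120, 8), (107, 7), (12, 6), (16, 9), (127, 8), (113, 7), (100, 6), (77, 5), (67, 4), (148, 6), (16, 7), (128, 9), (114, 8), (101, 7), (78, 6), (68, 5), (148, 7), (150, 8), (151, 9), (152, 10), (146, 11), (131, 10), (117, 9), (104, 8), (81, 7), (71, 6), (149, 12), (134, 11), (120, 10), (107, 9), (16, 13), (128, 12), (114, 11), (101, 10), (89, 9), (78, 8), (68, 7), (59, 6), (6, 5), (146, 7), (131, 6), (117, 5), (151, 8), (136, 7), (14, 6), (152, 7), (15, 6), (147, 6), (16, 7), (133, 11), (119, 10), (106, 9), (94, 8), (11, 7), (134, 10), (120, 9), (107, 8), (12, 7), (144, 10), (129, 9), (115, 8), (102, 7), (69, 6), (60, 5), (145, 11), (130, 10), (116, 9), (103, 8), (70, 7), (61, 6), (146, 12), (131, 11), (117, 10), (104, 9), (71, 8), (9, 7), (150, 11), (135, 10), (121, 9), (13, 8), (151, 10), (136, 9), (14, 8), (152, 9), (15, 8), (145, 8),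 (70, 7), (8, 6), (146, 7), (71, 6), (152, 8), (146, 9), (131, 8), (71, 7), (9, 6), (148, 8), (133, 7), (149, 9), (134, 8), (151, 10), (136, 9), (16, 11), (134, 10), (120, 9), (12, 8), (135, 9), (121, 8), (136, 10), (14, 9), (15, 9), (139, 9), (97, 8), (74, 7), (64, 6), (40, 5), (29, 4), (25, 3), (2, 2), (141, 4), (36, 3), (31, 2), (114, 6), (89, 5), (68, 4), (149, 6), (151, 7), (150, 8), (121, 7), (16, 9), (114, 8), (101, 7), (89, 6), (68, 5), (6, 4), (147, 6), (132, 5), (118, 4), (16, 7), (134, 6), (120, 5), (135, 7), (121, 6), (136, 8), (14, 7), (132, 7), (105, 6), (93, 5), (10, 4), (133, 6), (106, 5), (94, 4), (136, 7), (15, 8), (113, 7), (100, 6), (88, 5), (77, 4), (5, 3), (149, 4), (16, 5), (118, 6), (105, 5), (93, 4), (82, 3), (120, 7), (107, 6), (12, 5), (121, 6), (13, 5), (115, 5), (79, 4), (69, 3), (117, 6), (81, 5), (71, 4), (118, 7), (82, 6), (10, 5), (121, 6), (14, 7), (147, 7), (105, 6), (82, 5), (151, 8), (16, 9), (119, 8), (106,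 7), (11, 6), (14, 7), (135, 7), (13, 6), (16, 7), (126, 6), (66, 5), (57, 4), (42, 3), (4, 2), (115, 4), (90, 3), (69, 2), (14, 5), (146, 6), (131, 5), (92, 4), (71, 3), (148, 7), (133, 6), (94, 5), (150, 8), (135, 7), (147, 9), (132, 8), (105, 7), (93, 6), (82, 5), (10, 4), (151, 8), (136, 7), (152, 9), (15, 8), (16, 8), (129, 8), (115, 7), (102, 6), (90, 5), (79, 4), (60, 3), (7, 2), (131, 7), (117, 6), (104, 5), (92, 4), (81, 3), (9, 2), (132, 6), (118, 5), (105, 4), (93, 3), (82, 2), (133, 7), (119, 6), (106, 5), (94, 4), (11, 3), (135, 6), (121, 5), (13, 4), (122, 5), (108, 4), (83, 3), (62, 2), (17, 1), (0, 0), (138, 5), (123, 4), (28, 3), (24, 2), (21, 1), (19, 0), (98, 8), (86, 7), (75, 6), (48, 5), (41, 4), (30, 3), (26, 2), (142, 6), (88, 5), (67, 4), (149, 6), (16, 7), (151, 7), (152, 8), (16, 9), (129, 8), (115, 7), (90, 6), (69, 5), (132, 9), (118, 8), (93, 7), (10, 6), (134, 8), (120, 7), (12, 6), (135, 7), (121, 6), (136, 8), (14,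 7), (130, 7), (103, 6), (132, 8), (105, 7), (133, 9), (106, 8), (134, 10), (107, 9), (136, 11), (15, 12), (119, 11), (106, 10), (94, 9), (11, 8), (149, 11), (120, 10), (107, 9), (12, 8), (150, 10), (121, 9), (13, 8), (151, 9), (14, 8), (16, 8), (99, 8), (66, 7), (49, 6), (42, 5), (31, 4), (4, 3), (113, 5), (88, 4), (67, 3), (149, 5), (16, 6), (118, 6), (93, 5), (10, 4), (120, 5), (12, 4), (14, 4), (145, 7), (130, 6), (116, 5), (147, 8), (132, 7), (118, 6), (149, 9), (134, 8), (120, 7), (152, 10), (15, 9), (16, 9), (118, 8), (93, 7), (10, 6), (14, 7), (150, 8), (135, 7), (16, 9), (128, 8), (101, 7), (89, 6), (51, 5), (44, 4), (103, 7), (80, 6), (13, 8), (134, 9), (120, 8), (135, 10), (121, 9), (15, 11), (115, 10), (102, 9), (90, 8), (79, 7), (52, 6), (7, 5), (116, 9), (103, 8), (91, 7), (80, 6), (8, 5), (118, 8), (105, 7), (93, 6), (82, 5), (119, 9), (106, 8), (94, 7), (11, 6), (14, 8), (141, 9), (126, 8), (99, 7), (87, 6), (66, 5), (36, 4), (31,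 3), (114, 7), (89, 6), (68, 5), (149, 7), (151, 8), (150, 9), (121, 8), (147, 10), (118, 9), (105, 8), (93, 7), (10, 6), (151, 9), (14, 8), (152, 8), (16, 9), (134, 8), (107, 7), (12, 6), (136, 7), (15, 8), (150, 8), (121, 7), (13, 6), (16, 7), (146, 8), (131, 7), (117, 6), (150, 9), (135, 8), (121, 7), (16, 10), (127, 9), (113, 8), (100, 7), (58, 6), (37, 5), (5, 4), (146, 6), (104, 5), (150, 7), (13, 6), (16, 6), (128, 8), (114, 7), (101, 6), (59, 5), (6, 4), (146, 6), (131, 5), (117, 4), (151, 7), (136, 6), (14, 5), (152, 6), (15, 5), (150, 5), (151, 6), (152, 7), (146, 8), (131, 7), (117, 6), (104, 5), (9, 4), (149, 7), (134, 6), (120, 5), (107, 4), (16, 8), (15, 7), (139, 7), (110, 6), (97, 5), (85, 4), (25, 3), (22, 2), (2, 1), (140, 3), (35, 2), (30, 1), (143, 5), (128, 4), (114, 3), (147, 6), (132, 5), (118, 4), (149, 7), (134, 6), (120, 5), (150, 8), (135, 7), (121, 6), (16, 9), (142, 9), (127, 8), (113, 7), (100, 6), (88, 5), (67, 4),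 (37, 3), (5, 2), (147, 4), (105, 3), (16, 5), (107, 4), (150, 6), (13, 5), (151, 5), (152, 6), (16, 7), (133, 6), (119, 5), (94, 4), (15, 7), (112, 6), (87, 5), (76, 4), (66, 3), (36, 2), (105, 4), (148, 8), (133, 7), (119, 6), (106, 5), (16, 9), (134, 8), (120, 7), (107, 6), (136, 9), (14, 8), (15, 8), (151, 8), (143, 9), (114, 8), (101, 7), (89, 6), (78, 5), (68, 4), (6, 3), (147, 5), (132, 4), (118, 3), (16, 6), (133, 5), (119, 4), (134, 6), (120, 5), (135, 7), (121, 6), (136, 8), (14, 7), (147, 8), (132, 7), (105, 6), (93, 5), (82, 4), (10, 3), (148, 7), (133, 6), (106, 5), (94, 4), (11, 3), (151, 6), (136, 5), (152, 7), (15, 6), (149, 6), (120, 5), (107, 4), (12, 3), (150, 5), (121, 4), (13, 3), (151, 4), (14, 3), (16, 3), (151, 4), (16, 5), (111, 4), (98, 3), (26, 2), (3, 1), (126, 3), (99, 2), (76, 1), (150, 3), (16, 4), (132, 4), (105, 3), (82, 2), (134, 5), (107, 4), (150, 7), (135, 6), (13, 5), (151, 6), (136, 5), (142, 7), (127, 6),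 (113, 5), (88, 4), (77, 3), (67, 2), (148, 4), (16, 5), (151, 6), (152, 7), (16, 8), (128, 7), (114, 6), (89, 5), (78, 4), (68, 3), (148, 5), (149, 6), (151, 7), (152, 8), (144, 9), (129, 8), (115, 7), (90, 6), (79, 5), (69, 4), (145, 10), (130, 9), (116, 8), (91, 7), (80, 6), (70, 5), (147, 11), (132, 10), (118, 9), (93, 8), (82, 7), (10, 6), (148, 10), (133, 9), (119, 8), (94, 7), (11, 6), (149, 9), (134, 8), (120, 7), (12, 6), (152, 8), (15, 7), (16, 7), (118, 6), (119, 7), (14, 8), (149, 8), (150, 9), (151, 10), (152, 11), (16, 12), (136, 11), (14, 10), (152, 11), (15, 10), (16, 10), (96, 9), (84, 8), (73, 7), (63, 6), (46, 5), (39, 4), (33, 3), (28, 2), (24, 1), (1, 0), (112, 6), (99, 5), (66, 4), (49, 3), (42, 2), (36, 1), (4, 0), (114, 2), (89, 1), (68, 0), (149, 2), (151, 3), (150, 4), (121, 3), (144, 5), (115, 4), (102, 3), (90, 2), (69, 1), (151, 6), (14, 5), (152, 5), (16, 6), (130, 5), (103, 4), (91, 3), (70, 2), (132, 6), (105, 5),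 (93, 4), (10, 3), (134, 5), (107, 4), (12, 3), (15, 4), (147, 4), (105, 3), (151, 5), (152, 6), (16, 7), (135, 6), (121, 5), (13, 4), (151, 6), (136, 5), (14, 4), (146, 5), (131, 4), (71, 3), (150, 6), (135, 5), (16, 7), (127, 6), (100, 5), (67, 4), (58, 3), (50, 2), (43, 1), (37, 0), (144, 3), (102, 2), (147, 4), (105, 3), (149, 5), (107, 4), (145, 6), (103, 5), (91, 4), (70, 3), (152, 7), (146, 8), (131, 7), (104, 6), (92, 5), (71, 4), (150, 9), (135, 8), (13, 7), (16, 8), (132, 7), (93, 6), (10, 5), (150, 7), (135, 6), (152, 8), (15, 7), (143, 7), (101, 6), (89, 5), (59, 4), (51, 3), (44, 2), (6, 1), (144, 3), (129, 2), (115, 1), (148, 4), (133, 3), (119, 2), (150, 5), (135, 4), (121, 3), (145, 6), (130, 5), (116, 4), (103, 3), (80, 2), (150, 7), (135, 6), (121, 5), (13, 4), (151, 6), (136, 5), (14, 4), (152, 5), (15, 4), (146, 4), (81, 3), (151, 5), (152, 6), (149, 7), (134, 6), (120, 5), (150, 8), (135, 7), (121, 6), (16, 9), (131, 8), (117,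 7), (104, 6), (92, 5), (81, 4), (9, 3), (134, 7), (120, 6), (107, 5), (12, 4), (143, 7), (128, 6), (114, 5), (101, 4), (78, 3), (51, 2), (44, 1), (103, 4), (80, 3), (13, 5), (133, 6), (119, 5), (11, 4), (135, 5), (121, 4), (136, 6), (14, 5), (15, 5), (147, 5), (105, 4), (149, 6), (107, 5), (150, 7), (13, 6), (144, 6), (90, 5), (69, 4), (52, 3), (7, 2), (147, 5), (93, 4), (10, 3), (149, 4), (12, 3), (150, 3), (152, 4), (16, 5), (130, 4), (103, 3), (8, 2), (131, 3), (104, 2), (133, 4), (106, 3), (135, 5), (13, 4), (147, 5), (132, 4), (82, 3), (148, 6), (133, 5), (11, 4), (152, 5), (15, 4), (16, 4), (134, 6), (120, 5), (135, 7), (121, 6), (15, 8), (150, 8), (121, 7), (13, 6), (151, 7), (14, 6), (152, 6), (16, 7), (126, 6), (87, 5), (76, 4), (66, 3), (57, 2), (36, 1), (31, 0), (114, 4), (89, 3), (68, 2), (149, 4), (151, 5), (150, 6), (121, 5), (146, 7), (117, 6), (104, 5), (92, 4), (71, 3), (148, 8), (119, 7), (106, 6), (94, 5), (150, 9), (121, 8),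 (13, 7), (147, 8), (118, 7), (93, 6), (82, 5), (10, 4), (151, 7), (14, 6), (152, 6), (16, 7), (133, 6), (94, 5), (11, 4), (149, 6), (134, 5), (12, 4), (151, 5), (136, 4), (152, 6), (15, 5), (16, 5), (127, 5), (113, 4), (58, 3), (37, 2), (5, 1), (146, 3), (104, 2), (150, 4), (13, 3), (16, 3), (129, 4), (115, 3), (60, 2), (131, 5), (117, 4), (9, 3), (132, 4), (118, 3), (134, 5), (120, 4), (136, 6), (14, 5), (137, 6), (122, 5), (83, 4), (62, 3), (38, 2), (32, 1), (23, 0), (143, 10), (128, 9), (89, 8), (78, 7), (68, 6), (59, 5), (51, 4), (6, 3), (145, 5), (130, 4), (116, 3), (150, 6), (135, 5), (121, 4), (151, 7), (136, 6), (14, 5), (152, 6), (15, 5), (146, 5), (104, 4), (151, 6), (152, 7), (147, 8), (132, 7), (118, 6), (105, 5), (16, 9), (133, 8), (119, 7), (106, 6), (134, 9), (120, 8), (107, 7), (15, 10), (148, 10), (119, 9), (106, 8), (94, 7), (11, 6), (149, 9), (120, 8), (107, 7), (12, 6), (16, 8), (115, 7), (102, 6), (69, 5), (60, 4), (52, 3),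 (116, 8), (103, 7), (70, 6), (61, 5), (8, 4), (117, 7), (104, 6), (71, 5), (9, 4), (121, 6), (13, 5), (14, 5), (132, 5), (10, 4), (133, 4), (136, 5), (149, 7), (134, 6), (120, 5), (150, 8), (135, 7), (121, 6), (151, 9), (136, 8), (14, 7), (152, 8), (15, 7), (16, 7), (16, 8), (123, 7), (96, 6), (84, 5), (73, 4), (39, 3), (28, 2), (24, 1), (142, 5), (100, 4), (58, 3), (150, 6), (13, 5), (16, 5), (59, 4), (131, 7), (117, 6), (9, 5), (134, 6), (120, 5), (144, 8), (129, 7), (115, 6), (90, 5), (147, 9), (132, 8), (118, 7), (93, 6), (149, 10), (134, 9), (120, 8), (12, 7), (150, 9), (135, 8), (121, 7), (152, 10), (15, 9), (16, 9), (119, 8), (106, 7), (14, 9), (134, 9), (107, 8), (135, 10), (13, 9), (15, 9), (150, 9), (151, 10), (152, 11), (16, 12), (15, 11), (110, 10), (97, 9), (85, 8), (74, 7), (64, 6), (40, 5), (34, 4), (29, 3), (25, 2), (127, 8), (113, 7), (77, 6), (67, 5), (37, 4), (147, 7), (105, 6), (16, 8), (106, 7), (151, 9), (152, 10), (147,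 11), (132, 10), (118, 9), (105, 8), (82, 7), (10, 6), (149, 10), (134, 9), (120, 8), (107, 7), (150, 11), (135, 10), (121, 9), (13, 8), (143, 10), (128, 9), (114, 8), (89, 7), (78, 6), (6, 5), (148, 7), (133, 6), (119, 5), (149, 8), (134, 7), (120, 6), (151, 9), (136, 8), (14, 7), (152, 8), (15, 7), (16, 7), (93, 6), (82, 5), (12, 7), (144, 8), (102, 7), (79, 6), (69, 5), (146, 9), (104, 8), (81, 7), (71, 6), (147, 10), (105, 9), (82, 8), (10, 7), (150, 9), (13, 8), (151, 8), (16, 9), (118, 8), (82, 7), (14, 9), (148, 9), (11, 8), (151, 8), (152, 9), (149, 10), (134, 9), (120, 8), (150, 11), (135, 10), (121, 9), (151, 12), (136, 11), (14, 10), (16, 11), (135, 10), (13, 9), (151, 10), (136, 9), (140, 11), (125, 10), (111, 9), (86, 8), (65, 7), (56, 6), (41, 5), (30, 4), (26, 3), (142, 7), (88, 6), (67, 5), (149, 7), (16, 8), (151, 8), (152, 9), (16, 10), (129, 9), (115, 8), (90, 7), (69, 6), (132, 10), (118, 9), (93, 8), (10, 7), (134, 9), (120,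 8), (12, 7), (135, 8), (121, 7), (136, 9), (14, 8), (131, 8), (104, 7), (132, 9), (105, 8), (134, 10), (107, 9), (135, 11), (13, 10), (136, 10), (132, 11), (118, 10), (93, 9), (10, 8), (135, 10), (121, 9), (136, 11), (14, 10), (149, 11), (134, 10), (107, 9), (12, 8), (150, 10), (135, 9), (13, 8), (151, 9), (136, 8), (16, 10), (136, 9), (14, 8), (15, 8), (16, 8), (57, 7), (42, 6), (31, 5), (4, 4), (113, 6), (88, 5), (67, 4), (149, 6), (16, 7), (118, 7), (93, 6), (10, 5), (120, 6), (12, 5), (14, 5), (146, 8), (131, 7), (117, 6), (148, 9), (133, 8), (119, 7), (150, 10), (135, 9), (121, 8), (143, 11), (128, 10), (114, 9), (101, 8), (78, 7), (59, 6), (44, 5), (104, 8), (81, 7), (133, 11), (119, 10), (106, 9), (11, 8), (135, 10), (121, 9), (13, 8), (136, 9), (14, 8), (15, 8), (147, 8), (149, 9), (150, 10), (16, 11), (105, 10), (93, 9), (10, 8), (106, 9), (94, 8), (110, 11), (97, 10), (85, 9), (74, 8), (55, 7), (40, 6), (34, 5), (29, 4), (22, 3), (2,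 2), (140, 4), (35, 3), (30, 2), (143, 6), (128, 5), (114, 4), (147, 7), (132, 6), (118, 5), (149, 8), (134, 7), (120, 6), (150, 9), (135, 8), (121, 7), (16, 10), (142, 10), (127, 9), (113, 8), (100, 7), (88, 6), (67, 5), (37, 4), (5, 3), (147, 5), (105, 4), (16, 6), (107, 5), (150, 7), (13, 6), (151, 6), (152, 7), (16, 8), (133, 7), (119, 6), (94, 5), (15, 8), (113, 7), (88, 6), (77, 5), (67, 4), (37, 3), (147, 6), (105, 5), (16, 7), (106, 6), (149, 8), (107, 7), (16, 9), (118, 9), (105, 8), (93, 7), (82, 6), (10, 5), (120, 8), (107, 7), (12, 6), (121, 7), (13, 6), (114, 6), (78, 5), (6, 4), (148, 6), (133, 5), (119, 4), (151, 7), (136, 6), (14, 5), (147, 6), (132, 5), (82, 4), (149, 7), (134, 6), (150, 8), (135, 7), (16, 9), (129, 8), (102, 7), (90, 6), (79, 5), (69, 4), (131, 9), (104, 8), (92, 7), (81, 6), (71, 5), (132, 10), (105, 9), (93, 8), (82, 7), (10, 6), (135, 9), (13, 8), (136, 8), (146, 10), (131, 9), (117, 8), (92, 7), (81, 6), (9,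 5), (147, 9), (132, 8), (118, 7), (93, 6), (82, 5), (148, 10), (133, 9), (119, 8), (94, 7), (11, 6), (149, 9), (134, 8), (120, 7), (12, 6), (150, 8), (135, 7), (121, 6), (151, 9), (136, 8), (14, 7), (16, 8), (133, 7), (106, 6), (136, 8), (15, 9), (120, 8), (107, 7), (121, 9), (13, 8), (14, 8), (150, 8), (16, 9), (111, 9), (98, 8), (86, 7), (75, 6), (65, 5), (41, 4), (30, 3), (3, 2), (127, 4), (100, 3), (77, 2), (150, 4), (152, 5), (151, 6), (136, 5), (152, 7), (15, 6), (16, 6), (115, 5), (102, 4), (79, 3), (118, 6), (105, 5), (82, 4), (120, 7), (107, 6), (121, 8), (13, 7), (14, 7), (93, 6), (82, 5), (10, 4), (148, 8), (119, 7), (106, 6), (94, 5), (11, 4), (16, 7), (120, 6), (107, 5), (12, 4), (121, 5), (13, 4), (14, 4), (150, 4), (151, 5), (141, 6), (112, 5), (99, 4), (42, 3), (31, 2), (115, 6), (90, 5), (69, 4), (14, 7), (150, 8), (135, 7), (16, 9), (136, 8), (145, 10), (130, 9), (116, 8), (103, 7), (91, 6), (70, 5), (146, 11), (131, 10), (117,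 9), (104, 8), (92, 7), (71, 6), (151, 12), (136, 11), (14, 10), (139, 11), (124, 10), (97, 9), (85, 8), (64, 7), (55, 6), (47, 5), (40, 4), (29, 3), (25, 2), (127, 8), (113, 7), (77, 6), (67, 5), (37, 4), (147, 7), (105, 6), (16, 8), (106, 7), (151, 9), (152, 10), (147, 11), (132, 10), (118, 9), (105, 8), (82, 7), (10, 6), (149, 10), (134, 9), (120, 8), (107, 7), (150, 11), (135, 10), (121, 9), (13, 8), (144, 10), (129, 9), (115, 8), (90, 7), (79, 6), (146, 11), (131, 10), (117, 9), (92, 8), (81, 7), (147, 12), (132, 11), (118, 10), (93, 9), (82, 8), (150, 13), (135, 12), (121, 11), (151, 14), (136, 13), (14, 12), (16, 13), (130, 12), (103, 11), (91, 10), (80, 9), (70, 8), (61, 7), (134, 13), (107, 12), (12, 11), (135, 12), (13, 11), (131, 11), (81, 10), (71, 9), (9, 8), (132, 10), (82, 9), (10, 8), (133, 9), (11, 8), (134, 8), (135, 9), (136, 10), (147, 12), (132, 11), (118, 10), (105, 9), (93, 8), (151, 13), (136, 12), (14, 11), (16, 12), (134,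 11), (107, 10), (12, 9), (135, 10), (13, 9), (136, 9), (150, 11), (135, 10), (121, 9), (16, 12), (15, 11), (16, 11), (111, 10), (98, 9), (65, 8), (48, 7), (41, 6), (35, 5), (30, 4), (26, 3), (142, 7), (88, 6), (67, 5), (149, 7), (16, 8), (151, 8), (152, 9), (16, 10), (128, 9), (114, 8), (89, 7), (68, 6), (149, 8), (151, 9), (152, 10), (147, 11), (132, 10), (118, 9), (93, 8), (10, 7), (149, 10), (134, 9), (120, 8), (12, 7), (150, 9), (135, 8), (121, 7), (16, 10), (129, 9), (115, 8), (102, 7), (132, 10), (118, 9), (105, 8), (134, 11), (120, 10), (107, 9), (135, 12), (121, 11), (13, 10), (136, 11), (14, 10), (130, 10), (91, 9), (70, 8), (132, 11), (93, 10), (10, 9), (133, 10), (94, 9), (134, 11), (12, 10), (136, 10), (15, 11), (118, 10), (82, 9), (121, 11), (14, 12), (150, 12), (13, 11), (151, 11), (141, 12), (112, 11), (76, 10), (66, 9), (49, 8), (42, 7), (36, 6), (31, 5), (4, 4), (113, 6), (88, 5), (67, 4), (149, 6), (16, 7), (118, 7), (93, 6),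 (10, 5), (120, 6), (12, 5), (14, 5), (102, 6), (145, 10), (130, 9), (116, 8), (103, 7), (147, 11), (132, 10), (118, 9), (105, 8), (149, 12), (134, 11), (120, 10), (107, 9), (152, 13), (15, 12), (16, 12), (118, 11), (105, 10), (93, 9), (10, 8), (14, 10), (148, 11), (133, 10), (106, 9), (94, 8), (16, 12), (136, 11), (142, 13), (127, 12), (113, 11), (100, 10), (88, 9), (77, 8), (50, 7), (43, 6), (37, 5), (5, 4), (144, 6), (102, 5), (147, 7), (105, 6), (149, 8), (107, 7), (145, 9), (103, 8), (91, 7), (70, 6), (152, 10), (148, 11), (133, 10), (106, 9), (94, 8), (16, 12), (134, 11), (107, 10), (12, 9), (150, 11), (135, 10), (13, 9), (151, 10), (136, 9), (152, 11), (15, 10), (16, 10), (116, 9), (80, 8), (70, 7), (8, 6), (117, 8), (81, 7), (71, 6), (119, 9), (11, 8), (121, 8), (14, 9), (13, 8)]⟩,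
    ⟨4, [2, 0], [0, 2, 4, 6, 7, 9, 10, 13, 15], [(38, 1), (18, 0), (144, 8), (129, 7), (115, 6), (79, 5), (7, 4), (145, 7), (130, 6), (116, 5), (80, 4), (146, 8), (131, 7), (117, 6), (81, 5), (150, 9), (135, 8), (121, 7), (151, 10), (136, 9), (14, 8), (152, 9), (15, 8), (144, 8), (102, 7), (79, 6), (60, 5), (52, 4)], [(40, 1), (144, 7), (115, 6), (102, 5), (69, 4), (60, 3), (7, 2), (141, 6), (112, 5), (99, 4), (66, 3), (57, 2), (105, 5), (82, 4), (150, 9), (135, 8), (121, 7), (13, 6), (16, 8), (136, 7), (14, 6), (144, 7), (129, 6), (79, 5), (69, 4), (60, 3), (143, 8), (128, 7), (78, 6), (68, 5), (59, 4), (44, 3), (104, 6), (81, 5), (132, 9), (118, 8), (105, 7), (82, 6), (148, 11), (133, 10), (119, 9), (106, 8), (11, 7), (152, 10), (15, 9), (16, 9), (116, 8), (103, 7), (70, 6), (61, 5), (118, 9), (105, 8), (10, 7), (119, 8), (106, 7), (14, 9)], [(138, 9), (109, 8), (84, 7), (63, 6), (54, 5), (39, 4), (28, 3), (24, 2), (1, 1), (112, 7), (99, 6),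 (66, 5), (49, 4), (42, 3), (36, 2), (4, 1), (114, 3), (89, 2), (68, 1), (149, 3), (151, 4), (150, 5), (121, 4), (144, 6), (115, 5), (102, 4), (90, 3), (69, 2), (151, 7), (14, 6), (152, 6), (16, 7), (130, 6), (103, 5), (91, 4), (70, 3), (132, 7), (105, 6), (93, 5), (10, 4), (134, 6), (107, 5), (12, 4), (15, 5), (147, 5), (105, 4), (151, 6), (152, 7), (16, 8), (135, 7), (121, 6), (13, 5), (151, 7), (136, 6), (14, 5), (146, 6), (131, 5), (71, 4), (150, 7), (135, 6), (16, 8), (127, 7), (100, 6), (67, 5), (58, 4), (50, 3), (43, 2), (37, 1), (144, 4), (102, 3), (147, 5), (105, 4), (149, 6), (107, 5), (145, 7), (103, 6), (91, 5), (70, 4), (152, 8), (146, 9), (131, 8), (104, 7), (92, 6), (71, 5), (150, 10), (135, 9), (13, 8), (16, 9), (132, 8), (93, 7), (10, 6), (150, 8), (135, 7), (152, 9), (15, 8), (143, 8), (101, 7), (89, 6), (59, 5), (51, 4), (44, 3), (6, 2), (144, 4), (129, 3), (115, 2), (148, 5), (133, 4), (119, 3), (150, 6), (135, 5), (121, 4),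 (145, 7), (130, 6), (116, 5), (103, 4), (80, 3), (150, 8), (135, 7), (121, 6), (13, 5), (151, 7), (136, 6), (14, 5), (152, 6), (15, 5), (146, 5), (81, 4), (151, 6), (152, 7), (149, 8), (134, 7), (120, 6), (150, 9), (135, 8), (121, 7), (16, 10), (131, 9), (117, 8), (104, 7), (92, 6), (81, 5), (9, 4), (134, 8), (120, 7), (107, 6), (12, 5), (144, 8), (129, 7), (115, 6), (102, 5), (79, 4), (52, 3), (7, 2), (147, 7), (132, 6), (118, 5), (105, 4), (82, 3), (149, 8), (134, 7), (120, 6), (107, 5), (150, 9), (135, 8), (121, 7), (13, 6), (152, 8), (15, 7), (16, 7), (117, 6), (92, 5), (81, 4), (71, 3), (118, 7), (93, 6), (82, 5), (10, 4), (120, 6), (12, 5), (121, 5), (14, 6), (147, 6), (105, 5), (82, 4), (148, 7), (106, 6), (11, 5), (152, 6), (16, 7), (134, 6), (107, 5), (135, 7), (13, 6), (15, 6), (151, 6), (16, 7), (140, 7), (111, 6), (86, 5), (65, 4), (56, 3), (48, 2), (30, 1), (145, 5), (130, 4), (116, 3), (147, 6), (132, 5), (118, 4), (148, 7), (133,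 6), (119, 5), (149, 8), (134, 7), (120, 6), (151, 9), (136, 8), (14, 7), (152, 8), (15, 7), (146, 7), (92, 6), (81, 5), (71, 4), (147, 8), (93, 7), (82, 6), (10, 5), (149, 7), (12, 6), (150, 6), (151, 7), (147, 8), (118, 7), (105, 6), (82, 5), (150, 9), (121, 8), (13, 7), (151, 8), (14, 7), (16, 7), (151, 10), (14, 9), (16, 9), (100, 8), (88, 7), (77, 6), (67, 5), (58, 4), (50, 3), (5, 2), (131, 3), (135, 4), (147, 6), (132, 5), (105, 4), (16, 7), (133, 6), (106, 5), (149, 8), (134, 7), (107, 6), (16, 9), (135, 8), (13, 7), (128, 7), (89, 6), (78, 5), (68, 4), (59, 3), (51, 2), (131, 6), (117, 5), (104, 4), (136, 7), (14, 6), (15, 6), (105, 5), (148, 7), (106, 6), (149, 8), (107, 7), (152, 9), (144, 10), (129, 9), (102, 8), (90, 7), (79, 6), (69, 5), (60, 4), (52, 3), (145, 11), (130, 10), (103, 9), (91, 8), (80, 7), (70, 6), (61, 5), (8, 4), (146, 10), (131, 9), (104, 8), (92, 7), (81, 6), (71, 5), (9, 4), (149, 9), (134, 8), (107, 7), (12, 6)],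 [(83, 7), (53, 6), (45, 5), (38, 4), (32, 3), (27, 2), (20, 1), (17, 0), (140, 12), (125, 11), (86, 10), (75, 9), (65, 8), (48, 7), (41, 6), (35, 5), (30, 4), (3, 3), (127, 5), (100, 4), (77, 3), (150, 5), (152, 6), (151, 7), (136, 6), (152, 8), (15, 7), (16, 7), (114, 6), (101, 5), (78, 4), (118, 7), (105, 6), (82, 5), (120, 8), (107, 7), (121, 9), (13, 8), (144, 9), (115, 8), (90, 7), (79, 6), (69, 5), (147, 10), (118, 9), (93, 8), (82, 7), (10, 6), (149, 9), (120, 8), (12, 7), (150, 8), (121, 7), (151, 9), (14, 8), (145, 8), (103, 7), (80, 6), (147, 9), (105, 8), (82, 7), (148, 10), (106, 9), (11, 8), (149, 9), (107, 8), (151, 10), (152, 11), (147, 12), (132, 11), (118, 10), (105, 9), (93, 8), (10, 7), (150, 11), (135, 10), (121, 9), (13, 8), (151, 10), (136, 9), (14, 8), (16, 9), (133, 8), (94, 7), (149, 10), (134, 9), (12, 8), (150, 9), (135, 8), (151, 10), (136, 9), (16, 11), (15, 10), (16, 10), (112, 9), (99, 8), (76, 7), (49, 6), (42,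 5), (36, 4), (31, 3), (114, 7), (89, 6), (68, 5), (149, 7), (151, 8), (150, 9), (121, 8), (144, 10), (115, 9), (102, 8), (90, 7), (69, 6), (151, 11), (14, 10), (152, 10), (16, 11), (130, 10), (103, 9), (91, 8), (70, 7), (132, 11), (105, 10), (93, 9), (10, 8), (134, 10), (107, 9), (12, 8), (15, 9), (148, 9), (106, 8), (16, 10), (13, 9), (151, 9), (142, 10), (113, 9), (77, 8), (50, 7), (43, 6), (37, 5), (5, 4), (144, 6), (102, 5), (147, 7), (105, 6), (149, 8), (107, 7), (145, 9), (103, 8), (91, 7), (70, 6), (152, 10), (148, 11), (133, 10), (106, 9), (94, 8), (16, 12), (136, 11), (143, 13), (128, 12), (114, 11), (101, 10), (89, 9), (78, 8), (68, 7), (51, 6), (44, 5), (6, 4), (144, 6), (129, 5), (115, 4), (148, 7), (133, 6), (119, 5), (150, 8), (135, 7), (121, 6), (145, 9), (130, 8), (116, 7), (103, 6), (80, 5), (150, 10), (135, 9), (121, 8), (13, 7), (151, 9), (136, 8), (14, 7), (152, 8), (15, 7), (147, 7), (82, 6), (16, 8), (11, 7), (144, 11), (129,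 10), (115, 9), (102, 8), (90, 7), (69, 6), (52, 5), (7, 4), (145, 10), (130, 9), (116, 8), (103, 7), (91, 6), (70, 5), (8, 4), (148, 9), (133, 8), (119, 7), (106, 6), (94, 5), (149, 10), (134, 9), (120, 8), (107, 7), (12, 6), (16, 9), (127, 8), (113, 7), (100, 6), (77, 5), (67, 4), (148, 6), (16, 7), (128, 9), (114, 8), (101, 7), (78, 6), (68, 5), (148, 7), (150, 8), (151, 9), (152, 10), (146, 11), (131, 10), (117, 9), (104, 8), (81, 7), (71, 6), (149, 12), (134, 11), (120, 10), (107, 9), (16, 13), (128, 12), (114, 11), (101, 10), (89, 9), (78, 8), (68, 7), (59, 6), (6, 5), (146, 7), (131, 6), (117, 5), (151, 8), (136, 7), (14, 6), (152, 7), (15, 6), (147, 6), (16, 7), (133, 11), (119, 10), (106, 9), (94, 8), (11, 7), (134, 10), (120, 9), (107, 8), (12, 7), (144, 10), (129, 9), (115, 8), (102, 7), (69, 6), (60, 5), (145, 11), (130, 10), (116, 9), (103, 8), (70, 7), (61, 6), (146, 12), (131, 11), (117, 10), (104, 9), (71, 8), (9, 7), (150, 11),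 (135, 10), (121, 9), (13, 8), (151, 10), (136, 9), (14, 8), (152, 9), (15, 8), (145, 8), (70, 7), (8, 6), (146, 7), (71, 6), (152, 8), (146, 9), (131, 8), (71, 7), (9, 6), (148, 8), (133, 7), (149, 9), (134, 8), (151, 10), (136, 9), (16, 11), (134, 10), (120, 9), (12, 8), (135, 9), (121, 8), (136, 10), (14, 9), (15, 9), (138, 9), (96, 8), (73, 7), (63, 6), (39, 5), (28, 4), (24, 3), (19, 2), (1, 1), (110, 7), (97, 6), (64, 5), (47, 4), (40, 3), (34, 2), (25, 1), (128, 7), (114, 6), (78, 5), (68, 4), (6, 3), (147, 5), (132, 4), (118, 3), (16, 6), (133, 5), (119, 4), (136, 6), (14, 5), (15, 5), (82, 4), (10, 3), (144, 6), (102, 5), (90, 4), (79, 3), (146, 7), (104, 6), (92, 5), (81, 4), (147, 8), (105, 7), (93, 6), (82, 5), (150, 9), (13, 8), (151, 8), (16, 9), (116, 8), (91, 7), (80, 6), (70, 5), (61, 4), (120, 9), (12, 8), (121, 8), (118, 9), (105, 8), (82, 7), (10, 6), (14, 8), (150, 8), (13, 7), (16, 7), (112, 7), (76, 6), (57, 5), (49, 4),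 (42, 3), (4, 2), (115, 4), (90, 3), (69, 2), (14, 5), (145, 6), (130, 5), (91, 4), (70, 3), (147, 7), (132, 6), (93, 5), (10, 4), (149, 6), (134, 5), (12, 4), (152, 5), (15, 4), (16, 4), (106, 6), (11, 5), (151, 6), (142, 7), (113, 6), (100, 5), (58, 4), (50, 3), (43, 2), (91, 5), (70, 4), (131, 7), (92, 6), (71, 5), (135, 8), (150, 10), (135, 9), (13, 8), (151, 9), (136, 8), (16, 10), (129, 9), (115, 8), (90, 7), (69, 6), (60, 5), (52, 4), (7, 3), (130, 8), (116, 7), (91, 6), (70, 5), (61, 4), (8, 3), (133, 7), (119, 6), (94, 5), (134, 8), (120, 7), (12, 6), (135, 7), (121, 6), (126, 8), (112, 7), (99, 6), (76, 5), (66, 4), (57, 3), (31, 2), (117, 6), (92, 5), (71, 4), (119, 7), (94, 6), (121, 8), (118, 9), (105, 8), (93, 7), (82, 6), (10, 5), (14, 8), (148, 9), (133, 8), (106, 7), (94, 6), (11, 5), (16, 8), (135, 7), (13, 6), (151, 7), (136, 6), (152, 8), (15, 7), (146, 7), (117, 6), (92, 5), (9, 4), (150, 6), (121, 5), (16, 7), (113, 6), (100,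 5), (88, 4), (5, 3), (150, 4), (151, 5), (143, 6), (114, 5), (101, 4), (89, 3), (146, 7), (117, 6), (104, 5), (92, 4), (149, 8), (120, 7), (107, 6), (12, 5), (16, 7), (115, 6), (102, 5), (60, 4), (118, 7), (105, 6), (120, 8), (107, 7), (121, 9), (13, 8), (147, 10), (132, 9), (118, 8), (93, 7), (10, 6), (148, 9), (133, 8), (119, 7), (94, 6), (152, 10), (15, 9), (16, 9), (119, 8), (94, 7), (11, 6), (14, 7), (135, 7), (136, 8), (15, 9), (16, 9), (112, 8), (99, 7), (87, 6), (57, 5), (42, 4), (36, 3), (4, 2), (114, 4), (89, 3), (68, 2), (149, 4), (151, 5), (150, 6), (121, 5), (144, 7), (115, 6), (102, 5), (90, 4), (69, 3), (151, 8), (14, 7), (152, 7), (16, 8), (131, 7), (104, 6), (92, 5), (71, 4), (133, 8), (106, 7), (94, 6), (135, 9), (13, 8), (134, 8), (12, 7), (136, 7), (15, 8), (150, 8), (121, 7), (16, 9), (14, 8), (100, 7), (77, 6), (67, 5), (58, 4), (43, 3), (37, 2), (144, 5), (102, 4), (147, 6), (105, 5), (149, 7), (107, 6), (146, 8), (104,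 7), (92, 6), (71, 5), (150, 9), (13, 8), (16, 8), (93, 7), (10, 6), (148, 7), (94, 6), (16, 8), (102, 8), (90, 7), (79, 6), (60, 5), (7, 4), (104, 7), (92, 6), (81, 5), (9, 4), (105, 6), (93, 5), (82, 4), (107, 7), (12, 6), (137, 8), (108, 7), (95, 6), (72, 5), (62, 4), (32, 3), (27, 2), (18, 1), (0, 0), (139, 5), (124, 4), (29, 3), (25, 2), (22, 1), (2, 0), (140, 2), (35, 1), (30, 0), (143, 4), (128, 3), (114, 2), (147, 5), (132, 4), (118, 3), (149, 6), (134, 5), (120, 4), (150, 7), (135, 6), (121, 5), (16, 8), (142, 8), (127, 7), (113, 6), (100, 5), (88, 4), (67, 3), (37, 2), (5, 1), (147, 3), (105, 2), (16, 4), (107, 3), (150, 5), (13, 4), (151, 4), (152, 5), (16, 6), (133, 5), (119, 4), (94, 3), (15, 6), (112, 5), (87, 4), (76, 3), (66, 2), (36, 1), (105, 3), (148, 7), (133, 6), (119, 5), (106, 4), (16, 8), (134, 7), (120, 6), (107, 5), (136, 8), (14, 7), (15, 7), (151, 7), (143, 8), (114, 7), (101, 6), (89, 5), (78, 4), (68, 3), (6, 2), (147,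 4), (132, 3), (118, 2), (16, 5), (133, 4), (119, 3), (134, 5), (120, 4), (135, 6), (121, 5), (136, 7), (14, 6), (147, 7), (132, 6), (105, 5), (93, 4), (82, 3), (10, 2), (148, 6), (133, 5), (106, 4), (94, 3), (11, 2), (151, 5), (136, 4), (152, 6), (15, 5), (142, 5), (113, 4), (100, 3), (88, 2), (150, 4), (151, 5), (16, 6), (118, 5), (105, 4), (93, 3), (120, 6), (107, 5), (12, 4), (121, 5), (13, 4), (16, 6), (126, 5), (112, 4), (66, 3), (31, 2), (4, 1), (113, 3), (88, 2), (67, 1), (149, 3), (16, 4), (118, 4), (93, 3), (10, 2), (120, 3), (12, 2), (14, 2), (151, 5), (136, 4), (14, 3), (152, 4), (15, 3), (143, 3), (68, 2), (16, 4), (69, 3), (142, 8), (127, 7), (113, 6), (77, 5), (67, 4), (43, 3), (37, 2), (5, 1), (144, 3), (102, 2), (147, 4), (105, 3), (149, 5), (107, 4), (147, 6), (105, 5), (93, 4), (10, 3), (16, 5), (106, 4), (94, 3), (151, 6), (152, 7), (16, 8), (128, 7), (114, 6), (101, 5), (89, 4), (78, 3), (44, 2), (6, 1), (144, 3), (129, 2),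 (115, 1), (148, 4), (133, 3), (119, 2), (150, 5), (135, 4), (121, 3), (148, 6), (133, 5), (119, 4), (106, 3), (11, 2), (149, 5), (134, 4), (120, 3), (107, 2), (150, 6), (135, 5), (121, 4), (13, 3), (151, 5), (136, 4), (14, 3), (152, 4), (15, 3), (146, 3), (92, 2), (149, 4), (12, 3), (16, 3), (59, 2), (44, 1), (104, 4), (81, 3), (133, 7), (119, 6), (106, 5), (11, 4), (134, 6), (120, 5), (107, 4), (147, 8), (132, 7), (118, 6), (105, 5), (93, 4), (148, 9), (133, 8), (119, 7), (106, 6), (94, 5), (151, 10), (136, 9), (14, 8), (16, 9), (133, 8), (106, 7), (94, 6), (11, 5), (135, 7), (13, 6), (136, 6), (15, 7), (121, 6), (14, 7), (136, 7), (16, 9), (123, 8), (109, 7), (96, 6), (84, 5), (63, 4), (54, 3), (39, 2), (33, 1), (21, 0), (143, 10), (128, 9), (114, 8), (78, 7), (68, 6), (51, 5), (44, 4), (6, 3), (144, 5), (129, 4), (115, 3), (148, 6), (133, 5), (119, 4), (150, 7), (135, 6), (121, 5), (145, 8), (130, 7), (116, 6), (103, 5), (80, 4), (150, 9),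 (135, 8), (121, 7), (13, 6), (151, 8), (136, 7), (14, 6), (152, 7), (15, 6), (147, 6), (82, 5), (16, 7), (11, 6), (147, 8), (132, 7), (118, 6), (10, 5), (149, 7), (134, 6), (120, 5), (150, 8), (135, 7), (121, 6), (144, 9), (129, 8), (115, 7), (102, 6), (90, 5), (52, 4), (7, 3), (147, 8), (132, 7), (118, 6), (105, 5), (93, 4), (149, 9), (134, 8), (120, 7), (107, 6), (12, 5), (150, 8), (135, 7), (121, 6), (13, 5), (152, 7), (15, 6), (16, 6), (117, 5), (71, 4), (118, 6), (10, 5), (120, 5), (121, 6), (14, 7), (147, 7), (105, 6), (93, 5), (148, 8), (106, 7), (94, 6), (152, 9), (16, 10), (134, 9), (107, 8), (12, 7), (135, 8), (13, 7), (15, 7), (150, 7), (151, 8), (152, 9), (16, 10), (136, 9), (14, 8), (152, 9), (15, 8), (140, 8), (98, 7), (75, 6), (65, 5), (56, 4), (48, 3), (26, 2), (3, 1), (126, 3), (99, 2), (76, 1), (150, 3), (16, 4), (132, 4), (105, 3), (82, 2), (134, 5), (107, 4), (145, 7), (130, 6), (103, 5), (91, 4), (80, 3), (70, 2), (147, 8),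 (132, 7), (105, 6), (93, 5), (82, 4), (10, 3), (148, 7), (133, 6), (106, 5), (94, 4), (11, 3), (149, 6), (134, 5), (107, 4), (12, 3), (151, 5), (136, 4), (152, 6), (15, 5), (146, 5), (117, 4), (104, 3), (147, 6), (118, 5), (105, 4), (149, 7), (120, 6), (107, 5), (150, 8), (121, 7), (13, 6), (151, 7), (14, 6), (147, 6), (93, 5), (10, 4), (150, 5), (151, 6), (16, 7), (119, 6), (106, 5), (94, 4), (150, 8), (121, 7), (13, 6), (16, 7), (112, 6), (87, 5), (76, 4), (57, 3), (49, 2), (4, 1), (116, 3), (91, 2), (70, 1), (118, 4), (93, 3), (10, 2), (120, 3), (12, 2), (146, 4), (131, 3), (117, 2), (148, 5), (133, 4), (119, 3), (150, 6), (135, 5), (121, 4), (148, 7), (133, 6), (119, 5), (106, 4), (11, 3), (16, 6), (134, 5), (120, 4), (107, 3), (136, 6), (14, 5), (15, 5), (151, 5), (144, 6), (115, 5), (102, 4), (90, 3), (60, 2), (52, 1), (145, 7), (116, 6), (103, 5), (91, 4), (61, 3), (8, 2), (146, 6), (117, 5), (104, 4), (92, 3), (9, 2), (149, 5), (120, 4),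 (107, 3), (12, 2), (151, 4), (14, 3), (152, 3), (139, 4), (124, 3), (97, 2), (40, 1), (150, 7), (121, 6), (13, 5), (16, 6), (16, 7), (125, 6), (111, 5), (65, 4), (56, 3), (41, 2), (117, 7), (104, 6), (92, 5), (71, 4), (118, 8), (105, 7), (93, 6), (10, 5), (120, 7), (107, 6), (12, 5), (121, 6), (13, 5), (14, 5), (151, 8), (14, 7), (152, 7), (16, 8), (126, 7), (99, 6), (66, 5), (57, 4), (42, 3), (146, 7), (131, 6), (117, 5), (148, 8), (133, 7), (119, 6), (150, 9), (135, 8), (121, 7), (147, 10), (132, 9), (118, 8), (105, 7), (82, 6), (151, 11), (136, 10), (14, 9), (152, 10), (15, 9), (16, 9), (13, 8), (152, 8), (145, 9), (130, 8), (80, 7), (70, 6), (61, 5), (146, 10), (131, 9), (81, 8), (71, 7), (9, 6), (151, 9), (136, 8), (137, 10), (122, 9), (108, 8), (72, 7), (62, 6), (45, 5), (38, 4), (23, 3), (20, 2), (18, 1), (17, 0), (139, 12), (124, 11), (85, 10), (74, 9), (64, 8), (47, 7), (40, 6), (34, 5), (29, 4), (22, 3), (2, 2), (140, 4), (35, 3), (30,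 2), (143, 6), (128, 5), (114, 4), (147, 7), (132, 6), (118, 5), (149, 8), (134, 7), (120, 6), (150, 9), (135, 8), (121, 7), (16, 10), (142, 10), (127, 9), (113, 8), (100, 7), (88, 6), (67, 5), (37, 4), (5, 3), (147, 5), (105, 4), (16, 6), (107, 5), (150, 7), (13, 6), (151, 6), (152, 7), (16, 8), (133, 7), (119, 6), (94, 5), (15, 8), (113, 7), (88, 6), (77, 5), (67, 4), (37, 3), (147, 6), (105, 5), (16, 7), (106, 6), (149, 8), (107, 7), (16, 9), (118, 9), (105, 8), (93, 7), (82, 6), (10, 5), (120, 8), (107, 7), (12, 6), (121, 7), (13, 6), (114, 6), (78, 5), (6, 4), (148, 6), (133, 5), (119, 4), (151, 7), (136, 6), (14, 5), (147, 6), (132, 5), (82, 4), (149, 7), (134, 6), (150, 8), (135, 7), (16, 9), (129, 8), (102, 7), (90, 6), (79, 5), (69, 4), (131, 9), (104, 8), (92, 7), (81, 6), (71, 5), (132, 10), (105, 9), (93, 8), (82, 7), (10, 6), (135, 9), (13, 8), (136, 8), (145, 10), (130, 9), (116, 8), (91, 7), (80, 6), (61, 5), (149, 11), (134, 10),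 (120, 9), (12, 8), (150, 10), (135, 9), (121, 8), (147, 11), (132, 10), (118, 9), (105, 8), (82, 7), (151, 12), (136, 11), (14, 10), (16, 11), (133, 10), (106, 9), (11, 8), (136, 9), (15, 10), (120, 9), (107, 8), (121, 10), (13, 9), (14, 9), (152, 9), (16, 10), (141, 10), (126, 9), (87, 8), (66, 7), (57, 6), (49, 5), (42, 4), (31, 3), (115, 7), (90, 6), (69, 5), (14, 8), (145, 9), (130, 8), (91, 7), (70, 6), (147, 10), (132, 9), (93, 8), (10, 7), (149, 9), (134, 8), (12, 7), (152, 8), (15, 7), (16, 7), (105, 9), (82, 8), (149, 13), (134, 12), (120, 11), (107, 10), (151, 14), (136, 13), (14, 12), (152, 13), (15, 12), (16, 12), (143, 13), (128, 12), (101, 11), (89, 10), (78, 9), (68, 8), (59, 7), (51, 6), (44, 5), (103, 8), (80, 7), (13, 9), (131, 10), (117, 9), (81, 8), (136, 11), (14, 10), (15, 10), (82, 9), (148, 11), (11, 10), (149, 10), (150, 11), (152, 12), (16, 13), (129, 12), (102, 11), (90, 10), (69, 9), (60, 8), (52, 7), (7, 6), (133,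 11), (106, 10), (94, 9), (136, 12), (15, 13), (140, 13), (111, 12), (98, 11), (86, 10), (75, 9), (65, 8), (56, 7), (48, 6), (35, 5), (30, 4), (26, 3), (3, 2), (126, 4), (99, 3), (76, 2), (150, 4), (16, 5), (132, 5), (105, 4), (82, 3), (134, 6), (107, 5), (142, 8), (127, 7), (100, 6), (88, 5), (77, 4), (67, 3), (148, 5), (16, 6), (150, 7), (152, 8), (16, 9), (136, 8), (15, 9), (143, 9), (114, 8), (101, 7), (89, 6), (78, 5), (68, 4), (148, 6), (149, 7), (150, 8), (151, 9), (16, 10), (118, 9), (105, 8), (93, 7), (82, 6), (10, 5), (120, 8), (107, 7), (12, 6), (121, 7), (13, 6), (145, 7), (116, 6), (80, 5), (147, 8), (118, 7), (82, 6), (148, 9), (119, 8), (11, 7), (149, 8), (120, 7), (151, 9), (14, 8), (152, 8), (146, 9), (131, 8), (92, 7), (71, 6), (147, 10), (132, 9), (93, 8), (10, 7), (149, 9), (134, 8), (12, 7), (150, 8), (135, 7), (151, 9), (136, 8), (147, 10), (132, 9), (118, 8), (105, 7), (150, 11), (135, 10), (121, 9), (13, 8), (151, 10), (136,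 9), (14, 8), (16, 9), (133, 8), (149, 10), (134, 9), (150, 11), (135, 10), (151, 12), (136, 11), (16, 13), (135, 12), (121, 11), (13, 10), (136, 11), (14, 10), (141, 11), (126, 10), (87, 9), (76, 8), (66, 7), (57, 6), (49, 5), (36, 4), (31, 3), (4, 2), (113, 4), (88, 3), (67, 2), (149, 4), (16, 5), (118, 5), (93, 4), (10, 3), (120, 4), (12, 3), (14, 3), (103, 4), (105, 5), (107, 6), (146, 9), (131, 8), (104, 7), (92, 6), (71, 5), (148, 10), (133, 9), (106, 8), (94, 7), (150, 11), (135, 10), (13, 9), (147, 10), (132, 9), (93, 8), (82, 7), (10, 6), (151, 9), (136, 8), (152, 10), (15, 9), (16, 9), (119, 8), (94, 7), (11, 6), (149, 8), (120, 7), (12, 6), (151, 7), (14, 6), (152, 6), (16, 7), (15, 6), (142, 6), (58, 5), (50, 4), (37, 3), (5, 2), (145, 4), (103, 3), (152, 5), (146, 6), (131, 5), (104, 4), (150, 7), (135, 6), (13, 5), (16, 6), (143, 6), (128, 5), (59, 4), (51, 3), (6, 2), (145, 4), (130, 3), (116, 2), (150, 5), (135, 4), (121, 3), (151,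 6), (136, 5), (14, 4), (152, 5), (15, 4), (146, 4), (104, 3), (151, 5), (152, 6), (152, 7), (15, 6), (16, 6), (115, 5), (102, 4), (60, 3), (52, 2), (116, 6), (103, 5), (61, 4), (8, 3), (119, 5), (106, 4), (120, 6), (107, 5), (141, 8), (112, 7), (99, 6), (87, 5), (76, 4), (57, 3), (42, 2), (146, 6), (131, 5), (117, 4), (148, 7), (133, 6), (119, 5), (150, 8), (135, 7), (121, 6), (148, 9), (133, 8), (119, 7), (106, 6), (11, 5), (16, 8), (134, 7), (120, 6), (107, 5), (136, 8), (14, 7), (15, 7), (150, 7), (13, 6), (16, 6), (142, 7), (113, 6), (88, 5), (58, 4), (43, 3), (92, 6), (71, 5), (149, 9), (107, 8), (12, 7), (16, 8), (143, 9), (114, 8), (101, 7), (68, 6), (59, 5), (44, 4), (104, 7), (81, 6), (132, 10), (118, 9), (105, 8), (82, 7), (150, 12), (135, 11), (121, 10), (13, 9), (151, 11), (136, 10), (14, 9), (16, 10), (130, 9), (80, 8), (70, 7), (61, 6), (131, 10), (81, 9), (71, 8), (9, 7), (132, 9), (82, 8), (10, 7), (133, 8), (11, 7), (134, 7),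 (15, 8), (144, 8), (90, 7), (52, 6), (7, 5), (145, 7), (91, 6), (8, 5), (146, 6), (92, 5), (150, 7), (151, 8), (152, 9), (145, 10), (130, 9), (116, 8), (103, 7), (91, 6), (61, 5), (146, 11), (131, 10), (117, 9), (104, 8), (92, 7), (9, 6), (152, 10), (15, 9), (147, 9), (118, 8), (105, 7), (93, 6), (148, 10), (119, 9), (106, 8), (94, 7), (151, 11), (14, 10), (16, 10), (106, 9), (94, 8), (11, 7), (13, 8), (136, 9), (14, 8), (152, 9), (15, 8), (16, 8), (138, 8), (84, 7), (63, 6), (46, 5), (33, 4), (28, 3), (24, 2), (1, 1), (112, 7), (99, 6), (66, 5), (49, 4), (42, 3), (36, 2), (4, 1), (114, 3), (89, 2), (68, 1), (149, 3), (151, 4), (150, 5), (121, 4), (144, 6), (115, 5), (102, 4), (90, 3), (69, 2), (151, 7), (14, 6), (152, 6), (16, 7), (130, 6), (103, 5), (91, 4), (70, 3), (132, 7), (105, 6), (93, 5), (10, 4), (134, 6), (107, 5), (12, 4), (15, 5), (147, 5), (105, 4), (151, 6), (152, 7), (16, 8), (135, 7), (121, 6), (13, 5), (151, 7), (136, 6), (14,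 5), (146, 6), (131, 5), (71, 4), (150, 7), (135, 6), (16, 8), (127, 7), (100, 6), (67, 5), (58, 4), (50, 3), (43, 2), (37, 1), (144, 4), (102, 3), (147, 5), (105, 4), (149, 6), (107, 5), (145, 7), (103, 6), (91, 5), (70, 4), (152, 8), (146, 9), (131, 8), (104, 7), (92, 6), (71, 5), (150, 10), (135, 9), (13, 8), (16, 9), (132, 8), (93, 7), (10, 6), (150, 8), (135, 7), (152, 9), (15, 8), (143, 8), (101, 7), (89, 6), (59, 5), (51, 4), (44, 3), (6, 2), (144, 4), (129, 3), (115, 2), (148, 5), (133, 4), (119, 3), (150, 6), (135, 5), (121, 4), (145, 7), (130, 6), (116, 5), (103, 4), (80, 3), (150, 8), (135, 7), (121, 6), (13, 5), (151, 7), (136, 6), (14, 5), (152, 6), (15, 5), (146, 5), (81, 4), (151, 6), (152, 7), (149, 8), (134, 7), (120, 6), (150, 9), (135, 8), (121, 7), (16, 10), (131, 9), (117, 8), (104, 7), (92, 6), (81, 5), (9, 4), (134, 8), (120, 7), (107, 6), (12, 5), (143, 8), (128, 7), (114, 6), (101, 5), (78, 4), (51, 3), (44, 2), (103, 5),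 (80, 4), (13, 6), (133, 7), (119, 6), (11, 5), (135, 6), (121, 5), (136, 7), (14, 6), (15, 6), (147, 6), (105, 5), (149, 7), (107, 6), (150, 8), (13, 7), (145, 7), (91, 6), (70, 5), (8, 4), (146, 6), (92, 5), (71, 4), (148, 7), (94, 6), (150, 8), (16, 9), (105, 8), (93, 7), (82, 6), (10, 5), (106, 7), (94, 6), (11, 5), (149, 8), (134, 7), (107, 6), (12, 5), (150, 7), (135, 6), (13, 5), (152, 6), (15, 5), (16, 5), (140, 5), (56, 4), (41, 3), (35, 2), (30, 1), (143, 5), (128, 4), (114, 3), (147, 6), (132, 5), (118, 4), (149, 7), (134, 6), (120, 5), (150, 8), (135, 7), (121, 6), (16, 9), (129, 8), (115, 7), (102, 6), (90, 5), (69, 4), (132, 9), (118, 8), (105, 7), (93, 6), (10, 5), (134, 8), (120, 7), (107, 6), (12, 5), (135, 7), (121, 6), (13, 5), (136, 6), (14, 5), (131, 5), (132, 6), (134, 7), (135, 8), (136, 9), (146, 11), (131, 10), (117, 9), (104, 8), (92, 7), (71, 6), (9, 5), (147, 10), (132, 9), (118, 8), (105, 7), (93, 6), (10, 5), (148,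 9), (133, 8), (119, 7), (106, 6), (94, 5), (150, 10), (135, 9), (121, 8), (13, 7), (151, 9), (136, 8), (14, 7), (142, 8), (127, 7), (88, 6), (77, 5), (43, 4), (37, 3), (5, 2), (144, 4), (102, 3), (147, 5), (105, 4), (149, 6), (107, 5), (148, 7), (106, 6), (94, 5), (16, 8), (107, 7), (12, 6), (152, 7), (16, 8), (128, 7), (101, 6), (78, 5), (68, 4), (44, 3), (6, 2), (144, 4), (129, 3), (115, 2), (148, 5), (133, 4), (119, 3), (150, 6), (135, 5), (121, 4), (147, 7), (132, 6), (118, 5), (105, 4), (82, 3), (16, 8), (133, 7), (119, 6), (106, 5), (11, 4), (135, 6), (121, 5), (13, 4), (15, 5), (117, 4), (71, 3), (118, 5), (10, 4), (119, 4), (14, 5), (143, 5), (78, 4), (59, 3), (44, 2), (104, 5), (81, 4), (133, 8), (119, 7), (106, 6), (11, 5), (146, 8), (131, 7), (117, 6), (104, 5), (9, 4), (147, 7), (132, 6), (118, 5), (105, 4), (148, 8), (133, 7), (119, 6), (106, 5), (16, 9), (136, 8), (14, 7)]⟩,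
    ⟨4, [3, 0], [0, 3, 4, 5, 6, 7, 9, 10, 12, 14], [(20, 0), (144, 9), (90, 8), (79, 7), (52, 6), (7, 5)], [(41, 1), (112, 6), (99, 5), (87, 4), (66, 3), (42, 2), (147, 6), (132, 5), (118, 4), (151, 7), (136, 6), (14, 5), (152, 6), (15, 5), (16, 5), (150, 8), (135, 7), (121, 6), (16, 9), (136, 8), (14, 7), (129, 7), (102, 6), (90, 5), (69, 4), (7, 3), (127, 6), (100, 5), (88, 4), (67, 3), (149, 5), (16, 6), (128, 7), (101, 6), (89, 5), (68, 4), (149, 6), (150, 7), (152, 8), (145, 9), (130, 8), (103, 7), (91, 6), (70, 5), (147, 10), (132, 9), (105, 8), (93, 7), (10, 6), (148, 9), (133, 8), (106, 7), (94, 6), (150, 10), (135, 9), (13, 8), (152, 9), (15, 8)], [(138, 9), (96, 8), (84, 7), (63, 6), (33, 5), (24, 4), (21, 3), (19, 2), (1, 1), (110, 7), (97, 6), (64, 5), (47, 4), (40, 3), (34, 2), (25, 1), (128, 7), (114, 6), (78, 5), (68, 4), (6, 3), (147, 5), (132, 4), (118, 3), (16, 6), (133, 5), (119, 4), (136, 6), (14, 5), (15, 5), (82, 4), (10,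 3), (144, 6), (102, 5), (90, 4), (79, 3), (146, 7), (104, 6), (92, 5), (81, 4), (147, 8), (105, 7), (93, 6), (82, 5), (150, 9), (13, 8), (151, 8), (16, 9), (116, 8), (91, 7), (80, 6), (70, 5), (61, 4), (120, 9), (12, 8), (121, 8), (118, 9), (105, 8), (82, 7), (10, 6), (14, 8), (150, 8), (13, 7), (16, 7), (112, 7), (76, 6), (57, 5), (49, 4), (42, 3), (4, 2), (115, 4), (90, 3), (69, 2), (14, 5), (145, 6), (130, 5), (91, 4), (70, 3), (147, 7), (132, 6), (93, 5), (10, 4), (149, 6), (134, 5), (12, 4), (152, 5), (15, 4), (16, 4), (106, 6), (11, 5), (151, 6), (142, 7), (113, 6), (100, 5), (58, 4), (50, 3), (43, 2), (91, 5), (70, 4), (131, 7), (92, 6), (71, 5), (135, 8), (150, 10), (135, 9), (13, 8), (151, 9), (136, 8), (16, 10), (129, 9), (115, 8), (90, 7), (69, 6), (60, 5), (52, 4), (7, 3), (130, 8), (116, 7), (91, 6), (70, 5), (61, 4), (8, 3), (133, 7), (119, 6), (94, 5), (134, 8), (120, 7), (12, 6), (135, 7), (121, 6), (125, 8), (111, 7), (98, 6),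 (75, 5), (65, 4), (56, 3), (30, 2), (146, 6), (131, 5), (117, 4), (147, 7), (132, 6), (118, 5), (149, 8), (134, 7), (120, 6), (150, 9), (135, 8), (121, 7), (151, 10), (136, 9), (14, 8), (147, 9), (132, 8), (105, 7), (93, 6), (10, 5), (150, 8), (135, 7), (13, 6), (151, 7), (136, 6), (16, 8), (133, 7), (119, 6), (94, 5), (150, 9), (135, 8), (121, 7), (151, 10), (136, 9), (14, 8), (152, 9), (15, 8), (16, 8), (99, 7), (87, 6), (76, 5), (57, 4), (31, 3), (117, 7), (92, 6), (71, 5), (119, 8), (94, 7), (121, 9), (119, 10), (106, 9), (94, 8), (11, 7), (149, 10), (120, 9), (107, 8), (12, 7), (151, 9), (14, 8), (152, 8), (16, 9), (135, 8), (13, 7), (143, 8), (128, 7), (68, 6), (59, 5), (132, 8), (118, 7), (152, 10), (15, 9), (16, 9), (115, 8), (69, 7), (60, 6), (116, 9), (70, 8), (61, 7), (118, 10), (10, 9), (119, 9), (14, 10), (141, 11), (126, 10), (76, 9), (57, 8), (49, 7), (42, 6), (36, 5), (31, 4), (4, 3), (113, 5), (88, 4), (67, 3), (149, 5), (16,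 6), (118, 6), (93, 5), (10, 4), (120, 5), (12, 4), (14, 4), (102, 5), (145, 9), (130, 8), (116, 7), (103, 6), (147, 10), (132, 9), (118, 8), (105, 7), (149, 11), (134, 10), (120, 9), (107, 8), (152, 12), (15, 11), (16, 11), (117, 10), (104, 9), (92, 8), (71, 7), (119, 11), (106, 10), (94, 9), (121, 12), (13, 11), (119, 11), (94, 10), (11, 9), (152, 11), (16, 12), (131, 11), (117, 10), (92, 9), (71, 8), (9, 7), (135, 10), (121, 9), (143, 12), (128, 11), (114, 10), (101, 9), (89, 8), (68, 7), (51, 6), (44, 5), (6, 4), (144, 6), (129, 5), (115, 4), (148, 7), (133, 6), (119, 5), (150, 8), (135, 7), (121, 6), (145, 9), (130, 8), (116, 7), (103, 6), (80, 5), (150, 10), (135, 9), (121, 8), (13, 7), (151, 9), (136, 8), (14, 7), (152, 8), (15, 7), (147, 7), (82, 6), (16, 8), (147, 12), (132, 11), (118, 10), (105, 9), (93, 8), (82, 7), (10, 6), (149, 11), (134, 10), (120, 9), (107, 8), (12, 7), (150, 10), (135, 9), (121, 8), (13, 7), (147, 9), (132, 8),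 (118, 7), (82, 6), (148, 10), (133, 9), (119, 8), (11, 7), (152, 9), (15, 8), (16, 8), (120, 7), (121, 8), (150, 11), (135, 10), (121, 9), (13, 8), (151, 10), (136, 9), (14, 8), (152, 9), (15, 8), (16, 8), (140, 8), (86, 7), (65, 6), (48, 5), (41, 4), (30, 3), (3, 2), (127, 4), (100, 3), (77, 2), (150, 4), (152, 5), (151, 6), (136, 5), (152, 7), (15, 6), (16, 6), (115, 5), (102, 4), (79, 3), (118, 6), (105, 5), (82, 4), (120, 7), (107, 6), (121, 8), (13, 7), (14, 7), (91, 6), (80, 5), (70, 4), (93, 7), (82, 6), (10, 5), (94, 6), (11, 5), (12, 5), (132, 6), (118, 5), (135, 7), (121, 6), (136, 8), (14, 7), (149, 8), (134, 7), (107, 6), (150, 9), (135, 8), (13, 7), (151, 8), (136, 7), (16, 9), (142, 9), (127, 8), (113, 7), (88, 6), (67, 5), (50, 4), (43, 3), (5, 2), (91, 4), (70, 3), (132, 6), (93, 5), (10, 4), (149, 6), (134, 5), (12, 4), (16, 5), (136, 4), (15, 5), (143, 5), (114, 4), (51, 3), (44, 2), (103, 5), (80, 4), (13, 6), (136, 7), (14,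 6), (144, 7), (129, 6), (79, 5), (52, 4), (7, 3), (145, 6), (130, 5), (80, 4), (8, 3), (146, 5), (131, 4), (81, 3), (149, 6), (134, 5)], [(83, 7), (53, 6), (45, 5), (38, 4), (32, 3), (27, 2), (20, 1), (17, 0), (140, 12), (125, 11), (86, 10), (75, 9), (65, 8), (48, 7), (41, 6), (35, 5), (30, 4), (3, 3), (127, 5), (100, 4), (77, 3), (150, 5), (152, 6), (151, 7), (136, 6), (152, 8), (15, 7), (16, 7), (114, 6), (101, 5), (78, 4), (118, 7), (105, 6), (82, 5), (120, 8), (107, 7), (121, 9), (13, 8), (144, 9), (115, 8), (90, 7), (79, 6), (69, 5), (147, 10), (118, 9), (93, 8), (82, 7), (10, 6), (149, 9), (120, 8), (12, 7), (150, 8), (121, 7), (151, 9), (14, 8), (145, 8), (103, 7), (80, 6), (147, 9), (105, 8), (82, 7), (148, 10), (106, 9), (11, 8), (149, 9), (107, 8), (151, 10), (152, 11), (147, 12), (132, 11), (118, 10), (105, 9), (93, 8), (10, 7), (150, 11), (135, 10), (121, 9), (13, 8), (151, 10), (136, 9), (14, 8), (16, 9), (133, 8), (94, 7), (149,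 10), (134, 9), (12, 8), (150, 9), (135, 8), (151, 10), (136, 9), (16, 11), (15, 10), (16, 10), (112, 9), (99, 8), (76, 7), (49, 6), (42, 5), (36, 4), (31, 3), (114, 7), (89, 6), (68, 5), (149, 7), (151, 8), (150, 9), (121, 8), (144, 10), (115, 9), (102, 8), (90, 7), (69, 6), (151, 11), (14, 10), (152, 10), (16, 11), (130, 10), (103, 9), (91, 8), (70, 7), (132, 11), (105, 10), (93, 9), (10, 8), (134, 10), (107, 9), (12, 8), (15, 9), (148, 9), (106, 8), (16, 10), (13, 9), (151, 9), (142, 10), (113, 9), (77, 8), (50, 7), (43, 6), (37, 5), (5, 4), (144, 6), (102, 5), (147, 7), (105, 6), (149, 8), (107, 7), (145, 9), (103, 8), (91, 7), (70, 6), (152, 10), (148, 11), (133, 10), (106, 9), (94, 8), (16, 12), (136, 11), (143, 13), (128, 12), (114, 11), (101, 10), (89, 9), (78, 8), (68, 7), (51, 6), (44, 5), (6, 4), (144, 6), (129, 5), (115, 4), (148, 7), (133, 6), (119, 5), (150, 8), (135, 7), (121, 6), (145, 9), (130, 8), (116, 7), (103, 6), (80, 5),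 (150, 10), (135, 9), (121, 8), (13, 7), (151, 9), (136, 8), (14, 7), (152, 8), (15, 7), (147, 7), (82, 6), (16, 8), (11, 7), (144, 11), (129, 10), (115, 9), (102, 8), (90, 7), (69, 6), (52, 5), (7, 4), (145, 10), (130, 9), (116, 8), (103, 7), (91, 6), (70, 5), (8, 4), (148, 9), (133, 8), (119, 7), (106, 6), (94, 5), (149, 10), (134, 9), (120, 8), (107, 7), (12, 6), (16, 9), (127, 8), (113, 7), (100, 6), (77, 5), (67, 4), (148, 6), (16, 7), (128, 9), (114, 8), (101, 7), (78, 6), (68, 5), (148, 7), (150, 8), (151, 9), (152, 10), (146, 11), (131, 10), (117, 9), (104, 8), (81, 7), (71, 6), (149, 12), (134, 11), (120, 10), (107, 9), (16, 13), (128, 12), (114, 11), (101, 10), (89, 9), (78, 8), (68, 7), (59, 6), (6, 5), (146, 7), (131, 6), (117, 5), (151, 8), (136, 7), (14, 6), (152, 7), (15, 6), (147, 6), (16, 7), (133, 11), (119, 10), (106, 9), (94, 8), (11, 7), (134, 10), (120, 9), (107, 8), (12, 7), (144, 10), (129, 9), (115, 8), (102, 7), (69, 6),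 (60, 5), (145, 11), (130, 10), (116, 9), (103, 8), (70, 7), (61, 6), (146, 12), (131, 11), (117, 10), (104, 9), (71, 8), (9, 7), (150, 11), (135, 10), (121, 9), (13, 8), (151, 10), (136, 9), (14, 8), (152, 9), (15, 8), (145, 8), (70, 7), (8, 6), (146, 7), (71, 6), (152, 8), (146, 9), (131, 8), (71, 7), (9, 6), (148, 8), (133, 7), (149, 9), (134, 8), (151, 10), (136, 9), (16, 11), (134, 10), (120, 9), (12, 8), (135, 9), (121, 8), (136, 10), (14, 9), (15, 9), (138, 9), (96, 8), (73, 7), (63, 6), (39, 5), (28, 4), (24, 3), (19, 2), (1, 1), (110, 7), (97, 6), (64, 5), (47, 4), (40, 3), (34, 2), (25, 1), (128, 7), (114, 6), (78, 5), (68, 4), (6, 3), (147, 5), (132, 4), (118, 3), (16, 6), (133, 5), (119, 4), (136, 6), (14, 5), (15, 5), (82, 4), (10, 3), (144, 6), (102, 5), (90, 4), (79, 3), (146, 7), (104, 6), (92, 5), (81, 4), (147, 8), (105, 7), (93, 6), (82, 5), (150, 9), (13, 8), (151, 8), (16, 9), (116, 8), (91, 7), (80, 6), (70, 5), (61, 4), (120,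 9), (12, 8), (121, 8), (118, 9), (105, 8), (82, 7), (10, 6), (14, 8), (150, 8), (13, 7), (16, 7), (112, 7), (76, 6), (57, 5), (49, 4), (42, 3), (4, 2), (115, 4), (90, 3), (69, 2), (14, 5), (145, 6), (130, 5), (91, 4), (70, 3), (147, 7), (132, 6), (93, 5), (10, 4), (149, 6), (134, 5), (12, 4), (152, 5), (15, 4), (16, 4), (106, 6), (11, 5), (151, 6), (142, 7), (113, 6), (100, 5), (58, 4), (50, 3), (43, 2), (91, 5), (70, 4), (131, 7), (92, 6), (71, 5), (135, 8), (150, 10), (135, 9), (13, 8), (151, 9), (136, 8), (16, 10), (129, 9), (115, 8), (90, 7), (69, 6), (60, 5), (52, 4), (7, 3), (130, 8), (116, 7), (91, 6), (70, 5), (61, 4), (8, 3), (133, 7), (119, 6), (94, 5), (134, 8), (120, 7), (12, 6), (135, 7), (121, 6), (126, 8), (112, 7), (99, 6), (76, 5), (66, 4), (57, 3), (31, 2), (117, 6), (92, 5), (71, 4), (119, 7), (94, 6), (121, 8), (118, 9), (105, 8), (93, 7), (82, 6), (10, 5), (14, 8), (148, 9), (133, 8), (106, 7), (94, 6), (11, 5), (16, 8), (135,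 7), (13, 6), (151, 7), (136, 6), (152, 8), (15, 7), (146, 7), (117, 6), (92, 5), (9, 4), (150, 6), (121, 5), (16, 7), (113, 6), (100, 5), (88, 4), (5, 3), (150, 4), (151, 5), (143, 6), (114, 5), (101, 4), (89, 3), (146, 7), (117, 6), (104, 5), (92, 4), (149, 8), (120, 7), (107, 6), (12, 5), (16, 7), (115, 6), (102, 5), (60, 4), (118, 7), (105, 6), (120, 8), (107, 7), (121, 9), (13, 8), (147, 10), (132, 9), (118, 8), (93, 7), (10, 6), (148, 9), (133, 8), (119, 7), (94, 6), (152, 10), (15, 9), (16, 9), (119, 8), (94, 7), (11, 6), (14, 7), (135, 7), (136, 8), (15, 9), (16, 9), (110, 8), (97, 7), (85, 6), (55, 5), (40, 4), (34, 3), (25, 2), (2, 1), (141, 3), (36, 2), (31, 1), (114, 5), (89, 4), (68, 3), (149, 5), (151, 6), (150, 7), (121, 6), (16, 8), (114, 7), (101, 6), (89, 5), (68, 4), (6, 3), (147, 5), (132, 4), (118, 3), (16, 6), (134, 5), (120, 4), (135, 6), (121, 5), (136, 7), (14, 6), (132, 6), (105, 5), (93, 4), (10, 3), (133, 5), (106, 4),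 (94, 3), (136, 6), (15, 7), (114, 6), (101, 5), (89, 4), (78, 3), (118, 7), (105, 6), (93, 5), (82, 4), (120, 8), (107, 7), (12, 6), (121, 7), (13, 6), (144, 7), (115, 6), (79, 5), (69, 4), (146, 8), (117, 7), (81, 6), (71, 5), (147, 9), (118, 8), (82, 7), (10, 6), (150, 8), (121, 7), (151, 9), (14, 8), (16, 8), (104, 7), (81, 6), (9, 5), (105, 6), (82, 5), (106, 7), (11, 6), (107, 6), (13, 7), (149, 8), (120, 7), (12, 6), (150, 7), (121, 6), (151, 8), (14, 7), (16, 7), (13, 6), (151, 6), (140, 7), (111, 6), (65, 5), (41, 4), (35, 3), (30, 2), (26, 1), (142, 5), (88, 4), (67, 3), (149, 5), (16, 6), (151, 6), (152, 7), (16, 8), (128, 7), (114, 6), (89, 5), (68, 4), (149, 6), (151, 7), (152, 8), (147, 9), (132, 8), (118, 7), (93, 6), (10, 5), (149, 8), (134, 7), (120, 6), (12, 5), (150, 7), (135, 6), (121, 5), (16, 8), (129, 7), (115, 6), (102, 5), (132, 8), (118, 7), (105, 6), (134, 9), (120, 8), (107, 7), (135, 10), (121, 9), (13, 8), (136, 9),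 (14, 8), (132, 8), (93, 7), (10, 6), (135, 7), (136, 8), (151, 10), (136, 9), (14, 8), (16, 9), (126, 8), (99, 7), (87, 6), (42, 5), (36, 4), (31, 3), (4, 2), (113, 4), (88, 3), (67, 2), (149, 4), (16, 5), (118, 5), (93, 4), (10, 3), (120, 4), (12, 3), (14, 3), (102, 4), (149, 8), (134, 7), (120, 6), (107, 5), (151, 9), (136, 8), (14, 7), (152, 8), (15, 7), (16, 7), (13, 6), (152, 6), (143, 7), (128, 6), (89, 5), (44, 4), (6, 3), (144, 5), (129, 4), (115, 3), (148, 6), (133, 5), (119, 4), (150, 7), (135, 6), (121, 5), (149, 8), (134, 7), (120, 6), (107, 5), (152, 9), (15, 8), (16, 8), (118, 7), (105, 6), (93, 5), (82, 4), (120, 8), (107, 7), (12, 6), (121, 7), (13, 6), (137, 7), (108, 6), (72, 5), (62, 4), (38, 3), (27, 2), (20, 1), (0, 0), (140, 5), (125, 4), (30, 3), (26, 2), (3, 1), (126, 3), (99, 2), (76, 1), (150, 3), (16, 4), (132, 4), (105, 3), (82, 2), (134, 5), (107, 4), (142, 7), (127, 6), (100, 5), (88, 4), (77, 3), (67, 2), (148, 4),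 (16, 5), (150, 6), (152, 7), (16, 8), (136, 7), (15, 8), (152, 8), (16, 9), (141, 9), (126, 8), (112, 7), (99, 6), (87, 5), (76, 4), (66, 3), (31, 2), (4, 1), (113, 3), (88, 2), (67, 1), (149, 3), (16, 4), (118, 4), (93, 3), (10, 2), (120, 3), (12, 2), (14, 2), (148, 5), (133, 4), (119, 3), (16, 6), (134, 5), (120, 4), (136, 6), (14, 5), (15, 5), (150, 5), (16, 6), (142, 8), (127, 7), (113, 6), (100, 5), (88, 4), (77, 3), (67, 2), (5, 1), (148, 2), (16, 3), (150, 4), (151, 5), (152, 6), (16, 7), (128, 6), (114, 5), (101, 4), (89, 3), (78, 2), (68, 1), (148, 3), (149, 4), (150, 5), (151, 6), (152, 7), (144, 8), (129, 7), (115, 6), (102, 5), (90, 4), (79, 3), (69, 2), (145, 9), (130, 8), (116, 7), (103, 6), (91, 5), (80, 4), (70, 3), (148, 10), (133, 9), (119, 8), (106, 7), (94, 6), (11, 5), (149, 9), (134, 8), (120, 7), (107, 6), (12, 5), (16, 8), (127, 7), (113, 6), (100, 5), (67, 4), (50, 3), (43, 2), (37, 1), (144, 4), (102, 3), (147, 5), (105,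 4), (149, 6), (107, 5), (145, 7), (103, 6), (91, 5), (70, 4), (152, 8), (147, 9), (132, 8), (105, 7), (93, 6), (10, 5), (16, 8), (135, 7), (13, 6), (136, 6), (15, 7), (114, 6), (89, 5), (51, 4), (44, 3), (6, 2), (144, 4), (129, 3), (115, 2), (148, 5), (133, 4), (119, 3), (150, 6), (135, 5), (121, 4), (145, 7), (130, 6), (116, 5), (103, 4), (80, 3), (150, 8), (135, 7), (121, 6), (13, 5), (151, 7), (136, 6), (14, 5), (152, 6), (15, 5), (149, 5), (151, 6), (146, 7), (117, 6), (92, 5), (81, 4), (149, 8), (120, 7), (12, 6), (16, 7), (115, 6), (79, 5), (60, 4), (52, 3), (7, 2), (116, 5), (80, 4), (61, 3), (8, 2), (117, 4), (81, 3), (9, 2), (121, 3), (14, 4), (132, 4), (105, 3), (82, 2), (133, 5), (106, 4), (11, 3), (136, 4), (148, 6), (133, 5), (119, 4), (106, 3), (150, 7), (135, 6), (121, 5), (13, 4), (151, 6), (136, 5), (14, 4), (152, 5), (15, 4), (151, 4), (16, 5), (138, 5), (109, 4), (73, 3), (63, 2), (28, 1), (19, 0), (100, 8), (88, 7), (77, 6),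 (50, 5), (43, 4), (5, 3), (91, 5), (70, 4), (133, 7), (94, 6), (149, 9), (134, 8), (12, 7), (16, 8), (135, 7), (128, 8), (101, 7), (78, 6), (68, 5), (51, 4), (44, 3), (103, 6), (80, 5), (13, 7), (132, 8), (118, 7), (82, 6), (148, 10), (133, 9), (119, 8), (11, 7), (150, 9), (135, 8), (121, 7), (152, 10), (15, 9), (146, 9), (117, 8), (104, 7), (71, 6), (149, 10), (120, 9), (107, 8), (16, 11), (118, 10), (105, 9), (93, 8), (10, 7), (119, 9), (106, 8), (94, 7), (148, 12), (133, 11), (119, 10), (106, 9), (94, 8), (11, 7), (151, 11), (136, 10), (14, 9), (152, 10), (15, 9), (151, 9), (16, 10), (140, 10), (111, 9), (98, 8), (86, 7), (56, 6), (48, 5), (41, 4), (35, 3), (26, 2), (143, 6), (89, 5), (68, 4), (149, 6), (16, 7), (93, 6), (10, 5), (12, 5), (144, 6), (102, 5), (147, 7), (105, 6), (149, 8), (107, 7), (150, 9), (13, 8), (151, 8), (145, 9), (116, 8), (91, 7), (70, 6), (147, 10), (118, 9), (93, 8), (10, 7), (148, 9), (119, 8), (94, 7), (149, 10),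 (120, 9), (12, 8), (151, 9), (14, 8), (152, 8), (146, 9), (131, 8), (81, 7), (147, 10), (132, 9), (82, 8), (149, 11), (134, 10), (150, 12), (135, 11), (151, 13), (136, 12), (149, 14), (134, 13), (120, 12), (107, 11), (12, 10), (150, 13), (135, 12), (121, 11), (13, 10), (151, 12), (136, 11), (14, 10), (16, 11), (135, 10), (136, 11), (141, 13), (126, 12), (112, 11), (99, 10), (76, 9), (66, 8), (57, 7), (49, 6), (42, 5), (36, 4), (4, 3), (114, 5), (89, 4), (68, 3), (149, 5), (151, 6), (150, 7), (121, 6), (144, 8), (115, 7), (102, 6), (90, 5), (69, 4), (151, 9), (14, 8), (152, 8), (16, 9), (130, 8), (103, 7), (91, 6), (70, 5), (132, 9), (105, 8), (93, 7), (10, 6), (134, 8), (107, 7), (12, 6), (15, 7), (146, 7), (104, 6), (148, 8), (106, 7), (150, 9), (13, 8), (147, 8), (82, 7), (151, 9), (152, 10), (16, 11), (133, 10), (119, 9), (11, 8), (150, 10), (135, 9), (121, 8), (16, 11), (136, 10), (14, 9), (15, 9), (144, 9), (102, 8), (69, 7), (60, 6), (52,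 5), (7, 4), (145, 8), (103, 7), (70, 6), (61, 5), (8, 4), (146, 7), (104, 6), (71, 5), (9, 4), (149, 6), (107, 5), (151, 7), (152, 8), (147, 9), (132, 8), (118, 7), (105, 6), (93, 5), (10, 4), (148, 8), (133, 7), (119, 6), (106, 5), (94, 4), (151, 9), (136, 8), (14, 7), (139, 8), (124, 7), (97, 6), (85, 5), (74, 4), (34, 3), (22, 2), (2, 1), (140, 3), (35, 2), (30, 1), (143, 5), (128, 4), (114, 3), (147, 6), (132, 5), (118, 4), (149, 7), (134, 6), (120, 5), (150, 8), (135, 7), (121, 6), (16, 9), (142, 9), (127, 8), (113, 7), (100, 6), (88, 5), (67, 4), (37, 3), (5, 2), (147, 4), (105, 3), (16, 5), (107, 4), (150, 6), (13, 5), (151, 5), (152, 6), (16, 7), (133, 6), (119, 5), (94, 4), (15, 7), (114, 6), (89, 5), (78, 4), (68, 3), (6, 2), (147, 4), (132, 3), (118, 2), (16, 5), (133, 4), (119, 3), (134, 5), (120, 4), (136, 6), (14, 5), (132, 5), (93, 4), (82, 3), (10, 2), (134, 4), (12, 3), (135, 3), (148, 5), (133, 4), (106, 3), (11, 2), (151, 4),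 (136, 3), (152, 5), (15, 4), (149, 4), (120, 3), (107, 2), (150, 5), (121, 4), (13, 3), (151, 4), (14, 3), (16, 3), (152, 4), (16, 5), (140, 5), (125, 4), (98, 3), (86, 2), (3, 1), (134, 3), (107, 2), (135, 4), (13, 3), (136, 3), (150, 5), (135, 4), (121, 3), (152, 6), (15, 5), (16, 5), (141, 5), (112, 4), (99, 3), (87, 2), (76, 1), (149, 3), (151, 4), (152, 5), (16, 6), (135, 5), (121, 4), (151, 7), (136, 6), (14, 5), (16, 6), (130, 5), (103, 4), (91, 3), (80, 2), (131, 6), (104, 5), (92, 4), (81, 3), (136, 7), (122, 8), (108, 7), (95, 6), (83, 5), (72, 4), (53, 3), (45, 2), (23, 1), (17, 0), (141, 12), (126, 11), (87, 10), (76, 9), (66, 8), (49, 7), (42, 6), (36, 5), (31, 4), (114, 8), (89, 7), (68, 6), (149, 8), (151, 9), (150, 10), (121, 9), (144, 11), (115, 10), (102, 9), (90, 8), (69, 7), (151, 12), (14, 11), (152, 11), (16, 12), (130, 11), (103, 10), (91, 9), (70, 8), (132, 12), (105, 11), (93, 10), (10, 9), (134, 11), (107, 10), (12, 9),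 (15, 10), (147, 10), (105, 9), (151, 11), (152, 12), (16, 13), (133, 12), (119, 11), (106, 10), (149, 14), (134, 13), (120, 12), (107, 11), (151, 15), (136, 14), (14, 13), (152, 14), (15, 13), (16, 13), (142, 14), (127, 13), (100, 12), (88, 11), (77, 10), (67, 9), (50, 8), (43, 7), (37, 6), (5, 5), (144, 7), (102, 6), (147, 8), (105, 7), (149, 9), (107, 8), (145, 10), (103, 9), (91, 8), (70, 7), (152, 11), (147, 12), (132, 11), (105, 10), (93, 9), (10, 8), (16, 11), (133, 10), (106, 9), (94, 8), (149, 12), (134, 11), (107, 10), (12, 9), (16, 11), (135, 10), (13, 9), (15, 9), (143, 9), (78, 8), (51, 7), (44, 6), (6, 5), (144, 7), (129, 6), (115, 5), (148, 8), (133, 7), (119, 6), (150, 9), (135, 8), (121, 7), (145, 10), (130, 9), (116, 8), (103, 7), (80, 6), (150, 11), (135, 10), (121, 9), (13, 8), (151, 10), (136, 9), (14, 8), (152, 9), (15, 8), (148, 8), (11, 7), (16, 7), (8, 6), (145, 11), (130, 10), (91, 9), (80, 8), (70, 7), (61, 6), (146,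 12), (131, 11), (92, 10), (81, 9), (71, 8), (9, 7), (152, 11), (15, 10), (146, 10), (92, 9), (81, 8), (71, 7), (148, 11), (94, 10), (11, 9), (149, 10), (12, 9), (151, 9), (16, 10), (119, 9), (121, 10), (14, 11), (134, 11), (107, 10), (135, 12), (13, 11), (136, 11), (15, 12), (150, 12), (121, 11), (151, 13), (14, 12), (152, 12), (151, 13), (136, 12), (16, 14), (15, 13), (138, 13), (109, 12), (96, 11), (84, 10), (73, 9), (63, 8), (54, 7), (46, 6), (39, 5), (24, 4), (21, 3), (19, 2), (1, 1), (110, 7), (97, 6), (64, 5), (47, 4), (40, 3), (34, 2), (25, 1), (128, 7), (114, 6), (78, 5), (68, 4), (6, 3), (147, 5), (132, 4), (118, 3), (16, 6), (133, 5), (119, 4), (136, 6), (14, 5), (15, 5), (82, 4), (10, 3), (144, 6), (102, 5), (90, 4), (79, 3), (146, 7), (104, 6), (92, 5), (81, 4), (147, 8), (105, 7), (93, 6), (82, 5), (150, 9), (13, 8), (151, 8), (16, 9), (116, 8), (91, 7), (80, 6), (70, 5), (61, 4), (120, 9), (12, 8), (121, 8), (118, 9), (105, 8), (82,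 7), (10, 6), (14, 8), (150, 8), (13, 7), (16, 7), (112, 7), (76, 6), (57, 5), (49, 4), (42, 3), (4, 2), (115, 4), (90, 3), (69, 2), (14, 5), (145, 6), (130, 5), (91, 4), (70, 3), (147, 7), (132, 6), (93, 5), (10, 4), (149, 6), (134, 5), (12, 4), (152, 5), (15, 4), (16, 4), (106, 6), (11, 5), (151, 6), (142, 7), (113, 6), (100, 5), (58, 4), (50, 3), (43, 2), (91, 5), (70, 4), (131, 7), (92, 6), (71, 5), (135, 8), (150, 10), (135, 9), (13, 8), (151, 9), (136, 8), (16, 10), (129, 9), (115, 8), (90, 7), (69, 6), (60, 5), (52, 4), (7, 3), (130, 8), (116, 7), (91, 6), (70, 5), (61, 4), (8, 3), (133, 7), (119, 6), (94, 5), (134, 8), (120, 7), (12, 6), (135, 7), (121, 6), (125, 8), (111, 7), (98, 6), (75, 5), (65, 4), (56, 3), (30, 2), (146, 6), (131, 5), (117, 4), (147, 7), (132, 6), (118, 5), (149, 8), (134, 7), (120, 6), (150, 9), (135, 8), (121, 7), (151, 10), (136, 9), (14, 8), (147, 9), (132, 8), (105, 7), (93, 6), (10, 5), (150, 8), (135, 7), (13,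 6), (151, 7), (136, 6), (16, 8), (133, 7), (119, 6), (94, 5), (150, 9), (135, 8), (121, 7), (151, 10), (136, 9), (14, 8), (152, 9), (15, 8), (16, 8), (99, 7), (87, 6), (76, 5), (57, 4), (31, 3), (117, 7), (92, 6), (71, 5), (119, 8), (94, 7), (121, 9), (119, 10), (106, 9), (94, 8), (11, 7), (149, 10), (120, 9), (107, 8), (12, 7), (151, 9), (14, 8), (152, 8), (16, 9), (135, 8), (13, 7), (143, 8), (128, 7), (68, 6), (59, 5), (132, 8), (118, 7), (152, 10), (15, 9), (16, 9), (115, 8), (69, 7), (60, 6), (116, 9), (70, 8), (61, 7), (118, 10), (10, 9), (119, 9), (14, 10), (141, 11), (126, 10), (76, 9), (57, 8), (49, 7), (42, 6), (36, 5), (31, 4), (4, 3), (113, 5), (88, 4), (67, 3), (149, 5), (16, 6), (118, 6), (93, 5), (10, 4), (120, 5), (12, 4), (14, 4), (102, 5), (145, 9), (130, 8), (116, 7), (103, 6), (147, 10), (132, 9), (118, 8), (105, 7), (149, 11), (134, 10), (120, 9), (107, 8), (152, 12), (15, 11), (16, 11), (117, 10), (104, 9), (92, 8), (71,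 7), (119, 11), (106, 10), (94, 9), (121, 12), (13, 11), (119, 11), (94, 10), (11, 9), (152, 11), (16, 12), (131, 11), (117, 10), (92, 9), (71, 8), (9, 7), (135, 10), (121, 9), (144, 12), (129, 11), (115, 10), (102, 9), (90, 8), (69, 7), (52, 6), (7, 5), (147, 11), (132, 10), (118, 9), (105, 8), (93, 7), (10, 6), (149, 10), (134, 9), (120, 8), (107, 7), (12, 6), (150, 9), (135, 8), (121, 7), (13, 6), (152, 8), (15, 7), (16, 7), (116, 6), (8, 5), (117, 5), (119, 6), (121, 7), (146, 9), (117, 8), (104, 7), (81, 6), (9, 5), (147, 8), (118, 7), (105, 6), (82, 5), (149, 9), (120, 8), (107, 7), (150, 10), (121, 9), (13, 8), (151, 9), (14, 8), (16, 8), (93, 7), (82, 6), (10, 5), (94, 6), (11, 5), (148, 7), (133, 6), (94, 5), (151, 8), (136, 7), (152, 9), (15, 8), (149, 8), (120, 7), (12, 6), (150, 7), (121, 6), (152, 8), (16, 9), (135, 8), (121, 7), (13, 6), (136, 7), (14, 6), (15, 6), (151, 6), (16, 7), (140, 7), (111, 6), (75, 5), (35, 4), (30, 3),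 (3, 2), (127, 4), (100, 3), (77, 2), (150, 4), (152, 5), (151, 6), (136, 5), (152, 7), (15, 6), (16, 6), (114, 5), (101, 4), (78, 3), (118, 6), (105, 5), (82, 4), (120, 7), (107, 6), (121, 8), (13, 7), (148, 8), (119, 7), (94, 6), (11, 5), (16, 7), (14, 6), (146, 6), (92, 5), (71, 4), (147, 7), (93, 6), (10, 5), (148, 6), (94, 5), (150, 7), (151, 8), (142, 9), (113, 8), (100, 7), (88, 6), (77, 5), (58, 4), (37, 3), (5, 2), (146, 4), (104, 3), (150, 5), (13, 4), (16, 4), (149, 5), (16, 6), (143, 8), (114, 7), (101, 6), (89, 5), (78, 4), (59, 3), (6, 2), (146, 4), (131, 3), (117, 2), (151, 5), (136, 4), (14, 3), (152, 4), (15, 3), (148, 3), (149, 4), (150, 5), (151, 6), (16, 7), (117, 6), (104, 5), (92, 4), (81, 3), (9, 2), (118, 5), (105, 4), (93, 3), (82, 2), (119, 6), (106, 5), (94, 4), (11, 3), (14, 5), (143, 5), (101, 4), (89, 3), (68, 2), (149, 4), (150, 5), (16, 6), (104, 5), (92, 4), (71, 3), (105, 6), (93, 5), (10, 4), (106, 5), (94, 4),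 (150, 7), (13, 6), (152, 6)]⟩,
    ⟨4, [4, 0], [0, 4, 5, 6, 9, 10, 11, 12, 14], [(38, 1), (23, 0), (144, 10), (129, 9), (90, 8), (79, 7), (69, 6), (60, 5), (52, 4), (145, 11), (130, 10), (91, 9), (80, 8), (70, 7), (61, 6), (8, 5), (146, 10), (131, 9), (92, 8), (81, 7), (71, 6), (9, 5), (150, 9), (135, 8), (151, 10), (136, 9), (152, 11), (15, 10), (144, 10), (115, 9), (102, 8), (90, 7), (79, 6), (69, 5), (7, 4)], [(42, 1), (144, 5), (129, 4), (115, 3), (7, 2), (142, 4), (127, 3), (113, 2), (143, 5), (128, 4), (114, 3), (147, 6), (132, 5), (118, 4), (148, 7), (133, 6), (119, 5), (149, 8), (134, 7), (120, 6), (150, 9), (135, 8), (121, 7), (152, 10), (15, 9)], [(123, 9), (109, 8), (84, 7), (54, 6), (46, 5), (39, 4), (24, 3), (21, 2), (1, 1), (111, 7), (98, 6), (65, 5), (48, 4), (41, 3), (35, 2), (26, 1), (143, 5), (89, 4), (68, 3), (149, 5), (16, 6), (93, 5), (10, 4), (12, 4), (144, 5), (102, 4), (147, 6), (105, 5), (149, 7), (107, 6), (150, 8), (13,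 7), (151, 7), (145, 8), (116, 7), (91, 6), (70, 5), (147, 9), (118, 8), (93, 7), (10, 6), (148, 8), (119, 7), (94, 6), (149, 9), (120, 8), (12, 7), (151, 8), (14, 7), (152, 7), (147, 8), (132, 7), (82, 6), (150, 9), (135, 8), (151, 10), (136, 9), (16, 11), (135, 10), (121, 9), (13, 8), (136, 9), (14, 8), (126, 8), (76, 7), (66, 6), (49, 5), (42, 4), (36, 3), (4, 2), (114, 4), (89, 3), (68, 2), (149, 4), (151, 5), (150, 6), (121, 5), (144, 7), (115, 6), (102, 5), (90, 4), (69, 3), (151, 8), (14, 7), (152, 7), (16, 8), (130, 7), (103, 6), (91, 5), (70, 4), (132, 8), (105, 7), (93, 6), (10, 5), (134, 7), (107, 6), (12, 5), (15, 6), (147, 6), (105, 5), (151, 7), (152, 8), (16, 9), (133, 8), (119, 7), (106, 6), (152, 10), (15, 9), (143, 9), (114, 8), (101, 7), (78, 6), (68, 5), (51, 4), (44, 3), (6, 2), (144, 4), (129, 3), (115, 2), (148, 5), (133, 4), (119, 3), (150, 6), (135, 5), (121, 4), (145, 7), (130, 6), (116, 5), (103, 4), (80, 3), (150, 8),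 (135, 7), (121, 6), (13, 5), (151, 7), (136, 6), (14, 5), (152, 6), (15, 5), (147, 5), (82, 4), (16, 6), (11, 5), (144, 7), (115, 6), (102, 5), (69, 4), (52, 3), (7, 2), (145, 6), (116, 5), (103, 4), (70, 3), (8, 2), (147, 5), (118, 4), (105, 3), (10, 2), (148, 4), (119, 3), (106, 2), (151, 5), (14, 4), (152, 4), (16, 5), (126, 4), (99, 3), (76, 2), (150, 4), (16, 5), (131, 5), (104, 4), (81, 3), (135, 6), (13, 5), (144, 6), (129, 5), (79, 4), (60, 3), (147, 7), (132, 6), (82, 5), (149, 8), (134, 7), (150, 9), (135, 8), (152, 10), (15, 9), (16, 9), (103, 8), (91, 7), (80, 6), (70, 5), (61, 4), (104, 9), (92, 8), (81, 7), (71, 6), (9, 5), (106, 8), (94, 7), (11, 6), (13, 7), (146, 7), (92, 6), (71, 5), (147, 8), (93, 7), (10, 6), (149, 7), (12, 6), (150, 6), (151, 7), (16, 8), (120, 7), (107, 6), (121, 8), (13, 7), (151, 9), (136, 8), (14, 7), (16, 8), (15, 7), (86, 6), (56, 5), (48, 4), (41, 3), (26, 2), (3, 1), (126, 3), (99, 2), (76, 1), (150,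 3), (16, 4), (132, 4), (105, 3), (82, 2), (134, 5), (107, 4), (144, 7), (129, 6), (102, 5), (90, 4), (79, 3), (69, 2), (147, 8), (132, 7), (105, 6), (93, 5), (82, 4), (10, 3), (149, 7), (134, 6), (107, 5), (12, 4), (150, 6), (135, 5), (13, 4), (151, 5), (136, 4), (145, 6), (130, 5), (116, 4), (80, 3), (147, 7), (132, 6), (118, 5), (82, 4), (148, 8), (133, 7), (119, 6), (11, 5), (149, 7), (134, 6), (120, 5), (151, 8), (136, 7), (14, 6), (152, 7), (15, 6), (146, 6), (92, 5), (71, 4), (147, 7), (93, 6), (10, 5), (149, 6), (12, 5), (150, 5), (151, 6), (149, 7), (120, 6), (107, 5), (150, 8), (121, 7), (13, 6), (151, 7), (14, 6), (16, 6), (88, 5), (58, 4), (50, 3), (43, 2), (91, 5), (70, 4), (131, 7), (92, 6), (71, 5), (135, 8), (149, 10), (134, 9), (107, 8), (12, 7), (16, 9), (128, 8), (101, 7), (68, 6), (59, 5), (51, 4), (44, 3), (103, 6), (80, 5), (13, 7), (131, 8), (117, 7), (81, 6), (136, 9), (14, 8), (15, 8), (82, 7), (150, 9), (152, 10), (144,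 11), (129, 10), (102, 9), (79, 8), (69, 7), (60, 6), (52, 5), (7, 4), (145, 10), (130, 9), (103, 8), (80, 7), (70, 6), (61, 5), (8, 4), (146, 9), (131, 8), (104, 7), (81, 6), (71, 5), (9, 4), (149, 8), (134, 7), (107, 6)], [(83, 7), (53, 6), (45, 5), (38, 4), (32, 3), (27, 2), (20, 1), (17, 0), (140, 12), (125, 11), (86, 10), (75, 9), (65, 8), (48, 7), (41, 6), (35, 5), (30, 4), (3, 3), (127, 5), (100, 4), (77, 3), (150, 5), (152, 6), (151, 7), (136, 6), (152, 8), (15, 7), (16, 7), (114, 6), (101, 5), (78, 4), (118, 7), (105, 6), (82, 5), (120, 8), (107, 7), (121, 9), (13, 8), (144, 9), (115, 8), (90, 7), (79, 6), (69, 5), (147, 10), (118, 9), (93, 8), (82, 7), (10, 6), (149, 9), (120, 8), (12, 7), (150, 8), (121, 7), (151, 9), (14, 8), (145, 8), (103, 7), (80, 6), (147, 9), (105, 8), (82, 7), (148, 10), (106, 9), (11, 8), (149, 9), (107, 8), (151, 10), (152, 11), (147, 12), (132, 11), (118, 10), (105, 9), (93, 8), (10, 7), (150, 11), (135, 10),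 (121, 9), (13, 8), (151, 10), (136, 9), (14, 8), (16, 9), (133, 8), (94, 7), (149, 10), (134, 9), (12, 8), (150, 9), (135, 8), (151, 10), (136, 9), (16, 11), (15, 10), (16, 10), (112, 9), (99, 8), (76, 7), (49, 6), (42, 5), (36, 4), (31, 3), (114, 7), (89, 6), (68, 5), (149, 7), (151, 8), (150, 9), (121, 8), (144, 10), (115, 9), (102, 8), (90, 7), (69, 6), (151, 11), (14, 10), (152, 10), (16, 11), (130, 10), (103, 9), (91, 8), (70, 7), (132, 11), (105, 10), (93, 9), (10, 8), (134, 10), (107, 9), (12, 8), (15, 9), (148, 9), (106, 8), (16, 10), (13, 9), (151, 9), (142, 10), (113, 9), (77, 8), (50, 7), (43, 6), (37, 5), (5, 4), (144, 6), (102, 5), (147, 7), (105, 6), (149, 8), (107, 7), (145, 9), (103, 8), (91, 7), (70, 6), (152, 10), (148, 11), (133, 10), (106, 9), (94, 8), (16, 12), (136, 11), (143, 13), (128, 12), (114, 11), (101, 10), (89, 9), (78, 8), (68, 7), (51, 6), (44, 5), (6, 4), (144, 6), (129, 5), (115, 4), (148, 7), (133, 6), (119,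 5), (150, 8), (135, 7), (121, 6), (145, 9), (130, 8), (116, 7), (103, 6), (80, 5), (150, 10), (135, 9), (121, 8), (13, 7), (151, 9), (136, 8), (14, 7), (152, 8), (15, 7), (147, 7), (82, 6), (16, 8), (11, 7), (144, 11), (129, 10), (115, 9), (102, 8), (90, 7), (69, 6), (52, 5), (7, 4), (145, 10), (130, 9), (116, 8), (103, 7), (91, 6), (70, 5), (8, 4), (148, 9), (133, 8), (119, 7), (106, 6), (94, 5), (149, 10), (134, 9), (120, 8), (107, 7), (12, 6), (16, 9), (127, 8), (113, 7), (100, 6), (77, 5), (67, 4), (148, 6), (16, 7), (128, 9), (114, 8), (101, 7), (78, 6), (68, 5), (148, 7), (150, 8), (151, 9), (152, 10), (146, 11), (131, 10), (117, 9), (104, 8), (81, 7), (71, 6), (149, 12), (134, 11), (120, 10), (107, 9), (16, 13), (128, 12), (114, 11), (101, 10), (89, 9), (78, 8), (68, 7), (59, 6), (6, 5), (146, 7), (131, 6), (117, 5), (151, 8), (136, 7), (14, 6), (152, 7), (15, 6), (147, 6), (16, 7), (133, 11), (119, 10), (106, 9), (94, 8), (11, 7), (134,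 10), (120, 9), (107, 8), (12, 7), (144, 10), (129, 9), (115, 8), (102, 7), (69, 6), (60, 5), (145, 11), (130, 10), (116, 9), (103, 8), (70, 7), (61, 6), (146, 12), (131, 11), (117, 10), (104, 9), (71, 8), (9, 7), (150, 11), (135, 10), (121, 9), (13, 8), (151, 10), (136, 9), (14, 8), (152, 9), (15, 8), (145, 8), (70, 7), (8, 6), (146, 7), (71, 6), (152, 8), (146, 9), (131, 8), (71, 7), (9, 6), (148, 8), (133, 7), (149, 9), (134, 8), (151, 10), (136, 9), (16, 11), (134, 10), (120, 9), (12, 8), (135, 9), (121, 8), (136, 10), (14, 9), (15, 9), (138, 9), (96, 8), (73, 7), (63, 6), (39, 5), (28, 4), (24, 3), (19, 2), (1, 1), (110, 7), (97, 6), (64, 5), (47, 4), (40, 3), (34, 2), (25, 1), (128, 7), (114, 6), (78, 5), (68, 4), (6, 3), (147, 5), (132, 4), (118, 3), (16, 6), (133, 5), (119, 4), (136, 6), (14, 5), (15, 5), (82, 4), (10, 3), (144, 6), (102, 5), (90, 4), (79, 3), (146, 7), (104, 6), (92, 5), (81, 4), (147, 8), (105, 7), (93, 6), (82, 5), (150,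 9), (13, 8), (151, 8), (16, 9), (116, 8), (91, 7), (80, 6), (70, 5), (61, 4), (120, 9), (12, 8), (121, 8), (118, 9), (105, 8), (82, 7), (10, 6), (14, 8), (150, 8), (13, 7), (16, 7), (112, 7), (76, 6), (57, 5), (49, 4), (42, 3), (4, 2), (115, 4), (90, 3), (69, 2), (14, 5), (145, 6), (130, 5), (91, 4), (70, 3), (147, 7), (132, 6), (93, 5), (10, 4), (149, 6), (134, 5), (12, 4), (152, 5), (15, 4), (16, 4), (106, 6), (11, 5), (151, 6), (142, 7), (113, 6), (100, 5), (58, 4), (50, 3), (43, 2), (91, 5), (70, 4), (131, 7), (92, 6), (71, 5), (135, 8), (150, 10), (135, 9), (13, 8), (151, 9), (136, 8), (16, 10), (129, 9), (115, 8), (90, 7), (69, 6), (60, 5), (52, 4), (7, 3), (130, 8), (116, 7), (91, 6), (70, 5), (61, 4), (8, 3), (133, 7), (119, 6), (94, 5), (134, 8), (120, 7), (12, 6), (135, 7), (121, 6), (126, 8), (112, 7), (99, 6), (76, 5), (66, 4), (57, 3), (31, 2), (117, 6), (92, 5), (71, 4), (119, 7), (94, 6), (121, 8), (118, 9), (105, 8), (93, 7), (82,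 6), (10, 5), (14, 8), (148, 9), (133, 8), (106, 7), (94, 6), (11, 5), (16, 8), (135, 7), (13, 6), (151, 7), (136, 6), (152, 8), (15, 7), (146, 7), (117, 6), (92, 5), (9, 4), (150, 6), (121, 5), (16, 7), (113, 6), (100, 5), (88, 4), (5, 3), (150, 4), (151, 5), (143, 6), (114, 5), (101, 4), (89, 3), (146, 7), (117, 6), (104, 5), (92, 4), (149, 8), (120, 7), (107, 6), (12, 5), (16, 7), (115, 6), (102, 5), (60, 4), (118, 7), (105, 6), (120, 8), (107, 7), (121, 9), (13, 8), (147, 10), (132, 9), (118, 8), (93, 7), (10, 6), (148, 9), (133, 8), (119, 7), (94, 6), (152, 10), (15, 9), (16, 9), (119, 8), (94, 7), (11, 6), (14, 7), (135, 7), (136, 8), (15, 9), (16, 9), (111, 8), (98, 7), (86, 6), (56, 5), (41, 4), (35, 3), (26, 2), (143, 6), (89, 5), (68, 4), (149, 6), (16, 7), (93, 6), (10, 5), (12, 5), (144, 6), (102, 5), (147, 7), (105, 6), (149, 8), (107, 7), (150, 9), (13, 8), (151, 8), (146, 9), (117, 8), (92, 7), (71, 6), (147, 10), (118, 9), (93,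 8), (10, 7), (149, 9), (120, 8), (12, 7), (150, 8), (121, 7), (151, 9), (14, 8), (149, 8), (107, 7), (150, 9), (13, 8), (151, 8), (16, 9), (121, 8), (14, 9), (99, 8), (87, 7), (57, 6), (42, 5), (36, 4), (4, 3), (114, 5), (89, 4), (68, 3), (149, 5), (151, 6), (150, 7), (121, 6), (144, 8), (115, 7), (102, 6), (90, 5), (69, 4), (151, 9), (14, 8), (152, 8), (16, 9), (131, 8), (104, 7), (92, 6), (71, 5), (133, 9), (106, 8), (94, 7), (135, 10), (13, 9), (134, 9), (12, 8), (136, 8), (15, 9), (150, 9), (121, 8), (16, 10), (115, 9), (102, 8), (79, 7), (69, 6), (60, 5), (7, 4), (116, 8), (103, 7), (80, 6), (70, 5), (61, 4), (117, 9), (104, 8), (81, 7), (71, 6), (9, 5), (120, 8), (107, 7), (14, 9), (132, 9), (105, 8), (93, 7), (82, 6), (10, 5), (133, 8), (106, 7), (94, 6), (11, 5), (136, 7), (124, 8), (110, 7), (97, 6), (85, 5), (47, 4), (34, 3), (22, 2), (2, 1), (140, 3), (35, 2), (30, 1), (143, 5), (128, 4), (114, 3), (147, 6), (132, 5), (118, 4), (149,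 7), (134, 6), (120, 5), (150, 8), (135, 7), (121, 6), (16, 9), (142, 9), (127, 8), (113, 7), (100, 6), (88, 5), (67, 4), (37, 3), (5, 2), (147, 4), (105, 3), (16, 5), (107, 4), (150, 6), (13, 5), (151, 5), (152, 6), (16, 7), (133, 6), (119, 5), (94, 4), (15, 7), (114, 6), (89, 5), (78, 4), (68, 3), (6, 2), (147, 4), (132, 3), (118, 2), (16, 5), (133, 4), (119, 3), (134, 5), (120, 4), (136, 6), (14, 5), (132, 5), (93, 4), (82, 3), (10, 2), (134, 4), (12, 3), (135, 3), (145, 5), (130, 4), (103, 3), (80, 2), (149, 6), (134, 5), (107, 4), (150, 7), (135, 6), (13, 5), (149, 6), (134, 5), (12, 4), (150, 5), (135, 4), (151, 6), (136, 5), (16, 7), (135, 6), (121, 5), (13, 4), (151, 6), (136, 5), (14, 4), (152, 5), (15, 4), (16, 4), (75, 3), (48, 2), (3, 1), (130, 3), (103, 2), (80, 1), (132, 4), (105, 3), (82, 2), (133, 5), (106, 4), (11, 3), (134, 4), (107, 3), (136, 5), (15, 6), (119, 5), (106, 4), (94, 3), (141, 7), (112, 6), (99, 5), (87, 4), (76,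 3), (66, 2), (49, 1), (147, 6), (132, 5), (93, 4), (10, 3), (151, 5), (136, 4), (152, 6), (15, 5), (16, 5), (119, 4), (94, 3), (149, 6), (120, 5), (12, 4), (151, 5), (14, 4), (152, 4), (16, 5), (135, 4), (151, 6), (136, 5), (16, 7), (130, 6), (116, 5), (103, 4), (80, 3), (8, 2), (131, 5), (117, 4), (104, 3), (81, 2), (136, 6), (14, 5), (127, 5), (100, 4), (77, 3), (58, 2), (148, 5), (106, 4), (16, 6), (13, 5), (128, 5), (78, 4), (59, 3), (133, 6), (119, 5), (15, 7), (117, 6), (81, 5), (9, 4), (118, 5), (82, 4), (119, 6), (11, 5), (14, 5), (143, 5), (68, 4), (6, 3), (147, 5), (132, 4), (118, 3), (16, 6), (146, 6), (131, 5), (117, 4), (71, 3), (147, 7), (132, 6), (118, 5), (10, 4), (148, 6), (133, 5), (119, 4), (16, 7), (128, 6), (114, 5), (78, 4), (59, 3), (133, 6), (119, 5), (136, 7), (14, 6), (15, 6), (81, 5), (9, 4), (82, 4), (150, 7), (152, 8)]⟩,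
    ⟨4, [5, 0], [0, 5, 6, 8, 9, 10, 12], [(27, 0), (144, 5), (90, 4), (60, 3)], [(43, 1), (89, 4), (68, 3), (44, 2), (105, 5), (82, 4), (149, 7), (107, 6), (146, 8), (104, 7), (92, 6), (81, 5), (71, 4), (147, 9), (105, 8), (93, 7), (82, 6), (10, 5), (148, 8), (106, 7), (94, 6), (11, 5), (150, 7), (13, 6)], [(109, 2), (73, 1), (63, 0), (148, 4), (133, 3), (11, 2), (151, 3), (136, 2), (152, 4), (15, 3), (151, 3), (14, 2), (16, 2), (65, 1), (142, 5), (113, 4), (100, 3), (67, 2), (150, 4), (151, 5), (16, 6), (114, 5), (101, 4), (68, 3), (150, 5), (151, 6), (144, 7), (115, 6), (102, 5), (69, 4), (145, 8), (116, 7), (103, 6), (70, 5), (146, 9), (117, 8), (104, 7), (71, 6), (149, 10), (120, 9), (107, 8)], [(93, 7), (94, 8), (110, 10), (85, 9), (74, 8), (64, 7), (55, 6), (47, 5), (40, 4), (34, 3), (29, 2), (22, 1), (127, 5), (77, 4), (5, 3), (152, 4), (147, 5), (132, 4), (82, 3), (149, 6), (134, 5), (150, 7), (135, 6), (143, 8), (128, 7), (101, 6), (89,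 5), (78, 4), (68, 3), (148, 5), (149, 6), (150, 7), (152, 8), (16, 9), (132, 8), (105, 7), (93, 6), (82, 5), (10, 4), (134, 7), (107, 6), (12, 5), (135, 6), (13, 5), (144, 6), (129, 5), (79, 4), (146, 7), (131, 6), (81, 5), (147, 8), (132, 7), (82, 6), (150, 9), (135, 8), (151, 10), (136, 9), (16, 11), (130, 10), (116, 9), (103, 8), (80, 7), (70, 6), (61, 5), (134, 11), (120, 10), (107, 9), (135, 12), (121, 11), (13, 10), (131, 11), (117, 10), (92, 9), (81, 8), (71, 7), (9, 6), (132, 10), (118, 9), (93, 8), (82, 7), (10, 6), (133, 9), (119, 8), (94, 7), (11, 6), (134, 8), (120, 7), (12, 6), (135, 7), (121, 6), (136, 8), (14, 7), (147, 8), (132, 7), (105, 6), (151, 9), (136, 8), (16, 10), (133, 9), (119, 8), (106, 7), (136, 10), (14, 9), (15, 9), (107, 8), (13, 9), (151, 10), (14, 9), (140, 9), (86, 8), (75, 7), (65, 6), (48, 5), (41, 4), (35, 3), (3, 2), (128, 4), (101, 3), (78, 2), (132, 5), (105, 4), (82, 3), (134, 6), (107, 5), (135, 7), (13,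 6), (144, 7), (129, 6), (90, 5), (79, 4), (69, 3), (147, 8), (132, 7), (93, 6), (82, 5), (10, 4), (149, 7), (134, 6), (12, 5), (150, 6), (135, 5), (151, 7), (136, 6), (145, 8), (130, 7), (116, 6), (103, 5), (80, 4), (147, 9), (132, 8), (118, 7), (105, 6), (82, 5), (148, 10), (133, 9), (119, 8), (106, 7), (11, 6), (149, 9), (134, 8), (120, 7), (107, 6), (151, 10), (136, 9), (14, 8), (152, 9), (15, 8), (147, 8), (105, 7), (93, 6), (10, 5), (150, 7), (13, 6), (151, 6), (16, 7), (119, 6), (94, 5), (149, 8), (120, 7), (12, 6), (150, 7), (121, 6), (151, 8), (14, 7), (16, 7), (141, 7), (99, 6), (76, 5), (49, 4), (42, 3), (36, 2), (102, 4), (145, 8), (130, 7), (116, 6), (103, 5), (147, 9), (132, 8), (118, 7), (105, 6), (149, 10), (134, 9), (120, 8), (107, 7), (152, 11), (15, 10), (16, 10), (119, 9), (106, 8), (94, 7), (150, 11), (121, 10), (13, 9), (16, 10), (145, 10), (116, 9), (91, 8), (80, 7), (70, 6), (8, 5), (146, 9), (117, 8), (92, 7), (81, 6),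 (71, 5), (151, 10), (14, 9), (139, 9), (85, 8), (74, 7), (64, 6), (55, 5), (40, 4), (34, 3), (25, 2), (2, 1), (141, 3), (36, 2), (31, 1), (114, 5), (89, 4), (68, 3), (149, 5), (151, 6), (150, 7), (121, 6), (16, 8), (114, 7), (101, 6), (89, 5), (68, 4), (6, 3), (147, 5), (132, 4), (118, 3), (16, 6), (134, 5), (120, 4), (135, 6), (121, 5), (136, 7), (14, 6), (132, 6), (105, 5), (93, 4), (10, 3), (133, 5), (106, 4), (94, 3), (136, 6), (15, 7), (114, 6), (101, 5), (89, 4), (78, 3), (118, 7), (105, 6), (93, 5), (82, 4), (120, 8), (107, 7), (12, 6), (121, 7), (13, 6), (144, 7), (115, 6), (79, 5), (69, 4), (146, 8), (117, 7), (81, 6), (71, 5), (147, 9), (118, 8), (82, 7), (10, 6), (150, 8), (121, 7), (151, 9), (14, 8), (16, 8), (104, 7), (81, 6), (9, 5), (105, 6), (82, 5), (106, 7), (11, 6), (107, 6), (13, 7), (147, 8), (118, 7), (93, 6), (10, 5), (151, 7), (14, 6), (16, 6), (94, 5), (134, 8), (120, 7), (12, 6), (135, 7), (121, 6), (136, 8), (14, 7),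 (16, 8), (125, 7), (98, 6), (75, 5), (41, 4), (35, 3), (30, 2), (26, 1), (142, 5), (88, 4), (67, 3), (149, 5), (16, 6), (151, 6), (152, 7), (16, 8), (128, 7), (114, 6), (89, 5), (68, 4), (149, 6), (151, 7), (152, 8), (147, 9), (132, 8), (118, 7), (93, 6), (10, 5), (149, 8), (134, 7), (120, 6), (12, 5), (150, 7), (135, 6), (121, 5), (16, 8), (129, 7), (115, 6), (102, 5), (132, 8), (118, 7), (105, 6), (134, 9), (120, 8), (107, 7), (135, 10), (121, 9), (13, 8), (136, 9), (14, 8), (133, 8), (94, 7), (150, 10), (135, 9), (152, 11), (15, 10), (16, 10), (99, 9), (87, 8), (76, 7), (66, 6), (42, 5), (36, 4), (31, 3), (4, 2), (113, 4), (88, 3), (67, 2), (149, 4), (16, 5), (118, 5), (93, 4), (10, 3), (120, 4), (12, 3), (14, 3), (102, 4), (147, 8), (132, 7), (118, 6), (105, 5), (151, 9), (136, 8), (14, 7), (152, 8), (15, 7), (16, 7), (106, 6), (149, 8), (107, 7), (151, 9), (152, 10), (16, 11), (135, 10), (121, 9), (13, 8), (142, 10), (127, 9), (113, 8), (88,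 7), (77, 6), (67, 5), (43, 4), (37, 3), (5, 2), (144, 4), (102, 3), (147, 5), (105, 4), (149, 6), (107, 5), (147, 7), (105, 6), (93, 5), (10, 4), (16, 6), (106, 5), (94, 4), (149, 7), (107, 6), (12, 5), (16, 6), (145, 8), (130, 7), (116, 6), (103, 5), (80, 4), (146, 9), (131, 8), (117, 7), (104, 6), (81, 5), (148, 10), (133, 9), (119, 8), (106, 7), (11, 6), (150, 9), (135, 8), (121, 7), (13, 6), (151, 8), (136, 7), (14, 6), (142, 7), (127, 6), (58, 5), (50, 4), (43, 3), (37, 2), (144, 5), (102, 4), (147, 6), (105, 5), (149, 7), (107, 6), (145, 8), (103, 7), (91, 6), (70, 5), (152, 9), (146, 10), (131, 9), (104, 8), (92, 7), (71, 6), (150, 11), (135, 10), (13, 9), (16, 10), (15, 9), (143, 9), (89, 8), (68, 7), (59, 6), (51, 5), (44, 4), (6, 3), (144, 5), (129, 4), (115, 3), (148, 6), (133, 5), (119, 4), (150, 7), (135, 6), (121, 5), (145, 8), (130, 7), (116, 6), (103, 5), (80, 4), (150, 9), (135, 8), (121, 7), (13, 6), (151, 8), (136, 7), (14,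 6), (152, 7), (15, 6), (146, 6), (81, 5), (151, 7), (152, 8), (147, 9), (132, 8), (118, 7), (82, 6), (16, 10), (134, 9), (120, 8), (146, 11), (131, 10), (117, 9), (92, 8), (81, 7), (71, 6), (9, 5), (147, 10), (132, 9), (118, 8), (93, 7), (82, 6), (10, 5), (148, 9), (133, 8), (119, 7), (94, 6), (11, 5), (151, 8), (136, 7), (14, 6), (16, 7), (128, 6), (89, 5), (51, 4), (44, 3), (103, 6), (80, 5), (13, 7), (134, 8), (120, 7), (15, 9), (117, 8), (92, 7), (81, 6), (118, 9), (93, 8), (82, 7), (119, 10), (94, 9), (11, 8), (150, 10), (121, 9)]⟩,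
    ⟨4, [6, 0], [0, 6, 11, 12, 15], [(32, 0), (144, 4), (90, 3), (79, 2)], [(44, 1), (107, 4), (13, 5)], [(109, 5), (54, 4), (46, 3), (24, 2), (21, 1), (19, 0), (98, 8), (86, 7), (75, 6), (48, 5), (41, 4), (30, 3), (26, 2), (142, 6), (88, 5), (67, 4), (149, 6), (16, 7), (151, 7), (152, 8), (16, 9), (129, 8), (115, 7), (90, 6), (69, 5), (132, 9), (118, 8), (93, 7), (10, 6), (134, 8), (120, 7), (12, 6), (135, 7), (121, 6), (136, 8), (14, 7), (130, 7), (103, 6), (132, 8), (105, 7), (133, 9), (106, 8), (134, 10), (107, 9), (136, 11), (15, 12), (119, 11), (106, 10), (94, 9), (11, 8), (149, 11), (120, 10), (107, 9), (12, 8), (150, 10), (121, 9), (13, 8), (151, 9), (14, 8), (16, 8), (99, 8), (66, 7), (49, 6), (42, 5), (31, 4), (4, 3), (113, 5), (88, 4), (67, 3), (149, 5), (16, 6), (118, 6), (93, 5), (10, 4), (120, 5), (12, 4), (14, 4), (145, 7), (130, 6), (116, 5), (147, 8), (132, 7), (118, 6), (149, 9), (134, 8), (120, 7), (152, 10), (15, 9), (16, 9),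 (118, 8), (93, 7), (10, 6), (14, 7), (150, 8), (135, 7), (16, 9), (128, 8), (101, 7), (89, 6), (51, 5), (44, 4), (103, 7), (80, 6), (13, 8), (134, 9), (120, 8), (135, 10), (121, 9), (15, 11), (115, 10), (102, 9), (90, 8), (79, 7), (52, 6), (7, 5), (116, 9), (103, 8), (91, 7), (80, 6), (8, 5), (118, 8), (105, 7), (93, 6), (82, 5), (119, 9), (106, 8), (94, 7), (11, 6), (14, 8), (141, 9), (126, 8), (99, 7), (87, 6), (66, 5), (36, 4), (31, 3), (114, 7), (89, 6), (68, 5), (149, 7), (151, 8), (150, 9), (121, 8), (147, 10), (118, 9), (105, 8), (93, 7), (10, 6), (151, 9), (14, 8), (152, 8), (16, 9), (134, 8), (107, 7), (12, 6), (136, 7), (15, 8), (150, 8), (121, 7), (13, 6), (16, 7), (146, 8), (131, 7), (117, 6), (150, 9), (135, 8), (121, 7), (16, 10), (130, 9), (116, 8), (103, 7), (61, 6), (131, 10), (117, 9), (104, 8), (9, 7), (133, 9), (119, 8), (106, 7), (135, 10), (121, 9), (13, 8), (146, 10), (131, 9), (117, 8), (81, 7), (147, 11), (132, 10), (118,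 9), (82, 8), (149, 12), (134, 11), (120, 10), (150, 13), (135, 12), (121, 11), (151, 14), (136, 13), (14, 12), (16, 13), (136, 12), (140, 14), (125, 13), (111, 12), (98, 11), (86, 10), (75, 9), (65, 8), (56, 7), (48, 6), (35, 5), (30, 4), (26, 3), (3, 2), (126, 4), (99, 3), (76, 2), (150, 4), (16, 5), (132, 5), (105, 4), (82, 3), (134, 6), (107, 5), (142, 8), (127, 7), (100, 6), (88, 5), (77, 4), (67, 3), (148, 5), (16, 6), (150, 7), (152, 8), (16, 9), (136, 8), (15, 9), (143, 9), (114, 8), (101, 7), (89, 6), (78, 5), (68, 4), (148, 6), (149, 7), (150, 8), (151, 9), (16, 10), (118, 9), (105, 8), (93, 7), (82, 6), (10, 5), (120, 8), (107, 7), (12, 6), (121, 7), (13, 6), (145, 7), (116, 6), (80, 5), (147, 8), (118, 7), (82, 6), (148, 9), (119, 8), (11, 7), (149, 8), (120, 7), (151, 9), (14, 8), (152, 8), (146, 9), (131, 8), (92, 7), (71, 6), (147, 10), (132, 9), (93, 8), (10, 7), (149, 9), (134, 8), (12, 7), (150, 8), (135, 7), (151, 9), (136, 8),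 (147, 10), (132, 9), (118, 8), (105, 7), (150, 11), (135, 10), (121, 9), (13, 8), (151, 10), (136, 9), (14, 8), (16, 9), (133, 8), (149, 10), (134, 9), (150, 11), (135, 10), (151, 12), (136, 11), (16, 13), (135, 12), (121, 11), (13, 10), (136, 11), (14, 10), (15, 10), (16, 10), (88, 9), (77, 8), (67, 7), (58, 6), (50, 5), (37, 4), (5, 3), (145, 5), (103, 4), (152, 6), (146, 7), (131, 6), (104, 5), (150, 8), (135, 7), (13, 6), (16, 7), (132, 6), (148, 8), (133, 7), (16, 9), (134, 8), (143, 10), (128, 9), (89, 8), (78, 7), (68, 6), (59, 5), (51, 4), (6, 3), (145, 5), (130, 4), (116, 3), (150, 6), (135, 5), (121, 4), (151, 7), (136, 6), (14, 5), (152, 6), (15, 5), (146, 5), (104, 4), (151, 6), (152, 7), (147, 8), (132, 7), (118, 6), (105, 5), (16, 9), (133, 8), (119, 7), (106, 6), (134, 9), (120, 8), (107, 7), (15, 10), (144, 10), (115, 9), (102, 8), (90, 7), (79, 6), (69, 5), (60, 4), (52, 3), (145, 11), (116, 10), (103, 9), (91, 8), (80, 7), (70,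 6), (61, 5), (8, 4), (146, 10), (117, 9), (104, 8), (92, 7), (81, 6), (71, 5), (9, 4), (149, 9), (120, 8), (107, 7), (12, 6)], [(85, 7), (55, 6), (47, 5), (40, 4), (34, 3), (29, 2), (22, 1), (127, 5), (77, 4), (5, 3), (152, 4), (147, 5), (132, 4), (82, 3), (149, 6), (134, 5), (150, 7), (135, 6), (143, 8), (128, 7), (101, 6), (89, 5), (78, 4), (68, 3), (148, 5), (149, 6), (150, 7), (152, 8), (16, 9), (132, 8), (105, 7), (93, 6), (82, 5), (10, 4), (134, 7), (107, 6), (12, 5), (135, 6), (13, 5), (144, 6), (129, 5), (79, 4), (146, 7), (131, 6), (81, 5), (147, 8), (132, 7), (82, 6), (150, 9), (135, 8), (151, 10), (136, 9), (16, 11), (130, 10), (116, 9), (103, 8), (80, 7), (70, 6), (61, 5), (134, 11), (120, 10), (107, 9), (135, 12), (121, 11), (13, 10), (131, 11), (117, 10), (92, 9), (81, 8), (71, 7), (9, 6), (132, 10), (118, 9), (93, 8), (82, 7), (10, 6), (133, 9), (119, 8), (94, 7), (11, 6), (134, 8), (120, 7), (12, 6), (135, 7), (121, 6), (136, 8),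 (14, 7), (149, 8), (134, 7), (107, 6), (150, 9), (135, 8), (13, 7), (151, 8), (136, 7), (16, 9), (125, 8), (111, 7), (86, 6), (48, 5), (41, 4), (35, 3), (3, 2), (128, 4), (101, 3), (78, 2), (132, 5), (105, 4), (82, 3), (134, 6), (107, 5), (135, 7), (13, 6), (144, 7), (129, 6), (90, 5), (79, 4), (69, 3), (147, 8), (132, 7), (93, 6), (82, 5), (10, 4), (149, 7), (134, 6), (12, 5), (150, 6), (135, 5), (151, 7), (136, 6), (145, 8), (130, 7), (116, 6), (103, 5), (80, 4), (147, 9), (132, 8), (118, 7), (105, 6), (82, 5), (148, 10), (133, 9), (119, 8), (106, 7), (11, 6), (149, 9), (134, 8), (120, 7), (107, 6), (151, 10), (136, 9), (14, 8), (152, 9), (15, 8), (149, 8), (107, 7), (12, 6), (150, 7), (13, 6), (151, 6), (16, 7), (14, 6), (141, 7), (126, 6), (66, 5), (49, 4), (42, 3), (36, 2), (102, 4), (145, 8), (130, 7), (116, 6), (103, 5), (147, 9), (132, 8), (118, 7), (105, 6), (149, 10), (134, 9), (120, 8), (107, 7), (152, 11), (15, 10), (16, 10), (118,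 9), (105, 8), (93, 7), (10, 6), (14, 8), (152, 9), (15, 8), (16, 8), (103, 7), (91, 6), (8, 5), (104, 6), (92, 5), (114, 8), (101, 7), (89, 6), (59, 5), (44, 4), (6, 3), (144, 5), (129, 4), (115, 3), (148, 6), (133, 5), (119, 4), (150, 7), (135, 6), (121, 5), (146, 8), (131, 7), (117, 6), (104, 5), (81, 4), (151, 9), (136, 8), (14, 7), (152, 8), (15, 7), (149, 7), (107, 6), (150, 8), (13, 7), (151, 7), (146, 8), (117, 7), (92, 6), (81, 5), (9, 4), (147, 7), (118, 6), (93, 5), (82, 4), (149, 8), (120, 7), (12, 6), (16, 7), (121, 6)]⟩,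
    ⟨4, [7, 0], [0, 7, 8, 14], [(45, 0), (129, 3), (60, 2), (52, 1)], [], [(109, 7), (96, 6), (73, 5), (63, 4), (54, 3), (21, 2), (1, 1), (111, 7), (98, 6), (65, 5), (48, 4), (41, 3), (35, 2), (26, 1), (143, 5), (89, 4), (68, 3), (149, 5), (16, 6), (93, 5), (10, 4), (12, 4), (144, 5), (102, 4), (147, 6), (105, 5), (149, 7), (107, 6), (150, 8), (13, 7), (151, 7), (145, 8), (116, 7), (91, 6), (70, 5), (147, 9), (118, 8), (93, 7), (10, 6), (148, 8), (119, 7), (94, 6), (149, 9), (120, 8), (12, 7), (151, 8), (14, 7), (152, 7), (147, 8), (132, 7), (82, 6), (150, 9), (135, 8), (151, 10), (136, 9), (16, 11), (135, 10), (121, 9), (13, 8), (136, 9), (14, 8), (126, 8), (76, 7), (66, 6), (49, 5), (42, 4), (36, 3), (4, 2), (114, 4), (89, 3), (68, 2), (149, 4), (151, 5), (150, 6), (121, 5), (144, 7), (115, 6), (102, 5), (90, 4), (69, 3), (151, 8), (14, 7), (152, 7), (16, 8), (130, 7), (103, 6), (91, 5), (70, 4), (132, 8), (105, 7), (93, 6), (10, 5), (134, 7),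 (107, 6), (12, 5), (15, 6), (147, 6), (105, 5), (151, 7), (152, 8), (16, 9), (133, 8), (119, 7), (106, 6), (152, 10), (15, 9), (143, 9), (114, 8), (101, 7), (78, 6), (68, 5), (51, 4), (44, 3), (6, 2), (144, 4), (129, 3), (115, 2), (148, 5), (133, 4), (119, 3), (150, 6), (135, 5), (121, 4), (145, 7), (130, 6), (116, 5), (103, 4), (80, 3), (150, 8), (135, 7), (121, 6), (13, 5), (151, 7), (136, 6), (14, 5), (152, 6), (15, 5), (147, 5), (82, 4), (16, 6), (11, 5), (144, 7), (115, 6), (102, 5), (69, 4), (52, 3), (7, 2), (145, 6), (116, 5), (103, 4), (70, 3), (8, 2), (147, 5), (118, 4), (105, 3), (10, 2), (148, 4), (119, 3), (106, 2), (151, 5), (14, 4), (152, 4), (16, 5), (131, 4), (104, 3), (81, 2), (132, 5), (105, 4), (82, 3), (134, 6), (107, 5), (135, 7), (13, 6), (136, 6), (147, 8), (132, 7), (118, 6), (93, 5), (82, 4), (10, 3), (148, 7), (133, 6), (119, 5), (94, 4), (11, 3), (152, 6), (15, 5), (16, 5), (119, 4), (94, 3), (14, 5), (135, 5), (136,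 6), (15, 7), (151, 7), (14, 6), (16, 6), (98, 5), (86, 4), (75, 3), (56, 2), (3, 1), (131, 3), (104, 2), (81, 1), (132, 4), (105, 3), (82, 2), (134, 5), (107, 4), (135, 6), (13, 5), (136, 5), (133, 6), (119, 5), (94, 4), (11, 3), (149, 6), (134, 5), (120, 4), (12, 3), (150, 5), (135, 4), (121, 3), (151, 6), (136, 5), (14, 4), (16, 5), (135, 4), (13, 3), (127, 3), (67, 2), (58, 1), (147, 4), (105, 3), (16, 5), (128, 5), (101, 4), (68, 3), (59, 2), (132, 5), (118, 4), (150, 7), (135, 6), (121, 5), (152, 8), (15, 7), (144, 7), (115, 6), (102, 5), (69, 4), (60, 3), (145, 8), (116, 7), (103, 6), (70, 5), (61, 4), (146, 9), (117, 8), (104, 7), (71, 6), (9, 5), (149, 8), (120, 7), (107, 6)], [(83, 7), (53, 6), (45, 5), (38, 4), (32, 3), (27, 2), (20, 1), (17, 0), (140, 12), (125, 11), (86, 10), (75, 9), (65, 8), (48, 7), (41, 6), (35, 5), (30, 4), (3, 3), (127, 5), (100, 4), (77, 3), (150, 5), (152, 6), (151, 7), (136, 6), (152, 8), (15, 7), (16, 7),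 (114, 6), (101, 5), (78, 4), (118, 7), (105, 6), (82, 5), (120, 8), (107, 7), (121, 9), (13, 8), (144, 9), (115, 8), (90, 7), (79, 6), (69, 5), (147, 10), (118, 9), (93, 8), (82, 7), (10, 6), (149, 9), (120, 8), (12, 7), (150, 8), (121, 7), (151, 9), (14, 8), (145, 8), (103, 7), (80, 6), (147, 9), (105, 8), (82, 7), (148, 10), (106, 9), (11, 8), (149, 9), (107, 8), (151, 10), (152, 11), (147, 12), (132, 11), (118, 10), (105, 9), (93, 8), (10, 7), (150, 11), (135, 10), (121, 9), (13, 8), (151, 10), (136, 9), (14, 8), (16, 9), (133, 8), (94, 7), (149, 10), (134, 9), (12, 8), (150, 9), (135, 8), (151, 10), (136, 9), (16, 11), (15, 10), (16, 10), (112, 9), (99, 8), (76, 7), (49, 6), (42, 5), (36, 4), (31, 3), (114, 7), (89, 6), (68, 5), (149, 7), (151, 8), (150, 9), (121, 8), (144, 10), (115, 9), (102, 8), (90, 7), (69, 6), (151, 11), (14, 10), (152, 10), (16, 11), (130, 10), (103, 9), (91, 8), (70, 7), (132, 11), (105, 10), (93, 9), (10, 8), (134,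 10), (107, 9), (12, 8), (15, 9), (148, 9), (106, 8), (16, 10), (13, 9), (151, 9), (142, 10), (113, 9), (77, 8), (50, 7), (43, 6), (37, 5), (5, 4), (144, 6), (102, 5), (147, 7), (105, 6), (149, 8), (107, 7), (145, 9), (103, 8), (91, 7), (70, 6), (152, 10), (148, 11), (133, 10), (106, 9), (94, 8), (16, 12), (136, 11), (143, 13), (128, 12), (114, 11), (101, 10), (89, 9), (78, 8), (68, 7), (51, 6), (44, 5), (6, 4), (144, 6), (129, 5), (115, 4), (148, 7), (133, 6), (119, 5), (150, 8), (135, 7), (121, 6), (145, 9), (130, 8), (116, 7), (103, 6), (80, 5), (150, 10), (135, 9), (121, 8), (13, 7), (151, 9), (136, 8), (14, 7), (152, 8), (15, 7), (147, 7), (82, 6), (16, 8), (11, 7), (144, 11), (129, 10), (115, 9), (102, 8), (90, 7), (69, 6), (52, 5), (7, 4), (145, 10), (130, 9), (116, 8), (103, 7), (91, 6), (70, 5), (8, 4), (148, 9), (133, 8), (119, 7), (106, 6), (94, 5), (149, 10), (134, 9), (120, 8), (107, 7), (12, 6), (16, 9), (127, 8), (113, 7), (100,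 6), (77, 5), (67, 4), (148, 6), (16, 7), (128, 9), (114, 8), (101, 7), (78, 6), (68, 5), (148, 7), (150, 8), (151, 9), (152, 10), (146, 11), (131, 10), (117, 9), (104, 8), (81, 7), (71, 6), (149, 12), (134, 11), (120, 10), (107, 9), (16, 13), (128, 12), (114, 11), (101, 10), (89, 9), (78, 8), (68, 7), (59, 6), (6, 5), (146, 7), (131, 6), (117, 5), (151, 8), (136, 7), (14, 6), (152, 7), (15, 6), (147, 6), (16, 7), (133, 11), (119, 10), (106, 9), (94, 8), (11, 7), (134, 10), (120, 9), (107, 8), (12, 7), (144, 10), (129, 9), (115, 8), (102, 7), (69, 6), (60, 5), (145, 11), (130, 10), (116, 9), (103, 8), (70, 7), (61, 6), (146, 12), (131, 11), (117, 10), (104, 9), (71, 8), (9, 7), (150, 11), (135, 10), (121, 9), (13, 8), (151, 10), (136, 9), (14, 8), (152, 9), (15, 8), (145, 8), (70, 7), (8, 6), (146, 7), (71, 6), (152, 8), (146, 9), (131, 8), (71, 7), (9, 6), (148, 8), (133, 7), (149, 9), (134, 8), (151, 10), (136, 9), (16, 11), (134, 10), (120,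 9), (12, 8), (135, 9), (121, 8), (136, 10), (14, 9), (15, 9), (138, 9), (96, 8), (73, 7), (63, 6), (39, 5), (28, 4), (24, 3), (19, 2), (1, 1), (110, 7), (97, 6), (64, 5), (47, 4), (40, 3), (34, 2), (25, 1), (128, 7), (114, 6), (78, 5), (68, 4), (6, 3), (147, 5), (132, 4), (118, 3), (16, 6), (133, 5), (119, 4), (136, 6), (14, 5), (15, 5), (82, 4), (10, 3), (144, 6), (102, 5), (90, 4), (79, 3), (146, 7), (104, 6), (92, 5), (81, 4), (147, 8), (105, 7), (93, 6), (82, 5), (150, 9), (13, 8), (151, 8), (16, 9), (116, 8), (91, 7), (80, 6), (70, 5), (61, 4), (120, 9), (12, 8), (121, 8), (118, 9), (105, 8), (82, 7), (10, 6), (14, 8), (150, 8), (13, 7), (16, 7), (112, 7), (76, 6), (57, 5), (49, 4), (42, 3), (4, 2), (115, 4), (90, 3), (69, 2), (14, 5), (145, 6), (130, 5), (91, 4), (70, 3), (147, 7), (132, 6), (93, 5), (10, 4), (149, 6), (134, 5), (12, 4), (152, 5), (15, 4), (16, 4), (106, 6), (11, 5), (151, 6), (142, 7), (113, 6), (100, 5), (58, 4), (50,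 3), (43, 2), (91, 5), (70, 4), (131, 7), (92, 6), (71, 5), (135, 8), (150, 10), (135, 9), (13, 8), (151, 9), (136, 8), (16, 10), (129, 9), (115, 8), (90, 7), (69, 6), (60, 5), (52, 4), (7, 3), (130, 8), (116, 7), (91, 6), (70, 5), (61, 4), (8, 3), (133, 7), (119, 6), (94, 5), (134, 8), (120, 7), (12, 6), (135, 7), (121, 6), (126, 8), (112, 7), (99, 6), (76, 5), (66, 4), (57, 3), (31, 2), (117, 6), (92, 5), (71, 4), (119, 7), (94, 6), (121, 8), (118, 9), (105, 8), (93, 7), (82, 6), (10, 5), (14, 8), (148, 9), (133, 8), (106, 7), (94, 6), (11, 5), (16, 8), (135, 7), (13, 6), (151, 7), (136, 6), (152, 8), (15, 7), (146, 7), (117, 6), (92, 5), (9, 4), (150, 6), (121, 5), (16, 7), (113, 6), (100, 5), (88, 4), (5, 3), (150, 4), (151, 5), (143, 6), (114, 5), (101, 4), (89, 3), (146, 7), (117, 6), (104, 5), (92, 4), (149, 8), (120, 7), (107, 6), (12, 5), (16, 7), (115, 6), (102, 5), (60, 4), (118, 7), (105, 6), (120, 8), (107, 7), (121, 9), (13, 8), (147,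 10), (132, 9), (118, 8), (93, 7), (10, 6), (148, 9), (133, 8), (119, 7), (94, 6), (152, 10), (15, 9), (16, 9), (119, 8), (94, 7), (11, 6), (14, 7), (135, 7), (136, 8), (15, 9), (16, 9), (111, 8), (98, 7), (86, 6), (56, 5), (41, 4), (35, 3), (26, 2), (143, 6), (89, 5), (68, 4), (149, 6), (16, 7), (93, 6), (10, 5), (12, 5), (144, 6), (102, 5), (147, 7), (105, 6), (149, 8), (107, 7), (150, 9), (13, 8), (151, 8), (146, 9), (117, 8), (92, 7), (71, 6), (147, 10), (118, 9), (93, 8), (10, 7), (149, 9), (120, 8), (12, 7), (150, 8), (121, 7), (151, 9), (14, 8), (149, 8), (107, 7), (150, 9), (13, 8), (151, 8), (16, 9), (121, 8), (14, 9), (104, 8), (92, 7), (9, 6), (105, 7), (93, 6), (106, 8), (94, 7), (13, 9), (110, 9), (85, 8), (74, 7), (64, 6), (40, 5), (34, 4), (25, 3), (22, 2), (2, 1), (140, 3), (35, 2), (30, 1), (143, 5), (128, 4), (114, 3), (147, 6), (132, 5), (118, 4), (149, 7), (134, 6), (120, 5), (150, 8), (135, 7), (121, 6), (16, 9), (142, 9),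 (127, 8), (113, 7), (100, 6), (88, 5), (67, 4), (37, 3), (5, 2), (147, 4), (105, 3), (16, 5), (107, 4), (150, 6), (13, 5), (151, 5), (152, 6), (16, 7), (133, 6), (119, 5), (94, 4), (15, 7), (112, 6), (87, 5), (76, 4), (66, 3), (36, 2), (105, 4), (148, 8), (133, 7), (119, 6), (106, 5), (16, 9), (134, 8), (120, 7), (107, 6), (136, 9), (14, 8), (15, 8), (151, 8), (143, 9), (114, 8), (101, 7), (89, 6), (78, 5), (68, 4), (6, 3), (147, 5), (132, 4), (118, 3), (16, 6), (133, 5), (119, 4), (134, 6), (120, 5), (135, 7), (121, 6), (136, 8), (14, 7), (147, 8), (132, 7), (105, 6), (93, 5), (82, 4), (10, 3), (148, 7), (133, 6), (106, 5), (94, 4), (11, 3), (151, 6), (136, 5), (152, 7), (15, 6), (143, 6), (114, 5), (101, 4), (89, 3), (147, 7), (118, 6), (105, 5), (93, 4), (149, 8), (120, 7), (107, 6), (12, 5), (150, 7), (121, 6), (13, 5), (16, 6), (115, 5), (69, 4), (117, 6), (71, 5), (118, 7), (10, 6), (121, 6), (14, 7), (147, 7), (105, 6), (151, 8), (16, 9),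 (119, 8), (106, 7), (14, 9), (134, 9), (107, 8), (135, 10), (13, 9), (136, 9), (151, 11), (136, 10), (14, 9), (140, 10), (125, 9), (86, 8), (75, 7), (65, 6), (56, 5), (41, 4), (35, 3), (26, 2), (3, 1), (126, 3), (99, 2), (76, 1), (150, 3), (16, 4), (132, 4), (105, 3), (82, 2), (134, 5), (107, 4), (143, 7), (128, 6), (101, 5), (89, 4), (78, 3), (68, 2), (148, 4), (149, 5), (150, 6), (152, 7), (16, 8), (132, 7), (105, 6), (93, 5), (82, 4), (10, 3), (134, 6), (107, 5), (12, 4), (135, 5), (13, 4), (144, 5), (129, 4), (79, 3), (147, 6), (132, 5), (82, 4), (149, 7), (134, 6), (150, 8), (135, 7), (151, 9), (136, 8), (146, 10), (131, 9), (117, 8), (104, 7), (92, 6), (81, 5), (71, 4), (147, 11), (132, 10), (118, 9), (105, 8), (93, 7), (82, 6), (10, 5), (149, 10), (134, 9), (120, 8), (107, 7), (12, 6), (150, 9), (135, 8), (121, 7), (13, 6), (151, 8), (136, 7), (14, 6), (147, 7), (132, 6), (82, 5), (150, 8), (135, 7), (151, 9), (136, 8), (16, 10), (133,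 9), (119, 8), (106, 7), (11, 6), (149, 9), (134, 8), (120, 7), (107, 6), (150, 10), (135, 9), (121, 8), (13, 7), (151, 9), (136, 8), (14, 7), (16, 8), (15, 7), (16, 7), (87, 6), (66, 5), (57, 4), (42, 3), (36, 2), (4, 1), (114, 3), (89, 2), (68, 1), (149, 3), (151, 4), (150, 5), (121, 4), (144, 6), (115, 5), (102, 4), (90, 3), (69, 2), (151, 7), (14, 6), (152, 6), (16, 7), (131, 6), (104, 5), (92, 4), (71, 3), (133, 7), (106, 6), (94, 5), (135, 8), (13, 7), (132, 7), (93, 6), (82, 5), (10, 4), (136, 6), (15, 7), (149, 7), (120, 6), (12, 5), (151, 6), (14, 5), (152, 5), (16, 6), (127, 5), (77, 4), (58, 3), (43, 2), (37, 1), (144, 4), (102, 3), (147, 5), (105, 4), (149, 6), (107, 5), (146, 7), (104, 6), (92, 5), (71, 4), (150, 8), (13, 7), (16, 7), (94, 6), (152, 8), (145, 9), (130, 8), (91, 7), (80, 6), (70, 5), (61, 4), (146, 10), (131, 9), (92, 8), (81, 7), (71, 6), (9, 5), (148, 9), (133, 8), (94, 7), (11, 6), (150, 8), (135, 7), (151, 9), (136,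 8), (152, 10), (15, 9)]⟩,
    ⟨4, [8, 0], [0, 8, 10, 11, 13, 15], [(53, 0), (144, 5), (115, 4), (90, 3), (79, 2), (60, 1)], [], [(109, 8), (96, 7), (73, 6), (54, 5), (46, 4), (28, 3), (24, 2), (21, 1), (19, 0), (98, 8), (86, 7), (75, 6), (48, 5), (41, 4), (30, 3), (26, 2), (142, 6), (88, 5), (67, 4), (149, 6), (16, 7), (151, 7), (152, 8), (16, 9), (129, 8), (115, 7), (90, 6), (69, 5), (132, 9), (118, 8), (93, 7), (10, 6), (134, 8), (120, 7), (12, 6), (135, 7), (121, 6), (136, 8), (14, 7), (130, 7), (103, 6), (132, 8), (105, 7), (133, 9), (106, 8), (134, 10), (107, 9), (136, 11), (15, 12), (119, 11), (106, 10), (94, 9), (11, 8), (149, 11), (120, 10), (107, 9), (12, 8), (150, 10), (121, 9), (13, 8), (151, 9), (14, 8), (16, 8), (99, 8), (66, 7), (49, 6), (42, 5), (31, 4), (4, 3), (113, 5), (88, 4), (67, 3), (149, 5), (16, 6), (118, 6), (93, 5), (10, 4), (120, 5), (12, 4), (14, 4), (145, 7), (130, 6), (116, 5), (147, 8), (132, 7), (118, 6), (149,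 9), (134, 8), (120, 7), (152, 10), (15, 9), (16, 9), (118, 8), (93, 7), (10, 6), (14, 7), (150, 8), (135, 7), (16, 9), (128, 8), (101, 7), (89, 6), (51, 5), (44, 4), (103, 7), (80, 6), (13, 8), (134, 9), (120, 8), (135, 10), (121, 9), (15, 11), (115, 10), (102, 9), (90, 8), (79, 7), (52, 6), (7, 5), (116, 9), (103, 8), (91, 7), (80, 6), (8, 5), (118, 8), (105, 7), (93, 6), (82, 5), (119, 9), (106, 8), (94, 7), (11, 6), (14, 8), (141, 9), (126, 8), (99, 7), (87, 6), (66, 5), (36, 4), (31, 3), (114, 7), (89, 6), (68, 5), (149, 7), (151, 8), (150, 9), (121, 8), (147, 10), (118, 9), (105, 8), (93, 7), (10, 6), (151, 9), (14, 8), (152, 8), (16, 9), (134, 8), (107, 7), (12, 6), (136, 7), (15, 8), (150, 8), (121, 7), (13, 6), (16, 7), (146, 8), (131, 7), (117, 6), (150, 9), (135, 8), (121, 7), (16, 10), (127, 9), (113, 8), (100, 7), (58, 6), (37, 5), (5, 4), (146, 6), (104, 5), (150, 7), (13, 6), (16, 6), (128, 8), (114, 7), (101, 6), (59, 5), (6, 4),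 (146, 6), (131, 5), (117, 4), (151, 7), (136, 6), (14, 5), (152, 6), (15, 5), (150, 5), (151, 6), (152, 7), (146, 8), (131, 7), (117, 6), (104, 5), (9, 4), (149, 7), (134, 6), (120, 5), (107, 4), (16, 8), (130, 7), (116, 6), (103, 5), (91, 4), (131, 8), (117, 7), (104, 6), (92, 5), (133, 9), (119, 8), (106, 7), (94, 6), (135, 10), (121, 9), (13, 8), (146, 10), (131, 9), (117, 8), (92, 7), (81, 6), (9, 5), (147, 9), (132, 8), (118, 7), (93, 6), (82, 5), (149, 10), (134, 9), (120, 8), (12, 7), (150, 9), (135, 8), (121, 7), (151, 10), (136, 9), (14, 8), (16, 9), (133, 8), (106, 7), (11, 6), (136, 7), (15, 8), (121, 7), (13, 6), (14, 6), (151, 7), (136, 6), (16, 8), (125, 7), (111, 6), (65, 5), (48, 4), (26, 3), (3, 2), (126, 4), (99, 3), (76, 2), (150, 4), (16, 5), (132, 5), (105, 4), (82, 3), (134, 6), (107, 5), (145, 8), (130, 7), (103, 6), (91, 5), (80, 4), (70, 3), (147, 9), (132, 8), (105, 7), (93, 6), (82, 5), (10, 4), (148, 8), (133, 7), (106,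 6), (94, 5), (11, 4), (149, 7), (134, 6), (107, 5), (12, 4), (151, 6), (136, 5), (152, 7), (15, 6), (147, 6), (118, 5), (105, 4), (150, 7), (121, 6), (13, 5), (151, 6), (14, 5), (16, 5), (142, 7), (127, 6), (113, 5), (67, 4), (50, 3), (132, 5), (151, 7), (136, 6), (152, 8), (15, 7), (16, 7), (114, 6), (68, 5), (51, 4), (132, 8), (118, 7), (105, 6), (151, 10), (136, 9), (14, 8), (144, 9), (129, 8), (102, 7), (69, 6), (52, 5), (145, 10), (130, 9), (103, 8), (70, 7), (8, 6), (146, 9), (131, 8), (104, 7), (71, 6), (149, 10), (134, 9), (107, 8)], [(85, 7), (55, 6), (47, 5), (40, 4), (34, 3), (29, 2), (22, 1), (127, 5), (77, 4), (5, 3), (152, 4), (147, 5), (132, 4), (82, 3), (149, 6), (134, 5), (150, 7), (135, 6), (143, 8), (128, 7), (101, 6), (89, 5), (78, 4), (68, 3), (148, 5), (149, 6), (150, 7), (152, 8), (16, 9), (132, 8), (105, 7), (93, 6), (82, 5), (10, 4), (134, 7), (107, 6), (12, 5), (135, 6), (13, 5), (144, 6), (129, 5), (79, 4), (146, 7),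 (131, 6), (81, 5), (147, 8), (132, 7), (82, 6), (150, 9), (135, 8), (151, 10), (136, 9), (16, 11), (130, 10), (116, 9), (103, 8), (80, 7), (70, 6), (61, 5), (134, 11), (120, 10), (107, 9), (135, 12), (121, 11), (13, 10), (131, 11), (117, 10), (92, 9), (81, 8), (71, 7), (9, 6), (132, 10), (118, 9), (93, 8), (82, 7), (10, 6), (133, 9), (119, 8), (94, 7), (11, 6), (134, 8), (120, 7), (12, 6), (135, 7), (121, 6), (136, 8), (14, 7), (149, 8), (134, 7), (107, 6), (150, 9), (135, 8), (13, 7), (151, 8), (136, 7), (16, 9), (125, 8), (111, 7), (86, 6), (48, 5), (41, 4), (35, 3), (3, 2), (128, 4), (101, 3), (78, 2), (132, 5), (105, 4), (82, 3), (134, 6), (107, 5), (135, 7), (13, 6), (144, 7), (129, 6), (90, 5), (79, 4), (69, 3), (147, 8), (132, 7), (93, 6), (82, 5), (10, 4), (149, 7), (134, 6), (12, 5), (150, 6), (135, 5), (151, 7), (136, 6), (145, 8), (130, 7), (116, 6), (103, 5), (80, 4), (147, 9), (132, 8), (118, 7), (105, 6), (82, 5), (148, 10), (133,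 9), (119, 8), (106, 7), (11, 6), (149, 9), (134, 8), (120, 7), (107, 6), (151, 10), (136, 9), (14, 8), (152, 9), (15, 8), (149, 8), (107, 7), (12, 6), (150, 7), (13, 6), (151, 6), (16, 7), (14, 6), (141, 7), (126, 6), (66, 5), (49, 4), (42, 3), (36, 2), (102, 4), (145, 8), (130, 7), (116, 6), (103, 5), (147, 9), (132, 8), (118, 7), (105, 6), (149, 10), (134, 9), (120, 8), (107, 7), (152, 11), (15, 10), (16, 10), (118, 9), (105, 8), (93, 7), (10, 6), (14, 8), (152, 9), (15, 8), (16, 8), (100, 7), (88, 6), (50, 5), (43, 4), (37, 3), (144, 6), (102, 5), (147, 7), (105, 6), (149, 8), (107, 7), (145, 9), (103, 8), (91, 7), (70, 6), (152, 10), (149, 11), (134, 10), (107, 9), (12, 8), (16, 10), (135, 9), (13, 8), (130, 8), (70, 7), (8, 6), (131, 7), (71, 6), (133, 8), (135, 9), (136, 10), (128, 11), (114, 10), (101, 9), (78, 8), (68, 7), (59, 6), (44, 5), (6, 4), (144, 6), (129, 5), (115, 4), (148, 7), (133, 6), (119, 5), (150, 8), (135, 7), (121, 6),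 (146, 9), (131, 8), (117, 7), (104, 6), (81, 5), (151, 10), (136, 9), (14, 8), (152, 9), (15, 8), (147, 8), (105, 7), (82, 6), (16, 9), (106, 8), (11, 7), (13, 7), (131, 8), (117, 7), (71, 6), (9, 5), (132, 7), (118, 6), (10, 5), (133, 6), (119, 5), (143, 8), (128, 7), (114, 6), (78, 5), (44, 4), (106, 7), (11, 6), (146, 9), (131, 8), (117, 7), (104, 6), (147, 10), (132, 9), (118, 8), (105, 7), (149, 11), (134, 10), (120, 9), (107, 8), (16, 12), (136, 11), (14, 10)]⟩,
    ⟨4, [9, 0], [0, 9, 10, 13, 15], [(62, 0), (144, 4), (115, 3), (79, 2), (69, 1)], [], [(138, 6), (109, 5), (73, 4), (63, 3), (54, 2), (33, 1), (28, 0), (143, 5), (89, 4), (59, 3), (6, 2), (146, 4), (131, 3), (117, 2), (151, 5), (136, 4), (14, 3), (152, 4), (15, 3), (149, 3), (16, 4), (93, 3), (12, 4), (104, 4), (71, 3), (9, 2), (105, 3), (10, 2), (107, 2), (13, 3), (147, 4), (118, 3), (93, 2), (148, 5), (119, 4), (94, 3), (152, 6), (16, 7), (133, 6), (119, 5), (94, 4), (11, 3),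 (136, 5), (14, 4), (15, 4), (16, 5), (111, 4), (86, 3), (65, 2), (30, 1), (147, 5), (132, 4), (118, 3), (150, 6), (135, 5), (121, 4), (151, 7), (136, 6), (14, 5), (16, 6), (134, 5), (107, 4), (135, 6), (13, 5), (136, 5), (151, 7), (136, 6), (14, 5), (142, 6), (127, 5), (88, 4), (67, 3), (5, 2), (149, 3), (16, 4), (143, 5), (128, 4), (89, 3), (68, 2), (149, 4), (152, 5), (16, 6), (129, 5), (90, 4), (69, 3), (130, 6), (91, 5), (70, 4), (131, 7), (92, 6), (71, 5), (134, 8), (12, 7)], [(88, 7), (58, 6), (50, 5), (43, 4), (37, 3), (5, 2), (144, 4), (102, 3), (147, 5), (105, 4), (149, 6), (107, 5), (145, 7), (103, 6), (91, 5), (70, 4), (152, 8), (146, 9), (131, 8), (104, 7), (92, 6), (71, 5), (150, 10), (135, 9), (13, 8), (16, 9), (134, 8), (12, 7), (143, 8), (128, 7), (68, 6), (59, 5), (51, 4), (44, 3), (6, 2), (144, 4), (129, 3), (115, 2), (148, 5), (133, 4), (119, 3), (150, 6), (135, 5), (121, 4), (145, 7), (130, 6), (116, 5), (103, 4), (80, 3),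 (150, 8), (135, 7), (121, 6), (13, 5), (151, 7), (136, 6), (14, 5), (152, 6), (15, 5), (146, 5), (81, 4), (151, 6), (152, 7), (147, 8), (132, 7), (118, 6), (82, 5), (16, 9), (15, 8), (146, 8), (117, 7), (81, 6), (71, 5), (9, 4), (147, 7), (118, 6), (82, 5), (10, 4), (148, 6), (119, 5), (11, 4), (151, 5), (14, 4), (16, 4), (51, 3), (44, 2), (103, 5), (80, 4), (13, 6), (131, 7), (117, 6), (81, 5), (132, 8), (118, 7), (82, 6), (133, 9), (119, 8), (11, 7), (151, 9), (136, 8), (14, 7), (16, 8)]⟩,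
    ⟨4, [10, 0], [0, 10, 12, 13, 14], [(72, 0), (129, 4), (115, 3), (102, 2), (79, 1)], [], [(138, 4), (73, 3), (63, 2), (54, 1), (33, 0), (104, 4), (92, 3), (71, 2), (105, 5), (93, 4), (10, 3), (107, 4), (12, 3), (13, 3), (147, 4), (118, 3), (148, 5), (119, 4), (152, 6), (16, 7), (133, 6), (119, 5), (11, 4), (136, 5), (14, 4), (15, 4), (140, 4), (65, 3), (56, 2), (35, 1), (146, 6), (104, 5), (92, 4), (71, 3), (147, 7), (105, 6), (93, 5), (10, 4), (149, 6), (107, 5), (12, 4), (150, 5), (13, 4), (151, 4), (147, 5), (118, 4), (150, 6), (121, 5), (151, 7), (14, 6), (16, 6), (142, 6), (100, 5), (67, 4), (58, 3), (37, 2), (146, 5), (104, 4), (150, 6), (13, 5), (16, 5), (150, 6), (16, 7), (101, 6), (68, 5), (59, 4), (6, 3), (146, 5), (131, 4), (117, 3), (151, 6), (136, 5), (14, 4), (152, 5), (15, 4), (147, 4), (16, 5), (102, 5), (69, 4), (60, 3), (103, 6), (70, 5), (61, 4), (104, 7), (71, 6), (9, 5), (107, 6)], [(89, 7), (59, 6), (51, 5), (44, 4), (6,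 3), (144, 5), (129, 4), (115, 3), (148, 6), (133, 5), (119, 4), (150, 7), (135, 6), (121, 5), (145, 8), (130, 7), (116, 6), (103, 5), (80, 4), (150, 9), (135, 8), (121, 7), (13, 6), (151, 8), (136, 7), (14, 6), (152, 7), (15, 6), (146, 6), (81, 5), (151, 7), (152, 8), (149, 9), (134, 8), (120, 7), (146, 10), (131, 9), (117, 8), (92, 7), (81, 6), (9, 5), (147, 9), (132, 8), (118, 7), (93, 6), (82, 5), (148, 10), (133, 9), (119, 8), (94, 7), (11, 6), (16, 9), (135, 8), (121, 7), (136, 9), (14, 8), (15, 8)]⟩,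
    ⟨4, [1, 1], [4, 6, 7, 10, 11, 12, 13, 14, 15], [(39, 1), (1, 0), (115, 6), (102, 5), (69, 4), (52, 3), (7, 2), (118, 5), (105, 4), (10, 3), (120, 4), (107, 3), (121, 5), (13, 4), (144, 6), (129, 5), (115, 4), (90, 3), (52, 2)], [(44, 1), (103, 4), (80, 3), (106, 5), (11, 4), (107, 4), (13, 5)], [(95, 7), (72, 6), (62, 5), (53, 4), (38, 3), (23, 2), (18, 1), (0, 0), (139, 5), (124, 4), (29, 3), (25, 2), (22, 1), (2, 0), (140, 2), (35, 1), (30, 0), (143, 4), (128, 3), (114, 2), (147, 5), (132, 4), (118, 3), (149, 6), (134, 5), (120, 4), (150, 7), (135, 6), (121, 5), (16, 8), (142, 8), (127, 7), (113, 6), (100, 5), (88, 4), (67, 3), (37, 2), (5, 1), (147, 3), (105, 2), (16, 4), (107, 3), (150, 5), (13, 4), (151, 4), (152, 5), (16, 6), (133, 5), (119, 4), (94, 3), (15, 6), (112, 5), (87, 4), (76, 3), (66, 2), (36, 1), (105, 3), (148, 7), (133, 6), (119, 5), (106, 4), (16, 8), (134, 7), (120, 6), (107, 5), (136, 8), (14, 7), (15, 7), (151, 7),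 (143, 8), (114, 7), (101, 6), (89, 5), (78, 4), (68, 3), (6, 2), (147, 4), (132, 3), (118, 2), (16, 5), (133, 4), (119, 3), (134, 5), (120, 4), (135, 6), (121, 5), (136, 7), (14, 6), (147, 7), (132, 6), (105, 5), (93, 4), (82, 3), (10, 2), (148, 6), (133, 5), (106, 4), (94, 3), (11, 2), (151, 5), (136, 4), (152, 6), (15, 5), (142, 5), (113, 4), (100, 3), (88, 2), (150, 4), (151, 5), (16, 6), (118, 5), (105, 4), (93, 3), (120, 6), (107, 5), (12, 4), (121, 5), (13, 4), (16, 6), (126, 5), (112, 4), (66, 3), (31, 2), (4, 1), (113, 3), (88, 2), (67, 1), (149, 3), (16, 4), (118, 4), (93, 3), (10, 2), (120, 3), (12, 2), (14, 2), (151, 5), (136, 4), (14, 3), (152, 4), (15, 3), (143, 3), (68, 2), (16, 4), (69, 3), (141, 8), (126, 7), (112, 6), (76, 5), (66, 4), (42, 3), (36, 2), (31, 1), (114, 5), (89, 4), (68, 3), (149, 5), (151, 6), (150, 7), (121, 6), (144, 8), (115, 7), (102, 6), (90, 5), (69, 4), (151, 9), (14, 8), (152, 8), (16, 9), (132, 8), (105,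 7), (93, 6), (10, 5), (136, 7), (15, 8), (148, 8), (119, 7), (106, 6), (94, 5), (16, 9), (14, 8), (142, 9), (127, 8), (100, 7), (88, 6), (77, 5), (43, 4), (37, 3), (5, 2), (144, 4), (102, 3), (147, 5), (105, 4), (149, 6), (107, 5), (148, 7), (106, 6), (94, 5), (16, 8), (107, 7), (12, 6), (150, 7), (13, 6), (152, 6), (16, 7), (128, 6), (78, 5), (68, 4), (44, 3), (6, 2), (144, 4), (129, 3), (115, 2), (148, 5), (133, 4), (119, 3), (150, 6), (135, 5), (121, 4), (147, 7), (132, 6), (118, 5), (105, 4), (82, 3), (16, 8), (133, 7), (119, 6), (106, 5), (11, 4), (15, 6), (116, 5), (103, 4), (70, 3), (117, 6), (104, 5), (71, 4), (118, 7), (105, 6), (10, 5), (119, 6), (106, 5), (120, 7), (107, 6), (144, 10), (129, 9), (115, 8), (102, 7), (90, 6), (79, 5), (60, 4), (52, 3), (7, 2), (145, 9), (130, 8), (116, 7), (103, 6), (91, 5), (80, 4), (61, 3), (8, 2), (146, 8), (131, 7), (117, 6), (104, 5), (92, 4), (81, 3), (9, 2), (150, 7), (135, 6), (121, 5), (13, 4),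 (151, 6), (136, 5), (14, 4), (152, 5), (15, 4), (146, 4), (92, 3), (81, 2), (148, 5), (94, 4), (11, 3), (149, 4), (12, 3), (151, 3), (16, 4), (118, 3), (119, 4), (14, 5), (148, 5), (11, 4), (150, 4), (151, 5), (152, 6), (150, 7), (135, 6), (121, 5), (13, 4), (151, 6), (136, 5), (14, 4), (152, 5), (15, 4), (139, 4), (64, 3), (55, 2), (25, 1), (22, 0), (126, 4), (76, 3), (31, 2), (119, 6), (94, 5), (152, 8), (143, 9), (128, 8), (114, 7), (89, 6), (78, 5), (68, 4), (148, 6), (149, 7), (151, 8), (152, 9), (16, 10), (132, 9), (118, 8), (93, 7), (82, 6), (10, 5), (133, 8), (119, 7), (94, 6), (11, 5), (136, 7), (14, 6), (15, 6), (92, 5), (93, 6), (94, 7), (12, 8), (147, 10), (118, 9), (105, 8), (82, 7), (10, 6), (151, 9), (14, 8), (16, 8), (141, 8), (99, 7), (76, 6), (57, 5), (36, 4), (31, 3), (4, 2), (113, 4), (88, 3), (67, 2), (149, 4), (16, 5), (118, 5), (93, 4), (10, 3), (120, 4), (12, 3), (14, 3), (104, 4), (106, 5), (13, 6), (11, 5), (150, 5),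 (16, 6), (144, 6), (102, 5), (60, 4), (146, 7), (104, 6), (9, 5), (147, 6), (105, 5), (148, 7), (106, 6), (150, 8), (13, 7)], [(124, 9), (110, 8), (85, 7), (55, 6), (47, 5), (40, 4), (25, 3), (22, 2), (126, 6), (76, 5), (31, 4), (119, 8), (94, 7), (152, 10), (143, 11), (128, 10), (114, 9), (89, 8), (78, 7), (68, 6), (148, 8), (149, 9), (151, 10), (152, 11), (16, 12), (132, 11), (118, 10), (93, 9), (82, 8), (10, 7), (133, 10), (119, 9), (94, 8), (11, 7), (136, 9), (14, 8), (15, 8), (90, 7), (92, 8), (93, 9), (145, 13), (116, 12), (103, 11), (91, 10), (70, 9), (61, 8), (149, 14), (120, 13), (107, 12), (12, 11), (150, 13), (121, 12), (13, 11), (146, 12), (117, 11), (71, 10), (9, 9), (147, 11), (118, 10), (10, 9), (148, 10), (119, 9), (149, 11), (120, 10), (150, 12), (121, 11), (151, 13), (14, 12), (16, 12), (107, 11), (12, 10), (13, 10), (151, 11), (14, 10), (152, 10), (16, 11), (125, 10), (75, 9), (48, 8), (41, 7), (35, 6), (30, 5), (26, 4), (3,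 3), (126, 5), (99, 4), (76, 3), (150, 5), (16, 6), (132, 6), (105, 5), (82, 4), (134, 7), (107, 6), (142, 9), (127, 8), (100, 7), (88, 6), (77, 5), (67, 4), (148, 6), (16, 7), (150, 8), (152, 9), (16, 10), (136, 9), (15, 10), (143, 10), (114, 9), (101, 8), (89, 7), (78, 6), (68, 5), (148, 7), (149, 8), (150, 9), (151, 10), (16, 11), (118, 10), (105, 9), (93, 8), (82, 7), (10, 6), (120, 9), (107, 8), (12, 7), (121, 8), (13, 7), (144, 8), (115, 7), (79, 6), (147, 9), (118, 8), (82, 7), (149, 10), (120, 9), (150, 11), (121, 10), (151, 12), (14, 11), (145, 11), (103, 10), (91, 9), (80, 8), (70, 7), (147, 12), (105, 11), (93, 10), (82, 9), (10, 8), (148, 11), (106, 10), (94, 9), (11, 8), (149, 10), (107, 9), (12, 8), (151, 9), (152, 10), (148, 11), (133, 10), (119, 9), (106, 8), (16, 12), (15, 11), (141, 11), (112, 10), (99, 9), (76, 8), (49, 7), (42, 6), (36, 5), (31, 4), (4, 3), (113, 5), (88, 4), (67, 3), (149, 5), (16, 6), (118, 6), (93, 5), (10,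 4), (120, 5), (12, 4), (14, 4), (102, 5), (145, 9), (130, 8), (116, 7), (103, 6), (147, 10), (132, 9), (118, 8), (105, 7), (149, 11), (134, 10), (120, 9), (107, 8), (152, 12), (15, 11), (16, 11), (119, 10), (106, 9), (94, 8), (150, 12), (121, 11), (13, 10), (16, 11), (14, 10), (145, 10), (91, 9), (80, 8), (70, 7), (8, 6), (146, 9), (92, 8), (81, 7), (71, 6), (151, 10), (137, 11), (108, 10), (83, 9), (72, 8), (62, 7), (53, 6), (38, 5), (32, 4), (27, 3), (18, 2), (17, 1), (0, 0), (138, 5), (123, 4), (28, 3), (24, 2), (21, 1), (19, 0), (98, 8), (86, 7), (75, 6), (48, 5), (41, 4), (30, 3), (26, 2), (142, 6), (88, 5), (67, 4), (149, 6), (16, 7), (151, 7), (152, 8), (16, 9), (129, 8), (115, 7), (90, 6), (69, 5), (132, 9), (118, 8), (93, 7), (10, 6), (134, 8), (120, 7), (12, 6), (135, 7), (121, 6), (136, 8), (14, 7), (130, 7), (103, 6), (132, 8), (105, 7), (133, 9), (106, 8), (134, 10), (107, 9), (136, 11), (15, 12), (119, 11), (106, 10), (94, 9), (11,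 8), (149, 11), (120, 10), (107, 9), (12, 8), (150, 10), (121, 9), (13, 8), (151, 9), (14, 8), (16, 8), (99, 8), (66, 7), (49, 6), (42, 5), (31, 4), (4, 3), (113, 5), (88, 4), (67, 3), (149, 5), (16, 6), (118, 6), (93, 5), (10, 4), (120, 5), (12, 4), (14, 4), (145, 7), (130, 6), (116, 5), (147, 8), (132, 7), (118, 6), (149, 9), (134, 8), (120, 7), (152, 10), (15, 9), (16, 9), (118, 8), (93, 7), (10, 6), (14, 7), (150, 8), (135, 7), (16, 9), (128, 8), (101, 7), (89, 6), (51, 5), (44, 4), (103, 7), (80, 6), (13, 8), (134, 9), (120, 8), (135, 10), (121, 9), (15, 11), (115, 10), (102, 9), (90, 8), (79, 7), (52, 6), (7, 5), (116, 9), (103, 8), (91, 7), (80, 6), (8, 5), (118, 8), (105, 7), (93, 6), (82, 5), (119, 9), (106, 8), (94, 7), (11, 6), (14, 8), (141, 9), (126, 8), (99, 7), (87, 6), (66, 5), (36, 4), (31, 3), (114, 7), (89, 6), (68, 5), (149, 7), (151, 8), (150, 9), (121, 8), (147, 10), (118, 9), (105, 8), (93, 7), (10, 6), (151, 9), (14, 8),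 (152, 8), (16, 9), (134, 8), (107, 7), (12, 6), (136, 7), (15, 8), (150, 8), (121, 7), (13, 6), (16, 7), (146, 8), (131, 7), (117, 6), (150, 9), (135, 8), (121, 7), (16, 10), (127, 9), (113, 8), (100, 7), (58, 6), (37, 5), (5, 4), (146, 6), (104, 5), (150, 7), (13, 6), (16, 6), (128, 8), (114, 7), (101, 6), (59, 5), (6, 4), (146, 6), (131, 5), (117, 4), (151, 7), (136, 6), (14, 5), (152, 6), (15, 5), (150, 5), (151, 6), (152, 7), (146, 8), (131, 7), (117, 6), (104, 5), (9, 4), (149, 7), (134, 6), (120, 5), (107, 4), (16, 8), (15, 7), (139, 7), (110, 6), (97, 5), (85, 4), (25, 3), (22, 2), (2, 1), (140, 3), (35, 2), (30, 1), (143, 5), (128, 4), (114, 3), (147, 6), (132, 5), (118, 4), (149, 7), (134, 6), (120, 5), (150, 8), (135, 7), (121, 6), (16, 9), (142, 9), (127, 8), (113, 7), (100, 6), (88, 5), (67, 4), (37, 3), (5, 2), (147, 4), (105, 3), (16, 5), (107, 4), (150, 6), (13, 5), (151, 5), (152, 6), (16, 7), (133, 6), (119, 5), (94, 4), (15,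 7), (112, 6), (87, 5), (76, 4), (66, 3), (36, 2), (105, 4), (148, 8), (133, 7), (119, 6), (106, 5), (16, 9), (134, 8), (120, 7), (107, 6), (136, 9), (14, 8), (15, 8), (151, 8), (143, 9), (114, 8), (101, 7), (89, 6), (78, 5), (68, 4), (6, 3), (147, 5), (132, 4), (118, 3), (16, 6), (133, 5), (119, 4), (134, 6), (120, 5), (135, 7), (121, 6), (136, 8), (14, 7), (147, 8), (132, 7), (105, 6), (93, 5), (82, 4), (10, 3), (148, 7), (133, 6), (106, 5), (94, 4), (11, 3), (151, 6), (136, 5), (152, 7), (15, 6), (149, 6), (120, 5), (107, 4), (12, 3), (150, 5), (121, 4), (13, 3), (151, 4), (14, 3), (16, 3), (151, 4), (16, 5), (111, 4), (98, 3), (26, 2), (3, 1), (126, 3), (99, 2), (76, 1), (150, 3), (16, 4), (132, 4), (105, 3), (82, 2), (134, 5), (107, 4), (150, 7), (135, 6), (13, 5), (151, 6), (136, 5), (142, 7), (127, 6), (113, 5), (88, 4), (77, 3), (67, 2), (148, 4), (16, 5), (151, 6), (152, 7), (16, 8), (128, 7), (114, 6), (89, 5), (78, 4), (68, 3), (148,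 5), (149, 6), (151, 7), (152, 8), (144, 9), (129, 8), (115, 7), (90, 6), (79, 5), (69, 4), (145, 10), (130, 9), (116, 8), (91, 7), (80, 6), (70, 5), (147, 11), (132, 10), (118, 9), (93, 8), (82, 7), (10, 6), (148, 10), (133, 9), (119, 8), (94, 7), (11, 6), (149, 9), (134, 8), (120, 7), (12, 6), (152, 8), (15, 7), (16, 7), (110, 6), (47, 5), (40, 4), (34, 3), (29, 2), (25, 1), (127, 7), (113, 6), (77, 5), (67, 4), (37, 3), (147, 6), (105, 5), (16, 7), (106, 6), (151, 8), (152, 9), (147, 10), (132, 9), (118, 8), (105, 7), (82, 6), (10, 5), (149, 9), (134, 8), (120, 7), (107, 6), (150, 10), (135, 9), (121, 8), (13, 7), (143, 9), (128, 8), (114, 7), (89, 6), (78, 5), (6, 4), (148, 6), (133, 5), (119, 4), (149, 7), (134, 6), (120, 5), (151, 8), (136, 7), (14, 6), (152, 7), (15, 6), (16, 6), (93, 5), (82, 4), (12, 6), (144, 7), (102, 6), (79, 5), (69, 4), (146, 8), (104, 7), (81, 6), (71, 5), (147, 9), (105, 8), (82, 7), (10, 6), (150, 8), (13, 7),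 (151, 7), (16, 8), (116, 7), (80, 6), (61, 5), (120, 8), (121, 9), (14, 10), (99, 9), (87, 8), (76, 7), (57, 6), (49, 5), (42, 4), (31, 3), (4, 2), (113, 4), (88, 3), (67, 2), (149, 4), (16, 5), (118, 5), (93, 4), (10, 3), (120, 4), (12, 3), (14, 3), (145, 6), (130, 5), (116, 4), (147, 7), (132, 6), (118, 5), (149, 8), (134, 7), (120, 6), (152, 9), (15, 8), (16, 8), (117, 7), (92, 6), (71, 5), (119, 8), (94, 7), (121, 9), (119, 10), (106, 9), (94, 8), (11, 7), (149, 10), (120, 9), (107, 8), (12, 7), (151, 9), (14, 8), (152, 8), (16, 9), (135, 8), (13, 7), (143, 8), (128, 7), (68, 6), (59, 5), (51, 4), (44, 3), (103, 6), (80, 5), (13, 7), (131, 8), (117, 7), (81, 6), (136, 9), (14, 8), (15, 8), (82, 7), (152, 9), (16, 10), (129, 9), (79, 8), (69, 7), (60, 6), (52, 5), (7, 4), (133, 8), (11, 7), (136, 7), (15, 8), (142, 8), (113, 7), (67, 6), (58, 5), (50, 4), (37, 3), (5, 2), (145, 4), (103, 3), (152, 5), (146, 6), (131, 5), (104, 4), (150, 7),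 (135, 6), (13, 5), (16, 6), (132, 5), (151, 7), (136, 6), (16, 8), (128, 7), (114, 6), (68, 5), (59, 4), (51, 3), (6, 2), (145, 4), (130, 3), (116, 2), (150, 5), (135, 4), (121, 3), (151, 6), (136, 5), (14, 4), (152, 5), (15, 4), (146, 4), (104, 3), (151, 5), (152, 6), (147, 7), (132, 6), (118, 5), (105, 4), (16, 8), (136, 7), (14, 6), (15, 6), (104, 5), (71, 4), (9, 3), (107, 4), (143, 6), (101, 5), (89, 4), (68, 3), (51, 2), (132, 6), (118, 5), (105, 4), (149, 8), (134, 7), (120, 6), (107, 5), (150, 9), (135, 8), (121, 7), (13, 6), (16, 8), (133, 7), (119, 6), (94, 5), (134, 8), (120, 7), (12, 6), (144, 8), (129, 7), (115, 6), (79, 5), (69, 4), (52, 3), (145, 9), (130, 8), (116, 7), (80, 6), (70, 5), (8, 4), (146, 8), (131, 7), (117, 6), (81, 5), (71, 4), (150, 9), (135, 8), (121, 7), (151, 10), (136, 9), (14, 8), (152, 9), (15, 8), (146, 8), (104, 7), (81, 6), (71, 5), (9, 4), (148, 7), (106, 6), (11, 5), (149, 6), (107, 5), (151, 7), (16,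 8), (118, 7), (105, 6), (93, 5), (10, 4), (119, 6), (106, 5), (94, 4), (14, 7), (148, 7), (106, 6), (94, 5), (11, 4), (150, 6), (13, 5), (151, 5), (152, 6), (149, 7), (134, 6), (120, 5), (12, 4), (150, 6), (135, 5), (121, 4), (151, 7), (136, 6), (14, 5), (152, 6), (15, 5), (16, 5), (16, 6), (109, 5), (96, 4), (39, 3), (33, 2), (19, 1), (1, 0), (110, 6), (97, 5), (64, 4), (47, 3), (40, 2), (34, 1), (25, 0), (128, 6), (114, 5), (78, 4), (68, 3), (6, 2), (147, 4), (132, 3), (118, 2), (16, 5), (133, 4), (119, 3), (136, 5), (14, 4), (15, 4), (82, 3), (10, 2), (144, 5), (102, 4), (90, 3), (79, 2), (146, 6), (104, 5), (92, 4), (81, 3), (147, 7), (105, 6), (93, 5), (82, 4), (150, 8), (13, 7), (151, 7), (16, 8), (116, 7), (91, 6), (80, 5), (70, 4), (61, 3), (120, 8), (12, 7), (121, 7), (118, 8), (105, 7), (82, 6), (10, 5), (14, 7), (150, 7), (13, 6), (16, 6), (112, 6), (76, 5), (57, 4), (49, 3), (42, 2), (4, 1), (115, 3), (90, 2), (69, 1), (14, 4), (145,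 5), (130, 4), (91, 3), (70, 2), (147, 6), (132, 5), (93, 4), (10, 3), (149, 5), (134, 4), (12, 3), (152, 4), (15, 3), (16, 3), (106, 5), (11, 4), (151, 5), (142, 6), (113, 5), (100, 4), (58, 3), (50, 2), (43, 1), (91, 4), (70, 3), (131, 6), (92, 5), (71, 4), (135, 7), (150, 9), (135, 8), (13, 7), (151, 8), (136, 7), (16, 9), (129, 8), (115, 7), (90, 6), (69, 5), (60, 4), (52, 3), (7, 2), (130, 7), (116, 6), (91, 5), (70, 4), (61, 3), (8, 2), (133, 6), (119, 5), (94, 4), (134, 7), (120, 6), (12, 5), (135, 6), (121, 5), (128, 7), (114, 6), (101, 5), (78, 4), (68, 3), (59, 2), (132, 5), (118, 4), (148, 7), (133, 6), (119, 5), (150, 8), (135, 7), (121, 6), (151, 9), (136, 8), (14, 7), (152, 8), (15, 7), (147, 7), (105, 6), (82, 5), (10, 4), (149, 6), (107, 5), (150, 7), (13, 6), (144, 6), (90, 5), (79, 4), (60, 3), (147, 7), (93, 6), (82, 5), (149, 8), (12, 7), (150, 7), (152, 8), (16, 9), (135, 8), (13, 7), (136, 7), (15, 8), (151, 8), (14, 7), (16,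 7), (75, 6), (65, 5), (56, 4), (41, 3), (35, 2), (30, 1), (143, 5), (128, 4), (114, 3), (147, 6), (132, 5), (118, 4), (149, 7), (134, 6), (120, 5), (150, 8), (135, 7), (121, 6), (16, 9), (129, 8), (115, 7), (102, 6), (90, 5), (69, 4), (132, 9), (118, 8), (105, 7), (93, 6), (10, 5), (134, 8), (120, 7), (107, 6), (12, 5), (135, 7), (121, 6), (13, 5), (136, 6), (14, 5), (131, 5), (132, 6), (134, 7), (135, 8), (136, 9), (132, 10), (118, 9), (105, 8), (93, 7), (10, 6), (135, 9), (121, 8), (13, 7), (136, 8), (14, 7), (148, 8), (133, 7), (94, 6), (16, 9), (131, 8), (92, 7), (81, 6), (9, 5), (132, 7), (93, 6), (82, 5), (133, 8), (94, 7), (11, 6), (135, 7), (136, 8), (128, 9), (114, 8), (101, 7), (89, 6), (68, 5), (44, 4), (6, 3), (144, 5), (129, 4), (115, 3), (148, 6), (133, 5), (119, 4), (150, 7), (135, 6), (121, 5), (147, 8), (132, 7), (118, 6), (105, 5), (82, 4), (16, 9), (134, 8), (120, 7), (107, 6), (135, 9), (121, 8), (13, 7), (136, 8), (14, 7),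 (15, 7), (92, 6), (81, 5), (71, 4), (93, 7), (82, 6), (10, 5), (94, 6), (11, 5), (143, 6), (89, 5), (59, 4), (44, 3), (104, 6), (81, 5), (134, 9), (120, 8), (107, 7), (146, 11), (131, 10), (117, 9), (104, 8), (92, 7), (81, 6), (9, 5), (147, 10), (132, 9), (118, 8), (105, 7), (93, 6), (82, 5), (149, 11), (134, 10), (120, 9), (107, 8), (12, 7), (16, 10), (135, 9), (121, 8), (13, 7), (136, 8), (14, 7), (15, 7)]⟩,
    ⟨4, [2, 1], [1, 2, 4, 5, 7, 8, 9, 11, 12, 15], [(39, 1), (19, 0), (102, 8), (90, 7), (79, 6), (52, 5), (7, 4), (105, 7), (93, 6), (82, 5), (107, 8), (12, 7), (13, 7), (144, 8), (129, 7), (79, 6), (69, 5), (52, 4)], [(40, 1), (144, 7), (115, 6), (102, 5), (69, 4), (60, 3), (7, 2), (141, 6), (112, 5), (99, 4), (66, 3), (57, 2), (105, 5), (82, 4), (150, 9), (135, 8), (121, 7), (13, 6), (16, 8), (136, 7), (14, 6), (144, 7), (129, 6), (79, 5), (69, 4), (60, 3), (142, 8), (127, 7), (77, 6), (67, 5), (58, 4), (43, 3), (92, 6), (71, 5), (147,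 9), (105, 8), (93, 7), (10, 6), (16, 8), (106, 7), (94, 6), (152, 9), (16, 10), (130, 9), (103, 8), (91, 7), (80, 6), (61, 5), (131, 10), (104, 9), (92, 8), (81, 7), (9, 6), (132, 9), (105, 8), (93, 7), (82, 6), (134, 10), (107, 9), (12, 8), (135, 9), (13, 8)], [(137, 9), (108, 8), (83, 7), (62, 6), (53, 5), (38, 4), (27, 3), (23, 2), (17, 1), (0, 0), (138, 5), (123, 4), (28, 3), (24, 2), (21, 1), (19, 0), (98, 8), (86, 7), (75, 6), (48, 5), (41, 4), (30, 3), (26, 2), (142, 6), (88, 5), (67, 4), (149, 6), (16, 7), (151, 7), (152, 8), (16, 9), (129, 8), (115, 7), (90, 6), (69, 5), (132, 9), (118, 8), (93, 7), (10, 6), (134, 8), (120, 7), (12, 6), (135, 7), (121, 6), (136, 8), (14, 7), (130, 7), (103, 6), (132, 8), (105, 7), (133, 9), (106, 8), (134, 10), (107, 9), (136, 11), (15, 12), (119, 11), (106, 10), (94, 9), (11, 8), (149, 11), (120, 10), (107, 9), (12, 8), (150, 10), (121, 9), (13, 8), (151, 9), (14, 8), (16, 8), (99, 8), (66, 7), (49,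 6), (42, 5), (31, 4), (4, 3), (113, 5), (88, 4), (67, 3), (149, 5), (16, 6), (118, 6), (93, 5), (10, 4), (120, 5), (12, 4), (14, 4), (145, 7), (130, 6), (116, 5), (147, 8), (132, 7), (118, 6), (149, 9), (134, 8), (120, 7), (152, 10), (15, 9), (16, 9), (118, 8), (93, 7), (10, 6), (14, 7), (150, 8), (135, 7), (16, 9), (128, 8), (101, 7), (89, 6), (51, 5), (44, 4), (103, 7), (80, 6), (13, 8), (134, 9), (120, 8), (135, 10), (121, 9), (15, 11), (115, 10), (102, 9), (90, 8), (79, 7), (52, 6), (7, 5), (116, 9), (103, 8), (91, 7), (80, 6), (8, 5), (118, 8), (105, 7), (93, 6), (82, 5), (119, 9), (106, 8), (94, 7), (11, 6), (14, 8), (141, 9), (126, 8), (99, 7), (87, 6), (66, 5), (36, 4), (31, 3), (114, 7), (89, 6), (68, 5), (149, 7), (151, 8), (150, 9), (121, 8), (147, 10), (118, 9), (105, 8), (93, 7), (10, 6), (151, 9), (14, 8), (152, 8), (16, 9), (134, 8), (107, 7), (12, 6), (136, 7), (15, 8), (150, 8), (121, 7), (13, 6), (16, 7), (146, 8), (131, 7),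 (117, 6), (150, 9), (135, 8), (121, 7), (16, 10), (127, 9), (113, 8), (100, 7), (58, 6), (37, 5), (5, 4), (146, 6), (104, 5), (150, 7), (13, 6), (16, 6), (128, 8), (114, 7), (101, 6), (59, 5), (6, 4), (146, 6), (131, 5), (117, 4), (151, 7), (136, 6), (14, 5), (152, 6), (15, 5), (150, 5), (151, 6), (152, 7), (146, 8), (131, 7), (117, 6), (104, 5), (9, 4), (149, 7), (134, 6), (120, 5), (107, 4), (16, 8), (15, 7), (139, 7), (110, 6), (97, 5), (85, 4), (25, 3), (22, 2), (2, 1), (140, 3), (35, 2), (30, 1), (143, 5), (128, 4), (114, 3), (147, 6), (132, 5), (118, 4), (149, 7), (134, 6), (120, 5), (150, 8), (135, 7), (121, 6), (16, 9), (142, 9), (127, 8), (113, 7), (100, 6), (88, 5), (67, 4), (37, 3), (5, 2), (147, 4), (105, 3), (16, 5), (107, 4), (150, 6), (13, 5), (151, 5), (152, 6), (16, 7), (133, 6), (119, 5), (94, 4), (15, 7), (112, 6), (87, 5), (76, 4), (66, 3), (36, 2), (105, 4), (148, 8), (133, 7), (119, 6), (106, 5), (16, 9), (134, 8), (120,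 7), (107, 6), (136, 9), (14, 8), (15, 8), (151, 8), (143, 9), (114, 8), (101, 7), (89, 6), (78, 5), (68, 4), (6, 3), (147, 5), (132, 4), (118, 3), (16, 6), (133, 5), (119, 4), (134, 6), (120, 5), (135, 7), (121, 6), (136, 8), (14, 7), (147, 8), (132, 7), (105, 6), (93, 5), (82, 4), (10, 3), (148, 7), (133, 6), (106, 5), (94, 4), (11, 3), (151, 6), (136, 5), (152, 7), (15, 6), (149, 6), (120, 5), (107, 4), (12, 3), (150, 5), (121, 4), (13, 3), (151, 4), (14, 3), (16, 3), (151, 4), (16, 5), (111, 4), (98, 3), (26, 2), (3, 1), (126, 3), (99, 2), (76, 1), (150, 3), (16, 4), (132, 4), (105, 3), (82, 2), (134, 5), (107, 4), (150, 7), (135, 6), (13, 5), (151, 6), (136, 5), (142, 7), (127, 6), (113, 5), (88, 4), (77, 3), (67, 2), (148, 4), (16, 5), (151, 6), (152, 7), (16, 8), (128, 7), (114, 6), (89, 5), (78, 4), (68, 3), (148, 5), (149, 6), (151, 7), (152, 8), (144, 9), (129, 8), (115, 7), (90, 6), (79, 5), (69, 4), (145, 10), (130, 9), (116, 8), (91,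 7), (80, 6), (70, 5), (147, 11), (132, 10), (118, 9), (93, 8), (82, 7), (10, 6), (148, 10), (133, 9), (119, 8), (94, 7), (11, 6), (149, 9), (134, 8), (120, 7), (12, 6), (152, 8), (15, 7), (16, 7), (112, 6), (49, 5), (42, 4), (36, 3), (31, 2), (4, 1), (113, 3), (88, 2), (67, 1), (149, 3), (16, 4), (118, 4), (93, 3), (10, 2), (120, 3), (12, 2), (14, 2), (102, 3), (145, 7), (130, 6), (116, 5), (103, 4), (147, 8), (132, 7), (118, 6), (105, 5), (149, 9), (134, 8), (120, 7), (107, 6), (152, 10), (15, 9), (16, 9), (14, 8), (100, 7), (88, 6), (67, 5), (50, 4), (43, 3), (37, 2), (5, 1), (144, 3), (102, 2), (147, 4), (105, 3), (149, 5), (107, 4), (145, 6), (103, 5), (91, 4), (70, 3), (152, 7), (147, 8), (132, 7), (105, 6), (93, 5), (10, 4), (16, 7), (134, 6), (107, 5), (12, 4), (150, 6), (135, 5), (13, 4), (143, 5), (128, 4), (51, 3), (44, 2), (6, 1), (144, 3), (129, 2), (115, 1), (148, 4), (133, 3), (119, 2), (150, 5), (135, 4), (121, 3), (145, 6), (130,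 5), (116, 4), (103, 3), (80, 2), (150, 7), (135, 6), (121, 5), (13, 4), (151, 6), (136, 5), (14, 4), (152, 5), (15, 4), (152, 4), (16, 5), (130, 4), (80, 3), (8, 2), (131, 3), (81, 2), (132, 4), (82, 3), (133, 5), (11, 4), (134, 4), (15, 5), (142, 5), (88, 4), (67, 3), (58, 2), (43, 1), (92, 4), (71, 3), (147, 7), (105, 6), (93, 5), (10, 4), (16, 6), (107, 5), (12, 4), (16, 5), (101, 4), (59, 3), (44, 2), (104, 5), (81, 4), (135, 8), (121, 7), (13, 6), (131, 7), (117, 6), (81, 5), (9, 4), (134, 6), (120, 5), (144, 8), (129, 7), (115, 6), (90, 5), (79, 4), (7, 3), (145, 7), (130, 6), (116, 5), (91, 4), (80, 3), (146, 8), (131, 7), (117, 6), (92, 5), (81, 4), (150, 9), (135, 8), (121, 7), (151, 10), (136, 9), (14, 8), (152, 9), (15, 8), (146, 8), (104, 7), (92, 6), (81, 5), (9, 4), (148, 7), (106, 6), (94, 5), (11, 4), (149, 6), (107, 5), (12, 4), (151, 5), (16, 6), (118, 5), (105, 4), (119, 6), (106, 5), (14, 7), (149, 7), (107, 6), (150, 8), (13,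 7), (151, 7), (152, 8), (16, 9), (136, 8), (14, 7), (16, 8), (124, 7), (85, 6), (74, 5), (64, 4), (47, 3), (34, 2), (29, 1), (101, 5), (89, 4), (68, 3), (149, 5), (150, 6), (147, 7), (105, 6), (93, 5), (10, 4), (149, 6), (107, 5), (12, 4), (150, 5), (13, 4), (16, 4), (105, 6), (93, 5), (148, 9), (119, 8), (106, 7), (94, 6), (151, 10), (14, 9), (152, 9), (149, 10), (134, 9), (107, 8), (12, 7), (150, 9), (135, 8), (13, 7), (151, 8), (136, 7), (16, 9), (15, 8), (141, 8), (112, 7), (76, 6), (66, 5), (49, 4), (36, 3), (31, 2), (114, 6), (89, 5), (68, 4), (149, 6), (151, 7), (150, 8), (121, 7), (145, 9), (116, 8), (103, 7), (91, 6), (70, 5), (147, 10), (118, 9), (105, 8), (93, 7), (10, 6), (149, 9), (120, 8), (107, 7), (12, 6), (152, 8), (16, 9), (132, 8), (118, 7), (105, 6), (136, 9), (14, 8), (15, 8), (148, 8), (106, 7), (16, 9), (144, 10), (115, 9), (102, 8), (79, 7), (69, 6), (52, 5), (146, 11), (117, 10), (104, 9), (81, 8), (71, 7), (147, 12),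 (118, 11), (105, 10), (82, 9), (10, 8), (148, 11), (119, 10), (106, 9), (11, 8), (150, 10), (121, 9), (13, 8)], [(95, 7), (72, 6), (62, 5), (53, 4), (38, 3), (23, 2), (18, 1), (0, 0), (139, 5), (124, 4), (29, 3), (25, 2), (22, 1), (2, 0), (140, 2), (35, 1), (30, 0), (143, 4), (128, 3), (114, 2), (147, 5), (132, 4), (118, 3), (149, 6), (134, 5), (120, 4), (150, 7), (135, 6), (121, 5), (16, 8), (142, 8), (127, 7), (113, 6), (100, 5), (88, 4), (67, 3), (37, 2), (5, 1), (147, 3), (105, 2), (16, 4), (107, 3), (150, 5), (13, 4), (151, 4), (152, 5), (16, 6), (133, 5), (119, 4), (94, 3), (15, 6), (112, 5), (87, 4), (76, 3), (66, 2), (36, 1), (105, 3), (148, 7), (133, 6), (119, 5), (106, 4), (16, 8), (134, 7), (120, 6), (107, 5), (136, 8), (14, 7), (15, 7), (151, 7), (143, 8), (114, 7), (101, 6), (89, 5), (78, 4), (68, 3), (6, 2), (147, 4), (132, 3), (118, 2), (16, 5), (133, 4), (119, 3), (134, 5), (120, 4), (135, 6), (121, 5), (136, 7), (14, 6), (147,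 7), (132, 6), (105, 5), (93, 4), (82, 3), (10, 2), (148, 6), (133, 5), (106, 4), (94, 3), (11, 2), (151, 5), (136, 4), (152, 6), (15, 5), (142, 5), (113, 4), (100, 3), (88, 2), (150, 4), (151, 5), (16, 6), (118, 5), (105, 4), (93, 3), (120, 6), (107, 5), (12, 4), (121, 5), (13, 4), (16, 6), (126, 5), (112, 4), (66, 3), (31, 2), (4, 1), (113, 3), (88, 2), (67, 1), (149, 3), (16, 4), (118, 4), (93, 3), (10, 2), (120, 3), (12, 2), (14, 2), (151, 5), (136, 4), (14, 3), (152, 4), (15, 3), (143, 3), (68, 2), (16, 4), (69, 3), (141, 8), (126, 7), (112, 6), (76, 5), (66, 4), (42, 3), (36, 2), (31, 1), (114, 5), (89, 4), (68, 3), (149, 5), (151, 6), (150, 7), (121, 6), (144, 8), (115, 7), (102, 6), (90, 5), (69, 4), (151, 9), (14, 8), (152, 8), (16, 9), (132, 8), (105, 7), (93, 6), (10, 5), (136, 7), (15, 8), (148, 8), (119, 7), (106, 6), (94, 5), (16, 9), (14, 8), (142, 9), (127, 8), (100, 7), (88, 6), (77, 5), (43, 4), (37, 3), (5, 2), (144, 4), (102,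 3), (147, 5), (105, 4), (149, 6), (107, 5), (148, 7), (106, 6), (94, 5), (16, 8), (107, 7), (12, 6), (150, 7), (13, 6), (152, 6), (16, 7), (128, 6), (78, 5), (68, 4), (44, 3), (6, 2), (144, 4), (129, 3), (115, 2), (148, 5), (133, 4), (119, 3), (150, 6), (135, 5), (121, 4), (147, 7), (132, 6), (118, 5), (105, 4), (82, 3), (16, 8), (133, 7), (119, 6), (106, 5), (11, 4), (15, 6), (116, 5), (103, 4), (70, 3), (117, 6), (104, 5), (71, 4), (118, 7), (105, 6), (10, 5), (119, 6), (106, 5), (120, 7), (107, 6), (144, 10), (129, 9), (115, 8), (102, 7), (90, 6), (79, 5), (60, 4), (52, 3), (7, 2), (145, 9), (130, 8), (116, 7), (103, 6), (91, 5), (80, 4), (61, 3), (8, 2), (146, 8), (131, 7), (117, 6), (104, 5), (92, 4), (81, 3), (9, 2), (150, 7), (135, 6), (121, 5), (13, 4), (151, 6), (136, 5), (14, 4), (152, 5), (15, 4), (146, 4), (92, 3), (81, 2), (148, 5), (94, 4), (11, 3), (149, 4), (12, 3), (151, 3), (16, 4), (118, 3), (119, 4), (14, 5), (148, 5), (11,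 4), (150, 4), (151, 5), (152, 6), (150, 7), (135, 6), (121, 5), (13, 4), (151, 6), (136, 5), (14, 4), (152, 5), (15, 4), (138, 4), (63, 3), (54, 2), (24, 1), (21, 0), (141, 10), (126, 9), (112, 8), (76, 7), (66, 6), (49, 5), (42, 4), (36, 3), (4, 2), (114, 4), (89, 3), (68, 2), (149, 4), (151, 5), (150, 6), (121, 5), (144, 7), (115, 6), (102, 5), (90, 4), (69, 3), (151, 8), (14, 7), (152, 7), (16, 8), (130, 7), (103, 6), (91, 5), (70, 4), (132, 8), (105, 7), (93, 6), (10, 5), (134, 7), (107, 6), (12, 5), (15, 6), (147, 6), (105, 5), (151, 7), (152, 8), (16, 9), (133, 8), (119, 7), (106, 6), (151, 10), (136, 9), (14, 8), (152, 9), (15, 8), (16, 8), (104, 7), (81, 6), (71, 5), (13, 8), (146, 8), (81, 7), (71, 6), (9, 5), (147, 7), (82, 6), (10, 5), (149, 6), (150, 7), (151, 8), (16, 9), (118, 8), (105, 7), (93, 6), (82, 5), (119, 9), (106, 8), (94, 7), (11, 6), (16, 10), (126, 9), (112, 8), (99, 7), (87, 6), (66, 5), (49, 4), (42, 3), (36, 2), (102,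 4), (145, 8), (130, 7), (116, 6), (103, 5), (147, 9), (132, 8), (118, 7), (105, 6), (149, 10), (134, 9), (120, 8), (107, 7), (152, 11), (15, 10), (16, 10), (118, 9), (105, 8), (93, 7), (10, 6), (14, 8), (149, 9), (134, 8), (107, 7), (12, 6), (151, 8), (136, 7), (152, 9), (15, 8), (16, 8), (121, 7), (13, 6), (151, 7), (14, 6), (152, 6), (142, 7), (127, 6), (50, 5), (43, 4), (37, 3), (144, 6), (102, 5), (147, 7), (105, 6), (149, 8), (107, 7), (145, 9), (103, 8), (91, 7), (70, 6), (152, 10), (152, 11), (15, 10), (16, 10), (102, 9), (90, 8), (69, 7), (52, 6), (7, 5), (104, 8), (92, 7), (71, 6), (105, 9), (93, 8), (10, 7), (107, 8), (12, 7), (137, 9), (108, 8), (95, 7), (53, 6), (45, 5), (32, 4), (27, 3), (23, 2), (20, 1), (17, 0), (140, 12), (125, 11), (86, 10), (75, 9), (65, 8), (48, 7), (41, 6), (35, 5), (30, 4), (3, 3), (127, 5), (100, 4), (77, 3), (150, 5), (152, 6), (151, 7), (136, 6), (152, 8), (15, 7), (16, 7), (114, 6), (101, 5), (78, 4),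 (118, 7), (105, 6), (82, 5), (120, 8), (107, 7), (121, 9), (13, 8), (144, 9), (115, 8), (90, 7), (79, 6), (69, 5), (147, 10), (118, 9), (93, 8), (82, 7), (10, 6), (149, 9), (120, 8), (12, 7), (150, 8), (121, 7), (151, 9), (14, 8), (145, 8), (103, 7), (80, 6), (147, 9), (105, 8), (82, 7), (148, 10), (106, 9), (11, 8), (149, 9), (107, 8), (151, 10), (152, 11), (147, 12), (132, 11), (118, 10), (105, 9), (93, 8), (10, 7), (150, 11), (135, 10), (121, 9), (13, 8), (151, 10), (136, 9), (14, 8), (16, 9), (133, 8), (94, 7), (149, 10), (134, 9), (12, 8), (150, 9), (135, 8), (151, 10), (136, 9), (16, 11), (15, 10), (16, 10), (112, 9), (99, 8), (76, 7), (49, 6), (42, 5), (36, 4), (31, 3), (114, 7), (89, 6), (68, 5), (149, 7), (151, 8), (150, 9), (121, 8), (144, 10), (115, 9), (102, 8), (90, 7), (69, 6), (151, 11), (14, 10), (152, 10), (16, 11), (130, 10), (103, 9), (91, 8), (70, 7), (132, 11), (105, 10), (93, 9), (10, 8), (134, 10), (107, 9), (12, 8), (15,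 9), (148, 9), (106, 8), (16, 10), (13, 9), (151, 9), (142, 10), (113, 9), (77, 8), (50, 7), (43, 6), (37, 5), (5, 4), (144, 6), (102, 5), (147, 7), (105, 6), (149, 8), (107, 7), (145, 9), (103, 8), (91, 7), (70, 6), (152, 10), (148, 11), (133, 10), (106, 9), (94, 8), (16, 12), (136, 11), (143, 13), (128, 12), (114, 11), (101, 10), (89, 9), (78, 8), (68, 7), (51, 6), (44, 5), (6, 4), (144, 6), (129, 5), (115, 4), (148, 7), (133, 6), (119, 5), (150, 8), (135, 7), (121, 6), (145, 9), (130, 8), (116, 7), (103, 6), (80, 5), (150, 10), (135, 9), (121, 8), (13, 7), (151, 9), (136, 8), (14, 7), (152, 8), (15, 7), (147, 7), (82, 6), (16, 8), (11, 7), (144, 11), (129, 10), (115, 9), (102, 8), (90, 7), (69, 6), (52, 5), (7, 4), (145, 10), (130, 9), (116, 8), (103, 7), (91, 6), (70, 5), (8, 4), (148, 9), (133, 8), (119, 7), (106, 6), (94, 5), (149, 10), (134, 9), (120, 8), (107, 7), (12, 6), (16, 9), (126, 8), (112, 7), (99, 6), (76, 5), (66, 4), (4, 3),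 (118, 5), (93, 4), (10, 3), (14, 4), (148, 5), (133, 4), (94, 3), (16, 6), (135, 5), (151, 7), (136, 6), (152, 8), (15, 7), (142, 7), (113, 6), (100, 5), (88, 4), (77, 3), (149, 5), (16, 6), (143, 8), (114, 7), (101, 6), (89, 5), (78, 4), (145, 9), (116, 8), (103, 7), (91, 6), (80, 5), (146, 10), (117, 9), (104, 8), (92, 7), (81, 6), (147, 11), (118, 10), (105, 9), (93, 8), (82, 7), (148, 12), (119, 11), (106, 10), (94, 9), (11, 8), (149, 11), (120, 10), (107, 9), (12, 8), (152, 10), (16, 11), (127, 10), (113, 9), (100, 8), (67, 7), (58, 6), (50, 5), (37, 4), (5, 3), (145, 5), (103, 4), (152, 6), (146, 7), (131, 6), (104, 5), (150, 8), (135, 7), (13, 6), (16, 7), (132, 6), (150, 8), (135, 7), (151, 9), (136, 8), (152, 10), (15, 9), (143, 9), (114, 8), (101, 7), (68, 6), (59, 5), (51, 4), (6, 3), (145, 5), (130, 4), (116, 3), (150, 6), (135, 5), (121, 4), (151, 7), (136, 6), (14, 5), (152, 6), (15, 5), (146, 5), (104, 4), (151, 6), (152, 7), (147,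 8), (132, 7), (118, 6), (105, 5), (16, 9), (135, 8), (121, 7), (13, 6), (136, 7), (14, 6), (146, 7), (131, 6), (71, 5), (9, 4), (149, 6), (134, 5), (16, 7), (128, 6), (89, 5), (68, 4), (51, 3), (132, 7), (118, 6), (105, 5), (149, 9), (134, 8), (120, 7), (107, 6), (152, 10), (15, 9), (148, 9), (119, 8), (106, 7), (94, 6), (149, 10), (120, 9), (107, 8), (12, 7), (16, 9), (116, 8), (103, 7), (80, 6), (70, 5), (8, 4), (117, 7), (104, 6), (81, 5), (71, 4), (131, 9), (117, 8), (104, 7), (81, 6), (71, 5), (9, 4), (133, 8), (119, 7), (106, 6), (11, 5), (134, 7), (120, 6), (107, 5), (136, 8), (14, 7), (150, 8), (135, 7), (13, 6), (151, 7), (136, 6), (152, 8), (15, 7), (151, 7), (14, 6), (16, 6), (138, 6), (84, 5), (63, 4), (33, 3), (19, 2), (1, 1), (110, 7), (97, 6), (64, 5), (47, 4), (40, 3), (34, 2), (25, 1), (128, 7), (114, 6), (78, 5), (68, 4), (6, 3), (147, 5), (132, 4), (118, 3), (16, 6), (133, 5), (119, 4), (136, 6), (14, 5), (15, 5), (82, 4), (10,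 3), (144, 6), (102, 5), (90, 4), (79, 3), (146, 7), (104, 6), (92, 5), (81, 4), (147, 8), (105, 7), (93, 6), (82, 5), (150, 9), (13, 8), (151, 8), (16, 9), (116, 8), (91, 7), (80, 6), (70, 5), (61, 4), (120, 9), (12, 8), (121, 8), (118, 9), (105, 8), (82, 7), (10, 6), (14, 8), (150, 8), (13, 7), (16, 7), (112, 7), (76, 6), (57, 5), (49, 4), (42, 3), (4, 2), (115, 4), (90, 3), (69, 2), (14, 5), (145, 6), (130, 5), (91, 4), (70, 3), (147, 7), (132, 6), (93, 5), (10, 4), (149, 6), (134, 5), (12, 4), (152, 5), (15, 4), (16, 4), (106, 6), (11, 5), (151, 6), (142, 7), (113, 6), (100, 5), (58, 4), (50, 3), (43, 2), (91, 5), (70, 4), (131, 7), (92, 6), (71, 5), (135, 8), (150, 10), (135, 9), (13, 8), (151, 9), (136, 8), (16, 10), (129, 9), (115, 8), (90, 7), (69, 6), (60, 5), (52, 4), (7, 3), (130, 8), (116, 7), (91, 6), (70, 5), (61, 4), (8, 3), (133, 7), (119, 6), (94, 5), (134, 8), (120, 7), (12, 6), (135, 7), (121, 6), (128, 8), (114, 7), (101, 6),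 (78, 5), (68, 4), (59, 3), (132, 6), (118, 5), (148, 8), (133, 7), (119, 6), (150, 9), (135, 8), (121, 7), (151, 10), (136, 9), (14, 8), (152, 9), (15, 8), (147, 8), (105, 7), (82, 6), (10, 5), (149, 7), (107, 6), (150, 8), (13, 7), (147, 7), (93, 6), (82, 5), (148, 8), (94, 7), (11, 6), (152, 7), (16, 8), (134, 7), (12, 6), (135, 6), (15, 7), (16, 7), (98, 6), (65, 5), (56, 4), (35, 3), (30, 2), (143, 6), (128, 5), (114, 4), (147, 7), (132, 6), (118, 5), (149, 8), (134, 7), (120, 6), (150, 9), (135, 8), (121, 7), (16, 10), (131, 9), (117, 8), (104, 7), (92, 6), (71, 5), (132, 10), (118, 9), (105, 8), (93, 7), (10, 6), (134, 9), (120, 8), (107, 7), (12, 6), (135, 8), (121, 7), (13, 6), (136, 7), (14, 6), (132, 6), (135, 7), (136, 8), (150, 10), (135, 9), (121, 8), (13, 7), (141, 9), (126, 8), (112, 7), (66, 6), (57, 5), (36, 4), (31, 3), (114, 7), (89, 6), (68, 5), (149, 7), (151, 8), (150, 9), (121, 8), (146, 10), (117, 9), (104, 8), (92, 7),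 (71, 6), (148, 11), (119, 10), (106, 9), (94, 8), (150, 12), (121, 11), (13, 10), (147, 11), (118, 10), (93, 9), (82, 8), (10, 7), (151, 10), (14, 9), (152, 9), (16, 10), (136, 9), (15, 10), (144, 10), (115, 9), (90, 8), (79, 7), (60, 6), (145, 11), (116, 10), (91, 9), (80, 8), (61, 7), (146, 12), (117, 11), (92, 10), (81, 9), (9, 8), (149, 11), (120, 10), (12, 9), (151, 10), (14, 9), (152, 9), (147, 10), (132, 9), (82, 8), (148, 11), (133, 10), (11, 9), (151, 10), (136, 9), (137, 11), (122, 10), (108, 9), (62, 8), (45, 7), (38, 6), (32, 5), (27, 4), (23, 3), (20, 2), (18, 1), (0, 0), (139, 5), (124, 4), (29, 3), (25, 2), (22, 1), (2, 0), (140, 2), (35, 1), (30, 0), (143, 4), (128, 3), (114, 2), (147, 5), (132, 4), (118, 3), (149, 6), (134, 5), (120, 4), (150, 7), (135, 6), (121, 5), (16, 8), (142, 8), (127, 7), (113, 6), (100, 5), (88, 4), (67, 3), (37, 2), (5, 1), (147, 3), (105, 2), (16, 4), (107, 3), (150, 5), (13, 4), (151, 4), (152, 5),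 (16, 6), (133, 5), (119, 4), (94, 3), (15, 6), (112, 5), (87, 4), (76, 3), (66, 2), (36, 1), (105, 3), (148, 7), (133, 6), (119, 5), (106, 4), (16, 8), (134, 7), (120, 6), (107, 5), (136, 8), (14, 7), (15, 7), (151, 7), (143, 8), (114, 7), (101, 6), (89, 5), (78, 4), (68, 3), (6, 2), (147, 4), (132, 3), (118, 2), (16, 5), (133, 4), (119, 3), (134, 5), (120, 4), (135, 6), (121, 5), (136, 7), (14, 6), (147, 7), (132, 6), (105, 5), (93, 4), (82, 3), (10, 2), (148, 6), (133, 5), (106, 4), (94, 3), (11, 2), (151, 5), (136, 4), (152, 6), (15, 5), (142, 5), (113, 4), (100, 3), (88, 2), (150, 4), (151, 5), (16, 6), (118, 5), (105, 4), (93, 3), (120, 6), (107, 5), (12, 4), (121, 5), (13, 4), (16, 6), (126, 5), (112, 4), (66, 3), (31, 2), (4, 1), (113, 3), (88, 2), (67, 1), (149, 3), (16, 4), (118, 4), (93, 3), (10, 2), (120, 3), (12, 2), (14, 2), (151, 5), (136, 4), (14, 3), (152, 4), (15, 3), (143, 3), (68, 2), (16, 4), (69, 3), (140, 8), (125, 7), (111,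 6), (75, 5), (65, 4), (41, 3), (35, 2), (30, 1), (3, 0), (127, 2), (100, 1), (77, 0), (150, 2), (152, 3), (151, 4), (136, 3), (152, 5), (15, 4), (16, 4), (114, 3), (101, 2), (78, 1), (118, 4), (105, 3), (82, 2), (120, 5), (107, 4), (121, 6), (13, 5), (144, 6), (115, 5), (90, 4), (79, 3), (69, 2), (147, 7), (118, 6), (93, 5), (82, 4), (10, 3), (149, 6), (120, 5), (12, 4), (150, 5), (121, 4), (151, 6), (14, 5), (147, 5), (105, 4), (82, 3), (150, 6), (13, 5), (151, 5), (16, 6), (119, 5), (11, 4), (151, 5), (14, 4), (152, 4), (16, 5), (141, 5), (126, 4), (66, 3), (42, 2), (36, 1), (31, 0), (114, 4), (89, 3), (68, 2), (149, 4), (151, 5), (150, 6), (121, 5), (144, 7), (115, 6), (102, 5), (90, 4), (69, 3), (151, 8), (14, 7), (152, 7), (16, 8), (132, 7), (105, 6), (93, 5), (10, 4), (136, 6), (15, 7), (152, 7), (16, 8), (127, 7), (113, 6), (100, 5), (88, 4), (43, 3), (37, 2), (5, 1), (144, 3), (102, 2), (147, 4), (105, 3), (149, 5), (107, 4), (149, 6),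 (107, 5), (12, 4), (16, 5), (13, 4), (128, 5), (114, 4), (68, 3), (44, 2), (6, 1), (144, 3), (129, 2), (115, 1), (148, 4), (133, 3), (119, 2), (150, 5), (135, 4), (121, 3), (147, 6), (132, 5), (118, 4), (105, 3), (82, 2), (16, 7), (136, 6), (14, 5), (15, 5), (102, 4), (79, 3), (69, 2), (7, 1), (103, 3), (80, 2), (70, 1), (106, 4), (11, 3), (107, 3), (141, 5), (99, 4), (87, 3), (66, 2), (49, 1), (4, 0), (116, 2), (91, 1), (70, 0), (118, 3), (93, 2), (10, 1), (120, 2), (12, 1), (147, 3), (132, 2), (118, 1), (151, 4), (136, 3), (14, 2), (152, 3), (15, 2), (16, 2), (150, 5), (135, 4), (121, 3), (16, 6), (142, 6), (127, 5), (113, 4), (100, 3), (88, 2), (67, 1), (50, 0), (132, 2), (149, 4), (134, 3), (16, 5), (135, 4), (136, 5), (15, 6), (143, 6), (114, 5), (101, 4), (89, 3), (68, 2), (51, 1), (132, 5), (118, 4), (105, 3), (149, 7), (134, 6), (120, 5), (107, 4), (150, 8), (135, 7), (121, 6), (13, 5), (151, 7), (136, 6), (14, 5), (16, 6), (130, 5), (91,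 4), (70, 3), (8, 2), (131, 4), (92, 3), (71, 2), (132, 5), (93, 4), (10, 3), (133, 4), (94, 3), (134, 5), (12, 4), (15, 4), (142, 4), (77, 3), (58, 2), (37, 1), (5, 0), (146, 2), (104, 1), (150, 3), (13, 2), (16, 2), (16, 3), (78, 2), (59, 1), (6, 0), (146, 2), (131, 1), (117, 0), (151, 3), (136, 2), (14, 1), (152, 2), (15, 1), (148, 1), (146, 2), (81, 1), (9, 0), (149, 1), (16, 2), (89, 1), (78, 0), (94, 2), (11, 1), (12, 1), (144, 1), (145, 2), (146, 3), (150, 4), (151, 5), (152, 6), (145, 7), (130, 6), (116, 5), (103, 4), (61, 3), (8, 2), (146, 6), (131, 5), (117, 4), (104, 3), (9, 2), (152, 5), (15, 4), (147, 4), (118, 3), (105, 2), (148, 5), (119, 4), (106, 3), (151, 6), (14, 5), (16, 5), (152, 6), (16, 7), (138, 7), (123, 6), (109, 5), (96, 4), (73, 3), (63, 2), (39, 1), (33, 0), (102, 4), (90, 3), (69, 2), (105, 5), (93, 4), (10, 3), (107, 4), (12, 3), (13, 3), (147, 4), (132, 3), (148, 5), (133, 4), (152, 6), (15, 5), (16, 5), (11, 4),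 (135, 5), (121, 4), (136, 6), (14, 5), (15, 5), (151, 5), (16, 6), (140, 7), (125, 6), (111, 5), (98, 4), (65, 3), (41, 2), (35, 1), (144, 6), (102, 5), (90, 4), (69, 3), (147, 7), (105, 6), (93, 5), (10, 4), (149, 6), (107, 5), (12, 4), (150, 5), (13, 4), (151, 4), (147, 5), (118, 4), (150, 6), (121, 5), (151, 7), (14, 6), (16, 6), (13, 5), (16, 7), (131, 6), (117, 5), (71, 4), (132, 7), (118, 6), (10, 5), (133, 6), (119, 5), (135, 7), (121, 6), (136, 8), (14, 7), (124, 7), (97, 6), (74, 5), (55, 4), (40, 3), (34, 2), (22, 1), (128, 5), (78, 4), (132, 6), (82, 5), (134, 7), (135, 8), (144, 10), (129, 9), (102, 8), (90, 7), (79, 6), (69, 5), (146, 11), (131, 10), (104, 9), (92, 8), (81, 7), (71, 6), (147, 12), (132, 11), (105, 10), (93, 9), (82, 8), (10, 7), (150, 11), (135, 10), (13, 9), (151, 10), (136, 9), (16, 11), (131, 10), (117, 9), (92, 8), (81, 7), (9, 6), (132, 9), (118, 8), (93, 7), (82, 6), (133, 10), (119, 9), (94, 8), (11, 7), (134,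 9), (120, 8), (12, 7), (135, 8), (121, 7), (136, 9), (14, 8), (148, 9), (133, 8), (106, 7), (151, 10), (136, 9), (152, 11), (15, 10), (150, 10), (121, 9), (13, 8), (16, 9), (140, 10), (125, 9), (111, 8), (75, 7), (65, 6), (41, 5), (35, 4), (30, 3), (3, 2), (127, 4), (100, 3), (77, 2), (150, 4), (152, 5), (151, 6), (136, 5), (152, 7), (15, 6), (16, 6), (114, 5), (101, 4), (78, 3), (118, 6), (105, 5), (82, 4), (120, 7), (107, 6), (121, 8), (13, 7), (144, 8), (115, 7), (90, 6), (79, 5), (69, 4), (147, 9), (118, 8), (93, 7), (82, 6), (10, 5), (149, 8), (120, 7), (12, 6), (150, 7), (121, 6), (151, 8), (14, 7), (147, 7), (105, 6), (82, 5), (150, 8), (13, 7), (151, 7), (16, 8), (119, 7), (11, 6), (151, 7), (14, 6), (152, 6), (16, 7), (141, 7), (126, 6), (66, 5), (42, 4), (36, 3), (31, 2), (114, 6), (89, 5), (68, 4), (149, 6), (151, 7), (150, 8), (121, 7), (144, 9), (115, 8), (102, 7), (90, 6), (69, 5), (151, 10), (14, 9), (152, 9), (16, 10), (132, 9),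 (105, 8), (93, 7), (10, 6), (136, 8), (15, 9), (152, 9), (16, 10), (127, 9), (113, 8), (100, 7), (88, 6), (43, 5), (37, 4), (5, 3), (144, 5), (102, 4), (147, 6), (105, 5), (149, 7), (107, 6), (149, 8), (107, 7), (12, 6), (16, 7), (13, 6), (130, 7), (116, 6), (70, 5), (131, 8), (117, 7), (71, 6), (133, 9), (119, 8), (135, 10), (121, 9), (136, 11), (14, 10), (127, 10), (100, 9), (77, 8), (67, 7), (58, 6), (50, 5), (43, 4), (37, 3), (144, 6), (102, 5), (147, 7), (105, 6), (149, 8), (107, 7), (145, 9), (103, 8), (91, 7), (70, 6), (152, 10), (146, 11), (131, 10), (104, 9), (92, 8), (71, 7), (150, 12), (135, 11), (13, 10), (16, 11), (132, 10), (93, 9), (10, 8), (148, 10), (133, 9), (94, 8), (16, 11), (135, 10), (15, 11), (101, 10), (89, 9), (78, 8), (59, 7), (51, 6), (44, 5), (6, 4), (144, 6), (129, 5), (115, 4), (148, 7), (133, 6), (119, 5), (150, 8), (135, 7), (121, 6), (145, 9), (130, 8), (116, 7), (103, 6), (80, 5), (150, 10), (135, 9), (121, 8),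 (13, 7), (151, 9), (136, 8), (14, 7), (152, 8), (15, 7), (146, 7), (81, 6), (151, 8), (152, 9), (148, 10), (133, 9), (119, 8), (11, 7), (149, 9), (134, 8), (120, 7), (150, 10), (135, 9), (121, 8), (146, 11), (131, 10), (117, 9), (104, 8), (92, 7), (9, 6), (147, 10), (132, 9), (118, 8), (105, 7), (93, 6), (148, 11), (133, 10), (119, 9), (106, 8), (94, 7), (151, 12), (136, 11), (14, 10), (16, 11), (128, 10), (101, 9), (89, 8), (78, 7), (68, 6), (51, 5), (44, 4), (103, 7), (80, 6), (13, 8), (132, 9), (118, 8), (82, 7), (148, 11), (133, 10), (119, 9), (11, 8), (149, 10), (134, 9), (120, 8), (150, 11), (135, 10), (121, 9), (152, 12), (15, 11), (146, 11), (117, 10), (104, 9), (92, 8), (71, 7), (147, 12), (118, 11), (105, 10), (93, 9), (10, 8), (149, 11), (120, 10), (107, 9), (12, 8), (16, 10), (121, 9), (13, 8)]⟩,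
    ⟨4, [6, 1], [1, 6, 9, 10, 11], [(33, 0), (102, 4), (90, 3), (69, 2)], [(44, 1), (105, 4), (82, 3), (106, 5), (11, 4), (107, 4)], [(108, 5), (53, 4), (45, 3), (23, 2), (20, 1), (18, 0), (140, 8), (125, 7), (111, 6), (75, 5), (41, 4), (35, 3), (26, 2), (143, 6), (89, 5), (68, 4), (149, 6), (16, 7), (93, 6), (10, 5), (12, 5), (144, 6), (102, 5), (147, 7), (105, 6), (149, 8), (107, 7), (150, 9), (13, 8), (151, 8), (148, 9), (119, 8), (94, 7), (16, 10), (14, 9), (16, 10), (126, 9), (87, 8), (76, 7), (66, 6), (42, 5), (36, 4), (4, 3), (114, 5), (89, 4), (68, 3), (149, 5), (151, 6), (150, 7), (121, 6), (144, 8), (115, 7), (102, 6), (90, 5), (69, 4), (151, 9), (14, 8), (152, 8), (16, 9), (132, 8), (105, 7), (93, 6), (10, 5), (136, 7), (15, 8), (148, 8), (119, 7), (106, 6), (94, 5), (16, 9), (120, 8), (107, 7), (12, 6), (14, 7), (152, 8), (15, 7), (142, 7), (100, 6), (77, 5), (43, 4), (37, 3), (144, 6), (102, 5), (147, 7), (105, 6), (149, 8), (107,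 7), (148, 9), (106, 8), (94, 7), (16, 10), (13, 9), (143, 9), (89, 8), (78, 7), (68, 6), (44, 5), (6, 4), (144, 6), (129, 5), (115, 4), (148, 7), (133, 6), (119, 5), (150, 8), (135, 7), (121, 6), (147, 9), (132, 8), (118, 7), (105, 6), (82, 5), (16, 10), (133, 9), (119, 8), (106, 7), (11, 6), (134, 8), (120, 7), (107, 6), (144, 10), (129, 9), (115, 8), (102, 7), (90, 6), (69, 5), (7, 4), (145, 9), (130, 8), (116, 7), (103, 6), (91, 5), (70, 4), (148, 10), (133, 9), (119, 8), (106, 7), (94, 6), (149, 11), (134, 10), (120, 9), (107, 8), (12, 7), (16, 10), (126, 9), (112, 8), (99, 7), (76, 6), (66, 5), (49, 4), (31, 3), (116, 7), (91, 6), (70, 5), (118, 8), (93, 7), (10, 6), (120, 7), (12, 6), (147, 8), (132, 7), (118, 6), (151, 9), (136, 8), (14, 7), (152, 8), (15, 7), (16, 7), (150, 8), (16, 9), (127, 10), (113, 9), (100, 8), (77, 7), (67, 6), (50, 5), (5, 4), (132, 5), (148, 7), (133, 6), (16, 8), (135, 7), (136, 8), (15, 9), (114, 8), (101, 7),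 (78, 6), (68, 5), (51, 4), (132, 8), (118, 7), (105, 6), (148, 10), (133, 9), (119, 8), (106, 7), (150, 11), (135, 10), (121, 9), (13, 8), (151, 10), (136, 9), (14, 8), (145, 9), (130, 8), (80, 7), (70, 6), (8, 5), (146, 8), (131, 7), (81, 6), (71, 5), (147, 9), (132, 8), (82, 7), (10, 6), (148, 8), (133, 7), (11, 6), (149, 7), (134, 6), (152, 8), (15, 7), (16, 7), (91, 6), (61, 5), (92, 7), (9, 6), (131, 7), (92, 6), (133, 8), (94, 7), (134, 9), (12, 8), (136, 8), (151, 10), (136, 9), (14, 8), (16, 9), (124, 8), (74, 7), (55, 6), (47, 5), (34, 4), (25, 3), (22, 2), (2, 1), (140, 3), (35, 2), (30, 1), (143, 5), (128, 4), (114, 3), (147, 6), (132, 5), (118, 4), (149, 7), (134, 6), (120, 5), (150, 8), (135, 7), (121, 6), (16, 9), (142, 9), (127, 8), (113, 7), (100, 6), (88, 5), (67, 4), (37, 3), (5, 2), (147, 4), (105, 3), (16, 5), (107, 4), (150, 6), (13, 5), (151, 5), (152, 6), (16, 7), (133, 6), (119, 5), (94, 4), (15, 7), (112, 6), (87, 5),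 (76, 4), (66, 3), (36, 2), (105, 4), (148, 8), (133, 7), (119, 6), (106, 5), (16, 9), (134, 8), (120, 7), (107, 6), (136, 9), (14, 8), (15, 8), (151, 8), (143, 9), (114, 8), (101, 7), (89, 6), (78, 5), (68, 4), (6, 3), (147, 5), (132, 4), (118, 3), (16, 6), (133, 5), (119, 4), (134, 6), (120, 5), (135, 7), (121, 6), (136, 8), (14, 7), (147, 8), (132, 7), (105, 6), (93, 5), (82, 4), (10, 3), (148, 7), (133, 6), (106, 5), (94, 4), (11, 3), (151, 6), (136, 5), (152, 7), (15, 6), (143, 6), (114, 5), (101, 4), (89, 3), (147, 7), (118, 6), (105, 5), (93, 4), (149, 8), (120, 7), (107, 6), (12, 5), (150, 7), (121, 6), (13, 5), (16, 6), (116, 5), (70, 4), (120, 6), (121, 7), (117, 8), (104, 7), (92, 6), (71, 5), (118, 9), (105, 8), (93, 7), (10, 6), (119, 8), (106, 7), (94, 6), (120, 9), (107, 8), (12, 7), (121, 8), (13, 7), (14, 7), (148, 7), (11, 6), (151, 6), (152, 7), (152, 8), (15, 7), (16, 7), (112, 6), (57, 5), (49, 4), (36, 3), (4, 2), (114, 4),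 (89, 3), (68, 2), (149, 4), (151, 5), (150, 6), (121, 5), (145, 7), (116, 6), (103, 5), (91, 4), (70, 3), (147, 8), (118, 7), (105, 6), (93, 5), (10, 4), (149, 7), (120, 6), (107, 5), (12, 4), (152, 6), (16, 7), (131, 6), (117, 5), (104, 4), (133, 7), (119, 6), (106, 5), (135, 8), (121, 7), (13, 6), (136, 7), (14, 6), (129, 6), (79, 5), (60, 4), (52, 3), (131, 7), (81, 6), (9, 5), (132, 6), (82, 5), (133, 7), (11, 6), (135, 6)], [(97, 7), (74, 6), (64, 5), (55, 4), (40, 3), (25, 2), (2, 1), (141, 3), (36, 2), (31, 1), (114, 5), (89, 4), (68, 3), (149, 5), (151, 6), (150, 7), (121, 6), (16, 8), (114, 7), (101, 6), (89, 5), (68, 4), (6, 3), (147, 5), (132, 4), (118, 3), (16, 6), (134, 5), (120, 4), (135, 6), (121, 5), (136, 7), (14, 6), (132, 6), (105, 5), (93, 4), (10, 3), (133, 5), (106, 4), (94, 3), (136, 6), (15, 7), (115, 6), (102, 5), (90, 4), (79, 3), (117, 7), (104, 6), (92, 5), (81, 4), (118, 8), (105, 7), (93, 6), (82, 5), (121, 9), (13,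 8), (14, 8), (146, 8), (92, 7), (81, 6), (71, 5), (9, 4), (147, 7), (93, 6), (82, 5), (10, 4), (148, 6), (94, 5), (11, 4), (149, 5), (12, 4), (150, 4), (151, 5), (16, 6), (118, 5), (105, 4), (14, 6), (148, 6), (106, 5), (151, 7), (152, 8), (150, 9), (135, 8), (121, 7), (13, 6), (16, 8), (125, 7), (111, 6), (75, 5), (65, 4), (41, 3), (30, 2), (26, 1), (142, 5), (88, 4), (67, 3), (149, 5), (16, 6), (151, 6), (152, 7), (16, 8), (129, 7), (115, 6), (90, 5), (69, 4), (132, 8), (118, 7), (93, 6), (10, 5), (134, 7), (120, 6), (12, 5), (135, 6), (121, 5), (136, 7), (14, 6), (132, 6), (105, 5), (135, 7), (13, 6), (136, 6), (148, 8), (133, 7), (119, 6), (16, 9), (136, 8), (14, 7), (15, 7), (141, 7), (76, 6), (66, 5), (42, 4), (31, 3), (4, 2), (113, 4), (88, 3), (67, 2), (149, 4), (16, 5), (118, 5), (93, 4), (10, 3), (120, 4), (12, 3), (14, 3), (147, 6), (132, 5), (118, 4), (151, 7), (136, 6), (14, 5), (152, 6), (15, 5), (16, 5), (16, 6), (80, 5), (70, 4),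 (81, 6), (71, 5), (113, 8), (77, 7), (67, 6), (58, 5), (50, 4), (43, 3), (5, 2), (91, 4), (70, 3), (131, 6), (92, 5), (71, 4), (135, 7), (147, 9), (132, 8), (105, 7), (93, 6), (10, 5), (16, 8), (133, 7), (106, 6), (94, 5), (151, 9), (136, 8), (143, 10), (128, 9), (114, 8), (101, 7), (89, 6), (78, 5), (59, 4), (51, 3), (44, 2), (103, 5), (80, 4), (13, 6), (131, 7), (117, 6), (81, 5), (136, 8), (14, 7), (15, 7), (11, 6), (146, 10), (131, 9), (117, 8), (104, 7), (92, 6), (9, 5), (147, 9), (132, 8), (118, 7), (105, 6), (93, 5), (148, 10), (133, 9), (119, 8), (106, 7), (94, 6), (151, 11), (136, 10), (14, 9), (16, 10), (128, 9), (101, 8), (89, 7), (78, 6), (68, 5), (51, 4), (44, 3), (6, 2), (144, 4), (129, 3), (115, 2), (148, 5), (133, 4), (119, 3), (150, 6), (135, 5), (121, 4), (145, 7), (130, 6), (116, 5), (103, 4), (80, 3), (150, 8), (135, 7), (121, 6), (13, 5), (151, 7), (136, 6), (14, 5), (152, 6), (15, 5), (147, 5), (82, 4), (16, 6), (11, 5),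 (131, 7), (104, 6), (92, 5), (71, 4), (132, 8), (105, 7), (93, 6), (10, 5), (133, 7), (106, 6), (94, 5), (143, 9), (128, 8), (101, 7), (89, 6), (78, 5), (59, 4), (51, 3), (44, 2), (103, 5), (80, 4), (13, 6), (131, 7), (117, 6), (81, 5), (136, 8), (14, 7), (15, 7), (11, 6), (146, 9), (131, 8), (104, 7), (92, 6), (9, 5), (147, 8), (132, 7), (105, 6), (93, 5), (149, 9), (134, 8), (107, 7), (12, 6), (16, 8)]⟩,
    ⟨4, [7, 1], [1, 7, 8, 10, 12, 15], [(46, 0), (144, 5), (102, 4), (79, 3), (60, 2), (52, 1)], [], [(108, 7), (95, 6), (72, 5), (62, 4), (53, 3), (20, 2), (17, 1), (0, 0), (138, 5), (123, 4), (28, 3), (24, 2), (21, 1), (19, 0), (98, 8), (86, 7), (75, 6), (48, 5), (41, 4), (30, 3), (26, 2), (142, 6), (88, 5), (67, 4), (149, 6), (16, 7), (151, 7), (152, 8), (16, 9), (129, 8), (115, 7), (90, 6), (69, 5), (132, 9), (118, 8), (93, 7), (10, 6), (134, 8), (120, 7), (12, 6), (135, 7), (121, 6), (136, 8), (14, 7), (130, 7), (103, 6), (132, 8), (105,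 7), (133, 9), (106, 8), (134, 10), (107, 9), (136, 11), (15, 12), (119, 11), (106, 10), (94, 9), (11, 8), (149, 11), (120, 10), (107, 9), (12, 8), (150, 10), (121, 9), (13, 8), (151, 9), (14, 8), (16, 8), (99, 8), (66, 7), (49, 6), (42, 5), (31, 4), (4, 3), (113, 5), (88, 4), (67, 3), (149, 5), (16, 6), (118, 6), (93, 5), (10, 4), (120, 5), (12, 4), (14, 4), (145, 7), (130, 6), (116, 5), (147, 8), (132, 7), (118, 6), (149, 9), (134, 8), (120, 7), (152, 10), (15, 9), (16, 9), (118, 8), (93, 7), (10, 6), (14, 7), (150, 8), (135, 7), (16, 9), (128, 8), (101, 7), (89, 6), (51, 5), (44, 4), (103, 7), (80, 6), (13, 8), (134, 9), (120, 8), (135, 10), (121, 9), (15, 11), (115, 10), (102, 9), (90, 8), (79, 7), (52, 6), (7, 5), (116, 9), (103, 8), (91, 7), (80, 6), (8, 5), (118, 8), (105, 7), (93, 6), (82, 5), (119, 9), (106, 8), (94, 7), (11, 6), (14, 8), (141, 9), (126, 8), (99, 7), (87, 6), (66, 5), (36, 4), (31, 3), (114, 7), (89, 6), (68, 5), (149,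 7), (151, 8), (150, 9), (121, 8), (147, 10), (118, 9), (105, 8), (93, 7), (10, 6), (151, 9), (14, 8), (152, 8), (16, 9), (134, 8), (107, 7), (12, 6), (136, 7), (15, 8), (150, 8), (121, 7), (13, 6), (16, 7), (146, 8), (131, 7), (117, 6), (150, 9), (135, 8), (121, 7), (16, 10), (127, 9), (113, 8), (100, 7), (58, 6), (37, 5), (5, 4), (146, 6), (104, 5), (150, 7), (13, 6), (16, 6), (128, 8), (114, 7), (101, 6), (59, 5), (6, 4), (146, 6), (131, 5), (117, 4), (151, 7), (136, 6), (14, 5), (152, 6), (15, 5), (150, 5), (151, 6), (152, 7), (146, 8), (131, 7), (117, 6), (104, 5), (9, 4), (149, 7), (134, 6), (120, 5), (107, 4), (16, 8), (15, 7), (139, 7), (110, 6), (97, 5), (85, 4), (25, 3), (22, 2), (2, 1), (140, 3), (35, 2), (30, 1), (143, 5), (128, 4), (114, 3), (147, 6), (132, 5), (118, 4), (149, 7), (134, 6), (120, 5), (150, 8), (135, 7), (121, 6), (16, 9), (142, 9), (127, 8), (113, 7), (100, 6), (88, 5), (67, 4), (37, 3), (5, 2), (147, 4), (105, 3),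 (16, 5), (107, 4), (150, 6), (13, 5), (151, 5), (152, 6), (16, 7), (133, 6), (119, 5), (94, 4), (15, 7), (112, 6), (87, 5), (76, 4), (66, 3), (36, 2), (105, 4), (148, 8), (133, 7), (119, 6), (106, 5), (16, 9), (134, 8), (120, 7), (107, 6), (136, 9), (14, 8), (15, 8), (151, 8), (143, 9), (114, 8), (101, 7), (89, 6), (78, 5), (68, 4), (6, 3), (147, 5), (132, 4), (118, 3), (16, 6), (133, 5), (119, 4), (134, 6), (120, 5), (135, 7), (121, 6), (136, 8), (14, 7), (147, 8), (132, 7), (105, 6), (93, 5), (82, 4), (10, 3), (148, 7), (133, 6), (106, 5), (94, 4), (11, 3), (151, 6), (136, 5), (152, 7), (15, 6), (149, 6), (120, 5), (107, 4), (12, 3), (150, 5), (121, 4), (13, 3), (151, 4), (14, 3), (16, 3), (151, 4), (16, 5), (111, 4), (98, 3), (26, 2), (3, 1), (126, 3), (99, 2), (76, 1), (150, 3), (16, 4), (132, 4), (105, 3), (82, 2), (134, 5), (107, 4), (150, 7), (135, 6), (13, 5), (151, 6), (136, 5), (142, 7), (127, 6), (113, 5), (88, 4), (77, 3), (67, 2),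 (148, 4), (16, 5), (151, 6), (152, 7), (16, 8), (128, 7), (114, 6), (89, 5), (78, 4), (68, 3), (148, 5), (149, 6), (151, 7), (152, 8), (144, 9), (129, 8), (115, 7), (90, 6), (79, 5), (69, 4), (145, 10), (130, 9), (116, 8), (91, 7), (80, 6), (70, 5), (147, 11), (132, 10), (118, 9), (93, 8), (82, 7), (10, 6), (148, 10), (133, 9), (119, 8), (94, 7), (11, 6), (149, 9), (134, 8), (120, 7), (12, 6), (152, 8), (15, 7), (16, 7), (111, 6), (48, 5), (41, 4), (35, 3), (30, 2), (26, 1), (142, 5), (88, 4), (67, 3), (149, 5), (16, 6), (151, 6), (152, 7), (16, 8), (128, 7), (114, 6), (89, 5), (68, 4), (149, 6), (151, 7), (152, 8), (147, 9), (132, 8), (118, 7), (93, 6), (10, 5), (149, 8), (134, 7), (120, 6), (12, 5), (150, 7), (135, 6), (121, 5), (16, 8), (129, 7), (115, 6), (102, 5), (132, 8), (118, 7), (105, 6), (134, 9), (120, 8), (107, 7), (135, 10), (121, 9), (13, 8), (136, 9), (14, 8), (130, 8), (91, 7), (70, 6), (132, 9), (93, 8), (10, 7), (133, 8), (94,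 7), (134, 9), (12, 8), (136, 8), (15, 9), (14, 8), (76, 7), (49, 6), (42, 5), (36, 4), (31, 3), (4, 2), (113, 4), (88, 3), (67, 2), (149, 4), (16, 5), (118, 5), (93, 4), (10, 3), (120, 4), (12, 3), (14, 3), (102, 4), (145, 8), (130, 7), (116, 6), (103, 5), (147, 9), (132, 8), (118, 7), (105, 6), (149, 10), (134, 9), (120, 8), (107, 7), (152, 11), (15, 10), (16, 10), (119, 9), (106, 8), (94, 7), (142, 11), (113, 10), (100, 9), (88, 8), (77, 7), (67, 6), (50, 5), (43, 4), (37, 3), (5, 2), (144, 4), (102, 3), (147, 5), (105, 4), (149, 6), (107, 5), (145, 7), (103, 6), (91, 5), (70, 4), (152, 8), (147, 9), (132, 8), (105, 7), (93, 6), (10, 5), (16, 8), (133, 7), (106, 6), (94, 5), (149, 9), (134, 8), (107, 7), (12, 6), (16, 8), (135, 7), (13, 6), (136, 6), (143, 8), (128, 7), (114, 6), (78, 5), (51, 4), (44, 3), (6, 2), (144, 4), (129, 3), (115, 2), (148, 5), (133, 4), (119, 3), (150, 6), (135, 5), (121, 4), (145, 7), (130, 6), (116, 5), (103, 4),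 (80, 3), (150, 8), (135, 7), (121, 6), (13, 5), (151, 7), (136, 6), (14, 5), (152, 6), (15, 5), (148, 5), (11, 4), (151, 4), (152, 5), (16, 6), (129, 5), (115, 4), (52, 3), (7, 2), (130, 4), (116, 3), (8, 2), (133, 3), (119, 2), (134, 4), (120, 3), (146, 6), (131, 5), (117, 4), (92, 3), (81, 2), (148, 7), (133, 6), (119, 5), (94, 4), (11, 3), (149, 6), (134, 5), (120, 4), (12, 3), (151, 5), (136, 4), (14, 3), (16, 4), (132, 3), (133, 4), (136, 5), (148, 7), (133, 6), (119, 5), (11, 4), (150, 6), (135, 5), (121, 4), (151, 7), (136, 6), (14, 5), (152, 6), (15, 5), (150, 5), (13, 4), (151, 4), (152, 5), (151, 6), (136, 5), (14, 4), (16, 5), (124, 4), (64, 3), (55, 2), (22, 1), (131, 5), (81, 4), (132, 6), (82, 5), (133, 7), (11, 6), (134, 6), (135, 7), (136, 8), (147, 10), (132, 9), (118, 8), (105, 7), (93, 6), (10, 5), (151, 9), (136, 8), (14, 7), (16, 8), (15, 7), (141, 7), (99, 6), (87, 5), (57, 4), (31, 3), (117, 7), (92, 6), (71, 5), (119, 8),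 (94, 7), (121, 9), (120, 10), (107, 9), (12, 8), (14, 9), (150, 10), (135, 9), (13, 8), (16, 9), (144, 9), (129, 8), (79, 7), (69, 6), (60, 5), (146, 10), (131, 9), (81, 8), (71, 7), (9, 6), (147, 9), (132, 8), (82, 7), (10, 6), (148, 8), (133, 7), (11, 6), (150, 7), (135, 6)], [(95, 7), (72, 6), (62, 5), (53, 4), (38, 3), (23, 2), (18, 1), (0, 0), (139, 5), (124, 4), (29, 3), (25, 2), (22, 1), (2, 0), (140, 2), (35, 1), (30, 0), (143, 4), (128, 3), (114, 2), (147, 5), (132, 4), (118, 3), (149, 6), (134, 5), (120, 4), (150, 7), (135, 6), (121, 5), (16, 8), (142, 8), (127, 7), (113, 6), (100, 5), (88, 4), (67, 3), (37, 2), (5, 1), (147, 3), (105, 2), (16, 4), (107, 3), (150, 5), (13, 4), (151, 4), (152, 5), (16, 6), (133, 5), (119, 4), (94, 3), (15, 6), (112, 5), (87, 4), (76, 3), (66, 2), (36, 1), (105, 3), (148, 7), (133, 6), (119, 5), (106, 4), (16, 8), (134, 7), (120, 6), (107, 5), (136, 8), (14, 7), (15, 7), (151, 7), (143, 8), (114, 7), (101,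 6), (89, 5), (78, 4), (68, 3), (6, 2), (147, 4), (132, 3), (118, 2), (16, 5), (133, 4), (119, 3), (134, 5), (120, 4), (135, 6), (121, 5), (136, 7), (14, 6), (147, 7), (132, 6), (105, 5), (93, 4), (82, 3), (10, 2), (148, 6), (133, 5), (106, 4), (94, 3), (11, 2), (151, 5), (136, 4), (152, 6), (15, 5), (142, 5), (113, 4), (100, 3), (88, 2), (150, 4), (151, 5), (16, 6), (118, 5), (105, 4), (93, 3), (120, 6), (107, 5), (12, 4), (121, 5), (13, 4), (16, 6), (126, 5), (112, 4), (66, 3), (31, 2), (4, 1), (113, 3), (88, 2), (67, 1), (149, 3), (16, 4), (118, 4), (93, 3), (10, 2), (120, 3), (12, 2), (14, 2), (151, 5), (136, 4), (14, 3), (152, 4), (15, 3), (143, 3), (68, 2), (16, 4), (69, 3), (141, 8), (126, 7), (112, 6), (76, 5), (66, 4), (42, 3), (36, 2), (31, 1), (114, 5), (89, 4), (68, 3), (149, 5), (151, 6), (150, 7), (121, 6), (144, 8), (115, 7), (102, 6), (90, 5), (69, 4), (151, 9), (14, 8), (152, 8), (16, 9), (132, 8), (105, 7), (93, 6), (10, 5), (136,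 7), (15, 8), (148, 8), (119, 7), (106, 6), (94, 5), (16, 9), (14, 8), (142, 9), (127, 8), (100, 7), (88, 6), (77, 5), (43, 4), (37, 3), (5, 2), (144, 4), (102, 3), (147, 5), (105, 4), (149, 6), (107, 5), (148, 7), (106, 6), (94, 5), (16, 8), (107, 7), (12, 6), (150, 7), (13, 6), (152, 6), (16, 7), (128, 6), (78, 5), (68, 4), (44, 3), (6, 2), (144, 4), (129, 3), (115, 2), (148, 5), (133, 4), (119, 3), (150, 6), (135, 5), (121, 4), (147, 7), (132, 6), (118, 5), (105, 4), (82, 3), (16, 8), (133, 7), (119, 6), (106, 5), (11, 4), (15, 6), (116, 5), (103, 4), (70, 3), (117, 6), (104, 5), (71, 4), (118, 7), (105, 6), (10, 5), (119, 6), (106, 5), (120, 7), (107, 6), (144, 10), (129, 9), (115, 8), (102, 7), (90, 6), (79, 5), (60, 4), (52, 3), (7, 2), (145, 9), (130, 8), (116, 7), (103, 6), (91, 5), (80, 4), (61, 3), (8, 2), (146, 8), (131, 7), (117, 6), (104, 5), (92, 4), (81, 3), (9, 2), (150, 7), (135, 6), (121, 5), (13, 4), (151, 6), (136, 5), (14,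 4), (152, 5), (15, 4), (146, 4), (92, 3), (81, 2), (148, 5), (94, 4), (11, 3), (149, 4), (12, 3), (151, 3), (16, 4), (118, 3), (119, 4), (14, 5), (148, 5), (11, 4), (150, 4), (151, 5), (152, 6), (150, 7), (135, 6), (121, 5), (13, 4), (151, 6), (136, 5), (14, 4), (152, 5), (15, 4), (138, 4), (63, 3), (54, 2), (24, 1), (21, 0), (141, 10), (126, 9), (112, 8), (76, 7), (66, 6), (49, 5), (42, 4), (36, 3), (4, 2), (114, 4), (89, 3), (68, 2), (149, 4), (151, 5), (150, 6), (121, 5), (144, 7), (115, 6), (102, 5), (90, 4), (69, 3), (151, 8), (14, 7), (152, 7), (16, 8), (130, 7), (103, 6), (91, 5), (70, 4), (132, 8), (105, 7), (93, 6), (10, 5), (134, 7), (107, 6), (12, 5), (15, 6), (147, 6), (105, 5), (151, 7), (152, 8), (16, 9), (133, 8), (119, 7), (106, 6), (151, 10), (136, 9), (14, 8), (152, 9), (15, 8), (16, 8), (104, 7), (81, 6), (71, 5), (13, 8), (146, 8), (81, 7), (71, 6), (9, 5), (147, 7), (82, 6), (10, 5), (149, 6), (150, 7), (151, 8), (16, 9),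 (118, 8), (105, 7), (93, 6), (82, 5), (119, 9), (106, 8), (94, 7), (11, 6), (16, 10), (125, 9), (111, 8), (98, 7), (86, 6), (65, 5), (48, 4), (41, 3), (35, 2), (3, 1), (128, 3), (101, 2), (78, 1), (132, 4), (105, 3), (82, 2), (134, 5), (107, 4), (135, 6), (13, 5), (144, 6), (129, 5), (90, 4), (79, 3), (69, 2), (147, 7), (132, 6), (93, 5), (82, 4), (10, 3), (149, 6), (134, 5), (12, 4), (150, 5), (135, 4), (151, 6), (136, 5), (145, 7), (130, 6), (116, 5), (103, 4), (80, 3), (147, 8), (132, 7), (118, 6), (105, 5), (82, 4), (148, 9), (133, 8), (119, 7), (106, 6), (11, 5), (149, 8), (134, 7), (120, 6), (107, 5), (151, 9), (136, 8), (14, 7), (152, 8), (15, 7), (147, 7), (105, 6), (93, 5), (10, 4), (150, 6), (13, 5), (151, 5), (16, 6), (120, 5), (12, 4), (121, 4), (14, 5), (150, 5), (13, 4), (151, 4), (152, 5), (16, 6), (131, 5), (117, 4), (132, 6), (118, 5), (133, 7), (119, 6), (135, 8), (121, 7), (136, 9), (14, 8), (124, 8), (97, 7), (74, 6), (64,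 5), (55, 4), (47, 3), (40, 2), (34, 1), (144, 6), (102, 5), (90, 4), (69, 3), (146, 7), (104, 6), (92, 5), (71, 4), (147, 8), (105, 7), (93, 6), (10, 5), (150, 7), (13, 6), (151, 6), (16, 7), (116, 6), (91, 5), (61, 4), (120, 7), (12, 6), (121, 6), (117, 7), (104, 6), (9, 5), (118, 6), (105, 5), (119, 7), (106, 6), (120, 8), (107, 7), (121, 9), (13, 8), (14, 8), (147, 8), (93, 7), (82, 6), (10, 5), (151, 7), (16, 8), (119, 7), (94, 6), (11, 5), (14, 6), (135, 6), (152, 8), (15, 7), (16, 7), (98, 6), (86, 5), (48, 4), (41, 3), (35, 2), (144, 7), (102, 6), (90, 5), (69, 4), (147, 8), (105, 7), (93, 6), (10, 5), (149, 7), (107, 6), (12, 5), (150, 6), (13, 5), (151, 5), (145, 6), (116, 5), (147, 7), (118, 6), (148, 8), (119, 7), (149, 9), (120, 8), (151, 10), (14, 9), (152, 9), (149, 10), (134, 9), (12, 8), (150, 9), (135, 8), (151, 10), (136, 9), (16, 11), (135, 10), (121, 9), (13, 8), (126, 9), (112, 8), (76, 7), (66, 6), (49, 5), (42, 4), (36,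 3), (102, 5), (145, 9), (130, 8), (116, 7), (103, 6), (147, 10), (132, 9), (118, 8), (105, 7), (149, 11), (134, 10), (120, 9), (107, 8), (152, 12), (15, 11), (16, 11), (118, 10), (105, 9), (93, 8), (10, 7), (14, 9), (148, 10), (133, 9), (106, 8), (94, 7), (16, 11), (136, 10), (15, 11), (113, 10), (100, 9), (88, 8), (77, 7), (50, 6), (43, 5), (37, 4), (144, 7), (102, 6), (147, 8), (105, 7), (149, 9), (107, 8), (145, 10), (103, 9), (91, 8), (70, 7), (152, 11), (148, 12), (133, 11), (106, 10), (94, 9), (16, 13), (134, 12), (107, 11), (12, 10), (150, 12), (135, 11), (13, 10), (151, 11), (136, 10), (145, 12), (130, 11), (116, 10), (80, 9), (70, 8), (8, 7), (146, 11), (131, 10), (117, 9), (81, 8), (71, 7), (148, 12), (133, 11), (119, 10), (11, 9), (150, 11), (135, 10), (121, 9), (151, 12), (136, 11), (14, 10), (143, 11), (128, 10), (101, 9), (68, 8), (59, 7), (44, 6), (6, 5), (144, 7), (129, 6), (115, 5), (148, 8), (133, 7), (119, 6), (150, 9), (135,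 8), (121, 7), (146, 10), (131, 9), (117, 8), (104, 7), (81, 6), (151, 11), (136, 10), (14, 9), (152, 10), (15, 9), (147, 9), (105, 8), (82, 7), (16, 10), (13, 9), (146, 10), (131, 9), (81, 8), (71, 7), (9, 6), (147, 9), (132, 8), (82, 7), (10, 6), (148, 8), (133, 7), (11, 6), (16, 7), (135, 6)]⟩]

end CfsgLib.Spor.Fi22Mult.P2
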