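import Cfsg.Agent.Lib.Spor.SchurCert.ActBridge

/-!
A part of the certificate at the prime 2.
-/

set_option autoImplicit false
set_option maxRecDepth 100000
set_option maxHeartbeats 0
set_option Elab.async false

namespace CfsgLib.Spor.Fi22Mult.P2

open CfsgLib.Spor.TC CfsgLib.Spor.ActCert CfsgLib.Spor.SchurCert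

/-- A part of the certificate. -/
def dense0 : List (List ℕ) := [
    [0, 0, 0, 0, 1, 1, 2, 1, 1, 1, 0, 2, 1, 0, 2, 2, 3, 0, 1, 0, 1, 0, 0, 1, 0, 0, 1, 1, 0, 0, 0, 1, 0, 0, 0, 1, 1, 2, 0, 0, 0, 1, 1, 1, 1, 0, 0, 0, 0, 1, 1, 1, 0, 0, 0, 0, 0, 0, 1, 1, 0, 0, 0, 0, 0, 0, 2, 1, 0, 2, 3, 1, 0, 0, 0, 1, 2, 2, 2, 0, 1, 1, 2, 0, 0, 0, 0, 1, 1, 0, 2, 2, 1, 3, 0, 0, 0, 0, 0, 1, 2, 1, 0, 1, 1, 1, 1, 1, 0, 0, 0, 1, 1, 1, 2, 3, 2, 1, 0, 2, 0, 3, 1, 0, 0, 1, 2, 1, 0, 2, 2, 2, 2, 2, 3, 3, 1, 1, 0, 0, 1, 0, 1, 3, 1, 2, 3, 1, 0, 3, 2, 2, 2],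
    [0, 0, 0, 0, 0, 0, 0, 0, 0, 1, 1, 1, 1, 2, 1, 2, 3, 0, 0, 0, 0, 0, 0, 0, 1, 0, 0, 0, 0, 0, 0, 0, 0, 1, 0, 0, 0, 0, 0, 1, 0, 0, 0, 0, 0, 0, 1, 0, 0, 0, 0, 0, 0, 0, 0, 0, 0, 0, 0, 1, 1, 1, 0, 1, 0, 0, 0, 0, 0, 1, 0, 0, 0, 0, 0, 0, 0, 0, 0, 0, 0, 0, 1, 0, 0, 0, 0, 0, 0, 0, 1, 0, 0, 1, 0, 0, 1, 0, 0, 0, 0, 1, 0, 1, 1, 1, 1, 1, 0, 1, 0, 0, 0, 0, 0, 1, 1, 1, 3, 2, 2, 1, 0, 0, 0, 0, 0, 0, 0, 1, 0, 0, 2, 0, 2, 0, 1, 0, 0, 0, 0, 0, 0, 1, 1, 0, 0, 3, 1, 2, 2, 1, 2],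
    [0, 0, 3, 3, 3, 2, 1, 2, 3, 0, 2, 2, 3, 2, 1, 1, 1, 2, 0, 3, 0, 3, 3, 1, 0, 2, 3, 0, 3, 0, 2, 3, 1, 3, 2, 2, 3, 1, 1, 3, 3, 0, 3, 2, 2, 1, 3, 3, 0, 3, 2, 3, 3, 0, 0, 3, 2, 2, 1, 2, 2, 1, 1, 3, 3, 3, 3, 2, 2, 1, 2, 0, 0, 3, 0, 2, 0, 3, 1, 2, 0, 0, 1, 0, 3, 3, 0, 2, 2, 0, 3, 2, 3, 0, 0, 1, 0, 3, 3, 2, 1, 0, 1, 1, 3, 0, 2, 3, 1, 0, 2, 3, 2, 1, 2, 0, 1, 0, 1, 0, 1, 3, 0, 3, 3, 2, 3, 2, 0, 2, 2, 2, 3, 0, 1, 1, 2, 0, 3, 3, 3, 0, 0, 2, 0, 0, 1, 2, 1, 1, 3, 3, 3],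
    [0, 0, 3, 3, 2, 1, 3, 1, 1, 1, 3, 2, 2, 2, 1, 3, 3, 2, 3, 3, 3, 3, 3, 0, 3, 2, 2, 3, 3, 3, 1, 0, 3, 0, 3, 2, 1, 0, 3, 0, 3, 3, 2, 3, 0, 3, 0, 3, 2, 1, 3, 1, 1, 0, 0, 0, 3, 2, 1, 0, 2, 1, 3, 0, 0, 3, 1, 2, 1, 3, 3, 2, 3, 0, 0, 3, 0, 1, 0, 0, 3, 0, 0, 3, 0, 3, 3, 0, 2, 0, 3, 1, 3, 3, 0, 0, 0, 3, 2, 3, 1, 3, 1, 0, 3, 1, 0, 3, 0, 0, 2, 2, 2, 1, 2, 0, 3, 0, 1, 1, 3, 3, 3, 3, 0, 0, 2, 0, 3, 0, 1, 0, 2, 3, 2, 2, 2, 3, 3, 3, 2, 3, 0, 3, 3, 3, 2, 1, 1, 1, 1],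
    [0, 0, 0, 0, 0, 0, 0, 0, 0, 0, 1, 0, 1, 1, 0, 0, 1, 0, 0, 0, 0, 0, 0, 0, 0, 0, 0, 0, 0, 1, 0, 0, 0, 0, 1, 0, 0, 0, 0, 0, 0, 0, 0, 0, 0, 0, 0, 0, 0, 0, 0, 0, 0, 0, 0, 0, 0, 0, 0, 0, 0, 0, 0, 0, 0, 0, 0, 0, 1, 0, 0, 0, 0, 0, 0, 0, 0, 0, 0, 0, 0, 0, 0, 0, 0, 0, 0, 0, 0, 1, 0, 0, 0, 1, 0, 0, 0, 0, 0, 0, 0, 1, 0, 0, 0, 1, 0, 1, 0, 0, 0, 0, 0, 0, 0, 0, 0, 0, 0, 0, 0, 0, 0, 0, 0, 0, 0, 0, 0, 0, 0, 0, 0, 0, 0, 0, 0, 0, 0, 1, 0, 0, 0, 0, 0, 0, 0, 1, 0, 2, 2],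
    [0, 0, 0, 0, 3, 0, 3, 3, 0, 0, 1, 2, 3, 1, 3, 1, 3, 0, 2, 0, 0, 0, 0, 0, 0, 3, 0, 1, 0, 0, 0, 2, 1, 0, 3, 0, 2, 0, 0, 0, 3, 0, 3, 0, 3, 0, 0, 0, 0, 0, 0, 0, 0, 0, 0, 0, 0, 3, 0, 0, 3, 0, 0, 0, 0, 0, 0, 3, 2, 3, 0, 3, 0, 0, 3, 0, 0, 0, 2, 3, 0, 2, 2, 0, 0, 0, 0, 0, 3, 2, 0, 0, 0, 1, 0, 0, 0, 0, 0, 3, 0, 1, 3, 0, 2, 2, 0, 3, 0, 0, 3, 0, 0, 3, 0, 1, 0, 2, 0, 1, 1, 1, 0, 0, 3, 0, 0, 0, 3, 2, 0, 3, 2, 0, 3, 0, 0, 1, 0, 3, 0, 3, 0, 1, 1, 0, 2, 2, 0, 3, 2, 0, 2],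
    [0, 0, 0, 0, 3, 3, 2, 3, 3, 3, 1, 0, 1, 0, 1, 1, 0, 0, 2, 0, 0, 0, 3, 3, 0, 3, 0, 0, 0, 3, 0, 3, 3, 0, 0, 0, 3, 3, 3, 0, 0, 0, 3, 3, 2, 0, 0, 0, 0, 0, 0, 3, 3, 0, 0, 0, 0, 0, 0, 3, 3, 3, 0, 0, 0, 0, 2, 2, 1, 2, 3, 3, 3, 0, 0, 0, 2, 3, 1, 3, 2, 2, 2, 0, 0, 0, 0, 0, 0, 2, 3, 0, 0, 1, 3, 0, 0, 0, 0, 1, 1, 2, 1, 1, 2, 1, 1, 2, 3, 0, 0, 0, 2, 1, 2, 1, 2, 1, 0, 0, 2, 1, 3, 0, 3, 0, 3, 3, 2, 2, 3, 2, 0, 1, 2, 1, 1, 3, 0, 3, 0, 0, 2, 1, 1, 0, 0, 0, 2, 1, 1, 3],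
    [0, 0, 0, 0, 3, 3, 0, 3, 3, 0, 1, 2, 1, 0, 1, 2, 3, 0, 0, 2, 0, 0, 0, 0, 0, 3, 0, 0, 1, 3, 0, 3, 0, 1, 0, 0, 3, 0, 0, 0, 3, 0, 3, 3, 0, 0, 0, 3, 0, 3, 3, 0, 3, 0, 0, 0, 0, 3, 3, 1, 3, 2, 0, 0, 0, 0, 0, 0, 2, 1, 1, 2, 0, 0, 3, 0, 0, 2, 0, 2, 2, 3, 2, 0, 0, 3, 0, 0, 3, 3, 2, 1, 3, 2, 0, 0, 0, 3, 0, 0, 2, 3, 0, 3, 0, 2, 2, 2, 0, 0, 0, 0, 0, 3, 2, 2, 0, 0, 1, 0, 1, 3, 0, 0, 0, 0, 3, 3, 0, 0, 3, 0, 1, 2, 1, 3, 2, 0, 1, 0, 0, 2, 3, 1, 3, 1, 1, 2, 1, 3, 0, 2, 3],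
    [0, 0, 0, 0, 3, 3, 3, 3, 3, 2, 0, 1, 3, 2, 3, 3, 2, 0, 0, 2, 0, 0, 0, 0, 3, 3, 0, 0, 3, 0, 0, 3, 0, 0, 3, 0, 0, 0, 0, 3, 3, 0, 3, 3, 0, 0, 3, 3, 0, 3, 3, 0, 3, 0, 0, 0, 0, 2, 3, 0, 2, 1, 0, 0, 3, 0, 3, 0, 3, 2, 3, 1, 0, 3, 0, 0, 2, 0, 3, 3, 3, 3, 0, 0, 3, 0, 0, 0, 3, 3, 1, 3, 2, 1, 3, 0, 3, 3, 0, 3, 2, 3, 2, 0, 2, 0, 1, 1, 0, 0, 3, 0, 2, 2, 2, 1, 1, 0, 0, 3, 0, 2, 0, 0, 0, 0, 3, 0, 3, 3, 1, 2, 2, 3, 2, 2, 3, 0, 0, 0, 0, 0, 3, 3, 3, 2, 0, 1, 2, 2, 1, 2, 1],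
    [0, 0, 0, 0, 0, 1, 1, 0, 1, 2, 0, 1, 0, 3, 0, 1, 1, 0, 0, 0, 0, 0, 1, 1, 3, 0, 0, 1, 0, 0, 1, 1, 0, 3, 0, 1, 1, 2, 1, 3, 1, 0, 0, 0, 0, 1, 0, 0, 3, 1, 0, 0, 3, 0, 0, 3, 3, 2, 0, 0, 0, 2, 0, 0, 0, 0, 2, 3, 0, 0, 3, 3, 1, 3, 0, 0, 0, 1, 1, 1, 2, 2, 3, 1, 0, 1, 0, 1, 3, 1, 2, 2, 1, 0, 2, 1, 0, 0, 3, 0, 2, 1, 1, 2, 3, 0, 2, 3, 0, 3, 0, 0, 1, 3, 3, 1, 1, 2, 2, 1, 3, 0, 0, 3, 1, 0, 1, 1, 1, 1, 3, 0, 3, 3, 3, 1, 2, 0, 3, 1, 0, 2, 3, 2, 3, 0, 0, 2, 2, 0, 3, 2],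
    [0, 0, 0, 0, 0, 0, 0, 0, 0, 0, 0, 0, 0, 0, 0, 0, 1, 0, 0, 0, 0, 0, 0, 0, 0, 0, 0, 0, 0, 0, 0, 0, 0, 0, 0, 0, 0, 0, 0, 0, 0, 0, 0, 0, 0, 0, 0, 0, 0, 0, 0, 0, 0, 0, 0, 0, 0, 0, 0, 0, 0, 0, 0, 0, 0, 0, 0, 0, 0, 0, 0, 0, 0, 0, 0, 1, 0, 0, 0, 0, 0, 0, 0, 0, 0, 0, 0, 0, 0, 0, 0, 0, 0, 0, 0, 0, 0, 0, 1, 0, 0, 0, 0, 0, 0, 0, 0, 0, 0, 0, 0, 0, 0, 0, 0, 0, 0, 0, 0, 0, 0, 0, 0, 0, 0, 1, 0, 0, 0, 0, 0, 0, 0, 0, 0, 0, 0, 0, 0, 0, 0, 0, 0, 0, 0, 0, 0, 0, 0, 0, 1, 0, 1],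
    [0, 0, 0, 0, 3, 3, 3, 3, 3, 0, 0, 2, 3, 1, 0, 1, 1, 0, 0, 0, 2, 0, 0, 0, 0, 0, 3, 0, 0, 0, 3, 3, 0, 0, 0, 3, 3, 3, 0, 0, 0, 3, 3, 3, 3, 0, 0, 0, 3, 3, 3, 3, 3, 0, 0, 0, 0, 0, 0, 0, 0, 0, 0, 0, 0, 0, 0, 1, 3, 0, 2, 0, 1, 0, 0, 3, 2, 2, 2, 3, 2, 0, 0, 0, 0, 0, 3, 3, 2, 2, 3, 1, 0, 0, 0, 1, 0, 0, 0, 3, 2, 3, 2, 0, 0, 2, 0, 1, 0, 0, 0, 0, 0, 3, 3, 2, 2, 0, 0, 1, 2, 0, 1, 0, 0, 0, 2, 3, 3, 2, 1, 0, 1, 0, 0, 1, 2, 0, 0, 0, 3, 0, 3, 2, 1, 0, 0, 3, 2, 0, 1, 3, 1],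
    [0, 0, 0, 0, 3, 3, 2, 3, 2, 2, 1, 1, 3, 3, 2, 1, 1, 0, 0, 0, 2, 0, 1, 3, 0, 0, 3, 3, 0, 0, 0, 0, 3, 0, 0, 0, 3, 3, 3, 0, 0, 0, 3, 2, 1, 3, 0, 0, 0, 3, 3, 3, 0, 0, 0, 0, 0, 0, 3, 3, 0, 3, 0, 0, 0, 0, 2, 2, 0, 2, 3, 3, 3, 0, 0, 1, 2, 3, 2, 2, 3, 3, 3, 3, 0, 0, 0, 3, 0, 2, 3, 2, 3, 2, 2, 0, 0, 0, 0, 2, 3, 1, 1, 2, 0, 1, 1, 3, 0, 0, 0, 0, 3, 0, 1, 0, 3, 2, 2, 2, 0, 3, 0, 0, 0, 0, 2, 0, 1, 1, 3, 1, 3, 2, 3, 2, 2, 3, 0, 0, 3, 3, 2, 2, 0, 0, 0, 0, 0, 1, 0, 2, 2],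
    [0, 0, 0, 0, 3, 0, 3, 3, 3, 0, 0, 2, 1, 1, 0, 1, 0, 0, 0, 0, 0, 2, 0, 0, 0, 0, 3, 0, 0, 0, 0, 0, 0, 0, 0, 3, 3, 0, 0, 0, 0, 3, 3, 0, 3, 0, 0, 0, 3, 3, 0, 3, 3, 0, 0, 0, 0, 0, 0, 0, 0, 0, 0, 0, 0, 3, 3, 0, 1, 2, 1, 0, 0, 1, 0, 3, 2, 0, 2, 3, 2, 0, 3, 0, 0, 0, 0, 0, 0, 2, 3, 2, 0, 1, 3, 0, 1, 0, 0, 3, 0, 2, 2, 0, 0, 1, 1, 0, 0, 0, 0, 3, 0, 0, 2, 1, 1, 0, 2, 3, 3, 2, 0, 1, 0, 3, 2, 0, 3, 2, 1, 0, 3, 1, 3, 1, 2, 0, 0, 0, 3, 3, 0, 3, 1, 2, 0, 3, 1, 0, 1, 0, 2],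
    [0, 0, 0, 0, 3, 0, 3, 3, 3, 3, 3, 1, 0, 3, 2, 2, 2, 0, 0, 0, 0, 2, 0, 0, 3, 0, 3, 0, 0, 0, 0, 0, 0, 3, 0, 3, 3, 0, 0, 3, 0, 3, 3, 0, 3, 0, 3, 0, 3, 3, 0, 3, 3, 0, 0, 0, 0, 0, 0, 3, 3, 3, 0, 3, 0, 3, 3, 0, 1, 1, 1, 0, 0, 3, 0, 0, 2, 0, 2, 3, 2, 2, 0, 0, 0, 0, 0, 0, 0, 2, 2, 2, 0, 0, 3, 0, 0, 0, 3, 3, 0, 3, 0, 1, 3, 2, 0, 1, 0, 3, 0, 3, 0, 0, 2, 0, 0, 3, 3, 0, 1, 1, 0, 3, 0, 0, 2, 0, 3, 3, 1, 2, 1, 3, 3, 2, 0, 0, 3, 0, 0, 0, 0, 1, 3, 1, 0, 3, 0, 2, 0, 0, 3],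
    [0, 0, 0, 0, 0, 0, 0, 0, 1, 0, 3, 0, 3, 3, 1, 0, 0, 0, 0, 0, 0, 0, 3, 1, 3, 0, 0, 0, 3, 3, 1, 1, 1, 3, 3, 0, 0, 3, 1, 3, 0, 1, 0, 0, 3, 1, 3, 0, 1, 0, 0, 0, 1, 0, 0, 3, 3, 0, 2, 3, 0, 0, 1, 0, 0, 0, 0, 2, 0, 1, 2, 3, 1, 3, 3, 0, 1, 1, 0, 1, 2, 2, 2, 0, 3, 3, 1, 0, 1, 0, 2, 0, 0, 1, 1, 0, 0, 0, 0, 2, 2, 2, 0, 3, 0, 1, 0, 3, 1, 0, 3, 0, 1, 2, 3, 2, 0, 0, 2, 0, 1, 3, 1, 0, 0, 1, 0, 3, 2, 3, 2, 1, 0, 1, 0, 3, 1, 1, 3, 3, 1, 3, 0, 3, 2, 2, 2, 3, 2, 2, 0, 2, 3],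
    [0, 0, 0, 0, 0, 3, 0, 0, 0, 0, 0, 3, 0, 0, 0, 3, 3, 0, 0, 0, 0, 0, 2, 0, 0, 0, 0, 0, 0, 0, 3, 0, 0, 0, 0, 0, 0, 0, 0, 0, 0, 0, 0, 0, 0, 0, 0, 0, 0, 0, 0, 0, 0, 0, 0, 0, 0, 0, 0, 0, 0, 0, 0, 0, 0, 0, 0, 0, 0, 0, 0, 0, 0, 0, 1, 3, 0, 3, 0, 0, 0, 0, 0, 0, 0, 0, 0, 0, 0, 0, 0, 0, 0, 0, 0, 0, 0, 1, 0, 0, 2, 0, 0, 0, 0, 0, 2, 0, 0, 0, 0, 0, 0, 3, 0, 0, 0, 0, 0, 2, 0, 1, 0, 0, 1, 3, 0, 2, 0, 0, 0, 0, 0, 3, 0, 1, 3, 0, 0, 0, 0, 0, 0, 0, 0, 0, 0, 0, 0, 0, 3, 3, 2],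
    [0, 0, 0, 0, 0, 3, 0, 0, 0, 0, 3, 3, 3, 2, 3, 2, 3, 0, 0, 0, 0, 0, 2, 0, 0, 0, 0, 0, 0, 3, 3, 0, 0, 0, 0, 3, 0, 2, 0, 0, 0, 0, 0, 0, 0, 0, 0, 0, 0, 0, 0, 0, 0, 0, 0, 0, 0, 0, 0, 0, 0, 0, 0, 0, 0, 0, 0, 2, 0, 0, 0, 0, 0, 0, 3, 0, 0, 3, 0, 0, 0, 0, 3, 0, 0, 0, 0, 0, 2, 0, 0, 0, 0, 3, 3, 0, 0, 0, 0, 0, 3, 0, 0, 0, 0, 1, 3, 1, 0, 0, 0, 0, 0, 2, 3, 0, 0, 0, 2, 2, 2, 2, 0, 0, 3, 0, 0, 3, 3, 0, 0, 0, 3, 3, 3, 3, 0, 0, 0, 0, 3, 0, 3, 3, 0, 0, 0, 1, 0, 2, 2, 3, 3],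
    [0, 0, 0, 0, 0, 0, 0, 0, 0, 0, 3, 3, 0, 3, 2, 3, 2, 0, 0, 0, 0, 0, 0, 0, 0, 3, 1, 1, 0, 3, 0, 3, 0, 0, 3, 1, 1, 0, 0, 0, 3, 1, 0, 1, 0, 0, 0, 3, 0, 3, 1, 0, 3, 0, 0, 0, 0, 3, 0, 3, 3, 3, 0, 0, 0, 0, 0, 1, 1, 0, 3, 1, 1, 0, 3, 1, 3, 2, 1, 3, 3, 0, 2, 0, 0, 3, 0, 0, 3, 1, 3, 3, 3, 2, 2, 0, 0, 0, 0, 0, 2, 0, 2, 0, 3, 2, 2, 1, 0, 0, 0, 1, 0, 1, 1, 1, 1, 2, 2, 3, 0, 0, 1, 0, 0, 1, 0, 1, 3, 1, 3, 3, 3, 3, 3, 1, 3, 0, 0, 3, 1, 0, 1, 0, 0, 0, 0, 0, 1, 2, 2, 2, 3],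
    [0, 0, 0, 0, 0, 0, 0, 0, 0, 0, 3, 0, 0, 0, 0, 0, 1, 0, 0, 0, 0, 0, 0, 0, 0, 3, 1, 0, 1, 0, 1, 3, 0, 0, 3, 0, 0, 1, 0, 0, 3, 1, 0, 3, 1, 0, 0, 3, 1, 0, 3, 1, 0, 0, 0, 0, 0, 3, 3, 0, 3, 2, 0, 0, 3, 0, 0, 2, 0, 3, 2, 2, 0, 1, 3, 1, 2, 0, 3, 1, 2, 0, 3, 0, 0, 0, 1, 3, 2, 0, 1, 3, 3, 3, 0, 0, 0, 0, 1, 0, 1, 1, 3, 2, 3, 0, 0, 1, 0, 0, 3, 0, 3, 0, 3, 1, 1, 3, 0, 3, 3, 3, 0, 1, 3, 0, 2, 0, 1, 0, 0, 2, 3, 2, 0, 3, 1, 0, 0, 3, 0, 0, 2, 3, 3, 2, 0, 0, 2, 1, 3, 1, 1],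
    [0, 0, 0, 0, 0, 0, 0, 0, 0, 0, 0, 0, 0, 0, 1, 1, 1, 0, 0, 0, 0, 0, 0, 0, 0, 0, 0, 0, 0, 0, 0, 0, 0, 0, 0, 0, 0, 0, 0, 0, 0, 0, 0, 0, 0, 0, 0, 0, 0, 0, 0, 0, 0, 0, 0, 0, 0, 0, 0, 0, 0, 0, 0, 0, 0, 0, 1, 0, 0, 0, 0, 0, 0, 0, 0, 0, 0, 0, 0, 0, 0, 0, 0, 0, 0, 0, 0, 1, 0, 0, 0, 0, 0, 0, 0, 0, 0, 0, 0, 0, 0, 0, 0, 0, 0, 0, 0, 0, 0, 0, 0, 0, 1, 0, 0, 0, 0, 0, 0, 0, 1, 0, 0, 0, 0, 0, 0, 0, 0, 0, 0, 0, 0, 0, 1, 0, 1, 0, 0, 0, 0, 0, 0, 0, 0, 0, 0, 0, 0, 1, 0, 1, 1],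
    [0, 0, 0, 0, 0, 3, 3, 0, 3, 3, 2, 3, 2, 2, 2, 0, 0, 0, 0, 0, 0, 0, 0, 2, 0, 0, 0, 0, 0, 0, 0, 3, 0, 0, 0, 0, 3, 3, 0, 0, 0, 0, 0, 0, 0, 0, 0, 0, 0, 3, 3, 3, 0, 0, 0, 0, 0, 3, 3, 3, 0, 3, 1, 0, 0, 0, 3, 3, 0, 0, 0, 3, 0, 0, 0, 0, 3, 0, 0, 0, 0, 0, 3, 1, 0, 0, 0, 3, 3, 0, 0, 0, 3, 2, 2, 0, 0, 0, 0, 0, 0, 0, 0, 1, 0, 2, 2, 2, 1, 0, 0, 0, 0, 3, 0, 0, 2, 3, 2, 2, 2, 0, 0, 0, 0, 0, 3, 0, 3, 0, 3, 2, 3, 3, 0, 1, 3, 0, 0, 0, 0, 3, 3, 3, 0, 2, 1, 3, 3, 3, 2, 1, 3],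
    [0, 0, 0, 0, 0, 3, 3, 0, 3, 2, 0, 2, 2, 3, 1, 0, 1, 0, 0, 0, 0, 0, 0, 2, 0, 1, 1, 3, 0, 0, 0, 3, 3, 0, 0, 1, 1, 0, 0, 0, 0, 0, 0, 0, 0, 3, 0, 0, 0, 0, 3, 2, 0, 3, 0, 0, 0, 0, 3, 3, 0, 0, 3, 0, 0, 1, 1, 2, 0, 0, 3, 1, 3, 0, 0, 1, 1, 0, 2, 0, 0, 3, 3, 3, 0, 0, 0, 0, 3, 1, 0, 3, 1, 1, 0, 0, 0, 0, 0, 0, 1, 3, 0, 3, 1, 0, 0, 2, 0, 0, 0, 1, 0, 3, 0, 0, 3, 3, 1, 2, 0, 2, 3, 0, 0, 1, 0, 3, 2, 0, 1, 1, 0, 0, 3, 0, 1, 3, 0, 0, 0, 3, 0, 3, 0, 1, 0, 3, 0, 2, 0, 0, 2],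
    [0, 0, 0, 0, 0, 0, 0, 0, 0, 3, 0, 0, 0, 3, 0, 1, 0, 0, 0, 0, 0, 0, 0, 0, 2, 0, 0, 0, 0, 0, 0, 0, 0, 0, 0, 0, 0, 0, 0, 0, 0, 0, 0, 0, 0, 0, 0, 0, 0, 0, 0, 0, 0, 0, 0, 0, 0, 3, 0, 0, 0, 0, 0, 1, 0, 0, 0, 0, 0, 0, 0, 2, 0, 0, 0, 0, 0, 0, 0, 0, 0, 3, 0, 0, 1, 0, 0, 0, 0, 0, 0, 0, 2, 0, 3, 0, 0, 0, 0, 3, 0, 0, 0, 0, 0, 0, 0, 0, 0, 1, 0, 0, 0, 0, 0, 0, 0, 2, 0, 3, 0, 1, 0, 0, 0, 0, 0, 0, 0, 0, 0, 0, 0, 0, 1, 1, 0, 0, 0, 0, 0, 3, 0, 0, 0, 0, 0, 0, 0, 1, 1, 0, 1]]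

/-- A part of the certificate. -/
def dense1 : List (List ℕ) := [
    [0, 0, 0, 0, 0, 0, 0, 0, 0, 3, 3, 0, 3, 2, 2, 2, 0, 0, 0, 0, 0, 0, 0, 0, 2, 0, 0, 0, 0, 0, 0, 0, 0, 0, 0, 0, 3, 0, 0, 0, 0, 0, 3, 0, 0, 0, 0, 0, 0, 3, 0, 0, 0, 0, 3, 0, 0, 0, 0, 0, 0, 0, 0, 0, 0, 0, 3, 0, 0, 0, 0, 2, 0, 0, 0, 0, 0, 0, 0, 0, 0, 0, 0, 0, 0, 0, 0, 0, 0, 0, 0, 0, 0, 0, 0, 0, 3, 0, 0, 3, 0, 0, 3, 3, 3, 1, 0, 2, 0, 0, 0, 0, 3, 0, 0, 0, 1, 0, 1, 0, 0, 2, 0, 0, 0, 0, 0, 0, 0, 0, 3, 2, 2, 0, 2, 0, 1, 0, 3, 0, 0, 0, 0, 0, 0, 1, 3, 0, 0, 0, 2, 1, 1],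
    [0, 0, 0, 0, 0, 0, 3, 0, 0, 3, 2, 3, 2, 0, 2, 2, 3, 0, 0, 0, 0, 0, 0, 0, 0, 3, 3, 0, 3, 3, 3, 1, 0, 3, 0, 3, 1, 3, 0, 0, 0, 0, 1, 1, 1, 0, 3, 3, 3, 1, 0, 0, 3, 1, 3, 0, 0, 0, 3, 3, 0, 0, 0, 3, 3, 3, 1, 3, 0, 1, 1, 3, 0, 3, 3, 0, 1, 3, 0, 3, 3, 0, 2, 0, 3, 0, 0, 1, 3, 2, 0, 0, 1, 1, 3, 1, 0, 0, 3, 0, 3, 0, 1, 3, 3, 1, 1, 2, 0, 0, 0, 3, 0, 3, 3, 2, 2, 3, 3, 3, 3, 3, 0, 3, 0, 0, 1, 0, 1, 0, 2, 0, 1, 3, 0, 3, 2, 1, 3, 3, 3, 1, 3, 3, 3, 3, 0, 2, 0, 0, 2, 1],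
    [0, 0, 0, 0, 0, 0, 3, 0, 0, 0, 3, 3, 0, 0, 3, 2, 3, 0, 0, 0, 0, 0, 0, 0, 0, 2, 0, 0, 0, 0, 0, 0, 0, 0, 0, 0, 3, 0, 0, 0, 0, 0, 0, 0, 0, 0, 0, 0, 0, 0, 0, 0, 0, 0, 0, 0, 0, 0, 0, 0, 0, 0, 0, 0, 1, 0, 3, 0, 3, 0, 0, 0, 0, 0, 0, 0, 3, 0, 3, 0, 0, 0, 3, 0, 0, 1, 0, 0, 0, 2, 0, 0, 0, 2, 2, 0, 0, 0, 0, 0, 0, 3, 0, 0, 0, 2, 2, 0, 0, 0, 1, 0, 3, 0, 2, 0, 0, 0, 3, 3, 0, 3, 0, 0, 0, 0, 3, 0, 0, 0, 0, 0, 3, 1, 3, 3, 1, 0, 0, 0, 0, 0, 0, 3, 0, 0, 0, 3, 3, 3, 3, 1, 2],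
    [0, 0, 0, 0, 0, 0, 3, 0, 0, 0, 2, 3, 3, 3, 1, 2, 1, 0, 0, 0, 0, 0, 0, 0, 0, 2, 0, 0, 0, 0, 0, 3, 0, 0, 3, 0, 3, 0, 0, 0, 0, 0, 0, 0, 0, 0, 0, 0, 0, 0, 0, 0, 0, 0, 0, 0, 0, 0, 0, 0, 0, 0, 0, 0, 3, 0, 0, 0, 2, 0, 0, 0, 0, 0, 3, 0, 0, 0, 3, 0, 0, 0, 2, 0, 0, 0, 0, 0, 0, 1, 0, 0, 0, 2, 3, 0, 0, 0, 0, 0, 0, 2, 0, 0, 0, 2, 3, 3, 0, 0, 3, 0, 0, 0, 1, 0, 0, 0, 1, 0, 2, 1, 0, 0, 3, 0, 0, 0, 0, 0, 0, 0, 2, 3, 3, 3, 1, 0, 0, 0, 0, 3, 0, 0, 0, 0, 0, 2, 0, 3, 3, 2],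
    [0, 0, 0, 0, 0, 0, 0, 0, 0, 0, 2, 1, 2, 3, 2, 3, 3, 0, 0, 0, 0, 0, 0, 0, 0, 0, 0, 0, 0, 3, 0, 3, 1, 0, 3, 0, 1, 0, 0, 0, 0, 0, 1, 1, 2, 0, 0, 3, 0, 3, 0, 0, 3, 0, 0, 3, 0, 3, 0, 0, 3, 0, 1, 0, 3, 0, 3, 3, 2, 1, 3, 2, 1, 0, 3, 0, 0, 0, 1, 0, 0, 0, 2, 0, 0, 3, 0, 3, 0, 1, 1, 0, 2, 1, 0, 0, 0, 0, 0, 0, 1, 0, 2, 1, 0, 0, 0, 0, 1, 0, 0, 0, 1, 3, 1, 2, 0, 0, 1, 1, 3, 1, 1, 0, 3, 0, 1, 3, 2, 0, 1, 0, 3, 1, 2, 2, 3, 0, 0, 3, 0, 1, 0, 3, 3, 0, 3, 3, 2, 3, 3, 3, 3],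
    [0, 0, 0, 0, 0, 0, 0, 0, 0, 0, 1, 0, 1, 3, 2, 3, 1, 0, 0, 0, 0, 0, 0, 0, 0, 0, 0, 0, 0, 0, 0, 1, 0, 1, 0, 0, 3, 3, 0, 0, 0, 0, 1, 0, 1, 0, 0, 0, 0, 1, 0, 1, 0, 0, 0, 3, 0, 3, 3, 1, 3, 3, 0, 1, 0, 0, 0, 0, 0, 3, 3, 3, 0, 1, 0, 0, 1, 3, 1, 3, 0, 1, 0, 0, 0, 0, 0, 0, 1, 3, 0, 0, 3, 2, 2, 0, 0, 3, 0, 1, 0, 0, 0, 1, 3, 1, 1, 0, 0, 1, 0, 0, 0, 1, 3, 0, 1, 3, 1, 3, 1, 1, 0, 1, 0, 0, 3, 0, 1, 0, 1, 1, 2, 0, 1, 1, 1, 0, 0, 3, 0, 3, 3, 0, 3, 0, 3, 3, 3, 1, 1, 3],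
    [0, 0, 0, 0, 0, 0, 0, 0, 0, 0, 3, 0, 3, 1, 0, 3, 3, 0, 0, 0, 0, 0, 0, 0, 0, 0, 2, 0, 0, 0, 0, 0, 0, 0, 0, 0, 0, 0, 0, 0, 0, 0, 0, 0, 0, 0, 0, 0, 0, 0, 0, 0, 0, 0, 0, 0, 0, 0, 0, 0, 0, 0, 0, 0, 0, 1, 3, 0, 0, 0, 0, 0, 0, 0, 0, 0, 0, 0, 0, 0, 0, 0, 0, 0, 0, 0, 1, 3, 0, 0, 0, 0, 0, 3, 0, 0, 0, 0, 0, 0, 0, 0, 0, 0, 0, 0, 0, 1, 0, 0, 0, 1, 0, 0, 0, 0, 0, 0, 2, 0, 0, 1, 0, 0, 0, 0, 0, 0, 0, 0, 0, 0, 0, 0, 3, 0, 3, 0, 0, 0, 0, 3, 0, 0, 0, 0, 0, 3, 0, 3, 1, 0, 3],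
    [0, 0, 0, 0, 0, 0, 0, 0, 0, 0, 3, 0, 3, 3, 3, 0, 1, 0, 0, 0, 0, 0, 0, 0, 0, 0, 2, 0, 0, 0, 0, 0, 0, 0, 0, 0, 0, 0, 0, 0, 0, 0, 0, 0, 0, 0, 0, 0, 0, 0, 0, 0, 0, 0, 0, 0, 0, 0, 0, 0, 0, 0, 0, 0, 0, 3, 0, 0, 0, 0, 0, 0, 0, 0, 0, 0, 3, 0, 0, 0, 0, 0, 2, 0, 0, 0, 3, 0, 0, 0, 0, 0, 0, 3, 0, 0, 0, 0, 0, 3, 0, 0, 0, 0, 0, 2, 0, 3, 0, 0, 0, 0, 0, 0, 0, 0, 0, 0, 0, 0, 3, 3, 0, 0, 0, 0, 3, 0, 0, 0, 0, 0, 2, 0, 2, 2, 2, 0, 0, 0, 3, 0, 0, 0, 0, 0, 0, 3, 0, 0, 2, 3],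
    [0, 0, 0, 0, 0, 0, 0, 0, 0, 0, 3, 0, 3, 2, 2, 3, 1, 0, 0, 0, 0, 0, 0, 0, 0, 0, 0, 0, 0, 0, 3, 0, 0, 0, 0, 3, 0, 0, 0, 0, 0, 0, 1, 1, 1, 0, 0, 0, 3, 0, 0, 0, 3, 0, 0, 0, 3, 3, 3, 3, 3, 3, 1, 0, 0, 3, 3, 0, 3, 0, 1, 2, 0, 0, 0, 3, 1, 0, 0, 3, 0, 3, 2, 1, 0, 0, 3, 0, 3, 0, 0, 2, 3, 3, 2, 0, 0, 0, 0, 0, 1, 0, 1, 3, 0, 0, 1, 2, 0, 0, 0, 0, 3, 3, 2, 1, 0, 0, 2, 0, 0, 0, 0, 0, 0, 3, 3, 1, 2, 1, 0, 2, 0, 3, 0, 0, 1, 1, 0, 0, 3, 0, 0, 3, 2, 2, 2, 2, 0, 3, 0, 3, 2],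
    [0, 0, 0, 0, 0, 0, 0, 0, 0, 0, 0, 0, 0, 0, 0, 2, 3, 0, 0, 0, 0, 0, 0, 0, 0, 0, 0, 0, 0, 0, 0, 0, 0, 0, 0, 0, 1, 0, 0, 0, 0, 0, 1, 0, 0, 0, 0, 0, 0, 1, 0, 0, 0, 0, 0, 0, 3, 3, 0, 3, 3, 3, 0, 1, 0, 0, 1, 0, 0, 0, 0, 3, 0, 0, 0, 0, 1, 0, 3, 3, 3, 1, 0, 0, 1, 0, 0, 0, 0, 0, 0, 0, 2, 3, 2, 0, 0, 0, 3, 0, 0, 3, 0, 0, 1, 1, 0, 1, 0, 0, 0, 0, 0, 0, 1, 0, 3, 3, 2, 2, 3, 2, 0, 0, 0, 0, 1, 0, 0, 3, 0, 0, 3, 3, 1, 0, 0, 0, 1, 0, 3, 1, 0, 0, 0, 3, 3, 0, 3, 3, 2, 2, 3],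
    [0, 0, 0, 0, 0, 0, 0, 0, 0, 0, 0, 0, 0, 3, 1, 0, 2, 0, 0, 0, 0, 0, 0, 0, 0, 0, 0, 0, 0, 0, 0, 1, 0, 0, 0, 3, 0, 3, 0, 0, 0, 0, 0, 0, 0, 0, 0, 0, 0, 0, 0, 0, 0, 0, 0, 0, 0, 0, 0, 0, 0, 0, 0, 0, 1, 3, 0, 3, 0, 0, 0, 0, 0, 0, 0, 3, 1, 3, 1, 0, 0, 0, 1, 0, 0, 1, 0, 0, 0, 0, 0, 0, 0, 1, 2, 0, 0, 0, 0, 0, 0, 0, 0, 0, 0, 2, 2, 0, 0, 0, 0, 3, 0, 0, 1, 0, 0, 0, 1, 1, 1, 1, 0, 0, 0, 3, 1, 3, 1, 0, 0, 0, 1, 0, 0, 0, 1, 0, 0, 1, 0, 0, 0, 0, 0, 0, 0, 2, 0, 1, 0, 0, 3],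
    [0, 0, 0, 0, 0, 0, 3, 0, 0, 3, 0, 0, 3, 3, 3, 3, 1, 0, 0, 0, 0, 0, 0, 0, 0, 0, 0, 2, 0, 0, 0, 0, 0, 0, 0, 0, 0, 3, 0, 0, 0, 0, 0, 0, 0, 0, 0, 0, 0, 0, 0, 0, 0, 0, 0, 0, 0, 0, 3, 3, 0, 0, 0, 0, 0, 0, 0, 0, 0, 0, 0, 0, 0, 0, 0, 0, 0, 0, 0, 0, 0, 0, 0, 0, 0, 0, 0, 0, 3, 3, 0, 0, 3, 0, 0, 0, 0, 0, 0, 0, 0, 0, 0, 0, 3, 0, 0, 0, 0, 0, 0, 0, 0, 0, 0, 0, 0, 3, 0, 0, 0, 0, 0, 0, 0, 0, 0, 0, 0, 0, 0, 3, 0, 0, 0, 0, 3, 0, 0, 0, 0, 0, 3, 0, 0, 0, 1, 0, 0, 2, 3, 3, 3],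
    [0, 0, 0, 0, 0, 0, 3, 0, 0, 3, 1, 3, 3, 1, 1, 0, 0, 0, 0, 0, 0, 0, 0, 0, 0, 0, 0, 2, 0, 1, 1, 1, 3, 0, 0, 0, 0, 0, 0, 0, 0, 0, 0, 0, 0, 0, 0, 0, 0, 0, 0, 0, 0, 3, 0, 0, 0, 0, 0, 3, 0, 0, 0, 0, 0, 1, 1, 0, 0, 0, 0, 0, 0, 0, 0, 0, 0, 0, 0, 0, 0, 3, 0, 3, 0, 0, 1, 1, 0, 3, 0, 0, 0, 1, 3, 0, 0, 0, 1, 1, 1, 0, 0, 0, 0, 0, 0, 1, 0, 0, 0, 0, 1, 0, 0, 0, 0, 3, 2, 0, 3, 2, 0, 0, 0, 0, 1, 0, 2, 0, 0, 1, 1, 2, 2, 2, 0, 3, 0, 0, 0, 1, 3, 3, 0, 0, 2, 1, 3, 1, 1, 1, 3],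
    [0, 0, 0, 0, 0, 0, 3, 0, 0, 3, 0, 0, 3, 3, 3, 3, 1, 0, 0, 0, 0, 0, 0, 0, 0, 0, 0, 0, 2, 0, 0, 0, 0, 0, 0, 0, 0, 3, 0, 0, 0, 0, 0, 0, 0, 0, 0, 0, 0, 0, 0, 0, 0, 0, 0, 0, 0, 0, 3, 3, 0, 0, 0, 0, 0, 0, 0, 0, 0, 0, 0, 0, 0, 0, 0, 0, 0, 0, 0, 0, 0, 0, 0, 0, 0, 0, 0, 0, 3, 3, 0, 0, 3, 0, 0, 0, 0, 0, 0, 0, 0, 0, 0, 0, 3, 0, 0, 0, 0, 0, 0, 0, 0, 0, 0, 0, 0, 3, 0, 0, 0, 0, 0, 0, 0, 0, 0, 0, 0, 0, 0, 3, 0, 0, 0, 0, 3, 0, 0, 0, 0, 0, 3, 0, 0, 0, 1, 0, 0, 2, 3, 3, 3],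
    [0, 0, 0, 0, 0, 0, 3, 0, 0, 3, 3, 3, 2, 0, 2, 1, 1, 0, 0, 0, 0, 0, 0, 0, 0, 0, 0, 0, 2, 0, 0, 1, 0, 3, 0, 0, 0, 3, 0, 0, 0, 0, 0, 3, 2, 0, 0, 0, 0, 0, 3, 2, 0, 0, 3, 0, 0, 0, 0, 3, 0, 0, 0, 0, 0, 0, 0, 3, 1, 1, 0, 3, 0, 0, 0, 0, 0, 0, 3, 0, 2, 2, 0, 0, 3, 0, 0, 0, 0, 0, 1, 0, 2, 3, 0, 0, 0, 0, 0, 0, 3, 0, 3, 1, 3, 1, 0, 2, 0, 0, 0, 0, 0, 3, 3, 0, 0, 1, 3, 3, 1, 1, 0, 0, 0, 0, 0, 0, 2, 3, 3, 1, 1, 3, 0, 2, 0, 0, 3, 0, 0, 0, 0, 0, 3, 3, 3, 3, 3, 1, 2],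
    [0, 0, 0, 0, 0, 0, 0, 0, 0, 0, 3, 2, 0, 0, 0, 1, 2, 0, 0, 0, 0, 0, 0, 0, 0, 0, 0, 0, 0, 3, 3, 0, 1, 3, 0, 0, 0, 1, 0, 0, 0, 0, 0, 1, 2, 0, 0, 0, 0, 0, 1, 2, 0, 1, 3, 0, 0, 0, 0, 0, 0, 0, 0, 0, 0, 3, 0, 0, 3, 3, 0, 3, 0, 0, 0, 0, 0, 1, 1, 0, 2, 1, 0, 1, 3, 0, 3, 0, 0, 3, 3, 0, 0, 3, 1, 0, 0, 3, 0, 0, 0, 2, 1, 3, 1, 1, 3, 0, 0, 0, 3, 3, 0, 0, 0, 1, 1, 0, 3, 1, 0, 1, 0, 0, 3, 3, 0, 1, 0, 1, 1, 0, 0, 2, 0, 0, 2, 1, 3, 3, 3, 0, 0, 0, 2, 2, 3, 1, 3, 0, 2, 2, 3],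
    [0, 0, 0, 0, 0, 0, 0, 0, 0, 0, 3, 0, 3, 3, 0, 0, 3, 0, 0, 0, 0, 0, 0, 0, 0, 0, 0, 0, 0, 2, 0, 0, 0, 0, 0, 0, 0, 0, 0, 0, 0, 0, 0, 0, 0, 0, 0, 0, 0, 0, 0, 0, 0, 0, 0, 0, 0, 0, 0, 0, 0, 0, 0, 0, 0, 0, 0, 3, 0, 0, 0, 0, 0, 0, 0, 0, 0, 0, 0, 0, 0, 0, 0, 0, 0, 0, 0, 0, 3, 0, 0, 0, 0, 3, 0, 0, 0, 0, 0, 0, 3, 0, 0, 0, 0, 3, 0, 3, 0, 0, 0, 0, 0, 0, 0, 0, 0, 0, 0, 0, 0, 0, 0, 0, 0, 0, 0, 0, 0, 0, 0, 0, 0, 0, 0, 0, 0, 0, 0, 0, 0, 0, 0, 0, 0, 0, 0, 0, 0, 3],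
    [0, 0, 0, 0, 0, 0, 0, 0, 0, 0, 3, 0, 3, 2, 3, 0, 2, 0, 0, 0, 0, 0, 0, 0, 0, 0, 0, 0, 0, 2, 0, 0, 0, 0, 0, 0, 0, 3, 0, 0, 0, 0, 0, 0, 0, 0, 0, 0, 0, 0, 0, 0, 0, 0, 0, 0, 0, 0, 0, 0, 0, 0, 0, 0, 3, 0, 0, 0, 0, 0, 0, 0, 0, 0, 0, 0, 0, 0, 0, 0, 0, 0, 0, 0, 0, 3, 0, 0, 0, 0, 0, 0, 0, 3, 0, 0, 0, 3, 0, 0, 0, 0, 0, 0, 0, 3, 0, 3, 0, 0, 0, 0, 0, 0, 0, 0, 0, 0, 0, 0, 3, 3, 0, 0, 0, 0, 0, 0, 0, 0, 0, 0, 0, 0, 0, 0, 0, 0, 0, 0, 0, 0, 3, 0, 0, 0, 0, 0, 0, 3, 3, 3],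
    [0, 0, 0, 0, 0, 0, 0, 0, 0, 0, 3, 0, 3, 3, 3, 0, 3, 0, 0, 0, 0, 0, 0, 0, 0, 0, 0, 0, 0, 0, 0, 3, 0, 0, 3, 0, 3, 1, 0, 0, 0, 0, 0, 1, 1, 0, 0, 0, 0, 0, 0, 0, 0, 0, 0, 3, 0, 3, 0, 3, 3, 0, 1, 0, 0, 0, 3, 0, 3, 0, 0, 0, 0, 0, 0, 0, 3, 1, 1, 0, 0, 0, 0, 1, 0, 3, 0, 0, 0, 2, 3, 0, 0, 2, 2, 1, 0, 0, 0, 0, 0, 0, 1, 0, 3, 1, 1, 0, 0, 0, 0, 0, 0, 1, 0, 1, 0, 2, 0, 1, 1, 0, 0, 0, 0, 0, 0, 1, 0, 0, 0, 3, 1, 0, 1, 3, 0, 0, 0, 3, 0, 3, 1, 1, 1, 0, 3, 0, 0, 2, 1, 0, 1],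
    [0, 0, 0, 0, 0, 0, 0, 0, 0, 0, 3, 0, 3, 2, 3, 2, 2, 0, 0, 0, 0, 0, 0, 0, 0, 0, 0, 0, 0, 0, 0, 3, 0, 0, 3, 0, 3, 3, 0, 0, 0, 0, 0, 1, 1, 0, 0, 0, 0, 0, 1, 1, 0, 0, 0, 3, 0, 3, 3, 0, 3, 3, 0, 1, 0, 0, 3, 0, 3, 0, 1, 0, 0, 0, 0, 0, 3, 1, 1, 0, 1, 0, 0, 0, 1, 3, 0, 0, 0, 2, 3, 0, 3, 3, 3, 0, 1, 0, 0, 0, 1, 0, 0, 1, 3, 0, 0, 0, 0, 0, 0, 0, 0, 0, 3, 0, 0, 0, 1, 1, 1, 0, 0, 0, 0, 0, 0, 3, 1, 3, 3, 0, 1, 0, 1, 2, 0, 0, 0, 3, 0, 3, 0, 0, 3, 3, 3, 2, 3, 2, 3, 1],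
    [0, 0, 0, 0, 0, 0, 0, 0, 0, 0, 0, 0, 0, 0, 3, 3, 3, 0, 0, 0, 0, 0, 0, 0, 0, 0, 0, 0, 0, 0, 2, 0, 0, 0, 0, 0, 0, 0, 0, 0, 0, 0, 0, 0, 0, 0, 0, 0, 0, 0, 0, 0, 0, 0, 0, 0, 0, 0, 0, 0, 0, 0, 0, 0, 0, 0, 0, 0, 0, 0, 0, 0, 0, 0, 0, 0, 0, 0, 0, 0, 0, 0, 0, 0, 0, 0, 0, 0, 0, 0, 0, 0, 0, 0, 0, 0, 0, 0, 0, 0, 0, 0, 0, 0, 0, 0, 0, 0, 0, 0, 0, 0, 0, 3, 0, 0, 0, 0, 0, 0, 0, 0, 0, 0, 0, 0, 0, 3, 0, 0, 0, 0, 0, 0, 0, 0, 3, 0, 0, 0, 0, 0, 3, 0, 0, 0, 0, 0, 0, 0, 0, 3, 3],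
    [0, 0, 0, 0, 0, 0, 0, 0, 0, 0, 0, 0, 0, 0, 3, 3, 2, 0, 0, 0, 0, 0, 0, 0, 0, 0, 0, 0, 0, 0, 2, 0, 0, 0, 0, 0, 0, 0, 0, 0, 0, 0, 0, 0, 0, 0, 0, 0, 0, 0, 0, 0, 0, 0, 0, 0, 0, 0, 0, 0, 0, 0, 0, 0, 0, 0, 0, 0, 0, 0, 0, 0, 0, 0, 0, 0, 0, 3, 0, 0, 0, 0, 0, 0, 0, 0, 0, 0, 0, 0, 0, 0, 0, 0, 0, 0, 0, 0, 0, 0, 3, 0, 0, 0, 0, 0, 0, 0, 0, 0, 0, 3, 0, 0, 0, 0, 0, 0, 0, 0, 0, 0, 0, 0, 0, 3, 0, 3, 0, 0, 0, 0, 0, 0, 0, 0, 3, 0, 0, 0, 3, 0, 0, 0, 0, 0, 0, 0, 0, 0, 3, 3, 2],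
    [0, 0, 0, 0, 0, 0, 0, 0, 0, 0, 3, 0, 3, 2, 2, 0, 2, 0, 0, 0, 0, 0, 0, 0, 0, 0, 0, 0, 0, 0, 0, 3, 0, 0, 0, 3, 3, 0, 0, 0, 0, 0, 0, 1, 1, 0, 0, 0, 0, 0, 1, 1, 0, 0, 0, 0, 3, 3, 3, 3, 3, 3, 0, 0, 0, 0, 0, 3, 3, 3, 0, 3, 0, 0, 0, 0, 0, 0, 0, 3, 0, 0, 1, 0, 0, 0, 3, 3, 1, 3, 0, 1, 2, 3, 0, 0, 0, 0, 0, 3, 3, 0, 0, 1, 2, 0, 3, 1, 1, 0, 0, 0, 3, 3, 1, 0, 0, 1, 2, 3, 0, 2, 1, 0, 0, 0, 3, 0, 0, 1, 1, 3, 2, 2, 3, 2, 2, 1, 0, 0, 3, 0, 0, 2, 1, 1, 1, 0, 3, 1, 2, 2, 3],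
    [0, 0, 0, 0, 0, 0, 0, 0, 0, 0, 3, 0, 3, 3, 2, 0, 3, 0, 0, 0, 0, 0, 0, 0, 0, 0, 0, 0, 0, 0, 0, 3, 0, 0, 0, 3, 3, 1, 0, 0, 0, 0, 0, 1, 1, 0, 0, 0, 0, 0, 1, 1, 0, 0, 0, 0, 3, 3, 0, 3, 3, 3, 0, 0, 0, 0, 0, 1, 2, 3, 0, 2, 0, 0, 0, 0, 0, 1, 0, 3, 0, 0, 3, 0, 0, 0, 3, 3, 0, 0, 0, 1, 3, 0, 0, 0, 0, 0, 0, 3, 0, 0, 0, 1, 3, 0, 3, 1, 0, 1, 0, 0, 3, 1, 2, 0, 0, 2, 1, 3, 2, 2, 0, 1, 0, 0, 3, 1, 3, 1, 1, 2, 3, 2, 1, 2, 2, 0, 1, 0, 3, 0, 1, 2, 1, 1, 3, 3, 0, 0, 0, 2]]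

/-- A part of the certificate. -/
def dense2 : List (List ℕ) := [
    [0, 0, 0, 0, 0, 0, 0, 0, 0, 0, 0, 0, 0, 3, 3, 0, 3, 0, 0, 0, 0, 0, 0, 0, 0, 0, 0, 0, 0, 0, 0, 0, 0, 0, 0, 0, 0, 0, 0, 0, 0, 0, 0, 0, 0, 0, 0, 0, 0, 0, 0, 0, 0, 0, 0, 0, 0, 0, 0, 0, 0, 0, 0, 0, 0, 3, 0, 3, 0, 0, 0, 0, 0, 0, 0, 0, 0, 1, 0, 0, 0, 0, 1, 0, 0, 0, 3, 0, 3, 0, 0, 0, 0, 0, 3, 0, 0, 0, 3, 0, 3, 0, 0, 0, 0, 0, 3, 3, 0, 0, 1, 0, 0, 3, 0, 0, 0, 0, 3, 3, 0, 2, 0, 0, 1, 0, 0, 0, 0, 0, 0, 0, 0, 3, 0, 2, 3, 0, 0, 1, 0, 0, 3, 0, 0, 0, 0, 0, 3, 0, 3, 0, 1],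
    [0, 0, 0, 0, 0, 0, 0, 0, 0, 0, 3, 0, 3, 0, 3, 0, 3, 0, 0, 0, 0, 0, 0, 0, 0, 0, 0, 0, 0, 0, 0, 2, 0, 0, 0, 0, 0, 0, 0, 0, 0, 0, 0, 0, 0, 0, 0, 0, 0, 0, 0, 0, 0, 0, 0, 0, 0, 0, 0, 0, 0, 0, 0, 0, 0, 0, 0, 3, 0, 0, 0, 0, 0, 0, 0, 0, 0, 0, 0, 0, 0, 0, 0, 0, 0, 0, 0, 0, 3, 0, 0, 0, 0, 3, 0, 0, 0, 0, 0, 0, 0, 0, 0, 0, 0, 0, 0, 0, 0, 0, 0, 0, 0, 3, 0, 0, 0, 0, 3, 0, 3, 0, 0, 0, 0, 0, 0, 0, 0, 0, 0, 0, 0, 0, 0, 0, 0, 0, 0, 0, 0, 0, 0, 0, 0, 0, 0, 0, 0, 3],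
    [0, 0, 0, 0, 0, 0, 0, 0, 0, 0, 0, 0, 0, 0, 1, 1, 1, 0, 0, 0, 0, 0, 0, 0, 0, 0, 0, 0, 0, 0, 0, 0, 0, 0, 0, 0, 3, 0, 0, 0, 0, 0, 0, 0, 0, 0, 0, 0, 0, 0, 1, 1, 0, 0, 0, 0, 0, 3, 0, 0, 0, 3, 1, 0, 0, 0, 0, 0, 3, 0, 3, 3, 0, 0, 0, 0, 0, 0, 0, 0, 3, 0, 0, 1, 0, 0, 0, 3, 1, 0, 0, 0, 0, 0, 3, 0, 0, 0, 0, 0, 0, 0, 0, 1, 1, 2, 1, 3, 1, 0, 0, 0, 0, 0, 3, 0, 1, 3, 2, 1, 1, 3, 0, 0, 0, 0, 0, 0, 3, 0, 0, 0, 2, 2, 3, 3, 2, 0, 0, 0, 0, 3, 0, 3, 0, 1, 2, 0, 3, 1, 3, 1, 1],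
    [0, 0, 0, 0, 0, 0, 0, 0, 0, 0, 0, 0, 0, 0, 0, 1, 1, 0, 0, 0, 0, 0, 0, 0, 0, 0, 0, 0, 0, 0, 0, 0, 0, 0, 0, 0, 3, 0, 0, 0, 0, 0, 0, 0, 0, 0, 0, 0, 0, 0, 0, 0, 0, 0, 0, 0, 0, 3, 1, 1, 0, 0, 0, 1, 0, 0, 0, 0, 3, 0, 0, 2, 0, 0, 0, 0, 0, 0, 0, 0, 0, 3, 0, 0, 1, 0, 0, 3, 0, 3, 0, 0, 3, 1, 0, 0, 0, 0, 0, 0, 1, 0, 0, 0, 3, 0, 3, 0, 0, 1, 0, 0, 0, 0, 3, 0, 0, 0, 1, 0, 1, 3, 0, 0, 0, 0, 0, 0, 0, 0, 0, 0, 1, 1, 1, 3, 1, 0, 0, 0, 0, 3, 1, 0, 0, 0, 2, 1, 0, 2, 2, 3],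
    [0, 0, 0, 0, 0, 0, 0, 0, 0, 0, 0, 0, 0, 1, 0, 3, 1, 0, 0, 0, 0, 0, 0, 0, 0, 0, 0, 0, 0, 0, 0, 0, 0, 0, 0, 0, 0, 1, 0, 0, 0, 0, 0, 0, 0, 0, 0, 0, 0, 0, 0, 0, 0, 0, 0, 0, 0, 0, 0, 0, 0, 0, 0, 0, 1, 0, 3, 1, 0, 0, 0, 0, 0, 0, 0, 0, 0, 1, 0, 0, 0, 0, 2, 0, 0, 1, 0, 3, 0, 0, 0, 0, 0, 0, 0, 0, 0, 0, 0, 3, 0, 3, 0, 0, 0, 1, 0, 1, 0, 0, 1, 0, 0, 1, 3, 0, 0, 0, 0, 3, 1, 0, 0, 0, 0, 0, 0, 1, 0, 0, 0, 0, 2, 0, 1, 2, 2, 0, 0, 0, 0, 0, 0, 3, 0, 0, 0, 2, 3, 0, 1, 1, 3],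
    [0, 0, 0, 0, 0, 0, 0, 0, 0, 0, 0, 0, 0, 1, 1, 0, 2, 0, 0, 0, 0, 0, 0, 0, 0, 0, 0, 0, 0, 0, 0, 0, 0, 0, 0, 0, 0, 0, 0, 0, 0, 0, 0, 0, 0, 0, 0, 0, 0, 0, 0, 0, 0, 0, 0, 0, 0, 0, 0, 0, 0, 0, 0, 0, 0, 1, 0, 1, 0, 0, 0, 0, 0, 0, 0, 0, 0, 0, 0, 0, 0, 0, 0, 0, 0, 0, 1, 0, 1, 0, 0, 0, 0, 0, 0, 0, 0, 0, 0, 0, 0, 0, 0, 0, 0, 0, 0, 1, 0, 0, 0, 1, 3, 0, 0, 0, 0, 0, 1, 0, 0, 1, 0, 0, 0, 0, 3, 0, 0, 0, 0, 0, 0, 0, 0, 2, 3, 0, 0, 0, 0, 3, 1, 0, 0, 0, 0, 3, 0, 1, 1, 2, 1],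
    [0, 0, 0, 0, 0, 0, 0, 0, 0, 0, 0, 0, 0, 0, 0, 0, 0, 0, 0, 0, 0, 0, 0, 0, 0, 0, 0, 0, 0, 0, 0, 0, 0, 0, 0, 0, 0, 0, 0, 0, 0, 0, 0, 0, 0, 0, 0, 0, 0, 0, 0, 0, 0, 0, 0, 0, 0, 0, 0, 0, 0, 0, 0, 0, 0, 0, 0, 0, 0, 0, 0, 0, 0, 0, 0, 0, 0, 0, 0, 0, 0, 0, 0, 0, 0, 0, 0, 0, 0, 0, 0, 0, 0, 0, 0, 0, 0, 0, 0, 0, 0, 0, 0, 0, 0, 0, 0, 0, 0, 0, 0, 0, 0, 0, 1, 0, 0, 0, 0, 0, 0, 0, 0, 0, 0, 0, 0, 0, 1, 0, 0, 0, 0, 0, 0, 0, 0, 0, 0, 0, 0, 0, 0, 1],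
    [0, 0, 0, 0, 0, 0, 0, 0, 0, 0, 0, 3, 3, 0, 0, 0, 0, 0, 0, 0, 0, 0, 0, 0, 0, 0, 0, 0, 0, 0, 0, 0, 2, 0, 0, 0, 0, 0, 0, 0, 0, 0, 0, 0, 0, 0, 0, 0, 0, 0, 0, 0, 0, 0, 0, 0, 0, 0, 0, 0, 0, 0, 0, 0, 0, 0, 0, 0, 0, 0, 0, 0, 0, 0, 0, 0, 0, 0, 3, 0, 0, 0, 0, 0, 0, 0, 0, 0, 0, 3, 0, 0, 0, 0, 3, 0, 0, 0, 0, 0, 0, 0, 0, 0, 0, 0, 0, 0, 1, 0, 0, 0, 0, 0, 0, 0, 0, 0, 0, 2, 2, 0, 1, 0, 0, 0, 0, 0, 0, 0, 0, 0, 0, 2, 2, 0, 0, 1, 0, 0, 0, 0, 0, 3, 0, 0, 0, 0, 3, 3, 0, 0, 1],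
    [0, 0, 0, 0, 0, 0, 0, 0, 0, 0, 1, 3, 0, 2, 0, 3, 1, 0, 0, 0, 0, 0, 0, 0, 0, 0, 0, 0, 0, 0, 0, 0, 2, 0, 1, 1, 1, 1, 0, 0, 0, 0, 0, 0, 0, 0, 0, 0, 0, 0, 0, 0, 0, 0, 0, 0, 0, 0, 0, 0, 0, 0, 0, 0, 0, 1, 0, 0, 0, 0, 0, 0, 3, 0, 0, 0, 0, 0, 0, 0, 0, 0, 0, 3, 0, 0, 1, 0, 0, 0, 0, 0, 0, 1, 3, 0, 0, 0, 1, 0, 1, 0, 0, 0, 0, 1, 0, 3, 0, 0, 0, 0, 0, 0, 0, 0, 0, 0, 0, 0, 0, 0, 0, 0, 0, 0, 0, 0, 3, 0, 0, 0, 0, 2, 3, 3, 3, 3, 0, 0, 1, 0, 0, 3, 0, 0, 0, 1, 3, 3, 3, 1, 1],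
    [0, 0, 0, 0, 0, 0, 0, 0, 0, 0, 3, 0, 3, 3, 0, 0, 0, 0, 0, 0, 0, 0, 0, 0, 0, 0, 0, 0, 0, 0, 0, 0, 0, 2, 0, 0, 0, 0, 0, 0, 0, 0, 0, 0, 0, 0, 0, 0, 0, 0, 0, 0, 0, 0, 0, 0, 0, 0, 0, 0, 0, 0, 0, 0, 0, 0, 0, 0, 3, 0, 0, 0, 0, 0, 0, 0, 0, 0, 0, 0, 0, 0, 0, 0, 0, 0, 0, 0, 0, 3, 0, 0, 0, 3, 0, 0, 0, 0, 0, 0, 0, 3, 0, 0, 0, 3, 0, 3, 0, 1, 0, 0, 0, 0, 0, 0, 0, 0, 2, 0, 2, 2, 0, 1, 0, 0, 0, 0, 0, 0, 0, 0, 2, 0, 2, 2, 0, 0, 1, 0, 0, 0, 0, 0, 0, 0, 0, 3, 0, 0, 0, 0, 1],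
    [0, 0, 0, 0, 0, 0, 0, 0, 0, 0, 3, 3, 3, 2, 3, 2, 2, 0, 0, 0, 0, 0, 0, 0, 0, 0, 0, 0, 0, 0, 0, 0, 0, 2, 0, 0, 1, 0, 0, 0, 0, 0, 0, 0, 3, 0, 0, 0, 0, 0, 0, 3, 0, 0, 0, 0, 0, 0, 0, 0, 0, 0, 0, 3, 0, 0, 0, 0, 3, 0, 0, 0, 0, 0, 0, 0, 0, 0, 0, 0, 3, 0, 1, 0, 3, 0, 0, 0, 0, 0, 0, 0, 0, 3, 3, 0, 3, 0, 0, 0, 0, 0, 1, 0, 0, 0, 0, 3, 0, 0, 0, 0, 0, 0, 3, 0, 0, 0, 3, 2, 2, 1, 0, 0, 0, 0, 0, 0, 0, 0, 0, 0, 1, 3, 3, 3, 0, 0, 0, 0, 0, 0, 0, 0, 0, 0, 0, 0, 3, 3, 3, 0, 2],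
    [0, 0, 0, 0, 0, 0, 0, 0, 0, 0, 3, 1, 3, 3, 0, 0, 0, 0, 0, 0, 0, 0, 0, 0, 0, 0, 0, 0, 0, 0, 0, 0, 0, 0, 3, 3, 0, 3, 0, 0, 0, 0, 0, 0, 1, 0, 0, 0, 0, 0, 0, 1, 0, 0, 0, 0, 0, 0, 0, 0, 0, 0, 1, 0, 3, 0, 0, 3, 0, 3, 3, 0, 0, 3, 3, 3, 0, 3, 0, 3, 0, 0, 1, 1, 3, 0, 3, 0, 0, 1, 0, 0, 0, 3, 2, 1, 0, 0, 3, 0, 3, 0, 0, 1, 0, 2, 0, 2, 0, 0, 3, 3, 0, 0, 0, 0, 0, 0, 2, 2, 3, 1, 0, 0, 0, 3, 0, 3, 0, 1, 1, 0, 0, 2, 1, 2, 2, 0, 3, 0, 0, 0, 0, 0, 0, 0, 0, 1, 0, 1, 1, 0, 3],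
    [0, 0, 0, 0, 0, 0, 0, 0, 0, 0, 3, 0, 3, 3, 0, 0, 3, 0, 0, 0, 0, 0, 0, 0, 0, 0, 0, 0, 0, 0, 0, 0, 0, 0, 2, 0, 0, 0, 0, 0, 0, 0, 0, 0, 0, 0, 0, 0, 0, 0, 0, 0, 0, 0, 0, 0, 0, 0, 0, 0, 0, 0, 0, 0, 0, 0, 0, 0, 3, 0, 0, 0, 0, 0, 0, 0, 0, 0, 0, 0, 0, 0, 0, 0, 0, 0, 0, 0, 0, 3, 0, 0, 0, 3, 0, 0, 0, 0, 0, 0, 0, 3, 0, 0, 0, 3, 0, 3, 0, 0, 1, 0, 0, 0, 0, 0, 0, 0, 2, 0, 2, 2, 0, 0, 1, 0, 0, 0, 0, 0, 0, 0, 2, 0, 2, 2, 0, 0, 0, 1, 0, 0, 0, 3, 0, 0, 0, 2, 0, 3, 3],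
    [0, 0, 0, 0, 0, 0, 0, 0, 0, 0, 3, 0, 3, 3, 3, 0, 2, 0, 0, 0, 0, 0, 0, 0, 0, 0, 0, 0, 0, 0, 0, 0, 0, 0, 2, 0, 0, 1, 0, 0, 0, 0, 0, 0, 0, 0, 0, 0, 0, 0, 0, 0, 0, 0, 0, 0, 0, 0, 0, 0, 0, 0, 0, 0, 3, 0, 0, 0, 0, 0, 0, 0, 0, 0, 0, 0, 0, 0, 0, 0, 0, 0, 0, 0, 0, 3, 0, 0, 0, 0, 0, 0, 0, 3, 0, 0, 0, 3, 0, 0, 0, 1, 0, 0, 0, 3, 0, 3, 0, 0, 0, 0, 0, 0, 0, 0, 0, 0, 2, 0, 3, 3, 0, 0, 0, 0, 0, 0, 0, 0, 0, 0, 2, 0, 2, 2, 2, 0, 0, 3, 0, 0, 0, 0, 0, 0, 0, 3, 0, 0, 0, 3],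
    [0, 0, 0, 0, 0, 0, 0, 0, 0, 0, 0, 1, 0, 0, 0, 0, 3, 0, 0, 0, 0, 0, 0, 0, 0, 0, 0, 0, 0, 0, 0, 0, 0, 0, 0, 0, 3, 0, 0, 0, 0, 0, 0, 0, 1, 0, 0, 0, 0, 0, 0, 0, 0, 0, 0, 0, 0, 0, 0, 0, 0, 0, 1, 0, 0, 0, 3, 0, 3, 3, 0, 0, 0, 0, 3, 0, 3, 0, 0, 3, 0, 0, 1, 1, 0, 3, 0, 0, 0, 0, 0, 0, 0, 1, 0, 1, 0, 0, 0, 0, 0, 3, 3, 0, 0, 0, 0, 1, 0, 0, 0, 0, 0, 0, 0, 1, 0, 0, 3, 0, 0, 0, 0, 0, 0, 0, 3, 0, 1, 0, 0, 0, 3, 3, 3, 0, 3, 1, 0, 3, 0, 3, 0, 0, 0, 0, 0, 0, 0, 3, 1],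
    [0, 0, 0, 0, 0, 0, 0, 0, 0, 0, 0, 1, 0, 0, 0, 2, 3, 0, 0, 0, 0, 0, 0, 0, 0, 0, 0, 0, 0, 0, 0, 0, 0, 0, 0, 0, 3, 3, 0, 0, 0, 0, 0, 0, 1, 0, 0, 0, 0, 0, 0, 1, 0, 0, 0, 0, 0, 0, 0, 0, 0, 0, 0, 1, 3, 0, 0, 0, 0, 0, 0, 0, 0, 0, 0, 0, 0, 0, 1, 0, 1, 0, 0, 0, 1, 3, 0, 0, 0, 1, 0, 0, 0, 0, 0, 0, 1, 3, 0, 3, 0, 1, 3, 0, 0, 0, 3, 3, 0, 0, 0, 0, 0, 0, 0, 0, 0, 0, 2, 2, 2, 3, 0, 0, 0, 0, 0, 0, 0, 0, 0, 0, 2, 2, 2, 3, 1, 0, 1, 0, 0, 0, 3, 0, 0, 0, 0, 3, 0, 1, 0, 3, 1],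
    [0, 0, 0, 0, 0, 0, 0, 0, 0, 0, 3, 0, 3, 3, 0, 0, 3, 0, 0, 0, 0, 0, 0, 0, 0, 0, 0, 0, 0, 0, 0, 0, 0, 0, 0, 2, 0, 0, 0, 0, 0, 0, 0, 0, 0, 0, 0, 0, 0, 0, 0, 0, 0, 0, 0, 0, 0, 0, 0, 0, 0, 0, 0, 0, 0, 0, 0, 0, 3, 0, 0, 0, 0, 0, 0, 0, 0, 0, 0, 0, 0, 0, 0, 0, 0, 0, 0, 0, 0, 3, 0, 0, 0, 3, 0, 0, 0, 0, 0, 0, 0, 3, 0, 0, 0, 3, 0, 3, 0, 0, 0, 1, 0, 0, 0, 0, 0, 0, 2, 0, 2, 2, 0, 0, 0, 1, 0, 0, 0, 0, 0, 0, 2, 0, 2, 2, 0, 0, 0, 0, 1, 0, 0, 3, 0, 0, 0, 2, 0, 3, 3],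
    [0, 0, 0, 0, 0, 0, 0, 0, 0, 0, 3, 0, 3, 2, 3, 0, 2, 0, 0, 0, 0, 0, 0, 0, 0, 0, 0, 0, 0, 0, 0, 0, 0, 0, 0, 2, 0, 0, 0, 0, 0, 0, 0, 0, 0, 0, 0, 0, 0, 0, 0, 0, 0, 0, 0, 0, 0, 0, 0, 0, 0, 0, 0, 0, 0, 3, 0, 0, 0, 0, 0, 0, 0, 0, 0, 0, 0, 0, 3, 0, 0, 0, 2, 0, 0, 0, 3, 0, 0, 0, 0, 0, 0, 3, 0, 0, 0, 0, 3, 0, 0, 3, 0, 0, 0, 3, 0, 2, 0, 0, 0, 0, 0, 0, 0, 0, 0, 0, 0, 0, 3, 3, 0, 0, 0, 0, 0, 0, 3, 0, 0, 0, 2, 0, 2, 0, 2, 0, 0, 0, 3, 0, 0, 0, 0, 0, 0, 3, 0, 0, 2, 3],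
    [0, 0, 0, 0, 0, 0, 0, 0, 0, 0, 0, 1, 0, 0, 1, 1, 1, 0, 0, 0, 0, 0, 0, 0, 0, 0, 0, 0, 0, 0, 0, 0, 0, 0, 0, 0, 3, 3, 0, 0, 0, 0, 0, 0, 1, 0, 0, 0, 0, 0, 0, 1, 0, 0, 0, 0, 0, 0, 0, 0, 0, 0, 1, 0, 0, 0, 3, 3, 3, 3, 3, 0, 0, 0, 0, 3, 3, 3, 0, 3, 0, 0, 1, 1, 0, 0, 3, 0, 0, 1, 0, 0, 0, 0, 0, 1, 0, 0, 0, 0, 3, 0, 0, 1, 0, 2, 1, 3, 0, 0, 0, 0, 3, 0, 0, 0, 0, 0, 3, 2, 0, 3, 0, 0, 0, 0, 0, 3, 3, 1, 1, 0, 3, 3, 0, 3, 1, 1, 0, 0, 3, 0, 0, 0, 0, 0, 0, 3, 0, 0, 2, 3, 1],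
    [0, 0, 0, 0, 0, 0, 0, 0, 0, 0, 0, 1, 0, 0, 0, 2, 1, 0, 0, 0, 0, 0, 0, 0, 0, 0, 0, 0, 0, 0, 0, 0, 0, 0, 0, 0, 3, 0, 0, 0, 0, 0, 0, 0, 1, 0, 0, 0, 0, 0, 0, 1, 0, 0, 0, 0, 0, 0, 0, 0, 0, 0, 0, 1, 0, 3, 0, 0, 1, 0, 0, 0, 0, 0, 0, 0, 0, 0, 1, 0, 1, 0, 1, 0, 1, 0, 3, 0, 0, 0, 0, 0, 0, 0, 1, 0, 1, 0, 3, 0, 0, 3, 3, 0, 0, 3, 0, 1, 0, 0, 0, 0, 0, 0, 1, 0, 0, 0, 1, 1, 1, 3, 0, 0, 0, 0, 0, 0, 1, 0, 0, 0, 1, 1, 1, 3, 1, 0, 1, 0, 0, 3, 0, 0, 1, 1, 0, 2, 2, 1, 1, 1, 3],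
    [0, 0, 0, 0, 0, 0, 0, 0, 0, 0, 0, 0, 0, 3, 0, 0, 0, 0, 0, 0, 0, 0, 0, 0, 0, 0, 0, 0, 0, 0, 0, 0, 0, 0, 0, 0, 0, 3, 0, 0, 0, 0, 0, 0, 0, 0, 0, 0, 0, 0, 0, 0, 0, 0, 0, 0, 0, 0, 0, 0, 0, 0, 0, 0, 1, 3, 0, 0, 0, 0, 0, 0, 0, 0, 0, 0, 0, 0, 1, 0, 0, 0, 2, 0, 0, 1, 3, 0, 0, 0, 0, 0, 0, 0, 0, 0, 0, 1, 3, 0, 0, 0, 0, 0, 0, 0, 3, 1, 0, 0, 0, 0, 0, 0, 0, 0, 0, 0, 0, 0, 0, 0, 0, 0, 0, 0, 0, 0, 1, 0, 0, 0, 2, 0, 2, 3, 2, 0, 0, 1, 3, 0, 0, 0, 0, 0, 0, 0, 3, 0, 3, 0, 3],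
    [0, 0, 0, 0, 0, 0, 0, 0, 0, 0, 0, 0, 0, 3, 0, 0, 0, 0, 0, 0, 0, 0, 0, 0, 0, 0, 0, 0, 0, 0, 0, 0, 0, 0, 0, 0, 2, 0, 0, 0, 0, 0, 0, 0, 0, 0, 0, 0, 0, 0, 0, 0, 0, 0, 0, 0, 0, 0, 0, 0, 0, 0, 0, 0, 0, 0, 0, 0, 0, 0, 0, 0, 0, 0, 0, 0, 0, 0, 0, 0, 0, 0, 0, 0, 0, 0, 0, 0, 0, 0, 0, 0, 0, 0, 0, 0, 0, 0, 0, 0, 0, 3, 0, 0, 0, 0, 0, 0, 0, 0, 0, 0, 1, 0, 0, 0, 0, 0, 0, 0, 0, 2, 0, 0, 0, 0, 1, 0, 0, 0, 0, 0, 0, 0, 0, 2, 0, 0, 0, 0, 0, 1, 0, 0, 0, 0, 0, 0, 0, 0, 2],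
    [0, 0, 0, 0, 0, 0, 0, 0, 0, 0, 0, 0, 0, 3, 0, 0, 3, 0, 0, 0, 0, 0, 0, 0, 0, 0, 0, 0, 0, 0, 0, 0, 0, 0, 0, 0, 2, 0, 0, 0, 0, 0, 0, 0, 0, 0, 0, 0, 0, 0, 0, 0, 0, 0, 0, 0, 0, 0, 0, 0, 0, 0, 0, 0, 0, 0, 0, 0, 3, 0, 0, 0, 0, 0, 0, 0, 0, 0, 0, 0, 0, 0, 0, 0, 0, 0, 0, 0, 0, 3, 0, 0, 0, 0, 0, 0, 0, 0, 0, 3, 0, 0, 0, 0, 0, 0, 0, 0, 0, 0, 0, 0, 0, 0, 3, 0, 0, 0, 0, 0, 0, 2, 0, 0, 0, 0, 0, 0, 0, 0, 0, 0, 0, 0, 0, 0, 0, 0, 0, 0, 0, 0, 0, 0, 0, 0, 0, 0, 0, 3, 2, 3],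
    [0, 0, 0, 0, 0, 0, 0, 0, 0, 0, 0, 0, 0, 0, 1, 1, 2, 0, 0, 0, 0, 0, 0, 0, 0, 0, 0, 0, 0, 0, 0, 0, 0, 0, 0, 0, 0, 3, 0, 0, 0, 0, 0, 0, 0, 0, 0, 0, 0, 0, 0, 1, 0, 0, 0, 0, 0, 0, 0, 1, 0, 0, 0, 0, 0, 0, 0, 0, 1, 0, 0, 0, 0, 0, 0, 0, 3, 3, 0, 0, 3, 3, 3, 0, 0, 0, 0, 3, 3, 0, 0, 3, 3, 3, 0, 1, 0, 0, 0, 0, 3, 0, 0, 0, 1, 1, 0, 0, 0, 0, 0, 0, 0, 3, 3, 0, 1, 0, 1, 1, 1, 2, 0, 0, 0, 0, 0, 3, 0, 0, 1, 0, 1, 0, 0, 1, 0, 0, 0, 0, 0, 3, 3, 1, 0, 0, 0, 0, 2, 2, 0, 3, 2]]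

/-- A part of the certificate. -/
def dense3 : List (List ℕ) := [
    [0, 0, 0, 0, 0, 0, 0, 0, 0, 0, 0, 0, 0, 0, 0, 0, 3, 0, 0, 0, 0, 0, 0, 0, 0, 0, 0, 0, 0, 0, 0, 0, 0, 0, 0, 0, 0, 0, 0, 0, 0, 0, 0, 0, 0, 0, 0, 0, 0, 0, 0, 0, 0, 0, 0, 0, 0, 0, 0, 1, 0, 0, 0, 0, 0, 0, 3, 0, 0, 0, 0, 3, 0, 0, 0, 0, 0, 0, 0, 0, 0, 0, 0, 0, 0, 0, 0, 3, 0, 0, 0, 0, 3, 0, 0, 0, 1, 0, 0, 3, 0, 1, 0, 0, 0, 0, 0, 0, 0, 0, 0, 0, 0, 0, 0, 0, 0, 0, 1, 0, 0, 3, 0, 0, 0, 0, 0, 0, 0, 0, 0, 0, 1, 0, 0, 3, 0, 0, 0, 0, 0, 0, 0, 1, 0, 0, 3, 1, 0, 0, 1],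
    [0, 0, 0, 0, 0, 0, 0, 0, 0, 0, 0, 0, 0, 0, 3, 3, 3, 0, 0, 0, 0, 0, 0, 0, 0, 0, 0, 0, 0, 0, 0, 0, 0, 0, 0, 0, 0, 0, 0, 0, 0, 0, 0, 0, 0, 0, 0, 0, 0, 0, 0, 0, 0, 0, 0, 0, 0, 0, 0, 0, 0, 0, 0, 0, 0, 0, 3, 0, 0, 0, 0, 0, 0, 0, 0, 0, 0, 0, 1, 0, 0, 0, 1, 0, 0, 0, 0, 3, 0, 3, 0, 0, 0, 3, 3, 0, 0, 1, 0, 3, 0, 0, 0, 0, 0, 3, 0, 3, 0, 0, 0, 0, 0, 0, 1, 0, 0, 0, 3, 0, 2, 0, 0, 0, 0, 0, 0, 0, 1, 0, 0, 0, 3, 0, 2, 0, 3, 0, 0, 0, 0, 3, 0, 0, 0, 0, 0, 0, 0, 3, 1, 3, 3],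
    [0, 0, 0, 0, 0, 0, 0, 0, 0, 0, 0, 0, 0, 0, 3, 3, 3, 0, 0, 0, 0, 0, 0, 0, 0, 0, 0, 0, 0, 0, 0, 0, 0, 0, 0, 0, 0, 0, 0, 0, 0, 0, 0, 0, 0, 0, 0, 0, 0, 0, 0, 0, 0, 0, 0, 0, 0, 0, 0, 0, 0, 0, 0, 0, 0, 0, 3, 0, 1, 0, 0, 0, 0, 0, 0, 0, 0, 0, 0, 0, 0, 0, 0, 0, 0, 0, 0, 3, 0, 1, 0, 0, 0, 0, 0, 0, 0, 0, 1, 3, 0, 0, 0, 0, 0, 3, 0, 3, 0, 0, 0, 0, 0, 0, 0, 0, 0, 0, 0, 0, 3, 0, 0, 0, 0, 0, 0, 0, 0, 0, 0, 0, 0, 0, 3, 0, 3, 0, 0, 0, 0, 3, 0, 1, 0, 0, 0, 0, 0, 0, 1, 3, 3],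
    [0, 0, 0, 0, 0, 0, 0, 0, 0, 0, 0, 0, 0, 3, 0, 0, 3, 0, 0, 0, 0, 0, 0, 0, 0, 0, 0, 0, 0, 0, 0, 0, 0, 0, 0, 0, 0, 2, 0, 0, 0, 0, 0, 0, 0, 0, 0, 0, 0, 0, 0, 0, 0, 0, 0, 0, 0, 0, 0, 0, 0, 0, 0, 0, 0, 0, 0, 0, 0, 0, 0, 0, 0, 0, 0, 0, 0, 0, 0, 0, 0, 0, 0, 0, 0, 0, 0, 0, 0, 0, 0, 0, 0, 0, 0, 0, 0, 0, 0, 0, 0, 3, 0, 0, 0, 0, 0, 0, 0, 0, 0, 0, 0, 1, 0, 0, 0, 0, 0, 0, 0, 2, 0, 0, 0, 0, 0, 1, 0, 0, 0, 0, 0, 0, 0, 2, 0, 0, 0, 0, 0, 0, 1, 3, 0, 0, 0, 0, 0, 0, 3],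
    [0, 0, 0, 0, 0, 0, 0, 0, 0, 0, 0, 0, 0, 3, 0, 0, 3, 0, 0, 0, 0, 0, 0, 0, 0, 0, 0, 0, 0, 0, 0, 0, 0, 0, 0, 0, 0, 2, 0, 0, 0, 0, 0, 0, 0, 0, 0, 0, 0, 0, 0, 0, 0, 0, 0, 0, 0, 0, 0, 0, 0, 0, 0, 0, 0, 0, 0, 0, 0, 0, 0, 0, 0, 0, 0, 0, 0, 0, 0, 0, 0, 0, 0, 0, 0, 0, 0, 0, 0, 0, 0, 0, 0, 0, 0, 0, 0, 0, 0, 0, 3, 0, 0, 0, 0, 0, 0, 0, 0, 0, 0, 0, 0, 0, 0, 0, 0, 0, 0, 0, 0, 0, 0, 0, 0, 0, 0, 0, 0, 0, 0, 0, 0, 0, 0, 0, 0, 0, 0, 0, 0, 0, 3, 0, 0, 0, 0, 0, 0, 0, 3],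
    [0, 0, 0, 0, 0, 0, 0, 0, 0, 0, 0, 0, 0, 0, 1, 1, 3, 0, 0, 0, 0, 0, 0, 0, 0, 0, 0, 0, 0, 0, 0, 0, 0, 0, 0, 0, 0, 0, 0, 0, 0, 0, 0, 0, 0, 0, 0, 0, 0, 0, 0, 0, 0, 0, 0, 0, 0, 0, 0, 1, 0, 0, 0, 0, 0, 0, 0, 0, 0, 0, 0, 0, 0, 0, 0, 0, 0, 3, 3, 0, 0, 3, 0, 0, 0, 0, 0, 0, 3, 0, 0, 0, 3, 0, 1, 1, 0, 0, 0, 0, 0, 3, 0, 0, 3, 0, 3, 2, 0, 0, 0, 0, 0, 0, 0, 0, 0, 0, 0, 3, 2, 3, 0, 0, 0, 0, 0, 0, 0, 0, 0, 0, 0, 3, 2, 3, 1, 1, 0, 0, 0, 0, 3, 1, 0, 0, 0, 0, 2, 3, 0, 2, 2],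
    [0, 0, 0, 0, 0, 0, 0, 0, 0, 0, 0, 0, 0, 0, 1, 1, 3, 0, 0, 0, 0, 0, 0, 0, 0, 0, 0, 0, 0, 0, 0, 0, 0, 0, 0, 0, 0, 0, 0, 0, 0, 0, 0, 0, 0, 0, 0, 0, 0, 0, 0, 0, 0, 0, 0, 0, 0, 0, 0, 1, 0, 0, 0, 0, 0, 0, 0, 3, 3, 0, 0, 3, 0, 0, 0, 0, 0, 0, 0, 0, 0, 0, 0, 0, 0, 0, 0, 0, 3, 0, 0, 0, 3, 1, 0, 0, 1, 0, 0, 0, 3, 0, 0, 0, 0, 3, 0, 3, 0, 0, 0, 0, 0, 0, 0, 0, 0, 0, 3, 0, 2, 0, 0, 0, 0, 0, 0, 0, 0, 0, 0, 0, 3, 0, 2, 0, 1, 0, 1, 0, 0, 0, 0, 0, 0, 0, 0, 2, 0, 0, 3, 1, 1],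
    [0, 0, 0, 0, 0, 0, 0, 0, 0, 0, 0, 0, 0, 0, 0, 0, 0, 0, 0, 0, 0, 0, 0, 0, 0, 0, 0, 0, 0, 0, 0, 0, 0, 0, 0, 0, 0, 0, 0, 0, 0, 0, 0, 0, 0, 0, 0, 0, 0, 0, 0, 0, 0, 0, 0, 0, 0, 0, 0, 0, 0, 0, 0, 0, 0, 0, 0, 3, 1, 0, 0, 0, 0, 0, 0, 0, 0, 0, 0, 0, 0, 0, 0, 0, 0, 0, 0, 0, 3, 1, 0, 0, 0, 0, 0, 0, 0, 1, 0, 0, 3, 1, 0, 0, 0, 0, 0, 0, 0, 0, 0, 0, 0, 0, 0, 0, 0, 0, 0, 0, 0, 0, 0, 0, 0, 0, 0, 0, 0, 0, 0, 0, 0, 0, 0, 0, 0, 0, 0, 1, 0, 0, 3, 0, 0, 0, 0, 0, 0, 2, 1],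
    [0, 0, 0, 0, 0, 0, 0, 0, 0, 0, 0, 0, 0, 0, 0, 0, 3, 0, 0, 0, 0, 0, 0, 0, 0, 0, 0, 0, 0, 0, 0, 0, 0, 0, 0, 0, 0, 0, 0, 0, 0, 0, 0, 0, 0, 0, 0, 0, 0, 0, 0, 0, 0, 0, 0, 0, 0, 0, 0, 0, 0, 0, 0, 0, 0, 0, 0, 3, 0, 0, 0, 0, 0, 0, 0, 0, 0, 0, 0, 0, 0, 0, 0, 0, 0, 0, 0, 0, 3, 0, 0, 0, 0, 0, 0, 0, 0, 0, 1, 0, 3, 0, 0, 0, 0, 3, 0, 3, 0, 0, 0, 0, 0, 0, 1, 0, 0, 0, 1, 0, 1, 2, 0, 0, 0, 0, 0, 0, 1, 0, 0, 0, 1, 0, 1, 2, 0, 0, 0, 0, 1, 0, 3, 1, 0, 0, 0, 0, 0, 1],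
    [0, 0, 0, 0, 0, 0, 0, 0, 0, 0, 0, 0, 0, 0, 0, 0, 1, 0, 0, 0, 0, 0, 0, 0, 0, 0, 0, 0, 0, 0, 0, 0, 0, 0, 0, 0, 0, 0, 0, 0, 0, 0, 0, 0, 0, 0, 0, 0, 0, 0, 0, 0, 0, 0, 0, 0, 0, 0, 0, 0, 0, 0, 0, 0, 0, 0, 0, 0, 1, 0, 0, 0, 0, 0, 0, 0, 0, 0, 0, 0, 0, 0, 0, 0, 0, 0, 0, 0, 0, 1, 0, 0, 0, 0, 0, 0, 0, 0, 0, 1, 3, 0, 0, 0, 0, 0, 0, 0, 0, 0, 0, 0, 0, 0, 1, 0, 0, 0, 0, 0, 0, 2, 0, 0, 0, 0, 0, 0, 0, 0, 0, 0, 0, 0, 0, 0, 0, 0, 0, 0, 0, 1, 0, 0, 0, 0, 0, 3, 0, 0, 1],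
    [0, 0, 0, 0, 0, 0, 0, 0, 3, 3, 0, 0, 0, 3, 3, 3, 0, 0, 0, 0, 0, 0, 0, 0, 0, 0, 0, 0, 0, 0, 0, 0, 0, 0, 0, 0, 0, 0, 2, 0, 0, 0, 0, 0, 0, 0, 0, 0, 0, 0, 0, 0, 3, 0, 0, 0, 0, 0, 0, 0, 3, 3, 0, 0, 0, 0, 0, 0, 0, 0, 0, 0, 0, 0, 0, 0, 0, 0, 0, 0, 0, 0, 0, 0, 0, 0, 0, 0, 0, 0, 0, 0, 0, 0, 0, 0, 0, 0, 0, 0, 0, 0, 3, 3, 3, 0, 0, 0, 0, 0, 0, 0, 0, 0, 0, 3, 3, 3, 0, 0, 0, 3, 0, 0, 0, 0, 0, 0, 0, 3, 3, 3, 0, 0, 0, 3, 3],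
    [0, 0, 0, 0, 0, 0, 0, 0, 3, 3, 2, 0, 1, 2, 1, 3, 2, 0, 0, 0, 0, 0, 0, 0, 0, 0, 0, 0, 0, 0, 0, 0, 0, 0, 0, 0, 0, 0, 2, 0, 1, 1, 1, 1, 0, 3, 0, 0, 0, 0, 0, 0, 0, 3, 0, 0, 1, 1, 1, 0, 0, 3, 0, 0, 0, 1, 1, 1, 0, 0, 0, 2, 0, 0, 0, 0, 0, 1, 0, 0, 0, 0, 1, 0, 0, 0, 0, 0, 0, 0, 0, 0, 2, 2, 1, 3, 0, 0, 1, 0, 1, 0, 0, 3, 3, 3, 0, 0, 3, 0, 0, 1, 0, 0, 0, 0, 3, 0, 2, 0, 0, 3, 3, 0, 0, 0, 0, 0, 0, 3, 3, 3, 1, 0, 3, 3, 2, 0, 0, 0, 1, 0, 0, 0, 3, 2, 2, 2, 0, 3, 2, 0, 3],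
    [0, 0, 0, 0, 0, 0, 0, 0, 0, 0, 3, 0, 3, 3, 0, 3, 3, 0, 0, 0, 0, 0, 0, 0, 0, 0, 0, 0, 0, 0, 0, 0, 0, 0, 0, 0, 0, 0, 0, 2, 0, 0, 0, 0, 0, 0, 0, 0, 0, 0, 0, 0, 0, 0, 0, 0, 0, 0, 0, 0, 0, 0, 0, 0, 0, 0, 0, 0, 0, 3, 0, 0, 0, 0, 0, 0, 0, 0, 0, 0, 0, 0, 0, 0, 0, 0, 0, 0, 0, 0, 3, 0, 0, 3, 0, 0, 0, 0, 0, 0, 0, 0, 3, 0, 0, 3, 0, 3, 0, 0, 0, 0, 0, 0, 0, 0, 0, 0, 0, 0, 0, 0, 0, 0, 0, 0, 0, 0, 0, 3, 0, 0, 3, 0, 3, 3, 0, 0, 0, 0, 0, 0, 0, 0, 3, 0, 0, 3, 0, 3, 3, 0, 3],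
    [0, 0, 0, 0, 0, 0, 0, 0, 0, 0, 3, 0, 3, 3, 0, 2, 2, 0, 0, 0, 0, 0, 0, 0, 0, 0, 0, 0, 0, 0, 0, 0, 0, 0, 0, 0, 0, 0, 0, 2, 0, 0, 1, 0, 1, 0, 0, 0, 0, 0, 0, 0, 3, 0, 0, 0, 0, 0, 0, 0, 0, 0, 0, 3, 0, 0, 0, 0, 0, 3, 0, 0, 0, 0, 0, 0, 0, 0, 0, 1, 1, 0, 1, 0, 3, 0, 0, 0, 0, 0, 0, 0, 0, 3, 3, 0, 3, 0, 0, 0, 0, 0, 0, 1, 0, 0, 0, 3, 0, 0, 0, 0, 0, 0, 1, 0, 1, 0, 3, 3, 2, 2, 0, 3, 0, 0, 0, 0, 1, 1, 1, 0, 0, 3, 0, 0, 0, 0, 3, 0, 0, 0, 0, 1, 1, 1, 0, 0, 3, 0, 0, 0, 2],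
    [0, 0, 0, 0, 0, 0, 0, 0, 0, 3, 1, 3, 1, 3, 0, 2, 0, 0, 0, 0, 0, 0, 0, 0, 0, 0, 0, 0, 0, 0, 0, 0, 0, 0, 0, 0, 0, 0, 0, 0, 3, 3, 0, 3, 3, 0, 3, 3, 3, 0, 3, 3, 0, 0, 3, 0, 3, 0, 3, 3, 3, 2, 1, 0, 0, 3, 0, 0, 3, 0, 0, 2, 0, 0, 3, 3, 0, 0, 0, 0, 3, 2, 0, 1, 0, 0, 3, 0, 0, 3, 0, 1, 2, 1, 0, 1, 3, 0, 0, 0, 0, 3, 3, 3, 2, 2, 1, 0, 0, 3, 3, 3, 0, 0, 0, 0, 2, 3, 3, 3, 2, 2, 1, 3, 3, 0, 0, 3, 0, 1, 0, 0, 1, 2, 1, 3, 2, 1, 0, 3, 3, 0, 0, 3, 1, 3, 0, 1, 2, 2, 2, 3, 2],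
    [0, 0, 0, 0, 0, 0, 0, 0, 0, 3, 3, 0, 0, 3, 3, 0, 3, 0, 0, 0, 0, 0, 0, 0, 0, 0, 0, 0, 0, 0, 0, 0, 0, 0, 0, 0, 0, 0, 0, 0, 2, 0, 0, 0, 0, 0, 0, 0, 0, 0, 0, 0, 0, 0, 0, 0, 0, 0, 0, 0, 3, 0, 0, 0, 0, 0, 0, 0, 0, 3, 0, 3, 0, 0, 0, 0, 0, 0, 0, 0, 0, 0, 0, 0, 0, 0, 0, 0, 0, 0, 0, 0, 0, 0, 0, 0, 0, 0, 0, 0, 0, 0, 3, 0, 3, 3, 0, 0, 0, 0, 0, 0, 0, 0, 0, 3, 0, 3, 3, 0, 0, 3, 0, 0, 0, 0, 0, 0, 0, 0, 0, 0, 0, 0, 0, 0, 0, 0, 0, 0, 0, 0, 0, 0, 3, 0, 3, 3, 0, 0, 3, 3],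
    [0, 0, 0, 0, 0, 0, 0, 0, 0, 3, 3, 0, 0, 3, 2, 0, 2, 0, 0, 0, 0, 0, 0, 0, 0, 0, 0, 0, 0, 0, 0, 0, 0, 0, 0, 0, 0, 0, 0, 0, 2, 0, 0, 1, 1, 0, 0, 0, 0, 0, 0, 0, 0, 0, 0, 3, 0, 0, 0, 0, 0, 0, 0, 0, 3, 0, 0, 0, 1, 0, 0, 3, 0, 0, 0, 0, 0, 0, 0, 0, 0, 0, 0, 0, 0, 0, 0, 0, 0, 1, 0, 0, 0, 3, 0, 0, 0, 3, 0, 0, 0, 0, 0, 0, 3, 0, 3, 0, 0, 0, 3, 0, 0, 0, 0, 0, 0, 3, 3, 3, 3, 2, 0, 0, 0, 0, 0, 0, 0, 0, 0, 0, 0, 0, 0, 0, 0, 0, 0, 3, 0, 0, 0, 0, 3, 0, 3, 2, 0, 1, 3, 1],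
    [0, 0, 0, 0, 0, 0, 0, 0, 0, 0, 3, 0, 3, 2, 0, 3, 2, 0, 0, 0, 0, 0, 0, 0, 0, 0, 0, 0, 0, 0, 0, 0, 0, 0, 0, 0, 0, 0, 0, 0, 0, 0, 3, 0, 3, 0, 0, 3, 0, 3, 0, 3, 3, 1, 0, 3, 0, 0, 0, 0, 0, 3, 1, 0, 0, 0, 0, 0, 3, 3, 3, 3, 0, 0, 0, 0, 3, 0, 3, 1, 0, 2, 3, 0, 0, 0, 0, 0, 0, 3, 3, 0, 3, 0, 2, 1, 0, 3, 0, 0, 0, 0, 0, 2, 1, 1, 2, 0, 1, 0, 3, 0, 3, 0, 0, 0, 3, 0, 2, 1, 0, 3, 0, 0, 3, 0, 3, 0, 3, 1, 0, 1, 2, 3, 2, 1, 2, 1, 0, 0, 0, 0, 0, 3, 1, 3, 1, 2, 3, 1, 0, 1, 2],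
    [0, 0, 0, 0, 0, 0, 0, 0, 0, 0, 0, 0, 0, 3, 3, 0, 1, 0, 0, 0, 0, 0, 0, 0, 0, 0, 0, 0, 0, 0, 0, 0, 0, 0, 0, 0, 0, 0, 0, 0, 0, 0, 3, 3, 0, 0, 0, 0, 0, 0, 0, 0, 1, 0, 1, 0, 0, 3, 3, 0, 3, 3, 0, 1, 3, 0, 0, 0, 0, 3, 3, 0, 0, 0, 0, 0, 0, 3, 0, 0, 3, 1, 3, 0, 0, 3, 0, 3, 3, 0, 1, 0, 3, 2, 0, 0, 1, 3, 0, 3, 0, 0, 0, 3, 0, 1, 3, 1, 0, 1, 0, 0, 3, 3, 0, 3, 3, 3, 0, 3, 2, 2, 0, 0, 3, 0, 3, 3, 0, 3, 3, 0, 2, 3, 3, 3, 1, 0, 1, 3, 0, 0, 3, 0, 0, 0, 0, 0, 2, 0, 0, 2, 2],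
    [0, 0, 0, 0, 0, 0, 0, 0, 0, 0, 3, 0, 3, 3, 3, 0, 0, 0, 0, 0, 0, 0, 0, 0, 0, 0, 0, 0, 0, 0, 0, 0, 0, 0, 0, 0, 0, 0, 0, 0, 0, 2, 0, 0, 0, 0, 0, 0, 0, 0, 0, 0, 0, 0, 0, 0, 0, 0, 0, 0, 0, 0, 0, 0, 0, 0, 0, 0, 0, 3, 0, 0, 0, 0, 0, 0, 0, 0, 0, 0, 0, 0, 0, 0, 0, 0, 0, 0, 0, 0, 3, 0, 0, 3, 0, 0, 0, 0, 0, 0, 0, 0, 3, 0, 0, 3, 0, 3, 0, 0, 0, 0, 0, 0, 0, 3, 0, 0, 3, 0, 3, 3],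
    [0, 0, 0, 0, 0, 0, 0, 0, 0, 0, 3, 0, 3, 2, 2, 0, 3, 0, 0, 0, 0, 0, 0, 0, 0, 0, 0, 0, 0, 0, 0, 0, 0, 0, 0, 0, 0, 0, 0, 0, 0, 2, 0, 0, 0, 0, 0, 0, 0, 0, 0, 0, 0, 0, 0, 0, 0, 0, 0, 0, 0, 0, 0, 0, 0, 3, 0, 0, 0, 0, 0, 0, 0, 0, 0, 0, 0, 0, 0, 3, 0, 0, 2, 0, 0, 0, 3, 0, 0, 0, 0, 0, 0, 3, 0, 0, 0, 0, 3, 0, 0, 0, 3, 0, 0, 3, 0, 2, 0, 0, 0, 3, 0, 0, 0, 0, 0, 0, 3, 0, 0, 2, 0, 0, 0, 0, 0, 0, 0, 3, 0, 0, 2, 0, 2, 0, 0, 0, 0, 0, 0, 0, 0, 0, 0, 0, 0, 0, 0, 3, 3, 3],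
    [0, 0, 0, 0, 0, 0, 0, 0, 0, 0, 2, 3, 2, 2, 2, 1, 1, 0, 0, 0, 0, 0, 0, 0, 0, 0, 0, 0, 0, 0, 0, 0, 0, 0, 0, 0, 0, 0, 0, 0, 0, 0, 3, 3, 3, 0, 0, 0, 3, 3, 3, 3, 0, 0, 0, 0, 3, 3, 3, 3, 3, 3, 1, 0, 0, 0, 3, 0, 3, 3, 1, 2, 0, 0, 0, 0, 3, 0, 0, 0, 3, 3, 2, 1, 0, 0, 0, 3, 0, 3, 0, 2, 3, 3, 1, 1, 0, 0, 3, 3, 0, 3, 3, 1, 3, 2, 2, 1, 1, 0, 0, 3, 0, 3, 3, 3, 1, 2, 2, 2, 1, 2, 0, 0, 0, 3, 0, 0, 3, 3, 2, 1, 3, 3, 1, 2, 2, 0, 0, 0, 0, 3, 3, 0, 0, 3, 1, 0, 3, 1, 0, 2],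
    [0, 0, 0, 0, 0, 0, 0, 0, 0, 0, 0, 0, 0, 3, 3, 1, 0, 0, 0, 0, 0, 0, 0, 0, 0, 0, 0, 0, 0, 0, 0, 0, 0, 0, 0, 0, 0, 0, 0, 0, 0, 0, 3, 0, 3, 0, 0, 0, 0, 0, 0, 0, 1, 0, 0, 0, 0, 0, 0, 0, 0, 0, 0, 1, 0, 3, 0, 0, 0, 1, 0, 0, 0, 0, 0, 0, 0, 0, 0, 0, 3, 0, 1, 0, 1, 0, 3, 0, 0, 0, 0, 0, 0, 0, 1, 0, 1, 0, 3, 0, 0, 0, 3, 3, 0, 3, 0, 1, 0, 1, 0, 0, 3, 0, 0, 1, 0, 0, 1, 1, 2, 1, 0, 0, 0, 3, 3, 0, 0, 1, 0, 0, 1, 0, 2, 2, 0, 0, 0, 0, 3, 0, 0, 3, 0, 3, 0, 0, 3, 1, 1, 2],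
    [0, 0, 0, 0, 0, 0, 0, 0, 0, 0, 3, 0, 3, 3, 0, 0, 0, 0, 0, 0, 0, 0, 0, 0, 0, 0, 0, 0, 0, 0, 0, 0, 0, 0, 0, 0, 0, 0, 0, 0, 0, 0, 0, 3, 0, 0, 0, 0, 0, 0, 0, 0, 0, 0, 0, 0, 3, 0, 3, 0, 0, 0, 0, 0, 1, 3, 0, 3, 0, 0, 0, 2, 0, 0, 0, 0, 0, 0, 0, 1, 0, 1, 2, 0, 0, 1, 0, 0, 0, 0, 0, 0, 2, 2, 3, 0, 0, 1, 3, 0, 0, 0, 0, 0, 3, 3, 3, 0, 0, 0, 1, 3, 0, 0, 0, 0, 0, 3, 0, 0, 3, 3, 0, 0, 0, 0, 0, 0, 0, 1, 0, 1, 2, 0, 1, 3, 0, 0, 0, 0, 3]]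

end CfsgLib.Spor.Fi22Mult.P2
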