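import Cfsg.Agent.Lib.Spor.SchurCert.ActBridge

/-!
A part of the certificate at the prime 2.
-/

set_option autoImplicit false
set_option maxRecDepth 100000
set_option maxHeartbeats 0
set_option Elab.async false

namespace CfsgLib.Spor.Fi22Mult.P2

open CfsgLib.Spor.TC CfsgLib.Spor.ActCert CfsgLib.Spor.SchurCert

/-- A part of the certificate. -/
def tgt0 : List (List (ℕ × ℕ) × List (ℕ × ℕ)) := [
    ([], []),
    ([], []),
    ([], []),
    ([(0, 3)], [(1, 2), (3, 1), (6, 3), (8, 2), (9, 2), (10, 2), (11, 1), (12, 2), (17, 1), (20, 3), (21, 3), (22, 1), (24, 3), (25, 2), (27, 3), (28, 1), (29, 3), (30, 2), (32, 2), (33, 3), (34, 3), (35, 1), (36, 2), (38, 3), (41, 3), (45, 3), (46, 3), (47, 2), (48, 3), (49, 2), (50, 1), (51, 1), (52, 3), (54, 2), (55, 1), (57, 2), (58, 3), (59, 1), (60, 2), (61, 3), (62, 3), (63, 3), (66, 1), (67, 3), (68, 3), (69, 1), (71, 1), (72, 3), (74, 2), (75, 3), (76, 2), (78, 2), (80,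 3), (82, 2), (83, 2), (84, 3), (85, 2), (86, 3), (87, 1), (88, 1), (89, 1), (90, 2), (91, 2), (92, 2), (93, 1), (94, 3), (96, 1), (97, 1), (98, 3), (100, 3), (101, 2), (102, 2), (104, 2), (105, 2), (106, 3), (108, 1), (109, 3), (110, 1), (111, 2), (112, 1), (114, 2), (115, 3), (116, 3), (117, 1), (118, 3), (119, 2), (120, 2), (121, 2), (122, 1), (123, 2), (125, 1), (126, 1), (127, 3), (128, 2), (132, 3), (134, 1), (137, 3), (139, 1), (142, 1), (143, 2), (144, 3), (146, 3), (148, 2), (149, 2), (153, 2), (154, 2), (161, 2), (164, 2), (165, 2), (166, 2), (167, 2), (168, 2), (169, 2)]),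
    ([(0, 2)], [(3, 2), (6, 2), (11, 2), (17, 2), (20, 2), (21, 2), (22, 2), (24, 2), (27, 2), (28, 2), (29, 2), (33, 2), (34, 2), (35, 2), (38, 2), (41, 2), (45, 2), (46, 2), (48, 2), (50, 2), (51, 2), (52, 2), (55, 2), (58, 2), (59, 2), (61, 2), (62, 2), (63, 2), (66, 2), (67, 2), (68, 2), (69, 2), (71, 2), (72, 2), (75, 2), (80, 2), (84, 2), (86, 2), (87, 2), (88, 2), (89, 2), (93, 2), (94, 2), (96, 2), (97, 2), (98, 2), (100, 2), (106, 2), (108, 2), (109, 2), (110, 2), (112, 2), (115, 2), (116, 2), (117, 2), (118, 2), (122, 2), (125, 2), (126, 2), (127, 2), (132, 2), (134, 2), (137, 2), (139, 2), (142, 2), (144, 2), (146, 2)]),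
    ([], [(1, 1), (2, 2), (4, 1), (5, 3), (6, 2), (7, 3), (8, 3), (9, 3), (11, 1), (12, 1), (14, 1), (16, 3), (17, 3), (18, 2), (19, 2), (20, 1), (21, 1), (22, 1), (24, 1), (26, 1), (27, 2), (28, 1), (32, 2), (33, 3), (34, 2), (36, 3), (38, 3), (39, 3), (40, 3), (41, 2), (42, 1), (43, 2), (44, 1), (46, 3), (47, 3), (48, 3), (49, 2), (50, 3), (51, 1), (52, 3), (54, 1), (55, 3), (57, 2), (58, 1), (59, 1), (60, 1), (61, 1), (62, 3), (63, 1), (64, 3), (67, 3), (68, 1), (69, 3), (70, 2), (72, 3), (73, 3), (74, 3), (75, 1), (76, 3), (77, 2), (81, 2), (83, 1), (84, 2), (85, 1), (86, 3), (88, 3), (89, 1), (90, 3), (91, 2), (93, 3), (94, 2), (96, 3), (97, 1), (99, 2), (100, 1), (101, 2), (103, 2), (104, 2), (105, 2), (107, 1), (108, 1), (109, 2), (111, 3), (113, 1), (114, 1), (115, 3), (117, 2), (118, 1), (119, 1), (120, 1), (122, 2), (123, 1), (124, 2), (125, 3), (126, 2), (127, 2), (128, 3), (137, 2), (139, 2), (142,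 2), (144, 2), (146, 2)]),
    ([(0, 3)], [(1, 2), (3, 1), (6, 3), (8, 2), (9, 2), (10, 2), (11, 1), (12, 2), (17, 1), (20, 3), (21, 3), (22, 1), (24, 3), (25, 2), (27, 3), (28, 1), (29, 3), (30, 2), (32, 2), (33, 3), (34, 3), (35, 1), (36, 2), (38, 3), (41, 3), (45, 3), (46, 3), (47, 2), (48, 3), (49, 2), (50, 1), (51, 1), (52, 3), (54, 2), (55, 1), (57, 2), (58, 3), (59, 1), (60, 2), (61, 3), (62, 3), (63, 3), (66, 1), (67, 3), (68, 3), (69, 1), (71, 1), (72, 3), (74, 2), (75, 3), (76, 2), (78, 2), (80, 3), (82, 2), (83, 2), (84, 3), (85, 2), (86, 3), (87, 1), (88, 1), (89, 1), (90, 2), (91, 2), (92, 2), (93, 1), (94, 3), (96, 1), (97, 1), (98, 3), (100, 3), (101, 2), (102, 2), (104, 2), (105, 2), (106, 3), (108, 1), (109, 3), (110, 1), (111, 2), (112, 1), (114, 2), (115, 3), (116, 3), (117, 1), (118, 3), (119, 2), (120, 2), (121, 2), (122, 1), (123, 2), (125, 1), (126, 1), (127, 3), (128, 2), (132, 3), (134,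 1), (137, 3), (139, 1), (142, 1), (143, 2), (144, 3), (146, 3), (148, 2), (149, 2), (153, 2), (154, 2), (161, 2), (164, 2), (165, 2), (166, 2), (167, 2), (168, 2), (169, 2)]),
    ([(0, 2)], [(0, 2), (1, 1), (6, 3), (8, 3), (10, 2), (12, 1), (13, 3), (16, 3), (18, 1), (19, 3), (24, 1), (25, 2), (26, 2), (28, 3), (29, 1), (30, 3), (31, 1), (32, 3), (33, 3), (35, 1), (36, 2), (38, 1), (39, 3), (40, 3), (41, 2), (42, 3), (43, 2), (44, 3), (46, 3), (47, 1), (48, 2), (49, 3), (50, 1), (51, 3), (52, 1), (53, 2), (54, 2), (55, 3), (56, 3), (57, 3), (60, 1), (61, 1), (62, 1), (63, 2), (64, 2), (65, 2), (66, 2), (67, 3), (68, 1), (69, 1), (70, 2), (71, 3), (72, 2), (73, 3), (74, 1), (75, 2), (76, 3), (77, 3), (78, 1), (79, 3), (80, 3), (81, 2), (82, 3), (83, 1), (84, 1), (87, 1), (89, 2), (90, 2), (91, 2), (92, 1), (93, 3), (94, 3), (95, 3), (100, 3), (102, 1), (103, 1), (104, 1), (107, 3), (108, 1), (109, 2), (110, 2),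 (111, 1), (113, 1), (114, 1), (115, 1), (116, 1), (117, 2), (118, 1), (121, 1), (122, 2), (123, 1), (125, 1), (126, 2), (127, 1), (129, 2), (130, 2), (131, 2), (133, 2), (134, 2), (142, 1), (143, 2), (144, 1), (148, 2), (149, 2), (153, 2), (154, 2)]),
    ([], [(0, 3), (2, 1), (3, 1), (4, 1), (5, 1), (6, 1), (7, 2), (8, 2), (9, 1), (10, 1), (14, 2), (15, 2), (16, 3), (18, 3), (19, 1), (20, 1), (21, 2), (22, 3), (24, 1), (25, 1), (26, 3), (27, 1), (28, 2), (30, 2), (31, 1), (34, 2), (35, 2), (36, 3), (38, 3), (39, 2), (40, 1), (41, 3), (42, 1), (44, 2), (45, 1), (46, 1), (47, 3), (48, 2), (49, 2), (51, 3), (52, 2), (53, 2), (54, 2), (55, 2), (56, 3), (57, 3), (59, 2), (60, 3), (61, 3), (62, 2), (63, 3), (64, 3), (65, 1), (67, 1), (68, 2), (69, 1), (70, 2), (71, 1), (72, 1), (73, 2), (74, 2), (75, 2), (78, 1), (80, 1), (81, 1), (82, 3), (83, 2), (84, 3), (85, 3), (87, 1), (88, 1), (89, 1), (90, 1), (91, 2), (93,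 3), (96, 1), (97, 2), (98, 1), (100, 2), (101, 2), (102, 1), (103, 1), (106, 3), (107, 2), (108, 1), (109, 3), (110, 1), (111, 3), (112, 2), (113, 1), (114, 3), (115, 3), (116, 3), (117, 3), (118, 3), (119, 3), (120, 3), (121, 3), (122, 1), (123, 2), (124, 3), (127, 2), (128, 3), (132, 2), (134, 2), (137, 2), (143, 1), (144, 1), (146, 2)]),
    ([], [(2, 2), (3, 2), (4, 2), (6, 3), (7, 2), (8, 1), (10, 1), (11, 3), (12, 2), (13, 3), (15, 3), (16, 3), (17, 2), (21, 2), (22, 2), (23, 1), (24, 3), (26, 2), (29, 2), (30, 1), (31, 2), (32, 3), (34, 1), (35, 2), (38, 1), (39, 2), (40, 3), (41, 2), (42, 2), (43, 2), (44, 2), (45, 2), (48, 2), (49, 3), (50, 3), (52, 2), (53, 1), (54, 1), (55, 3), (56, 3), (57, 2), (58, 2), (59, 1), (60, 3), (61, 1), (62, 1), (63, 3), (64, 3), (65, 1), (66, 1), (67, 1), (68, 3), (69, 3), (70, 2), (71, 1), (74, 1), (76, 3), (77, 1), (78, 3), (79, 3), (80, 2), (81, 3), (83, 3), (84, 1),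 (85, 1), (87, 1), (88, 3), (89, 2), (90, 2), (93, 1), (94, 1), (96, 1), (97, 3), (98, 2), (99, 2), (100, 1), (101, 3), (102, 1), (103, 1), (104, 3), (105, 3), (106, 3), (107, 2), (108, 3), (109, 3), (110, 3), (111, 2), (112, 2), (114, 1), (116, 2), (117, 2), (118, 3), (119, 1), (121, 2), (122, 2), (123, 3), (125, 2), (126, 3), (127, 2), (129, 2), (130, 2), (131, 2), (132, 2), (133, 2), (139, 2), (142, 2), (143, 1), (148, 2), (149, 2), (153, 2), (154, 2)]),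
    ([], [(0, 2), (1, 3), (2, 2), (4, 1), (5, 1), (7, 3), (8, 2), (12, 1), (13, 1), (14, 2), (15, 1), (16, 2), (20, 1), (22, 2), (25, 2), (26, 1), (27, 3), (28, 2), (29, 1), (30, 2), (32, 2), (35, 3), (36, 3), (39, 2), (41, 3), (42, 2), (43, 3), (44, 2), (45, 3), (46, 3), (47, 3), (49, 3), (51, 2), (52, 3), (54, 1), (55, 1), (56, 1), (57, 1), (58, 3), (60, 3), (61, 1), (62, 2), (63, 2), (65, 3), (66, 2), (67, 1), (68, 3), (70, 2), (71, 3), (73, 2), (74, 1), (75, 3), (77, 1), (79, 2), (80, 3), (81, 3), (82, 3), (84, 3), (85, 1), (86, 2), (87, 1), (89, 2), (90, 2), (91, 1), (92, 3), (93, 3), (94, 1), (95, 3), (97, 2), (99, 2), (100, 3), (101, 3), (102, 3), (103, 1), (105, 2), (106, 3), (107, 1), (108, 2), (109, 1), (110, 1), (111, 3), (113, 1), (114, 3), (115, 3), (116, 1), (117, 2), (118, 1), (122, 2), (124, 2), (125, 1), (127, 2), (128, 1), (146, 2), (161, 2), (164, 2), (165, 2), (166, 2), (167, 2), (168, 2),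 (169, 2)]),
    ([(0, 2)], [(0, 2), (1, 2), (2, 2), (3, 2), (4, 1), (5, 1), (6, 3), (8, 1), (9, 2), (11, 2), (12, 2), (13, 1), (15, 3), (16, 2), (18, 1), (19, 1), (20, 1), (21, 2), (23, 3), (24, 2), (25, 1), (26, 3), (27, 1), (28, 3), (30, 2), (31, 1), (32, 3), (33, 2), (34, 2), (35, 2), (36, 2), (40, 3), (41, 1), (44, 1), (45, 2), (46, 3), (47, 1), (48, 1), (52, 1), (53, 1), (54, 2), (55, 3), (57, 1), (58, 1), (59, 2), (60, 2), (62, 2), (63, 3), (65, 1), (66, 3), (67, 2), (69, 3), (71, 1), (73, 1), (76, 2), (77, 2), (79, 1), (80, 1), (81, 2), (82, 1), (83, 3), (84, 2), (85, 3), (86, 3), (88, 1), (89, 2), (90, 3), (92, 3), (93, 2), (97, 1), (98, 1), (103, 3), (104, 2), (105, 1), (106, 3), (107, 3), (108, 2), (109, 2), (110, 1), (111, 1), (112, 1), (113, 1), (114, 2), (115, 3), (117, 3), (119, 1), (120, 1), (122, 2), (123, 3), (124, 2), (125, 3), (126, 3), (127, 3), (128, 3), (133, 2), (134, 2), (139, 2), (142,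 2), (143, 2), (144, 2), (146, 2)]),
    ([], [(0, 2), (1, 3), (2, 2), (3, 2), (4, 1), (5, 3), (6, 2), (7, 3), (9, 3), (10, 1), (11, 1), (14, 1), (15, 3), (16, 3), (17, 3), (18, 1), (21, 2), (22, 1), (23, 3), (24, 1), (25, 2), (26, 2), (27, 2), (28, 2), (30, 2), (32, 2), (33, 1), (34, 1), (35, 1), (36, 2), (39, 3), (40, 3), (41, 2), (43, 3), (44, 1), (45, 3), (46, 2), (48, 1), (49, 3), (50, 3), (52, 1), (53, 1), (54, 3), (55, 1), (56, 3), (57, 3), (61, 2), (62, 3), (63, 2), (64, 3), (65, 2), (66, 3), (67, 1), (68, 3), (69, 2), (72, 2), (73, 3), (74, 1), (76, 2), (77, 1), (78, 1), (79, 1), (80, 3), (81, 1), (82, 3), (83, 1), (85, 3), (86, 3), (87, 3), (88, 2), (89, 1), (90, 3), (92, 3), (93, 3), (94, 1), (95, 3), (96, 2), (99, 1), (100, 3), (102, 2), (105, 2), (106, 2), (107, 2), (108, 3), (109, 1), (111, 1), (112, 1), (113, 2), (114, 1), (116, 2), (118, 1), (119, 3), (120, 3), (121, 1), (124, 3), (125, 3), (126,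 3), (128, 3), (132, 2), (134, 2), (137, 2), (139, 2), (143, 2), (146, 2), (148, 2), (149, 2), (153, 2), (154, 2), (161, 2), (164, 2), (165, 2), (166, 2), (167, 2), (168, 2), (169, 2)]),
    ([(0, 2)], [(1, 1), (5, 3), (6, 2), (7, 3), (8, 1), (10, 2), (11, 2), (12, 1), (13, 1), (14, 3), (15, 3), (16, 3), (17, 1), (18, 1), (19, 1), (20, 3), (22, 3), (23, 3), (24, 2), (25, 2), (26, 1), (27, 2), (29, 1), (30, 3), (31, 3), (33, 1), (34, 1), (35, 1), (36, 3), (39, 1), (40, 3), (42, 3), (44, 3), (45, 3), (46, 3), (47, 1), (49, 1), (50, 1), (52, 2), (53, 2), (54, 2), (55, 2), (56, 1), (58, 1), (59, 3), (60, 3), (61, 1), (62, 3), (64, 2), (65, 2), (66, 2), (69, 1), (71, 2), (72, 1), (75, 3), (76, 2), (77, 2), (79, 3), (81, 1), (82, 3), (83, 3), (85, 3), (87, 1), (90, 3), (91, 2), (94, 3), (95, 2), (97, 3), (99, 2), (100, 3), (101, 2), (102, 3), (106, 2), (108, 2), (110, 3), (112, 3), (113, 2), (116, 2), (117, 1), (118,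 1), (119, 3), (120, 1), (121, 1), (122, 1), (123, 2), (124, 3), (128, 1), (129, 2), (130, 2), (131, 2), (132, 2), (133, 2), (137, 2), (139, 2), (142, 2), (143, 2)]),
    ([], [(0, 2), (2, 2), (5, 2), (6, 3), (8, 3), (9, 1), (10, 1), (12, 1), (14, 1), (15, 1), (17, 1), (18, 1), (19, 2), (20, 3), (21, 2), (22, 3), (23, 2), (24, 1), (25, 2), (27, 3), (28, 1), (29, 3), (30, 2), (32, 2), (33, 2), (34, 2), (35, 2), (38, 1), (39, 1), (40, 2), (41, 2), (42, 1), (43, 2), (44, 1), (45, 2), (46, 3), (48, 1), (51, 1), (53, 1), (54, 1), (55, 3), (56, 2), (57, 3), (58, 2), (60, 2), (62, 3), (64, 1), (66, 1), (67, 3), (68, 2), (69, 2), (70, 1), (71, 2), (72, 2), (73, 3), (74, 2), (75, 3), (76, 3), (77, 1), (78, 1), (80, 1), (81, 2), (82, 2), (84, 3), (86, 1), (87, 2), (88, 1), (89, 3), (90, 3), (91, 3), (93, 3), (96, 1), (97, 1), (99, 3), (100, 2), (101, 2), (104, 2), (105, 1), (106, 1), (107, 3), (110, 3), (111, 2), (114,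 2), (115, 1), (117, 2), (118, 1), (119, 2), (120, 3), (123, 2), (124, 2), (125, 1), (126, 2), (127, 3), (139, 2), (142, 2), (144, 2), (148, 2), (149, 2), (153, 2), (154, 2)]),
    ([(0, 2)], [(0, 2), (2, 2), (4, 1), (5, 2), (6, 1), (7, 3), (10, 2), (12, 3), (13, 1), (16, 3), (17, 2), (18, 2), (19, 3), (20, 2), (21, 3), (22, 1), (23, 3), (24, 1), (26, 3), (28, 2), (29, 2), (30, 3), (32, 3), (33, 3), (34, 1), (35, 2), (36, 2), (38, 2), (39, 3), (40, 1), (41, 1), (42, 1), (43, 2), (44, 3), (46, 1), (48, 3), (49, 3), (50, 3), (51, 1), (52, 2), (53, 3), (54, 2), (57, 2), (58, 2), (59, 3), (60, 1), (61, 1), (62, 2), (63, 1), (65, 3), (66, 3), (67, 3), (68, 3), (69, 2), (70, 1), (71, 1), (73, 3), (74, 3), (75, 2), (76, 3), (77, 1), (78, 3), (79, 3), (80, 1), (81, 1), (82, 3), (84, 1), (85, 3), (87, 1), (88, 1), (90, 2), (91, 3), (92, 1), (93, 1), (94, 1), (95, 3), (96, 3), (97, 3), (99, 3), (100, 2), (102, 2), (103,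 1), (104, 1), (105, 3), (107, 2), (108, 2), (109, 1), (110, 3), (112, 1), (114, 1), (115, 3), (116, 1), (119, 1), (120, 2), (121, 2), (122, 3), (123, 3), (126, 2), (127, 3), (128, 2), (133, 2), (134, 2), (139, 2), (142, 2), (144, 2)]),
    ([(0, 2)], [(0, 1), (1, 3), (2, 3), (3, 3), (4, 2), (7, 1), (8, 1), (9, 3), (10, 1), (11, 3), (12, 3), (13, 2), (14, 2), (15, 2), (16, 1), (18, 1), (19, 1), (21, 1), (22, 3), (23, 3), (24, 3), (25, 1), (26, 2), (27, 1), (28, 1), (29, 2), (31, 3), (32, 3), (33, 2), (35, 1), (36, 3), (38, 1), (39, 2), (40, 1), (41, 2), (42, 2), (43, 1), (45, 1), (46, 3), (47, 1), (48, 2), (49, 3), (50, 1), (51, 1), (53, 2), (55, 1), (56, 1), (57, 3), (58, 1), (62, 3), (64, 1), (66, 2), (68, 2), (70, 1), (71, 1), (72, 2), (73, 2), (74, 3), (75, 2), (76, 3), (77, 3), (78, 3), (80, 1), (81, 3), (83, 3), (84, 1), (85, 1), (87, 3), (88, 3), (91, 2), (93, 3), (94, 1), (96, 2), (97, 2), (98, 3), (99,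 1), (100, 3), (101, 1), (102, 2), (103, 1), (105, 1), (107, 1), (108, 2), (110, 3), (111, 2), (112, 1), (113, 2), (114, 3), (116, 3), (117, 1), (118, 1), (119, 1), (120, 2), (121, 1), (122, 2), (123, 3), (125, 1), (127, 1), (133, 2), (134, 2), (137, 2), (139, 2), (148, 2), (149, 2), (153, 2), (154, 2)]),
    ([(0, 2)], [(0, 1), (1, 3), (3, 2), (4, 2), (5, 2), (6, 1), (7, 3), (8, 3), (9, 3), (10, 2), (11, 1), (12, 2), (13, 2), (14, 1), (15, 1), (16, 1), (18, 1), (19, 1), (20, 3), (21, 1), (22, 2), (23, 2), (25, 2), (26, 1), (27, 3), (28, 1), (30, 3), (31, 2), (33, 1), (34, 2), (36, 3), (39, 2), (40, 3), (42, 3), (43, 3), (44, 2), (45, 3), (46, 3), (50, 1), (51, 2), (53, 3), (54, 1), (55, 2), (56, 2), (57, 1), (59, 1), (60, 2), (61, 1), (62, 2), (63, 3), (64, 2), (65, 2), (66, 1), (67, 3), (68, 2), (69, 3), (72, 2), (73, 1), (74, 2), (76, 2), (77, 3), (78, 3), (80, 2), (81, 3), (82, 1), (84, 2), (86, 3), (88, 3),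 (89, 2), (90, 1), (91, 2), (92, 1), (93, 1), (94, 1), (95, 1), (96, 3), (97, 2), (100, 3), (101, 2), (105, 3), (106, 2), (107, 3), (109, 1), (110, 3), (111, 3), (112, 3), (113, 1), (114, 3), (115, 2), (116, 3), (117, 2), (118, 3), (119, 1), (120, 3), (121, 3), (122, 3), (123, 1), (124, 2), (125, 2), (126, 2), (128, 2), (129, 3), (130, 1), (131, 1), (132, 2), (133, 1), (134, 1), (135, 1), (136, 1), (137, 3), (138, 1), (139, 2), (141, 1), (142, 2), (144, 3), (146, 2), (147, 3), (148, 1), (149, 1), (150, 1), (151, 1), (153, 3), (154, 1), (155, 1), (157, 2), (158, 2), (160, 1), (161, 1), (162, 1), (164, 1), (165, 3), (166, 2), (167, 2), (168, 3), (169, 2), (170, 1)]),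
    ([(0, 1)], [(3, 3), (4, 1), (5, 1), (6, 3), (7, 3), (8, 1), (10, 1), (11, 2), (12, 2), (13, 3), (14, 3), (15, 2), (16, 2), (17, 1), (18, 2), (23, 2), (24, 1), (25, 1), (26, 3), (27, 2), (28, 1), (31, 3), (32, 1), (33, 2), (34, 1), (36, 3), (38, 2), (40, 3), (41, 2), (42, 2), (43, 1), (44, 1), (46, 2), (47, 1), (48, 1), (52, 1), (53, 3), (54, 1), (57, 3), (58, 2), (59, 2), (60, 3), (61, 1), (62, 2), (63, 3), (64, 1), (65, 3), (66, 3), (67, 3), (68, 3), (69, 2), (70, 2), (71, 1), (72, 2), (73, 1), (74, 3), (75, 3), (76, 3), (77, 1), (79, 2), (80, 1), (82, 2), (83, 3), (84, 3), (85, 2), (87, 3), (88, 1), (89, 3), (90, 2), (91, 2), (92, 3), (93, 1), (94, 1), (95, 1), (96, 2), (97, 2), (98, 1), (99, 3), (101, 2), (102, 2), (103, 3), (105, 1), (106, 2), (107, 2), (108, 1), (109, 1), (110, 1), (112, 1), (116, 2), (117, 1), (118, 1), (119, 3), (122, 2), (123, 2), (124, 2), (126, 2), (127, 2), (128, 2), (129, 2),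 (130, 2), (131, 2), (132, 3), (133, 2), (134, 3), (137, 1), (139, 2), (142, 2), (144, 3), (146, 1), (148, 2), (149, 2), (153, 2), (154, 2), (156, 1), (157, 2), (158, 2), (161, 1), (162, 2), (163, 2), (164, 2), (165, 1), (167, 2), (168, 3), (169, 3), (171, 1)]),
    ([(0, 2)], [(0, 2), (1, 3), (3, 1), (5, 2), (6, 1), (7, 2), (8, 3), (9, 1), (11, 3), (14, 2), (15, 3), (16, 1), (17, 1), (18, 2), (19, 1), (21, 1), (22, 3), (23, 3), (24, 2), (25, 3), (26, 1), (27, 3), (28, 3), (29, 1), (30, 1), (32, 3), (33, 3), (34, 1), (36, 3), (38, 3), (39, 1), (40, 3), (41, 3), (42, 2), (43, 2), (44, 1), (45, 1), (47, 1), (48, 2), (49, 3), (50, 1), (51, 2), (52, 2), (54, 3), (55, 3), (57, 3), (58, 2), (60, 2), (62, 2), (63, 1), (65, 3), (66, 2), (67, 3), (68, 1), (69, 1), (70, 1), (71, 2), (74, 1), (75, 3), (77, 1), (78, 3), (79, 3), (83, 3), (84, 2), (85, 1), (86, 1), (88, 2), (89, 2), (90, 1), (92, 3), (93, 1), (94, 2), (95,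 1), (96, 1), (97, 3), (98, 3), (99, 2), (100, 1), (101, 2), (102, 3), (103, 1), (105, 2), (106, 1), (107, 2), (108, 2), (110, 3), (111, 1), (112, 1), (113, 3), (114, 3), (116, 3), (117, 1), (118, 3), (119, 3), (120, 3), (122, 3), (123, 1), (128, 1), (129, 1), (130, 3), (131, 3), (132, 2), (133, 3), (134, 3), (135, 1), (137, 3), (139, 2), (140, 1), (142, 3), (143, 2), (144, 3), (145, 1), (146, 3), (148, 1), (149, 2), (152, 1), (153, 2), (154, 2), (156, 1), (161, 2), (164, 2), (165, 2), (166, 2), (167, 2), (168, 2), (169, 2)]),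
    ([], [(0, 2), (2, 3), (3, 1), (4, 1), (5, 3), (6, 2), (7, 1), (8, 1), (9, 2), (12, 2), (13, 2), (15, 1), (16, 1), (17, 2), (18, 2), (19, 1), (22, 2), (23, 1), (24, 3), (25, 1), (28, 3), (31, 2), (35, 3), (38, 3), (39, 1), (40, 1), (41, 3), (43, 1), (44, 2), (45, 1), (48, 2), (49, 3), (51, 3), (52, 2), (53, 1), (54, 2), (55, 3), (56, 1), (57, 2), (58, 1), (59, 1), (60, 2), (61, 3), (65, 3), (66, 2), (68, 2), (69, 1), (71, 3), (73, 2), (74, 1), (75, 3), (76, 2), (79, 1), (80, 1), (81, 2), (82, 1), (83, 1), (84, 3), (85, 1), (86, 3), (88, 3), (90, 2), (91, 1), (92, 3), (93, 1), (95, 1), (96, 3), (98, 2), (99, 2), (100, 3), (101, 1), (102, 1), (103, 2), (105, 1), (106, 3), (107, 2), (108, 3), (109, 3), (110, 3), (112, 2), (114, 1), (116, 3), (117, 2), (119, 2), (120, 1), (122, 3), (123, 2), (124, 1), (125, 1), (126, 1), (128, 2), (129, 3), (130, 1), (131, 1), (132, 1), (133, 1), (134, 2), (135, 1), (137, 3),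 (139, 1), (140, 1), (143, 2), (144, 3), (145, 1), (146, 2), (156, 1), (157, 2), (158, 2), (160, 1), (161, 3), (162, 1), (164, 3), (165, 1), (168, 1), (170, 1)]),
    ([(0, 2)], [(0, 2), (1, 1), (3, 1), (4, 2), (5, 2), (6, 3), (7, 1), (11, 2), (12, 1), (15, 3), (16, 3), (17, 1), (18, 2), (19, 3), (20, 3), (21, 2), (22, 3), (23, 2), (24, 3), (25, 1), (26, 1), (28, 2), (29, 2), (30, 3), (31, 2), (32, 1), (33, 3), (34, 2), (36, 1), (39, 3), (40, 1), (42, 1), (43, 1), (44, 3), (45, 3), (47, 1), (48, 2), (49, 2), (51, 2), (52, 3), (53, 1), (54, 1), (55, 3), (56, 1), (57, 2), (58, 2), (59, 2), (60, 1), (61, 2), (62, 3), (63, 1), (64, 1), (65, 2), (67, 3), (68, 3), (69, 3), (70, 1), (71, 1), (73, 1), (75, 3), (76, 1), (77, 3), (78, 2), (79, 2), (80, 2), (81, 1), (83, 3), (84, 2), (85, 3), (86, 2), (88, 2), (89, 1), (90, 1), (91, 2), (92, 1), (93, 1), (94, 1), (95, 2), (96, 2), (97, 1), (98, 2), (99, 2), (101, 3), (102,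 1), (103, 2), (104, 2), (107, 2), (108, 2), (109, 1), (111, 1), (112, 2), (113, 1), (114, 3), (115, 3), (118, 2), (119, 2), (120, 3), (122, 3), (124, 3), (125, 3), (126, 1), (127, 3), (128, 2), (129, 1), (130, 3), (131, 3), (132, 2), (133, 1), (134, 1), (135, 1), (137, 3), (140, 1), (143, 2), (145, 1), (147, 1), (148, 2), (149, 1), (150, 1), (153, 2), (154, 2), (161, 2), (164, 2), (165, 2), (166, 2), (167, 2), (168, 2), (169, 2)]),
    ([(0, 1)], [(0, 2), (1, 1), (2, 2), (3, 1), (5, 3), (7, 1), (10, 2), (11, 2), (12, 2), (13, 3), (15, 1), (16, 2), (17, 2), (18, 1), (19, 2), (20, 1), (21, 3), (22, 3), (23, 3), (24, 2), (25, 1), (26, 1), (28, 3), (29, 3), (36, 3), (38, 2), (39, 1), (40, 3), (41, 1), (44, 3), (45, 2), (46, 1), (48, 1), (50, 2), (52, 3), (53, 2), (54, 3), (55, 1), (56, 1), (58, 1), (61, 3), (62, 1), (63, 1), (64, 3), (66, 2), (67, 3), (69, 2), (70, 2), (71, 2), (74, 3), (75, 1), (76, 1), (77, 3),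 (78, 3), (79, 3), (82, 2), (83, 2), (84, 3), (85, 3), (87, 2), (90, 3), (91, 2), (92, 2), (93, 1), (94, 2), (95, 3), (98, 2), (100, 1), (101, 3), (102, 2), (103, 3), (104, 3), (105, 3), (107, 1), (108, 3), (114, 3), (115, 1), (116, 2), (117, 3), (122, 1), (124, 1), (126, 3), (128, 1), (133, 1), (134, 3), (137, 2), (139, 2), (142, 3), (143, 1), (144, 2), (146, 2), (157, 2), (158, 2), (159, 2), (160, 2), (161, 3), (164, 1), (165, 1), (166, 1), (167, 3), (168, 3), (169, 3)]),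
    ([(0, 2)], [(0, 2), (3, 1), (4, 3), (5, 3), (6, 2), (7, 1), (8, 3), (9, 1), (10, 2), (11, 3), (12, 1), (13, 3), (14, 3), (15, 1), (16, 2), (17, 1), (18, 2), (20, 1), (21, 3), (22, 1), (23, 3), (25, 3), (26, 2), (28, 3), (29, 1), (31, 3), (33, 3), (35, 1), (39, 3), (40, 3), (44, 2), (45, 3), (46, 1), (47, 3), (48, 2), (49, 3), (52, 3), (54, 2), (55, 1), (57, 2), (58, 3), (59, 2), (60, 1), (61, 1), (62, 3), (64, 2), (66, 2), (67, 1), (68, 1), (69, 1), (70, 3), (72, 3), (73, 2), (74, 3), (75, 3), (76, 3), (77, 2), (78, 3), (79, 2), (80, 3), (81, 1), (82, 1), (83, 2), (84, 3), (85, 3), (86, 1), (87, 3), (88, 1), (91, 3), (92, 2), (93, 1), (94, 2), (95, 1), (97, 2), (99, 2), (100, 3), (101, 3), (102, 1), (103, 3), (105, 2), (106, 2), (107, 1), (108, 2), (109, 1), (111, 3), (112, 3), (113, 3), (114, 3), (115, 3), (117, 2), (119, 3), (120, 1), (121, 3), (124, 2), (125, 3), (126, 2), (127, 1), (128, 1), (129, 1),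 (130, 3), (131, 3), (132, 1), (133, 1), (134, 2), (135, 1), (137, 1), (139, 2), (140, 1), (142, 1), (143, 2), (144, 3), (145, 1), (146, 2)])]

/-- A part of the certificate. -/
def tgt1 : List (List (ℕ × ℕ) × List (ℕ × ℕ)) := [
    ([(0, 1)], [(0, 2), (2, 2), (3, 1), (4, 1), (5, 1), (6, 2), (7, 3), (8, 2), (9, 2), (10, 3), (12, 2), (13, 1), (14, 3), (15, 3), (16, 3), (17, 3), (18, 1), (19, 2), (20, 2), (21, 1), (22, 3), (23, 3), (24, 3), (26, 1), (27, 2), (28, 2), (29, 2), (30, 3), (32, 3), (34, 1), (35, 1), (36, 1), (38, 2), (39, 3), (41, 2), (42, 3), (44, 2), (45, 3), (46, 1), (47, 3), (48, 3), (52, 1), (53, 3), (54, 2), (55, 3), (57, 2), (60, 3), (63, 1), (64, 1), (65, 2), (67, 1), (68, 3), (69, 3), (71, 1), (73, 1), (75, 3), (76, 1), (77, 3), (79, 3), (80, 3), (83, 3), (85, 3), (86, 1), (88, 3), (89, 1), (90, 3), (91, 3), (93, 3), (94, 1), (95, 3), (96, 3), (97, 1), (98, 2), (99, 2), (100, 3), (101, 2), (102,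 3), (103, 2), (104, 2), (105, 1), (106, 3), (107, 2), (108, 1), (109, 3), (110, 1), (111, 3), (112, 3), (113, 3), (114, 2), (115, 1), (116, 1), (118, 2), (119, 1), (120, 2), (121, 2), (122, 2), (123, 3), (124, 2), (125, 1), (127, 3), (137, 3), (139, 1), (142, 2), (143, 3), (144, 2), (146, 2), (148, 1), (149, 2), (152, 1), (153, 2), (154, 2)]),
    ([], [(0, 1), (1, 2), (2, 3), (4, 2), (5, 2), (8, 2), (9, 3), (10, 3), (11, 2), (12, 3), (13, 3), (14, 3), (15, 3), (16, 2), (17, 1), (21, 1), (22, 1), (23, 1), (24, 3), (26, 3), (28, 3), (29, 3), (31, 1), (35, 1), (36, 1), (38, 3), (40, 3), (42, 1), (43, 3), (44, 3), (48, 3), (50, 3), (52, 3), (53, 2), (54, 1), (55, 1), (56, 3), (57, 2), (58, 3), (59, 3), (60, 2), (61, 2), (62, 3), (64, 2), (65, 1), (67, 3), (68, 2), (70, 2), (71, 2), (72, 1), (73, 3), (77, 2), (78, 3), (79, 1), (80, 1), (82, 2), (83, 1), (84, 3), (85, 3), (86, 3), (87, 2), (88, 1), (89, 2), (91, 3),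 (92, 3), (93, 3), (94, 2), (96, 2), (97, 3), (98, 1), (100, 1), (101, 3), (102, 1), (103, 2), (105, 2), (107, 3), (109, 2), (110, 2), (111, 3), (113, 3), (114, 3), (116, 1), (118, 1), (119, 3), (120, 3), (121, 2), (123, 3), (124, 1), (125, 1), (127, 3), (129, 1), (130, 3), (131, 3), (132, 3), (133, 3), (134, 2), (137, 2), (142, 2), (143, 2), (148, 2), (149, 2), (153, 2), (154, 2)]),
    ([], []),
    ([(0, 1)], [(0, 3), (1, 1), (2, 1), (3, 2), (4, 1), (6, 3), (9, 3), (11, 1), (12, 3), (13, 1), (16, 2), (17, 3), (18, 1), (19, 1), (20, 2), (21, 1), (22, 1), (24, 3), (26, 3), (27, 1), (28, 1), (29, 3), (30, 3), (32, 3), (33, 1), (34, 1), (35, 1), (36, 3), (40, 1), (42, 1), (43, 2), (44, 3), (45, 2), (46, 3), (48, 2), (49, 2), (50, 3), (51, 2), (53, 2), (54, 3), (56, 2), (57, 3), (58, 1), (59, 2), (61, 1), (63, 2), (65, 3), (66, 2), (67, 2), (68, 3), (73, 1), (74, 3), (75, 1), (77, 2), (78, 2), (79, 1), (80, 1),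 (81, 1), (84, 3), (85, 2), (86, 2), (87, 2), (89, 3), (90, 2), (91, 3), (92, 2), (94, 2), (96, 2), (97, 2), (98, 1), (99, 2), (100, 1), (101, 3), (102, 1), (104, 2), (105, 1), (106, 3), (109, 3), (112, 1), (113, 2), (114, 3), (115, 2), (116, 1), (119, 1), (120, 2), (121, 3), (123, 3), (124, 2), (125, 2), (126, 3), (127, 2), (128, 2), (129, 2), (130, 2), (131, 2), (137, 2), (139, 2), (142, 2), (143, 3), (144, 1), (146, 1), (161, 2), (164, 2), (165, 2), (166, 2), (167, 2), (168, 2), (169, 2)]),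
    ([(0, 2)], [(0, 2), (1, 3), (2, 2), (3, 3), (4, 1), (5, 2), (6, 3), (7, 3), (9, 2), (11, 2), (12, 1), (13, 2), (14, 1), (15, 3), (16, 3), (17, 2), (18, 2), (19, 3), (20, 2), (21, 1), (22, 2), (24, 2), (25, 3), (26, 2), (27, 2), (28, 2), (31, 3), (32, 3), (34, 2), (35, 1), (36, 1), (38, 2), (39, 3), (40, 1), (41, 3), (43, 2), (45, 3), (46, 2), (47, 1), (48, 2), (49, 1), (50, 1), (51, 1), (52, 1), (53, 3), (54, 1), (55, 2), (57, 1), (59, 2), (60, 3), (62, 1), (63, 3), (64, 2), (65, 2), (66, 1), (67, 3), (68, 1), (69, 2), (72, 3), (74, 3), (75, 1), (76, 3), (77, 2), (79, 1), (80, 1), (81, 2), (82, 1), (83, 1), (84, 2), (85, 3), (86, 2), (88, 3), (89, 3), (91, 3), (92, 3), (93, 2), (94, 3), (96, 1), (97, 1), (99, 1), (100, 2), (102, 3), (103, 1), (105, 3), (106, 2), (107, 1), (108, 2), (111, 1), (113, 3), (114, 2), (115, 3), (117, 3), (118, 2), (119, 3), (120, 3), (121, 1), (123, 1), (124, 1), (125, 2), (126,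 2), (128, 3), (129, 2), (130, 2), (131, 2), (133, 2), (134, 2), (137, 2), (143, 3), (144, 3), (146, 3)]),
    ([], [(0, 2), (1, 1), (2, 1), (3, 2), (4, 2), (5, 1), (6, 1), (7, 1), (8, 1), (9, 3), (13, 2), (14, 1), (15, 3), (17, 2), (18, 2), (19, 2), (20, 1), (21, 2), (22, 2), (23, 2), (24, 1), (25, 2), (26, 1), (27, 2), (28, 2), (29, 3), (30, 1), (32, 2), (33, 1), (38, 1), (40, 3), (41, 2), (42, 2), (43, 3), (44, 3), (46, 2), (47, 1), (48, 2), (51, 1), (52, 1), (53, 3), (54, 2), (55, 2), (56, 1), (57, 1), (58, 2), (59, 3), (61, 1), (63, 1), (64, 2), (66, 2), (68, 1), (69, 2), (71, 1), (72, 3), (73, 2), (74, 2), (75, 1), (76, 2), (77, 3), (78, 3), (79, 3), (80, 2), (81, 3), (82, 3), (83, 1), (84, 1), (85, 2), (88, 3), (90, 1), (91, 2), (92, 2), (93, 3), (94, 3), (95, 2), (100, 2), (101, 2), (102, 1), (104, 1), (105, 1), (106, 3), (108, 2), (110, 1), (111, 2), (112, 3), (113, 3), (115, 2), (116, 1), (117, 1), (118,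 2), (120, 2), (121, 3), (123, 3), (126, 2), (127, 3), (128, 1), (129, 3), (130, 1), (131, 1), (132, 1), (133, 1), (134, 2), (142, 2), (143, 1), (144, 3), (146, 1), (147, 2), (148, 3), (149, 3), (153, 3), (154, 1)]),
    ([(0, 3)], [(0, 1), (1, 3), (2, 3), (4, 1), (5, 2), (6, 2), (8, 3), (9, 3), (10, 2), (11, 2), (12, 3), (13, 1), (14, 3), (15, 1), (16, 2), (17, 1), (18, 2), (19, 1), (20, 3), (21, 2), (22, 1), (24, 2), (25, 3), (26, 2), (27, 2), (28, 1), (29, 3), (30, 3), (33, 3), (34, 1), (35, 3), (36, 3), (38, 1), (40, 1), (41, 2), (42, 2), (43, 1), (44, 1), (45, 1), (46, 1), (47, 1), (48, 1), (49, 2), (50, 2), (51, 2), (53, 1), (54, 2), (55, 2), (57, 2), (60, 1), (61, 2), (62, 3), (63, 1), (64, 1), (65, 3), (68, 2), (69, 3), (70, 3), (71, 3), (72, 2), (73, 3), (74, 1), (76, 1), (80, 2), (81, 1), (83, 1), (84, 2), (85, 2), (86, 1), (87, 1), (89, 2), (90, 3), (91, 2), (92, 1), (93, 2), (94, 3), (95, 3), (96,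 1), (98, 3), (99, 2), (100, 1), (101, 3), (102, 2), (103, 3), (104, 2), (105, 1), (107, 2), (108, 2), (109, 1), (111, 3), (112, 1), (113, 3), (114, 2), (115, 3), (116, 1), (117, 2), (118, 1), (119, 1), (120, 3), (121, 2), (122, 1), (123, 2), (124, 2), (125, 3), (126, 1), (129, 2), (130, 2), (131, 2), (132, 1), (133, 2), (134, 1), (137, 3), (139, 1), (142, 3), (143, 1), (144, 3), (146, 3), (161, 2), (164, 2), (165, 2), (166, 2), (167, 2), (168, 2), (169, 2)]),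
    ([], [(0, 2), (1, 1), (5, 3), (6, 2), (7, 2), (8, 1), (9, 2), (11, 2), (12, 1), (13, 2), (15, 3), (17, 2), (20, 1), (21, 2), (22, 2), (23, 1), (24, 1), (26, 2), (27, 3), (29, 1), (30, 2), (31, 3), (33, 3), (35, 2), (36, 1), (39, 2), (40, 2), (42, 3), (43, 1), (44, 3), (45, 2), (46, 2), (48, 1), (50, 3), (53, 1), (54, 2), (55, 1), (56, 3), (57, 1), (59, 3), (60, 3), (61, 1), (62, 1), (63, 3), (64, 2), (65, 1), (66, 2), (67, 1), (69, 3), (70, 2), (71, 1), (72, 2), (73, 3), (74, 2), (75, 3), (77, 1), (78, 2), (80, 1), (82, 3), (83, 2), (84, 1), (85, 2), (87, 2), (88, 1), (89, 2), (90, 1), (91, 2), (92, 1), (93, 1), (94, 2), (95, 1), (97, 1), (98, 3), (99, 3), (100, 2), (101, 1), (102, 2), (104, 3), (105, 2), (106, 1), (107, 1), (108, 3), (110, 3), (111, 1), (112, 1), (113, 3), (115, 2), (116, 2), (117, 3), (118, 2), (119, 2), (121, 3), (122, 3), (125, 3), (126, 3), (127, 1), (128, 1), (132, 1), (133, 2), (134,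 1), (137, 2), (142, 3), (143, 3), (144, 3)]),
    ([(0, 3)], [(0, 1), (1, 1), (3, 3), (4, 2), (6, 1), (7, 3), (9, 2), (10, 1), (11, 1), (12, 2), (14, 2), (15, 2), (17, 2), (18, 1), (19, 2), (20, 1), (23, 3), (25, 2), (26, 2), (27, 3), (28, 3), (30, 3), (31, 3), (32, 1), (34, 3), (36, 2), (38, 1), (39, 2), (40, 2), (41, 2), (42, 3), (44, 3), (45, 1), (46, 3), (49, 3), (50, 3), (52, 3), (53, 3), (55, 2), (56, 2), (57, 1), (60, 3), (61, 1), (62, 1), (63, 1), (64, 3), (65, 3), (66, 3), (67, 3), (68, 1), (71, 1), (72, 1), (73, 2), (74, 1), (75, 2), (76, 3), (78, 1), (81, 2), (83, 3), (84, 1), (88, 3), (89, 2), (90, 3), (92, 3), (93, 2), (95, 1), (96, 1), (97, 3), (100, 2), (101, 3), (102, 3), (103, 1), (105, 1), (106, 1), (107, 1), (108, 2), (111, 2), (112, 3), (113, 2), (115, 2), (116, 3), (117, 2), (118, 1), (119, 3), (120, 2), (121, 3), (124, 2), (127, 2), (128, 1), (129, 2), (130, 2), (131, 2), (132, 2), (134,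 2), (137, 2), (139, 3), (142, 1), (143, 1), (144, 3), (148, 2), (149, 2), (153, 2), (154, 2), (157, 2), (158, 2), (159, 2), (160, 2), (161, 3), (164, 1), (165, 1), (166, 1), (167, 3), (168, 3), (169, 3)]),
    ([(0, 2)], [(0, 3), (1, 3), (3, 3), (5, 2), (6, 3), (7, 3), (8, 2), (9, 3), (11, 2), (12, 3), (17, 1), (18, 2), (19, 1), (20, 1), (21, 3), (22, 2), (23, 3), (24, 2), (25, 3), (26, 1), (27, 1), (28, 2), (29, 1), (30, 1), (31, 2), (33, 1), (38, 3), (39, 3), (40, 2), (41, 1), (42, 2), (43, 1), (45, 2), (46, 2), (47, 3), (48, 3), (49, 1), (50, 1), (52, 2), (53, 3), (54, 2), (55, 2), (56, 1), (57, 1), (59, 3), (60, 2), (61, 2), (62, 3), (63, 3), (65, 2), (66, 2), (68, 2), (70, 2), (71, 2), (73, 1), (74, 3), (75, 3), (76, 1), (78, 1), (80, 2), (81, 1), (82, 2), (83, 1), (84, 2), (86, 3), (87, 3), (88, 3), (90, 1), (91, 2), (92, 3), (93, 2), (95, 3), (96, 2), (97, 3), (98, 1), (99, 2), (100, 1), (101, 3), (102,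 2), (103, 3), (104, 1), (106, 2), (107, 2), (108, 2), (110, 2), (111, 2), (112, 3), (113, 2), (114, 3), (115, 3), (117, 1), (118, 3), (119, 2), (120, 3), (122, 2), (123, 2), (124, 2), (125, 2), (126, 2), (127, 1), (129, 3), (130, 1), (131, 1), (132, 3), (133, 1), (137, 2), (144, 3), (146, 3), (147, 2), (148, 3), (149, 3), (153, 3), (154, 1)]),
    ([(0, 2)], [(0, 3), (1, 1), (4, 3), (6, 1), (8, 1), (9, 1), (10, 3), (12, 1), (13, 3), (14, 3), (15, 1), (16, 2), (17, 2), (18, 1), (21, 3), (23, 1), (25, 3), (26, 3), (27, 2), (28, 3), (29, 2), (30, 1), (31, 3), (33, 1), (34, 1), (35, 2), (38, 1), (39, 2), (40, 3), (41, 2), (42, 1), (43, 3), (44, 1), (46, 1), (49, 2), (50, 1), (51, 3), (54, 1), (55, 2), (56, 2), (57, 3), (59, 2), (60, 2), (62, 3), (65, 2), (66, 2), (67, 1), (68, 1), (70, 2), (71, 3), (72, 2), (74, 2), (75, 3), (77, 2), (78, 3), (80, 2), (82, 1), (83, 1), (85, 1), (87, 1), (89, 3), (90, 3), (91, 1),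 (92, 3), (93, 2), (94, 1), (99, 2), (101, 1), (102, 2), (103, 3), (104, 1), (105, 3), (107, 2), (108, 3), (109, 1), (110, 2), (111, 2), (113, 2), (114, 2), (115, 2), (117, 1), (119, 3), (120, 2), (121, 2), (122, 3), (123, 3), (124, 3), (126, 3), (127, 2), (128, 1), (129, 3), (130, 1), (131, 1), (133, 3), (134, 1), (137, 3), (139, 1), (142, 1), (143, 1)]),
    ([], [(2, 1), (3, 3), (4, 3), (5, 2), (6, 2), (8, 1), (9, 3), (10, 2), (12, 2), (13, 3), (14, 1), (15, 3), (16, 3), (17, 1), (19, 2), (21, 1), (23, 1), (25, 3), (26, 3), (29, 2), (30, 2), (31, 3), (34, 2), (35, 3), (36, 1), (38, 1), (40, 1), (41, 3), (42, 1), (43, 3), (44, 2), (46, 3), (47, 1), (48, 3), (50, 2), (51, 2), (52, 3), (53, 1), (54, 1), (55, 1), (56, 2), (58, 1), (60, 3), (61, 2), (62, 1), (64, 1), (66, 1), (69, 2), (70, 1), (71, 1), (72, 2), (74, 1), (76, 3), (77, 1), (78, 3), (79, 1), (82, 2), (84, 1), (85, 1), (87, 3), (88, 1), (89, 3), (90,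 1), (91, 2), (95, 3), (96, 1), (97, 1), (98, 1), (99, 1), (101, 3), (103, 3), (104, 3), (105, 2), (106, 1), (107, 2), (108, 2), (109, 1), (110, 3), (111, 1), (112, 2), (114, 3), (116, 2), (117, 3), (118, 3), (120, 3), (121, 3), (122, 2), (123, 2), (124, 1), (125, 3), (126, 1), (127, 3), (128, 3), (129, 3), (130, 1), (131, 1), (132, 2), (133, 3), (134, 3), (137, 3), (139, 1), (142, 1), (143, 3)]),
    ([], [(0, 1), (1, 1), (6, 2), (7, 3), (9, 3), (10, 1), (12, 2), (13, 3), (14, 1), (15, 1), (17, 3), (18, 3), (19, 3), (20, 1), (21, 3), (22, 1), (23, 2), (26, 2), (27, 1), (28, 3), (29, 2), (30, 3), (31, 2), (32, 2), (33, 3), (34, 3), (35, 3), (36, 1), (40, 1), (42, 3), (43, 2), (44, 1), (45, 3), (46, 1), (49, 3), (50, 2), (51, 3), (52, 1), (55, 3), (57, 2), (59, 2), (60, 1), (61, 3), (62, 3), (64, 1), (67, 1), (68, 2), (69, 2), (70, 1), (71, 1), (72, 3), (73, 3), (74, 3), (75, 2), (76, 3), (78, 2), (79, 1), (80,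 2), (81, 3), (82, 1), (83, 3), (84, 3), (86, 3), (89, 3), (90, 1), (91, 2), (92, 2), (93, 3), (94, 2), (95, 3), (96, 1), (97, 2), (98, 2), (99, 2), (100, 1), (101, 3), (102, 3), (103, 3), (104, 1), (107, 2), (108, 1), (110, 1), (112, 3), (113, 2), (119, 3), (120, 3), (121, 3), (122, 3), (123, 1), (124, 3), (125, 1), (126, 3), (129, 3), (130, 1), (131, 1), (132, 2), (133, 2), (137, 3), (139, 1), (142, 3), (143, 2), (144, 1), (146, 2)]),
    ([(0, 1)], [(0, 3), (1, 1), (2, 2), (3, 3), (4, 1), (5, 3), (7, 2), (9, 3), (10, 3), (11, 2), (12, 3), (13, 1), (14, 2), (15, 1), (16, 3), (17, 1), (19, 3), (21, 3), (22, 3), (23, 2), (24, 2), (25, 1), (28, 1), (29, 1), (30, 1), (32, 3), (33, 1), (34, 2), (39, 2), (40, 1), (41, 2), (42, 3), (43, 2), (44, 2), (46, 3), (47, 1), (48, 3), (49, 2), (50, 1), (51, 3), (52, 3), (54, 2), (57, 1), (59, 1), (60, 1), (61, 1), (62, 1), (64, 1), (65, 1), (66, 1), (68, 1), (69, 1), (70, 3),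 (74, 2), (75, 1), (76, 2), (77, 1), (78, 3), (80, 1), (81, 2), (82, 3), (83, 3), (85, 2), (86, 3), (87, 3), (89, 1), (91, 2), (92, 2), (93, 3), (94, 3), (96, 3), (97, 3), (99, 1), (100, 3), (104, 2), (105, 3), (106, 1), (108, 2), (109, 3), (110, 2), (112, 3), (113, 3), (114, 2), (115, 1), (116, 3), (117, 1), (118, 2), (119, 2), (120, 1), (121, 2), (122, 1), (123, 2), (124, 3), (125, 1), (126, 1), (128, 2), (129, 3), (130, 1), (131, 1), (132, 1), (134, 3), (137, 2), (139, 2), (142, 2), (143, 2), (146, 1), (147, 2), (148, 1), (149, 1), (153, 1), (154, 3)]),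
    ([], [(0, 2), (2, 2), (5, 2), (6, 1), (9, 3), (10, 3), (12, 3), (13, 2), (14, 1), (15, 2), (17, 3), (18, 1), (19, 1), (20, 2), (21, 1), (22, 1), (23, 2), (24, 3), (25, 1), (26, 3), (28, 1), (29, 1), (30, 1), (33, 1), (35, 3), (38, 2), (40, 2), (41, 2), (42, 2), (48, 2), (49, 1), (50, 2), (51, 2), (53, 2), (55, 3), (56, 1), (57, 3), (59, 3), (60, 3), (62, 3), (63, 2), (68, 3), (69, 2), (72, 2), (74, 2), (75, 3), (79, 1), (82, 2), (83, 1), (85, 1), (87, 1), (89, 2), (92, 1), (93, 2), (94, 1), (95, 3), (96, 3), (97, 2), (98, 3), (99, 3), (101, 3), (102, 3), (103, 1), (104, 1), (105, 1), (106, 2), (107, 3), (109, 2), (110, 1), (111, 1), (112, 1), (113, 3), (115, 3), (116, 1), (117, 1), (118, 3), (119, 2), (120, 2), (122, 2), (123, 2), (124, 2), (125, 3), (126, 2), (127, 2), (128, 1), (129, 1), (130, 3), (131, 3), (132, 1), (133, 3), (135, 1), (139, 2), (140, 1), (144, 2), (145, 1), (148, 2), (149, 2), (153, 2),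 (154, 2)]),
    ([(0, 1)], [(0, 3), (1, 2), (2, 2), (3, 3), (5, 1), (6, 1), (8, 3), (9, 2), (10, 3), (12, 1), (13, 1), (14, 1), (15, 1), (17, 2), (19, 1), (20, 3), (21, 3), (24, 3), (25, 2), (26, 3), (27, 1), (28, 2), (29, 1), (33, 1), (34, 2), (35, 2), (39, 3), (40, 3), (41, 3), (42, 3), (43, 2), (44, 3), (45, 1), (46, 2), (47, 3), (48, 1), (49, 2), (50, 1), (51, 1), (53, 2), (54, 3), (55, 2), (56, 2), (57, 3), (58, 1), (59, 3), (61, 2), (64, 1), (65, 3), (68, 2), (69, 2), (71, 1), (72, 1), (73, 2), (74, 3), (75, 3), (76, 2), (77, 3), (78, 1), (79, 3), (80, 1), (81, 3), (82, 1), (83, 3), (84, 1), (85, 3), (86, 1), (87, 3), (88, 2), (90, 1), (91, 2), (92, 1), (94, 3), (95, 1), (96, 2), (98, 2), (99, 1), (101, 3), (102, 3), (103, 1), (104, 2), (105, 1), (106, 3), (107, 2), (108, 3), (109, 1), (112, 2), (113, 3), (114, 2), (115, 3), (117, 2), (118, 1), (119, 1), (120, 2), (121, 3), (122, 2), (123, 1), (124, 1),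 (127, 3), (128, 2), (129, 1), (130, 3), (131, 3), (133, 1), (134, 3), (137, 2), (142, 1), (143, 1), (144, 2), (146, 3), (148, 1), (149, 2), (152, 1), (153, 2), (154, 2), (161, 2), (164, 2), (165, 2), (166, 2), (167, 2), (168, 2), (169, 2)]),
    ([(0, 3)], [(0, 3), (1, 3), (2, 1), (3, 2), (4, 3), (5, 1), (6, 3), (8, 3), (10, 2), (11, 2), (12, 1), (14, 2), (15, 3), (16, 1), (17, 2), (18, 1), (19, 3), (20, 2), (21, 3), (22, 1), (23, 1), (24, 2), (25, 1), (26, 3), (27, 3), (29, 3), (30, 1), (33, 2), (34, 3), (35, 1), (38, 2), (39, 2), (40, 3), (41, 1), (44, 3), (45, 3), (47, 2), (48, 3), (50, 3), (51, 3), (53, 1), (55, 2), (56, 3), (59, 3), (60, 1), (61, 3), (62, 1), (65, 2), (66, 3), (68, 1), (69, 3), (72, 1), (73, 2), (74, 2), (75, 1), (80, 1), (81, 1), (82, 1), (83, 2), (88, 1), (89, 1), (90, 3), (91, 3), (92, 2), (94, 3), (95, 1), (96, 1), (97, 2), (98, 2), (99, 3), (100, 1), (101, 1), (102, 1), (103, 3), (104,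 3), (105, 1), (108, 1), (109, 1), (110, 2), (112, 1), (113, 2), (114, 1), (115, 3), (116, 1), (117, 3), (119, 2), (120, 1), (121, 3), (122, 1), (123, 3), (125, 1), (126, 1), (127, 1), (128, 3), (132, 1), (134, 3), (137, 1), (142, 1), (143, 1), (144, 2), (146, 1), (147, 2), (148, 1), (149, 1), (153, 1), (154, 3), (157, 2), (158, 2), (159, 2), (160, 2), (161, 3), (164, 1), (165, 1), (166, 1), (167, 3), (168, 3), (169, 3)]),
    ([], [(0, 1), (1, 2), (4, 3), (6, 1), (7, 1), (10, 1), (12, 1), (13, 2), (14, 1), (16, 2), (19, 1), (20, 2), (22, 2), (24, 2), (25, 3), (27, 2), (31, 3), (32, 1), (33, 1), (34, 2), (35, 1), (38, 3), (40, 3), (41, 2), (42, 1), (43, 2), (45, 2), (46, 3), (50, 3), (52, 1), (53, 2), (56, 2), (58, 1), (59, 1), (62, 1), (63, 3), (64, 3), (65, 3), (66, 2), (68, 2), (69, 1), (70, 3), (71, 1), (72, 2), (73, 1), (74, 3), (76, 2), (79, 3), (81, 2), (83, 3), (84, 3), (85, 1), (86, 3), (87, 1), (88,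 1), (89, 2), (90, 3), (92, 1), (93, 1), (94, 2), (95, 2), (96, 2), (97, 1), (99, 1), (100, 1), (101, 2), (102, 1), (103, 1), (105, 1), (106, 2), (107, 2), (108, 3), (109, 2), (110, 3), (111, 1), (112, 3), (113, 3), (114, 2), (115, 3), (116, 1), (117, 3), (118, 1), (119, 1), (120, 1), (121, 2), (122, 3), (123, 2), (124, 1), (125, 2), (126, 2), (127, 3), (128, 1), (129, 3), (130, 1), (131, 1), (133, 3), (134, 1), (137, 3), (139, 1), (143, 3), (144, 1)]),
    ([(0, 2)], [(0, 1), (1, 3), (2, 1), (7, 1), (10, 1), (11, 3), (12, 1), (13, 1), (14, 2), (15, 2), (17, 1), (18, 2), (19, 1), (20, 1), (21, 3), (23, 3), (24, 1), (25, 2), (26, 2), (28, 2), (29, 1), (30, 3), (31, 1), (32, 2), (33, 2), (34, 2), (35, 2), (36, 1), (38, 1), (39, 1), (40, 3), (41, 2), (42, 1), (43, 2), (45, 2), (46, 1), (47, 1), (48, 3), (51, 1), (53, 3), (54, 3), (57, 2), (58, 3), (59, 2), (60, 1), (61, 3), (62, 2), (64, 1), (65, 3), (68, 2), (69,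 2), (71, 2), (72, 3), (73, 1), (74, 1), (76, 2), (77, 1), (78, 1), (79, 2), (80, 2), (82, 3), (83, 2), (84, 1), (85, 2), (86, 3), (87, 3), (88, 1), (89, 3), (90, 1), (91, 1), (92, 2), (94, 2), (95, 3), (96, 3), (97, 3), (98, 3), (100, 3), (102, 3), (103, 1), (105, 3), (107, 1), (108, 3), (109, 3), (112, 1), (113, 3), (114, 3), (115, 3), (118, 1), (119, 2), (120, 3), (121, 1), (122, 1), (123, 1), (124, 1), (125, 1), (126, 2), (127, 3), (128, 3), (129, 2), (130, 2), (131, 2), (132, 1), (134, 3), (137, 1), (139, 3), (142, 1), (146, 1)]),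
    ([], [(2, 2), (3, 3), (4, 3), (5, 1), (6, 2), (8, 1), (11, 2), (12, 2), (14, 2), (15, 1), (17, 2), (18, 1), (19, 2), (21, 1), (22, 3), (23, 3), (25, 2), (26, 3), (28, 2), (29, 3), (30, 1), (31, 3), (32, 1), (33, 2), (34, 2), (35, 2), (36, 3), (38, 2), (39, 1), (42, 3), (43, 3), (44, 2), (46, 3), (48, 2), (49, 1), (51, 2), (52, 3), (53, 2), (55, 2), (56, 2), (59, 2), (60, 3), (61, 3), (62, 3), (63, 2), (64, 3), (65, 2), (66, 2), (67, 3), (68, 1), (70, 3), (72, 1), (73, 1), (75, 1), (76, 1), (77, 3), (79, 3), (80, 2), (81, 2), (82, 3), (83, 1), (84, 1), (85, 1), (86, 1), (87, 1), (88, 1), (89, 3), (91, 1), (92, 3), (93, 2), (94, 2), (95, 1), (96, 2), (98, 1), (99, 2), (100, 2), (101, 1), (102, 1), (103, 2), (104, 1), (105, 2), (106, 3), (107, 3), (108, 1), (111, 1), (112, 3), (114, 2), (115, 3), (116, 3), (118, 1), (119, 1), (120, 1), (121, 3), (122, 3), (123, 1), (124, 2), (125, 1), (127, 2), (128, 1), (132,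 3), (133, 1), (137, 3), (139, 1), (142, 1), (143, 3), (144, 2), (146, 1), (147, 2), (148, 3), (149, 3), (153, 3), (154, 1), (161, 2), (164, 2), (165, 2), (166, 2), (167, 2), (168, 2), (169, 2)]),
    ([], [(0, 1), (1, 2), (2, 1), (3, 1), (4, 1), (5, 1), (6, 3), (8, 3), (9, 2), (10, 1), (13, 1), (14, 1), (15, 3), (16, 1), (17, 2), (20, 1), (21, 2), (22, 1), (23, 3), (24, 1), (25, 2), (27, 3), (28, 3), (34, 2), (35, 3), (36, 3), (38, 3), (41, 2), (42, 1), (43, 1), (44, 1), (45, 3), (46, 1), (47, 1), (48, 2), (50, 2), (52, 3), (53, 2), (54, 3), (57, 1), (58, 2), (59, 1), (60, 1), (61, 3), (62, 1), (65, 3), (66, 3), (67, 1), (68, 1), (70, 2), (71, 3), (72, 1), (73, 3), (74, 3), (75, 3), (76, 1), (77, 2), (78, 3), (79, 1), (80, 3), (81, 3), (82, 3), (84, 1), (86, 2), (88, 3), (90, 1), (91, 1), (92, 1), (93, 2), (94, 3), (95, 2), (96, 2), (97, 3), (98, 2), (100, 2), (101, 3), (103, 1), (104, 2), (107, 2), (108, 3),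 (110, 1), (111, 2), (112, 2), (113, 1), (114, 3), (115, 1), (116, 2), (118, 2), (119, 1), (120, 1), (121, 2), (122, 3), (123, 1), (124, 2), (125, 2), (126, 3), (127, 1), (128, 3), (129, 1), (130, 3), (131, 3), (133, 2), (134, 2), (139, 2), (142, 1), (143, 3), (144, 3), (146, 2), (161, 2), (164, 2), (165, 2), (166, 2), (167, 2), (168, 2), (169, 2)]),
    ([], [(0, 3), (1, 3), (2, 2), (3, 1), (4, 3), (5, 1), (6, 3), (8, 2), (9, 2), (10, 2), (11, 2), (12, 2), (13, 3), (14, 3), (15, 2), (16, 3), (17, 2), (18, 1), (19, 2), (20, 1), (21, 2), (22, 2), (25, 1), (29, 3), (30, 2), (31, 1), (32, 2), (33, 1), (35, 3), (36, 2), (38, 2), (39, 1), (40, 2), (41, 3), (42, 3), (43, 1), (45, 1), (46, 3), (47, 2), (48, 1), (49, 2), (50, 3), (52, 2), (53, 2), (54, 1), (55, 3), (57, 3), (58, 1), (60, 3), (62, 3), (63, 2), (67, 1), (68, 3), (69, 2), (70, 1), (71, 3), (75, 2), (76, 2), (77, 2), (78, 2), (79, 2), (80, 3), (82, 2), (84,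 3), (85, 1), (86, 1), (87, 2), (89, 2), (90, 1), (91, 3), (92, 2), (93, 2), (94, 3), (96, 1), (97, 3), (98, 3), (99, 1), (100, 2), (101, 2), (102, 2), (103, 3), (105, 1), (106, 3), (108, 1), (109, 2), (110, 3), (111, 1), (113, 1), (114, 3), (116, 2), (117, 2), (118, 1), (119, 2), (121, 3), (122, 3), (123, 2), (124, 3), (126, 2), (127, 1), (128, 3), (129, 3), (130, 1), (131, 1), (132, 3), (133, 2), (134, 3), (137, 2), (139, 2), (143, 2), (144, 1), (147, 2), (148, 3), (149, 3), (153, 3), (154, 1), (161, 2), (164, 2), (165, 2), (166, 2), (167, 2), (168, 2), (169, 2)]),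
    ([(0, 3)], [(1, 3), (2, 3), (5, 1), (7, 1), (9, 2), (12, 3), (13, 2), (14, 1), (16, 2), (17, 2), (18, 1), (20, 3), (21, 1), (22, 1), (23, 2), (24, 1), (26, 1), (27, 1), (29, 1), (30, 2), (31, 3), (33, 2), (34, 2), (35, 3), (36, 2), (38, 2), (39, 2), (41, 3), (43, 1), (44, 1), (46, 1), (47, 3), (48, 2), (50, 1), (51, 3), (53, 3), (54, 3), (55, 1), (56, 2), (57, 1), (59, 2), (62, 2), (64, 2), (65, 3), (67, 2), (68, 3), (69, 1), (70, 1), (71, 1), (73, 1), (74, 3), (75, 1), (76, 1), (77, 3), (78, 3), (79, 1), (82, 2), (83, 1), (84, 1), (85, 1), (86, 3), (88, 1), (90, 2), (91, 2), (92, 2), (93, 1), (95, 3), (96, 3), (97, 1), (99, 1), (100, 1), (101, 3), (102, 3), (103, 3), (104, 3), (105, 1), (106, 2), (107, 3), (111, 1), (113, 2), (114, 2), (115, 3), (116, 1), (117, 2), (118, 1), (119, 1), (120, 2), (121, 3), (123, 1), (127, 3), (128, 1), (129, 2), (130, 2), (131, 2), (132, 2), (133, 3), (134, 3), (137, 2), (142,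 2), (143, 1), (144, 1), (148, 2), (149, 2), (153, 2), (154, 2)]),
    ([], [(1, 3), (2, 3), (3, 3), (5, 2), (6, 1), (7, 2), (9, 3), (10, 2), (14, 3), (15, 2), (16, 2), (17, 2), (18, 2), (19, 2), (20, 1), (21, 1), (22, 1), (23, 1), (24, 1), (25, 1), (27, 2), (28, 3), (29, 1), (30, 1), (31, 1), (32, 2), (33, 1), (34, 3), (35, 1), (36, 3), (38, 1), (39, 2), (41, 2), (42, 1), (43, 1), (44, 3), (45, 3), (46, 1), (47, 1), (48, 1), (49, 1), (50, 3), (52, 2), (53, 3), (54, 2), (55, 3), (56, 2), (57, 3), (58, 2), (59, 1), (60, 1), (61, 1), (63, 2), (64, 2), (65, 3), (66, 3), (67, 3), (69, 3), (70, 3), (72, 2), (73, 2), (74, 2), (75, 1), (76, 1), (77, 2), (79, 1), (80, 1), (81, 2), (83, 2), (84, 1), (85, 3), (86, 3), (87, 2), (89, 1), (90, 1), (91, 1), (93, 1), (95, 2), (96, 2), (97, 3), (98, 1), (99, 2), (103, 1), (105, 3), (106, 1), (108, 1), (109, 1), (110, 2), (111, 3), (113, 1), (114, 3), (115, 2), (116, 3), (117,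 2), (118, 1), (119, 2), (120, 2), (121, 3), (123, 2), (124, 2), (125, 1), (127, 3), (129, 3), (130, 1), (131, 1), (132, 1), (133, 2), (134, 1), (137, 1), (142, 1), (143, 1), (146, 1), (147, 2), (148, 1), (149, 1), (153, 1), (154, 3), (157, 2), (158, 2), (159, 2), (160, 2), (161, 3), (164, 1), (165, 1), (166, 1), (167, 3), (168, 3), (169, 3)])]

/-- A part of the certificate. -/
def tgt2 : List (List (ℕ × ℕ) × List (ℕ × ℕ)) := [
    ([(0, 1)], [(0, 2), (1, 3), (2, 3), (4, 2), (5, 3), (6, 2), (9, 1), (10, 3), (13, 3), (14, 2), (15, 2), (17, 1), (19, 2), (20, 2), (21, 2), (23, 2), (24, 2), (25, 1), (26, 3), (27, 2), (28, 3), (29, 2), (30, 3), (33, 1), (34, 2), (35, 2), (36, 1), (38, 2), (40, 3), (41, 2), (42, 3), (44, 1), (45, 2), (46, 2), (47, 2), (49, 1), (50, 2), (51, 1), (52, 2), (53, 2), (54, 1), (58, 1), (59, 3), (60, 3), (62, 1), (63, 3), (64, 2), (66, 1), (67, 1), (68, 1), (69, 1), (70, 1), (71, 1), (72,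 3), (73, 3), (74, 2), (76, 1), (77, 2), (78, 2), (81, 1), (82, 2), (84, 2), (86, 1), (87, 1), (88, 1), (89, 2), (90, 3), (91, 3), (93, 1), (94, 2), (95, 2), (96, 1), (98, 3), (99, 3), (100, 3), (101, 3), (103, 2), (104, 2), (105, 1), (108, 3), (109, 2), (110, 2), (111, 3), (112, 1), (113, 3), (114, 3), (115, 3), (117, 2), (118, 1), (119, 2), (120, 2), (121, 3), (122, 1), (124, 2), (125, 1), (127, 2), (132, 1), (133, 3), (142, 3), (143, 2), (144, 2), (146, 1), (148, 2), (149, 2), (153, 2), (154, 2)]),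
    ([], [(0, 2), (1, 3), (2, 2), (3, 3), (4, 3), (5, 3), (6, 3), (7, 2), (8, 2), (9, 2), (10, 3), (12, 1), (13, 1), (14, 1), (15, 3), (16, 1), (17, 3), (18, 2), (19, 2), (20, 2), (22, 3), (23, 1), (24, 3), (25, 3), (26, 2), (27, 3), (28, 2), (29, 1), (30, 2), (31, 2), (32, 2), (33, 1), (34, 3), (35, 3), (36, 3), (38, 1), (39, 1), (41, 3), (43, 1), (44, 3), (45, 2), (46, 3), (47, 1), (49, 2), (50, 3), (51, 1), (52, 3), (53, 3), (54, 2), (56, 3), (57, 1), (59, 1), (60, 2), (62, 3), (63, 3), (65, 2), (66, 3), (67, 2), (69, 1), (70, 3), (71, 2), (72, 2), (74, 1), (75, 2), (76, 3), (77, 1), (78, 2), (80, 1), (81, 3), (83, 2), (85, 2), (86, 2), (87, 3), (88, 1), (89, 1), (90, 2), (91, 3), (93, 1), (94, 2), (95, 1), (96, 3), (97, 2), (98, 1), (100, 1), (101, 2), (102, 2), (103, 1), (104, 2), (105, 1), (106, 2), (108, 3), (110, 3), (111, 1), (112, 1), (113, 1), (115, 1), (117, 2), (118, 2), (119, 2), (123, 1), (124,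 2), (127, 3), (129, 2), (130, 2), (131, 2), (132, 2), (133, 2), (137, 3), (139, 3), (142, 2), (144, 1), (146, 1), (148, 2), (149, 2), (153, 2), (154, 2), (161, 2), (164, 2), (165, 2), (166, 2), (167, 2), (168, 2), (169, 2)]),
    ([], [(0, 3), (1, 2), (2, 3), (4, 2), (5, 3), (6, 3), (9, 3), (11, 1), (12, 1), (13, 3), (14, 2), (16, 2), (17, 2), (18, 2), (19, 1), (20, 1), (21, 3), (23, 3), (24, 1), (25, 1), (26, 2), (27, 2), (29, 1), (32, 1), (33, 2), (35, 3), (36, 3), (38, 3), (39, 3), (40, 1), (41, 1), (42, 2), (43, 3), (45, 3), (48, 3), (49, 3), (50, 2), (51, 2), (52, 1), (53, 2), (55, 3), (56, 1), (57, 3), (58, 1), (59, 2), (60, 3), (61, 2), (62, 1), (63, 1), (64, 1), (65, 1), (66, 3), (67, 1), (68, 1), (70, 3), (71, 1), (72, 1), (73, 3), (75, 1), (76, 2), (77, 3), (79, 3), (82, 2), (83, 1), (84, 2), (85, 1), (86, 3), (88, 1), (89, 3), (90, 1), (93, 3), (94, 1), (95, 1), (96, 1), (97, 2), (98, 3), (99, 1),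 (101, 1), (103, 1), (104, 2), (105, 2), (106, 3), (107, 2), (108, 3), (109, 3), (111, 3), (114, 1), (115, 2), (117, 2), (119, 3), (120, 3), (121, 2), (123, 1), (124, 3), (125, 2), (126, 2), (127, 2), (129, 2), (130, 2), (131, 2), (133, 3), (134, 1), (137, 1), (139, 1), (142, 2), (143, 3), (144, 3), (146, 1), (148, 2), (149, 2), (153, 2), (154, 2)]),
    ([(0, 1)], [(0, 2), (1, 3), (2, 3), (3, 1), (7, 1), (8, 2), (11, 1), (12, 3), (13, 2), (14, 2), (15, 3), (16, 1), (17, 3), (18, 1), (19, 1), (20, 1), (21, 1), (22, 3), (23, 3), (24, 2), (25, 2), (26, 1), (27, 1), (30, 2), (31, 3), (33, 2), (36, 2), (38, 2), (39, 1), (40, 2), (41, 3), (43, 3), (44, 3), (45, 3), (46, 1), (47, 1), (48, 3), (49, 2), (50, 3), (51, 1), (52, 3), (53, 1), (55, 1), (56, 2), (57, 2), (58, 2), (59, 2), (60, 1), (61, 1), (62, 1), (64, 2), (65, 1), (66, 3), (67, 3), (69, 2), (70, 2), (71, 2), (73, 1), (75, 2), (77, 3), (78, 3), (79, 3), (80,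 3), (81, 1), (82, 2), (83, 1), (84, 1), (85, 1), (87, 2), (88, 3), (89, 2), (90, 1), (91, 3), (93, 3), (95, 2), (96, 1), (97, 3), (98, 1), (99, 3), (101, 3), (102, 2), (103, 1), (105, 1), (106, 1), (107, 2), (109, 1), (111, 2), (112, 3), (113, 3), (114, 2), (115, 3), (117, 3), (118, 3), (119, 3), (120, 1), (121, 3), (122, 3), (123, 2), (124, 2), (125, 3), (126, 1), (127, 3), (128, 3), (129, 1), (130, 3), (131, 3), (132, 2), (134, 2), (137, 1), (139, 3), (142, 1), (144, 1), (147, 2), (148, 3), (149, 3), (153, 3), (154, 1)]),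
    ([(0, 2)], [(0, 1), (1, 1), (2, 1), (3, 3), (4, 3), (5, 2), (6, 3), (7, 1), (8, 1), (10, 2), (12, 1), (13, 1), (14, 1), (15, 2), (16, 2), (18, 2), (19, 1), (20, 3), (21, 3), (22, 3), (24, 3), (25, 3), (26, 3), (27, 2), (30, 2), (31, 3), (32, 2), (33, 3), (35, 3), (38, 2), (39, 3), (40, 2), (41, 3), (42, 3), (43, 3), (45, 1), (46, 2), (47, 1), (48, 3), (49, 1), (50, 3), (51, 1), (52, 3), (53, 2), (54, 1), (55, 2), (56, 1), (57, 1), (59, 1), (60, 3), (62, 1), (63, 1), (64, 1), (65, 3), (66, 1), (67, 3), (68, 2), (70, 1), (71, 1), (73, 2), (74, 2), (75, 2), (76, 3), (77, 1), (78, 2), (79, 1), (80, 2), (81, 3), (83, 2), (84, 1), (85, 1), (86, 3), (87, 3), (88, 3), (89, 2), (90, 1), (91, 3), (92, 3), (93, 2), (94, 3), (95, 2), (96, 2), (102, 3), (104, 2), (105, 2), (106, 1), (107, 1), (109, 2), (110, 1), (111, 1), (114, 1), (116, 2), (118, 1), (120, 1), (121, 2), (122, 3), (125, 2), (126, 2), (143, 1), (144, 3)]),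
    ([(0, 2)], [(0, 1), (2, 2), (4, 3), (5, 2), (7, 2), (8, 1), (9, 3), (10, 2), (12, 1), (13, 2), (14, 2), (16, 2), (18, 2), (19, 3), (20, 2), (21, 1), (23, 1), (24, 2), (25, 3), (26, 1), (27, 2), (28, 3), (29, 2), (32, 1), (34, 1), (35, 3), (38, 3), (40, 1), (42, 3), (44, 1), (45, 3), (47, 1), (48, 3), (49, 2), (50, 3), (51, 3), (52, 1), (53, 3), (54, 1), (55, 1), (56, 3), (57, 2), (58, 2), (59, 3), (60, 3), (61, 3), (62, 3), (63, 1), (65, 1), (66, 1), (67, 1), (69, 3), (70, 1), (71, 3), (73, 3), (74, 2), (76, 2), (77, 2), (78, 1), (79, 2), (80, 2), (81, 3), (83, 2), (84, 1), (86, 3), (87, 1), (88, 2), (91, 3), (92, 1), (93, 1), (94, 2), (95, 3), (96, 1), (97, 2), (98, 1), (99, 2), (100, 3), (101, 1), (103, 3), (104, 2), (106, 2), (107, 3), (110, 3), (111, 3), (112, 3), (113, 3), (115, 1), (116, 2), (117, 3), (119, 3), (120, 3), (121, 2), (123, 1), (124, 1), (126, 1), (127, 3), (128, 1), (129, 2), (130, 2),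 (131, 2), (133, 3), (134, 1), (137, 1), (139, 2), (142, 3), (143, 3), (144, 2), (146, 3), (147, 2), (148, 3), (149, 3), (153, 3), (154, 1), (157, 2), (158, 2), (159, 2), (160, 2), (161, 1), (164, 3), (165, 3), (166, 3), (167, 1), (168, 1), (169, 1)]),
    ([(0, 1)], [(0, 2), (1, 2), (2, 3), (4, 3), (5, 1), (7, 1), (8, 3), (10, 1), (11, 2), (14, 3), (15, 1), (16, 2), (17, 1), (19, 2), (20, 1), (21, 2), (22, 1), (23, 3), (24, 3), (25, 2), (28, 3), (29, 2), (30, 2), (32, 3), (33, 2), (34, 3), (35, 3), (38, 3), (39, 1), (40, 3), (43, 2), (46, 2), (47, 2), (48, 1), (50, 3), (51, 2), (52, 2), (53, 3), (54, 1), (56, 1), (57, 1), (58, 2), (59, 2), (60, 1), (61, 3), (62, 2), (63, 2), (65, 1), (68, 3), (69, 1), (70, 1), (71, 1), (72, 2), (73, 1), (75, 3), (76, 1), (77, 2), (80, 3), (82, 3), (83, 1), (84, 2), (85, 1), (86, 3), (87, 3), (88, 3), (89, 2), (91, 1), (92, 1), (93, 2), (94, 3), (95, 1), (96, 1), (97, 1), (99,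 3), (101, 1), (102, 3), (105, 3), (106, 1), (107, 1), (108, 3), (109, 2), (110, 1), (112, 3), (113, 2), (114, 3), (115, 3), (116, 3), (120, 2), (121, 1), (122, 1), (123, 2), (124, 1), (125, 3), (126, 1), (127, 3), (129, 3), (130, 1), (131, 1), (132, 2), (134, 2), (142, 1), (143, 2), (144, 1), (146, 1), (147, 2), (148, 1), (149, 1), (153, 1), (154, 3), (161, 2), (164, 2), (165, 2), (166, 2), (167, 2), (168, 2), (169, 2)]),
    ([], [(0, 1), (1, 3), (2, 3), (3, 2), (4, 1), (5, 1), (6, 2), (7, 1), (8, 2), (9, 1), (10, 2), (11, 3), (12, 3), (14, 2), (15, 1), (16, 1), (17, 1), (18, 2), (19, 2), (20, 2), (21, 3), (23, 1), (24, 2), (28, 2), (30, 2), (31, 1), (32, 2), (34, 2), (35, 3), (36, 1), (38, 1), (39, 3), (40, 2), (42, 2), (44, 1), (45, 3), (46, 3), (48, 2), (50, 3), (51, 1), (52, 1), (53, 2), (55, 1), (57, 1), (58, 2), (59, 1), (60, 3), (61, 2), (62, 2), (63, 2), (64, 2), (65, 2), (66, 3), (67, 3), (69, 1), (70,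 2), (72, 1), (73, 2), (74, 3), (75, 1), (76, 3), (77, 1), (78, 2), (81, 1), (82, 1), (84, 3), (85, 2), (86, 2), (87, 2), (89, 1), (90, 3), (91, 3), (92, 1), (93, 3), (94, 1), (95, 1), (96, 3), (97, 2), (98, 3), (101, 2), (102, 2), (104, 3), (105, 3), (107, 2), (108, 1), (109, 2), (110, 3), (111, 3), (112, 1), (113, 2), (115, 3), (116, 2), (117, 3), (118, 2), (119, 2), (120, 3), (122, 2), (123, 3), (124, 3), (125, 3), (126, 3), (127, 3), (129, 1), (130, 3), (131, 3), (132, 2), (133, 2), (137, 3), (139, 1), (142, 1), (143, 2), (144, 1), (146, 3), (147, 2), (148, 1), (149, 1), (153, 1), (154, 3)]),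
    ([(0, 2)], [(0, 2), (1, 3), (2, 1), (3, 1), (6, 1), (7, 1), (8, 2), (9, 3), (10, 1), (13, 2), (15, 2), (16, 3), (17, 1), (18, 1), (19, 3), (20, 1), (21, 1), (22, 1), (25, 3), (26, 1), (27, 3), (30, 2), (31, 1), (32, 3), (34, 2), (35, 1), (36, 3), (38, 2), (39, 3), (40, 3), (41, 2), (43, 2), (44, 1), (46, 1), (49, 2), (50, 1), (51, 1), (54, 3), (56, 1), (58, 1), (59, 1), (61, 1), (62, 1), (64, 2), (65, 3), (67, 2), (68, 3), (69, 1), (70, 2), (72, 2), (73, 1), (74, 3), (75, 2), (77, 3), (78, 1), (80, 2), (81, 2), (82, 2), (84, 1), (85, 1), (87, 2), (88, 2), (89, 1), (90, 3), (91, 1), (93, 3), (94, 1), (95, 2), (96, 1), (97, 3), (98, 1), (100, 1), (101, 2), (102, 2), (103, 3), (104, 2), (105, 1), (106, 3), (107, 2), (108, 3), (111, 1), (112, 1), (113, 3), (114, 1), (115, 1), (117, 1), (118, 3), (119, 2), (120, 1), (121, 3), (123, 2), (124, 2), (125, 2), (126, 3), (127, 2), (129, 3), (130, 1), (131, 1), (132,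 3), (133, 2), (134, 3), (137, 1), (139, 3), (142, 2), (143, 1), (144, 2), (146, 2), (161, 2), (164, 2), (165, 2), (166, 2), (167, 2), (168, 2), (169, 2)]),
    ([(0, 1)], [(0, 3), (1, 3), (2, 1), (3, 1), (4, 3), (5, 1), (6, 3), (7, 2), (8, 2), (9, 1), (10, 1), (11, 2), (13, 2), (14, 3), (16, 3), (18, 1), (19, 1), (21, 2), (22, 1), (23, 3), (24, 3), (25, 3), (26, 2), (27, 3), (28, 1), (29, 3), (30, 1), (32, 3), (33, 3), (35, 1), (36, 1), (38, 1), (39, 3), (40, 1), (42, 2), (43, 3), (44, 3), (45, 1), (46, 1), (47, 3), (48, 3), (49, 1), (51, 2), (52, 1), (53, 3), (54, 3), (55, 2), (56, 1), (57, 3), (58, 1), (59, 1), (61, 1), (63, 1), (64, 3), (65, 3), (66, 1), (68, 3), (69, 1), (70, 2), (71, 1), (72, 2), (74, 2), (75, 1), (76, 2), (77, 3), (78, 1), (79, 2), (80, 3), (81, 3), (82, 1), (84, 1), (85, 2), (86, 2), (87, 1), (90, 1), (91, 1), (92, 3), (94, 1), (97, 1), (99, 2), (102, 1), (104, 1), (105, 2), (106, 2),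 (107, 2), (108, 2), (109, 1), (110, 2), (112, 3), (114, 1), (115, 3), (117, 2), (118, 3), (119, 1), (120, 2), (121, 1), (125, 3), (126, 3), (129, 1), (130, 3), (131, 3), (132, 2), (133, 2), (137, 2), (139, 2), (142, 3), (143, 3), (144, 1), (161, 2), (164, 2), (165, 2), (166, 2), (167, 2), (168, 2), (169, 2)]),
    ([(0, 3)], [(0, 2), (1, 1), (2, 1), (4, 1), (5, 1), (6, 3), (7, 2), (8, 2), (9, 2), (10, 2), (11, 1), (12, 3), (13, 3), (15, 3), (16, 3), (17, 2), (20, 3), (22, 2), (23, 3), (26, 3), (27, 1), (28, 1), (30, 1), (32, 1), (33, 2), (34, 3), (35, 1), (36, 3), (38, 3), (39, 1), (40, 3), (41, 1), (43, 3), (44, 2), (45, 2), (48, 3), (49, 1), (51, 1), (52, 3), (55, 3), (56, 3), (57, 3), (59, 3), (60, 1), (61, 3), (63, 3), (64, 1), (65, 1), (67, 2), (68, 2), (71, 2), (74, 2), (75, 3), (77, 2), (78, 2), (79, 1), (80, 1), (81, 1), (82, 3), (83, 1), (84, 2), (85, 2), (86, 3), (88, 1), (90, 2), (92, 2), (93, 2),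 (95, 2), (97, 2), (100, 3), (101, 3), (102, 2), (103, 1), (104, 2), (105, 3), (106, 1), (107, 2), (109, 2), (110, 2), (112, 1), (113, 1), (114, 2), (115, 3), (116, 3), (117, 1), (118, 3), (119, 3), (121, 2), (122, 2), (123, 3), (124, 3), (126, 3), (127, 2), (128, 2), (129, 3), (130, 1), (131, 1), (132, 1), (134, 3), (137, 2), (139, 2), (142, 2), (144, 2), (146, 1), (147, 2), (148, 1), (149, 1), (153, 1), (154, 3)]),
    ([(0, 3)], [(0, 1), (1, 1), (2, 3), (3, 1), (4, 3), (6, 1), (8, 1), (9, 2), (10, 1), (11, 1), (12, 2), (14, 3), (15, 1), (16, 2), (17, 2), (18, 1), (20, 2), (22, 3), (23, 1), (24, 1), (26, 1), (27, 3), (28, 1), (29, 1), (30, 3), (31, 1), (32, 3), (33, 1), (35, 2), (38, 1), (41, 1), (42, 2), (44, 2), (45, 3), (46, 2), (48, 1), (49, 3), (50, 2), (51, 1), (52, 2), (53, 3), (54, 3), (55, 2), (57, 3), (58, 2), (59, 3), (60, 3), (62, 2), (63, 2), (64, 2), (65, 3), (66, 2), (67, 2), (68, 3), (69, 1),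 (71, 1), (72, 1), (75, 3), (77, 2), (78, 2), (79, 3), (80, 3), (81, 1), (82, 3), (85, 1), (87, 2), (88, 2), (91, 2), (92, 2), (93, 1), (94, 3), (96, 1), (97, 2), (100, 3), (101, 3), (102, 2), (103, 3), (104, 3), (105, 3), (108, 1), (109, 3), (110, 1), (111, 2), (112, 1), (114, 3), (115, 2), (116, 1), (117, 2), (118, 3), (119, 3), (122, 3), (123, 2), (124, 3), (125, 3), (126, 2), (127, 3), (129, 2), (130, 2), (131, 2), (132, 2), (133, 2), (139, 2), (142, 2), (143, 1), (146, 2), (147, 2), (148, 3), (149, 3), (153, 3), (154, 1)]),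
    ([(0, 2)], [(0, 3), (2, 3), (3, 1), (4, 2), (6, 2), (7, 1), (8, 2), (9, 3), (14, 1), (15, 1), (16, 1), (18, 1), (19, 3), (21, 1), (23, 1), (24, 1), (25, 1), (26, 3), (29, 2), (30, 2), (31, 2), (32, 1), (33, 1), (34, 2), (38, 1), (39, 1), (42, 3), (43, 3), (44, 3), (45, 1), (48, 2), (49, 2), (50, 1), (51, 2), (52, 2), (53, 2), (54, 3), (55, 1), (56, 3), (57, 2), (58, 2), (59, 1), (60, 2), (61, 1), (63, 2), (64, 3), (65, 1), (68, 1), (69, 3), (70, 1), (71, 3), (74, 2), (75, 2), (77, 2), (78, 2), (79, 3), (80, 1), (81, 2), (83, 2), (88, 3), (89, 3), (90, 2), (91, 2), (92, 2), (93, 3), (94, 2), (95, 1), (96, 2), (97, 2), (99, 3), (100, 1), (101, 2), (103, 3), (104, 1), (106, 2), (107, 2), (108, 1), (109, 2), (110, 3), (111, 3), (113, 3), (114, 3), (115, 3), (116, 3), (117, 1), (119, 1), (120, 1), (121, 1), (122, 3), (123, 3), (125, 3), (126, 1), (127, 1), (133, 2), (134, 2), (137, 2)]),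
    ([], [(2, 2), (3, 2), (4, 3), (5, 1), (6, 3), (8, 1), (9, 3), (10, 3), (11, 2), (13, 1), (14, 2), (15, 2), (16, 1), (17, 1), (21, 3), (24, 3), (25, 3), (26, 2), (29, 2), (30, 2), (31, 3), (34, 1), (36, 2), (38, 2), (40, 1), (41, 1), (42, 2), (44, 2), (45, 2), (46, 1), (47, 1), (48, 1), (50, 2), (51, 2), (52, 3), (53, 3), (54, 3), (55, 3), (56, 1), (57, 2), (59, 2), (60, 2), (61, 2), (63, 1), (64, 3), (65, 1), (66, 2), (67, 2), (71, 1), (72, 3), (73, 2), (74, 1), (75, 2), (76, 1), (77, 1), (78, 1), (80, 3), (81, 2), (83, 1), (84, 3), (85, 1), (88, 1), (89, 2), (90, 1), (91, 3), (92, 2), (93, 3), (97, 3), (98, 3), (99, 3), (100, 3), (101, 3), (102, 2), (103, 1), (104, 3), (106, 2), (107, 1), (108, 1), (109, 1), (110, 2), (112, 3), (115, 3), (117, 1), (120, 3), (121, 2), (125, 2), (127, 1), (132, 2), (134, 2), (137, 2), (143, 3), (144, 2)]),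
    ([(0, 1)], [(0, 1), (1, 1), (2, 2), (3, 2), (4, 3), (6, 1), (8, 1), (9, 3), (10, 1), (11, 1), (13, 1), (14, 3), (16, 3), (17, 1), (18, 1), (20, 3), (21, 2), (22, 3), (23, 1), (24, 1), (25, 2), (28, 1), (30, 2), (31, 2), (32, 2), (33, 3), (34, 1), (35, 2), (38, 1), (39, 1), (40, 3), (42, 3), (44, 1), (45, 3), (47, 1), (48, 2), (49, 2), (50, 1), (51, 1), (53, 2), (54, 3), (55, 1), (56, 1), (57, 3), (58, 2), (61, 1), (62, 3), (63, 3), (64, 3), (65, 2), (66, 1), (67, 3), (68, 3), (69, 2), (70, 3), (71, 3), (72, 1), (73, 1), (74, 3), (75, 3), (76, 2), (77, 1), (78, 2), (80, 3), (81, 2), (82, 3), (84, 2), (85, 2), (86, 3), (87, 2), (88, 2), (89, 1), (90, 1), (93, 2), (94, 2), (95, 1), (96, 1), (97, 3), (98, 3), (99, 1), (100, 1), (102, 2), (103, 2), (104, 1), (105, 3), (106, 3), (107, 1), (108, 1), (109, 2), (111, 1), (112, 3), (115, 2), (116, 2), (118, 2), (119, 3), (120, 1), (122, 3), (125, 3), (126, 3), (128,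 3), (129, 2), (130, 2), (131, 2), (132, 3), (133, 3), (134, 2), (137, 1), (139, 3), (142, 3), (143, 2), (144, 2), (146, 2), (148, 2), (149, 2), (153, 2), (154, 2), (161, 2), (164, 2), (165, 2), (166, 2), (167, 2), (168, 2), (169, 2)]),
    ([(0, 2)], [(0, 2), (1, 3), (2, 3), (3, 3), (5, 3), (6, 1), (7, 2), (8, 3), (9, 1), (10, 1), (11, 1), (12, 3), (14, 2), (15, 3), (16, 3), (17, 1), (18, 3), (19, 3), (21, 1), (22, 3), (24, 3), (26, 1), (28, 3), (31, 2), (32, 2), (33, 2), (35, 2), (36, 2), (38, 3), (39, 2), (40, 1), (41, 3), (43, 3), (44, 3), (47, 1), (48, 3), (49, 3), (50, 3), (51, 3), (52, 1), (53, 1), (55, 3), (56, 1), (57, 1), (59, 1), (63, 1), (64, 3), (66, 2), (67, 3), (68, 1), (69, 1), (71, 1), (72, 3), (73, 3), (74, 2), (75, 1), (76, 1), (78, 2), (79, 2), (80, 1), (82, 2), (85, 2), (86, 1), (87, 2), (88, 3), (89, 3), (91, 2), (92, 3), (93, 1), (94, 1), (95, 3), (96, 1), (98, 2), (99, 3), (101, 1), (102,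 1), (103, 2), (106, 3), (107, 2), (108, 3), (109, 1), (110, 2), (111, 3), (112, 1), (113, 1), (114, 1), (115, 2), (116, 3), (117, 2), (118, 3), (119, 2), (120, 1), (121, 2), (122, 3), (123, 2), (124, 3), (125, 1), (126, 2), (127, 3), (128, 2), (132, 3), (133, 3), (134, 2), (137, 1), (139, 3), (142, 3), (143, 3), (144, 2), (147, 2), (148, 3), (149, 3), (153, 3), (154, 1), (161, 2), (164, 2), (165, 2), (166, 2), (167, 2), (168, 2), (169, 2)]),
    ([], [(0, 3), (1, 2), (2, 3), (3, 3), (4, 1), (5, 3), (6, 3), (9, 1), (10, 1), (12, 2), (13, 1), (16, 3), (18, 2), (19, 3), (21, 3), (22, 2), (23, 3), (24, 3), (25, 3), (26, 2), (28, 3), (29, 2), (30, 1), (31, 1), (33, 3), (34, 2), (35, 3), (36, 2), (38, 2), (39, 1), (42, 1), (44, 3), (45, 2), (46, 2), (47, 3), (48, 1), (49, 2), (50, 3), (51, 1), (52, 1), (54, 1), (55, 3), (57, 2), (61, 2), (63, 3), (64, 3), (65, 2), (66, 1), (67, 3), (68, 3), (69, 1), (70, 3), (71, 3),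 (72, 2), (74, 2), (75, 1), (76, 2), (79, 2), (80, 3), (81, 2), (82, 1), (83, 1), (84, 2), (85, 3), (86, 2), (88, 3), (89, 1), (90, 2), (91, 1), (92, 3), (93, 2), (94, 2), (96, 2), (97, 2), (98, 3), (100, 3), (102, 3), (103, 3), (104, 1), (105, 2), (106, 3), (107, 2), (108, 2), (109, 2), (110, 3), (111, 1), (114, 2), (117, 2), (119, 1), (120, 1), (121, 2), (122, 1), (123, 3), (124, 1), (125, 3), (126, 2), (127, 1), (128, 2), (132, 3), (133, 1), (137, 2), (139, 2), (142, 1), (143, 3), (144, 2), (146, 2), (148, 2), (149, 2), (153, 2), (154, 2)]),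
    ([], [(0, 2), (2, 1), (3, 1), (5, 3), (6, 2), (7, 3), (8, 1), (9, 3), (10, 2), (11, 2), (12, 3), (13, 1), (14, 1), (17, 2), (18, 1), (19, 3), (20, 2), (22, 3), (24, 2), (26, 1), (27, 2), (28, 3), (29, 3), (30, 2), (32, 2), (33, 1), (34, 2), (35, 3), (36, 1), (38, 3), (39, 3), (40, 2), (43, 2), (44, 1), (47, 3), (48, 3), (50, 2), (52, 3), (53, 1), (54, 1), (55, 1), (56, 2), (57, 2), (58, 2), (59, 2), (60, 2), (61, 1), (63, 1), (64, 3), (65, 2), (66, 1), (67, 1), (69, 3), (70, 3), (71, 1), (72, 2), (73, 3), (74, 2), (75, 1), (76, 3), (77, 1), (78, 3), (79, 1), (80, 3), (81, 3), (82, 2), (83, 1), (84, 1), (85, 1), (86, 1), (87, 2), (88, 2), (89, 2), (90, 1), (91, 1), (92, 3), (94, 3), (95, 1), (96, 2), (97, 2), (98, 1), (99, 3), (102, 3), (103, 3), (104, 1), (105, 1), (106, 2), (107, 3), (108, 2), (109, 3), (110, 1), (112, 3), (113, 1), (114, 2), (115, 2), (116, 3), (117, 2), (119, 2), (120, 1), (121, 3), (122,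 3), (123, 3), (125, 3), (127, 3), (129, 3), (130, 1), (131, 1), (132, 1), (133, 1), (134, 2), (137, 3), (139, 3), (142, 2), (144, 3), (146, 2), (148, 2), (149, 2), (153, 2), (154, 2)]),
    ([], [(0, 3), (2, 3), (3, 2), (4, 3), (5, 3), (6, 1), (7, 2), (8, 1), (9, 2), (10, 3), (11, 1), (12, 3), (14, 1), (15, 1), (16, 1), (17, 2), (18, 3), (19, 1), (20, 3), (21, 2), (22, 2), (23, 3), (24, 1), (25, 1), (26, 3), (27, 3), (28, 1), (29, 3), (32, 2), (33, 1), (35, 3), (36, 1), (39, 3), (41, 2), (43, 3), (44, 3), (46, 2), (47, 2), (48, 2), (49, 3), (50, 1), (51, 1), (52, 2), (54, 2), (56, 1), (57, 1), (58, 2), (60, 1), (62, 1), (63, 3), (64, 2), (65, 2), (66, 1), (67, 1), (68, 2), (69, 3), (71, 1), (72, 2), (73, 3), (76, 1), (77, 1), (78, 3), (80, 2), (81, 1), (82, 3), (83, 3), (86, 2), (88, 3), (89, 3), (90, 3), (91, 1), (93, 1), (95, 3), (96, 2), (97, 1), (98, 3), (99, 2), (100, 3), (101, 3), (102, 2), (103, 2), (104,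 3), (105, 2), (107, 3), (108, 3), (110, 2), (111, 2), (112, 1), (113, 2), (114, 3), (115, 2), (116, 2), (117, 1), (118, 2), (119, 2), (120, 1), (122, 1), (126, 3), (127, 3), (129, 2), (130, 2), (131, 2), (132, 1), (133, 2), (134, 1), (137, 1), (139, 3), (142, 3), (143, 2), (144, 1), (146, 3)]),
    ([], [(0, 1), (1, 2), (2, 3), (3, 2), (4, 2), (5, 3), (6, 3), (8, 2), (10, 1), (11, 1), (12, 1), (13, 1), (14, 3), (15, 3), (16, 2), (18, 3), (19, 1), (20, 2), (23, 2), (24, 2), (25, 2), (26, 2), (27, 2), (28, 3), (30, 2), (33, 3), (34, 2), (35, 1), (38, 3), (39, 2), (40, 2), (41, 3), (42, 3), (43, 1), (44, 3), (45, 1), (46, 2), (47, 3), (48, 3), (50, 1), (52, 2), (53, 3), (54, 1), (55, 3), (59, 1), (60, 2), (62, 1), (64, 3), (65, 3), (67, 2), (68, 1), (69, 1), (70, 1), (71, 3), (72, 3), (73, 2), (76, 2), (79, 2), (81, 1), (82, 1), (83, 3), (84, 3), (85, 2), (86, 1), (87, 2), (88, 1), (89, 2), (90, 3), (91, 3), (92,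 1), (94, 1), (95, 1), (96, 3), (97, 1), (98, 1), (99, 2), (100, 3), (102, 2), (103, 1), (105, 3), (106, 1), (107, 1), (108, 2), (109, 3), (110, 1), (111, 1), (112, 1), (113, 1), (115, 2), (116, 1), (117, 3), (118, 3), (120, 3), (121, 1), (122, 3), (123, 3), (125, 1), (126, 1), (127, 2), (132, 3), (134, 1), (137, 1), (139, 1), (142, 3), (144, 3), (146, 3), (147, 2), (148, 1), (149, 1), (153, 1), (154, 3)]),
    ([(0, 2)], [(0, 3), (2, 1), (4, 3), (7, 1), (8, 3), (10, 1), (12, 2), (13, 2), (14, 2), (15, 1), (16, 2), (17, 1), (18, 3), (20, 1), (21, 2), (22, 2), (23, 3), (24, 3), (25, 1), (26, 3), (27, 1), (28, 3), (29, 3), (30, 2), (31, 2), (32, 3), (34, 2), (35, 2), (36, 2), (39, 1), (40, 2), (41, 2), (42, 3), (44, 3), (45, 3), (47, 1), (48, 1), (49, 3), (50, 2), (51, 2), (52, 3), (53, 2), (54, 2), (55, 2), (56, 1), (57, 1), (59, 2), (60, 2), (61, 3), (62, 1), (64, 3), (65, 3), (67, 3), (68, 1), (69, 3), (70, 3),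 (71, 2), (73, 2), (74, 2), (75, 2), (76, 1), (77, 2), (78, 1), (79, 3), (80, 2), (82, 2), (83, 2), (84, 2), (85, 1), (86, 2), (87, 1), (90, 1), (91, 1), (92, 3), (95, 1), (96, 2), (97, 2), (99, 1), (100, 1), (101, 1), (102, 2), (103, 3), (104, 3), (105, 3), (106, 1), (107, 1), (108, 3), (109, 1), (110, 1), (111, 2), (113, 1), (114, 1), (115, 2), (116, 2), (118, 2), (119, 3), (121, 3), (122, 2), (123, 1), (124, 3), (125, 3), (126, 2), (127, 1), (128, 3), (132, 3), (133, 2), (134, 3), (137, 1), (139, 1), (142, 3), (143, 2), (144, 1), (146, 3), (147, 2), (148, 1), (149, 1), (153, 1), (154, 3)]),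
    ([], [(0, 2), (1, 3), (2, 2), (3, 2), (4, 2), (5, 1), (6, 3), (7, 1), (8, 3), (9, 3), (10, 2), (11, 1), (12, 3), (13, 2), (14, 2), (15, 1), (16, 1), (18, 3), (19, 1), (21, 3), (23, 1), (24, 3), (26, 3), (27, 3), (28, 1), (29, 3), (30, 1), (31, 3), (32, 2), (33, 1), (34, 3), (35, 1), (36, 3), (38, 1), (39, 2), (40, 3), (41, 3), (42, 3), (43, 2), (44, 3), (45, 1), (46, 1), (47, 3), (48, 1), (49, 2), (50, 2), (51, 2), (54, 3), (55, 3), (56, 3), (59, 1), (60, 2), (61, 2), (63, 2), (64, 3), (65, 2), (66, 1), (67, 2), (68, 1), (69, 3), (71, 1), (72, 3), (74, 2), (77, 1), (78, 3), (80, 3), (81, 2), (82, 2), (83, 1), (84, 3), (86, 1), (87, 1), (88, 2), (90, 3), (91, 3), (92, 3), (93, 3), (94, 1), (95, 3), (96, 2), (97, 1), (98, 2), (99, 3), (100, 3), (101, 2), (102, 1), (103, 1), (105, 1), (106, 2), (108, 3), (110, 2), (111, 3), (112, 2), (114, 2), (115, 1), (116, 1), (117, 3), (118, 3), (119, 2), (120, 3), (121,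 1), (122, 1), (123, 1), (125, 3), (126, 1), (127, 2), (128, 3), (132, 2), (133, 2), (142, 2), (143, 3), (144, 2), (146, 2)]),
    ([(0, 2)], [(0, 1), (1, 2), (2, 3), (3, 1), (4, 2), (5, 3), (6, 2), (8, 1), (10, 1), (11, 1), (12, 2), (13, 3), (16, 2), (17, 3), (19, 1), (20, 3), (22, 3), (24, 2), (26, 1), (27, 1), (28, 2), (29, 3), (30, 2), (31, 1), (35, 1), (36, 1), (38, 3), (39, 3), (40, 3), (41, 2), (42, 1), (44, 3), (45, 2), (46, 1), (48, 3), (51, 2), (52, 2), (55, 3), (56, 1), (57, 1), (58, 1), (59, 1), (60, 2), (61, 2), (62, 1), (63, 3), (65, 3), (66, 1), (68, 1), (69, 3), (70, 2), (71, 1), (72, 2), (73, 2), (74, 3), (75, 2), (76, 2), (77, 1), (78, 1), (79, 1), (80, 3), (82, 2), (83, 1), (84, 3), (87, 3), (88, 1), (89, 3), (90, 1), (91, 3), (92, 2), (93, 2), (95, 2), (96, 2), (97, 1), (99, 3), (100, 1), (101, 3), (102, 3), (103, 3), (104, 1), (105, 3), (106, 1), (107, 3), (108, 3), (109, 2), (111, 2), (113,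 3), (114, 2), (115, 1), (116, 1), (117, 1), (118, 2), (119, 1), (121, 1), (122, 3), (123, 2), (124, 3), (126, 2), (127, 3), (128, 2), (132, 2), (134, 2), (137, 2), (142, 2), (143, 2), (144, 2), (146, 2)]),
    ([], [(0, 2), (1, 1), (2, 2), (3, 2), (4, 1), (5, 2), (6, 3), (7, 1), (8, 2), (9, 1), (11, 1), (12, 2), (13, 1), (16, 2), (17, 1), (18, 2), (19, 1), (20, 1), (21, 2), (22, 1), (24, 2), (25, 2), (26, 2), (28, 2), (29, 1), (30, 3), (31, 2), (33, 3), (34, 3), (35, 2), (36, 2), (39, 2), (40, 1), (41, 2), (42, 3), (43, 3), (45, 2), (46, 2), (47, 2), (48, 2), (49, 1), (50, 1), (51, 2), (54, 2), (55, 1), (56, 1), (59, 1), (61, 3), (62, 2), (63, 2), (64, 2), (67, 2), (68, 1), (69, 3), (70, 2), (71, 3), (72, 3), (73, 3), (74, 3), (75, 1), (76, 2), (77, 3), (79, 1), (80, 2), (81, 1), (82, 2), (84, 2), (85, 2), (86, 1), (87, 2), (90, 3), (92, 2), (94, 3), (95, 3), (96, 3), (98, 1), (100, 3), (102, 2), (104, 1), (105,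 2), (107, 3), (108, 1), (109, 3), (110, 2), (113, 2), (114, 1), (115, 3), (118, 2), (119, 2), (120, 3), (121, 1), (122, 3), (123, 2), (126, 3), (127, 2), (132, 2), (134, 2), (137, 2), (142, 2), (143, 2), (144, 2), (146, 2)])]

/-- A part of the certificate. -/
def tgt3 : List (List (ℕ × ℕ) × List (ℕ × ℕ)) := [
    ([(0, 1)], [(2, 1), (3, 3), (4, 3), (5, 3), (7, 1), (8, 1), (9, 2), (10, 2), (11, 1), (13, 2), (14, 3), (15, 2), (16, 2), (17, 1), (19, 2), (20, 1), (21, 3), (22, 2), (23, 1), (24, 1), (25, 1), (26, 1), (27, 2), (28, 3), (29, 1), (30, 1), (31, 3), (32, 3), (33, 1), (34, 1), (36, 1), (38, 1), (39, 1), (40, 2), (41, 1), (42, 3), (43, 3), (46, 2), (47, 1), (50, 1), (51, 2), (52, 1), (53, 1), (54, 1), (55, 1), (57, 3), (58, 3), (59, 3), (61, 2), (62, 1), (63, 1), (67, 1), (68, 3), (69, 2), (70, 1), (71, 1), (72, 3), (73, 1), (74, 2), (75, 1), (79, 1), (80, 3), (81, 1), (82, 1), (83, 2), (84, 3), (85, 1),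 (86, 1), (88, 1), (89, 2), (90, 2), (91, 3), (92, 2), (93, 3), (94, 2), (96, 1), (97, 1), (98, 3), (100, 2), (101, 1), (102, 1), (103, 1), (104, 2), (105, 2), (106, 1), (107, 1), (108, 2), (109, 3), (111, 1), (114, 1), (115, 3), (117, 1), (118, 2), (119, 1), (120, 1), (121, 2), (122, 2), (125, 1), (126, 1), (127, 3), (128, 3), (129, 1), (130, 3), (131, 3), (137, 3), (139, 3), (142, 1), (143, 3), (144, 1), (147, 2), (148, 3), (149, 3), (153, 3), (154, 1)]),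
    ([(0, 3)], [(0, 1), (1, 1), (2, 3), (3, 1), (5, 2), (7, 3), (8, 1), (9, 3), (10, 3), (14, 2), (15, 3), (16, 1), (17, 3), (18, 1), (19, 1), (20, 3), (21, 3), (24, 3), (25, 2), (27, 1), (28, 1), (29, 2), (30, 1), (31, 1), (33, 2), (34, 2), (36, 3), (38, 2), (39, 3), (40, 3), (42, 1), (43, 3), (44, 1), (45, 2), (46, 1), (47, 1), (49, 1), (50, 2), (51, 3), (52, 1), (54, 3), (55, 2), (57, 1), (59, 1), (60, 1), (61, 2), (62, 2), (64, 1), (65, 2), (66, 3), (67, 1), (68, 3), (69, 1), (70, 1), (72, 1), (75, 2), (79, 1), (80, 3), (82, 2), (83, 2), (86, 1), (87, 2), (90, 3), (91, 3), (92, 1), (93, 2), (94, 3), (95, 2), (97, 3), (100, 1), (101, 2), (102, 2), (103, 1), (104, 2), (106, 1), (107, 3), (109, 2), (112, 1), (114, 1), (115, 3), (117, 3), (118, 2), (119, 3), (120, 2), (123, 1), (125, 2), (126, 2), (127, 1), (128, 3), (129, 2), (130, 2), (131, 2), (132, 2), (134, 2), (137, 2), (139, 2), (143, 3), (147, 2), (148,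 3), (149, 3), (153, 3), (154, 1)]),
    ([(0, 1)], [(0, 1), (1, 3), (2, 1), (3, 3), (6, 2), (7, 2), (8, 3), (9, 3), (10, 2), (11, 1), (12, 3), (14, 3), (15, 2), (19, 1), (20, 3), (25, 2), (26, 2), (27, 1), (28, 2), (30, 3), (31, 3), (32, 1), (33, 3), (34, 1), (35, 3), (36, 1), (39, 2), (40, 3), (41, 1), (42, 2), (43, 3), (44, 3), (45, 2), (46, 3), (47, 1), (48, 2), (49, 1), (50, 3), (51, 2), (52, 2), (53, 2), (55, 3), (56, 1), (57, 1), (59, 2), (61, 1), (62, 2), (63, 2), (64, 2), (67, 1), (68, 2), (69, 3), (71, 1), (73, 2), (74, 3), (76, 2), (81, 3), (82, 1), (83, 2), (84, 1), (85, 1), (86, 1), (87, 2), (88, 3), (91, 2), (92, 3), (93, 3), (94, 2), (95, 3), (96, 2), (97, 1), (98, 1), (99, 2), (100, 2), (101, 3), (102, 3), (103, 3), (104, 2), (106, 3), (107, 2), (108, 3), (109, 2), (110, 2), (111, 1), (113, 1), (114, 1), (115, 2), (116, 3), (117, 3), (118, 3), (119, 1), (120, 1), (123, 3), (124, 3), (125, 3), (126,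 1), (128, 1), (129, 2), (130, 2), (131, 2), (132, 2), (133, 2), (139, 2), (143, 1), (147, 2), (148, 3), (149, 3), (153, 3), (154, 1)]),
    ([(0, 2)], [(1, 3), (2, 2), (3, 3), (5, 1), (6, 3), (8, 1), (9, 3), (10, 1), (11, 3), (12, 3), (13, 3), (14, 2), (16, 1), (17, 2), (18, 1), (19, 1), (21, 2), (22, 1), (23, 1), (24, 2), (26, 3), (27, 1), (28, 1), (29, 1), (30, 1), (34, 1), (35, 3), (36, 2), (38, 3), (40, 1), (41, 3), (42, 3), (44, 2), (45, 2), (47, 1), (49, 2), (50, 1), (51, 3), (53, 2), (57, 1), (58, 1), (61, 3), (63, 3), (65, 2), (66, 3), (69, 2), (70, 3), (71, 3), (72, 2), (73, 3), (74, 1), (76, 3), (77, 1), (78, 1), (79, 3), (80, 3), (81, 2), (82, 2), (83, 2), (84, 2), (88, 1), (89, 3), (90, 3), (91, 2), (92, 1), (93, 1), (95, 2), (96, 2), (97, 3), (98, 1), (99, 1), (104, 2), (106, 3), (107, 1), (108, 1), (109, 3), (111, 1), (112, 1), (113, 1), (114, 1), (116, 2), (117, 1), (120, 2), (121, 3), (123, 3),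 (125, 3), (126, 3), (127, 2), (128, 2), (132, 3), (133, 2), (134, 3), (137, 3), (139, 1), (142, 3), (144, 3), (146, 3), (147, 2), (148, 1), (149, 1), (153, 1), (154, 3)]),
    ([(0, 2)], [(0, 1), (2, 3), (3, 2), (5, 1), (6, 1), (7, 1), (8, 1), (9, 1), (13, 1), (14, 1), (15, 3), (16, 2), (17, 3), (18, 2), (19, 2), (20, 3), (21, 1), (22, 1), (23, 3), (25, 1), (27, 1), (28, 2), (29, 2), (30, 2), (31, 2), (32, 2), (33, 2), (34, 3), (38, 3), (39, 1), (41, 1), (43, 2), (46, 2), (47, 1), (48, 3), (49, 3), (50, 1), (51, 3), (52, 1), (53, 2), (54, 3), (55, 1), (56, 3), (57, 1), (59, 1), (62, 2), (63, 1), (64, 1), (65, 2), (66, 1), (68, 2), (69, 3), (70, 3), (71, 2), (72, 3), (73, 1), (74, 1), (76, 3), (78, 1), (79, 3), (81, 3), (83, 2), (84, 3), (85, 3), (86, 3), (87, 3), (90, 1), (91, 3), (92, 3), (93, 2), (94, 2), (95, 2), (96, 1), (97, 3), (98, 2), (99, 3), (101, 3), (102, 1), (103, 2), (105, 1), (107, 2), (108, 1),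 (109, 1), (112, 3), (113, 1), (115, 1), (116, 3), (118, 1), (119, 1), (120, 3), (121, 3), (122, 1), (123, 2), (124, 3), (125, 1), (126, 1), (132, 3), (133, 2), (134, 3), (137, 1), (139, 1), (142, 3), (143, 2), (144, 1), (146, 3), (147, 2), (148, 1), (149, 1), (153, 1), (154, 3)]),
    ([(0, 2)], [(0, 1), (1, 3), (2, 1), (4, 1), (5, 2), (6, 3), (7, 2), (8, 2), (9, 1), (10, 1), (11, 1), (12, 2), (13, 3), (14, 1), (15, 3), (16, 1), (18, 3), (19, 1), (21, 2), (22, 3), (23, 3), (26, 2), (27, 2), (28, 1), (29, 1), (30, 1), (31, 1), (32, 3), (34, 1), (35, 2), (38, 3), (39, 1), (41, 3), (42, 2), (44, 3), (45, 3), (46, 2), (47, 1), (48, 3), (49, 3), (50, 3), (51, 2), (52, 3), (53, 3), (55, 2), (56, 1), (60, 2), (62, 1), (63, 3), (66, 3), (67, 2), (69, 3), (70, 2), (71, 2), (72, 2), (73, 2), (74, 1), (75, 1), (76, 2), (77, 2), (78, 3), (79, 1), (81, 1), (82, 2), (83, 2), (86, 2), (87, 1), (88, 3), (89, 3), (90, 1), (91,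 2), (92, 1), (93, 3), (94, 1), (96, 1), (97, 2), (98, 1), (100, 2), (102, 3), (106, 1), (107, 3), (110, 3), (111, 3), (112, 3), (113, 3), (114, 1), (115, 3), (116, 3), (118, 1), (120, 1), (121, 3), (122, 3), (123, 1), (124, 3), (125, 3), (126, 3), (127, 2), (128, 3), (132, 1), (134, 3), (137, 1), (139, 1), (142, 3), (144, 3), (146, 3), (147, 2), (148, 1), (149, 1), (153, 1), (154, 3)]),
    ([], [(1, 2), (4, 1), (5, 2), (6, 3), (8, 1), (12, 3), (13, 2), (14, 1), (15, 2), (16, 1), (17, 3), (18, 2), (19, 3), (20, 1), (21, 2), (22, 1), (23, 3), (25, 2), (26, 1), (27, 3), (28, 1), (29, 1), (30, 3), (31, 2), (32, 3), (33, 3), (34, 3), (35, 1), (38, 2), (41, 1), (43, 2), (44, 3), (45, 2), (48, 2), (49, 3), (50, 3), (51, 1), (52, 1), (53, 2), (54, 3), (57, 3), (58, 3), (59, 3), (61, 2), (63, 2), (64, 1), (68, 2), (69, 1), (71, 3), (72, 1), (75, 2), (79, 3), (80, 2), (81, 3), (82, 2), (83, 2), (84, 1), (85, 2), (86,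 2), (87, 2), (90, 2), (91, 1), (92, 2), (94, 2), (95, 2), (97, 1), (98, 1), (99, 3), (100, 1), (101, 2), (102, 3), (103, 3), (104, 1), (105, 2), (106, 2), (107, 2), (108, 1), (109, 3), (111, 1), (113, 3), (115, 1), (116, 2), (117, 3), (118, 2), (120, 1), (121, 3), (123, 2), (125, 2), (127, 2), (133, 2), (134, 2), (137, 2), (142, 2), (144, 2), (146, 2)]),
    ([], [(0, 2), (1, 2), (4, 3), (5, 3), (6, 3), (7, 1), (9, 3), (11, 2), (12, 2), (13, 2), (14, 1), (15, 2), (16, 1), (18, 3), (19, 2), (20, 1), (21, 3), (22, 3), (23, 2), (24, 2), (25, 1), (27, 3), (28, 1), (29, 3), (30, 1), (31, 2), (32, 1), (33, 2), (34, 2), (35, 2), (38, 3), (41, 3), (42, 2), (43, 2), (45, 2), (46, 2), (47, 3), (48, 1), (49, 3), (50, 3), (51, 1), (53, 3), (55, 1), (56, 3), (57, 3), (58, 3), (60, 2), (61, 1), (62, 2), (64, 2), (66, 2), (67, 2), (68, 2), (69, 1), (70, 3), (71, 3), (72, 1), (73, 3), (74, 1), (75, 3), (77, 2), (80, 3), (81,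 3), (84, 3), (86, 2), (87, 1), (88, 3), (90, 2), (91, 1), (93, 2), (95, 2), (96, 3), (97, 2), (98, 3), (99, 3), (100, 2), (101, 3), (102, 2), (103, 2), (104, 1), (106, 2), (107, 3), (108, 3), (109, 3), (110, 3), (112, 1), (115, 2), (117, 1), (118, 2), (119, 2), (120, 2), (124, 3), (125, 1), (126, 3), (128, 1), (133, 2), (134, 2), (137, 2), (144, 2)]),
    ([], [(2, 2), (3, 2), (4, 1), (5, 3), (6, 2), (8, 2), (9, 1), (10, 3), (11, 3), (13, 2), (14, 2), (15, 1), (17, 1), (18, 3), (20, 2), (21, 2), (22, 1), (23, 2), (24, 1), (25, 1), (27, 3), (28, 2), (29, 2), (30, 1), (31, 3), (32, 2), (33, 3), (36, 2), (39, 3), (40, 1), (41, 1), (42, 1), (44, 1), (45, 1), (50, 1), (51, 3), (52, 2), (53, 1), (57, 3), (59, 2), (60, 1), (61, 2), (62, 2), (63, 2), (64, 1), (65, 2), (66, 1), (67, 2), (69, 2), (71, 1), (73, 1), (75, 2), (77, 2), (81, 3), (82, 3), (83, 1), (84, 3), (87, 2), (88, 1), (89, 2), (90, 1), (94, 1), (96, 3),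 (97, 2), (99, 2), (102, 2), (103, 2), (106, 3), (107, 1), (108, 3), (109, 2), (113, 3), (114, 1), (115, 1), (119, 3), (121, 2), (122, 1), (123, 1), (124, 1), (125, 3), (126, 3), (127, 1), (128, 3), (133, 2), (134, 2), (144, 2)]),
    ([(0, 2)], [(4, 1), (5, 2), (6, 1), (7, 2), (8, 1), (11, 3), (13, 3), (15, 1), (16, 2), (18, 3), (19, 1), (20, 3), (21, 2), (22, 3), (23, 2), (24, 1), (25, 3), (26, 2), (27, 3), (28, 3), (29, 2), (31, 1), (33, 1), (38, 2), (40, 1), (42, 2), (44, 1), (45, 1), (46, 1), (47, 1), (48, 3), (49, 2), (50, 1), (51, 2), (54, 2), (57, 1), (58, 2), (59, 3), (61, 2), (62, 1), (64, 1), (66, 1), (67, 3), (70, 3), (73, 1), (74, 3), (75, 2), (78, 2), (79, 3), (80, 3), (81, 3), (83, 2), (84, 2), (86, 3), (87, 3), (88, 2), (90, 1), (91, 2), (94, 1), (95, 2), (96, 2), (98, 3), (100, 2), (101, 3), (102, 3), (103, 1), (104, 2), (105, 2), (107, 2), (109, 3), (110, 1), (111, 3), (112, 2), (114, 1), (115,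 3), (116, 1), (117, 2), (118, 3), (119, 1), (120, 3), (121, 1), (122, 1), (124, 2), (126, 3), (127, 2), (128, 3), (132, 2), (134, 2), (137, 2), (143, 2)]),
    ([(0, 2)], [(2, 2), (3, 2), (4, 2), (5, 3), (6, 2), (7, 2), (8, 2), (9, 2), (10, 1), (11, 3), (12, 2), (15, 2), (16, 3), (17, 3), (18, 3), (19, 1), (20, 1), (21, 3), (23, 1), (24, 3), (25, 3), (26, 1), (27, 1), (28, 1), (29, 1), (30, 2), (31, 3), (32, 1), (33, 3), (34, 3), (35, 2), (39, 2), (40, 2), (41, 1), (42, 1), (44, 3), (45, 1), (46, 2), (48, 2), (49, 1), (50, 1), (52, 2), (53, 1), (57, 2), (59, 2), (60, 1), (61, 3), (62, 2), (63, 2), (64, 3), (65, 3), (66, 3), (67, 3), (69, 2), (70, 1), (72, 3), (73, 3), (74, 1), (75, 3), (76, 3), (77, 2), (78, 2), (79, 3), (80, 1), (81, 3), (82, 2), (84, 3), (86, 3), (87, 2), (88, 2), (89, 1), (90, 3), (91, 2), (92, 2), (93, 1), (94, 3), (95, 3), (96, 1), (98, 1), (99, 2), (100, 3), (101, 3), (103, 2), (104, 3),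 (106, 3), (107, 3), (108, 3), (109, 2), (110, 2), (111, 2), (112, 1), (114, 3), (115, 2), (116, 3), (118, 3), (119, 3), (120, 3), (121, 1), (122, 2), (123, 1), (128, 1), (142, 2), (143, 2), (146, 2)]),
    ([], [(0, 3), (1, 1), (3, 1), (4, 1), (5, 1), (6, 2), (7, 3), (9, 2), (10, 1), (11, 1), (12, 2), (14, 2), (15, 1), (16, 2), (17, 3), (18, 3), (19, 2), (21, 1), (22, 2), (23, 3), (25, 3), (27, 1), (28, 1), (29, 2), (30, 1), (31, 3), (32, 3), (34, 2), (35, 3), (38, 1), (39, 2), (40, 3), (41, 1), (42, 1), (43, 3), (45, 1), (47, 2), (48, 1), (49, 2), (50, 3), (51, 2), (52, 2), (53, 1), (54, 1), (57, 3), (59, 1), (60, 1), (61, 1), (62, 2), (63, 1), (64, 1), (65, 1), (66, 1), (67, 1), (68, 2), (69, 3), (70, 3), (71, 3), (72, 1), (73, 2), (75, 3), (76, 3), (77, 2), (78, 1), (79, 3), (81, 1), (82, 3), (83, 2), (84, 2), (87, 1), (89, 1), (91, 2), (92, 3), (93, 2), (94, 3), (95, 2), (96, 2), (97, 3), (98, 1), (99, 3),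 (101, 3), (102, 1), (103, 2), (105, 1), (106, 2), (107, 3), (108, 2), (109, 3), (110, 3), (113, 3), (114, 2), (115, 3), (117, 2), (118, 1), (119, 3), (121, 3), (122, 1), (123, 3), (125, 1), (126, 2), (128, 1), (129, 1), (130, 3), (131, 3), (132, 1), (134, 3), (137, 2), (142, 2), (143, 1), (144, 2), (146, 1)]),
    ([(0, 2)], [(0, 2), (2, 1), (3, 3), (4, 1), (5, 1), (6, 1), (7, 2), (8, 1), (9, 2), (10, 3), (11, 3), (12, 3), (14, 3), (15, 2), (16, 1), (18, 3), (19, 3), (20, 3), (21, 2), (22, 2), (23, 3), (24, 1), (25, 1), (26, 1), (27, 2), (28, 2), (29, 3), (30, 1), (31, 3), (32, 1), (33, 3), (34, 1), (35, 1), (36, 3), (38, 1), (39, 2), (40, 2), (41, 2), (45, 1), (46, 3), (47, 2), (48, 2), (49, 1), (50, 1), (51, 1), (52, 1), (53, 3), (55, 3), (56, 3), (57, 3), (58, 2), (59, 3), (60, 2), (63, 1), (65, 2), (67, 3), (68, 1), (70, 1), (72, 2), (74, 2), (75, 3), (77, 3), (79, 1), (80, 2), (81, 1), (82, 2), (83, 1),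 (85, 2), (86, 3), (87, 2), (88, 2), (89, 2), (91, 1), (92, 3), (94, 1), (95, 1), (96, 2), (97, 1), (98, 1), (100, 1), (102, 3), (104, 3), (105, 2), (106, 1), (107, 1), (108, 2), (109, 1), (110, 3), (112, 2), (115, 3), (116, 1), (118, 3), (119, 2), (120, 3), (121, 3), (122, 2), (123, 1), (125, 1), (127, 1), (128, 2), (129, 1), (130, 3), (131, 3), (132, 3), (133, 3), (134, 2), (137, 1), (139, 3), (143, 1), (144, 3), (146, 2), (147, 2), (148, 3), (149, 3), (153, 3), (154, 1)]),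
    ([(0, 3)], [(0, 3), (1, 3), (2, 2), (4, 3), (5, 3), (6, 3), (9, 2), (11, 2), (12, 2), (13, 2), (14, 2), (15, 3), (16, 2), (17, 1), (18, 2), (19, 1), (20, 2), (21, 1), (22, 2), (23, 2), (24, 1), (25, 3), (26, 1), (27, 2), (28, 1), (32, 3), (34, 2), (36, 2), (40, 3), (41, 2), (42, 3), (44, 1), (47, 2), (48, 3), (49, 1), (50, 3), (51, 3), (52, 2), (53, 2), (54, 2), (55, 3), (57, 2), (59, 2), (60, 3), (61, 2), (62, 1), (63, 2), (65, 2), (68, 2), (69, 1), (70, 2), (71, 3), (72, 2), (74, 1), (75, 2), (76, 2), (77, 3), (78, 3), (80, 1), (81, 2), (82, 2), (83, 1), (84, 3), (85, 3), (86, 3), (88, 3), (89, 1), (91, 3), (92, 1), (93, 3), (94, 3), (95, 1), (96, 2), (97, 2), (98, 2), (99, 1), (100, 1), (101, 1), (102, 1), (104, 3), (106, 2), (107, 1), (108, 3), (109, 2), (110, 2), (111, 1), (112, 3), (113, 1), (114, 1), (115, 1), (116, 2), (118, 1), (121, 1), (122, 3), (124, 3), (125, 1), (126, 2), (127, 3), (128, 1),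 (129, 3), (130, 1), (131, 1), (132, 1), (133, 1), (134, 2), (137, 3), (139, 3), (142, 2), (143, 3), (144, 3), (146, 2), (148, 2), (149, 2), (153, 2), (154, 2)]),
    ([], [(1, 2), (2, 1), (3, 1), (5, 2), (7, 1), (8, 3), (9, 2), (10, 2), (11, 1), (12, 3), (13, 3), (14, 1), (15, 1), (16, 2), (17, 2), (18, 3), (19, 3), (20, 3), (21, 2), (22, 3), (23, 2), (24, 1), (25, 1), (26, 1), (27, 2), (28, 3), (29, 2), (30, 2), (31, 2), (32, 2), (33, 2), (34, 1), (35, 1), (36, 2), (38, 2), (39, 2), (40, 2), (41, 3), (42, 2), (43, 2), (45, 3), (47, 1), (48, 1), (49, 3), (51, 1), (52, 1), (53, 1), (54, 2), (55, 2), (56, 1), (57, 3), (59, 1), (60, 1), (61, 1), (63, 1), (65, 1), (66, 2), (67, 2), (68, 2), (69, 2), (70, 1), (72, 2), (73, 3), (75, 2), (76, 3), (77, 3), (78, 2), (79, 1), (81, 1), (82, 3), (83, 3), (84, 2), (85, 2), (86, 3), (87, 1), (91, 3), (92, 1), (93, 1), (95, 2), (96, 2), (97, 1), (98, 2), (99, 2), (100, 1),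 (101, 3), (103, 2), (104, 3), (106, 3), (107, 3), (108, 3), (110, 3), (111, 3), (112, 1), (113, 2), (114, 1), (115, 3), (116, 3), (117, 1), (118, 2), (119, 1), (120, 3), (121, 2), (122, 1), (123, 3), (124, 1), (125, 1), (126, 1), (127, 1), (128, 1), (129, 3), (130, 1), (131, 1), (132, 3), (133, 1), (137, 3), (139, 3), (144, 1), (148, 2), (149, 2), (153, 2), (154, 2)]),
    ([], [(0, 2), (1, 1), (3, 1), (4, 3), (5, 1), (6, 2), (7, 3), (8, 3), (9, 3), (11, 1), (12, 2), (13, 1), (14, 3), (15, 2), (16, 2), (17, 3), (19, 1), (20, 1), (21, 1), (22, 1), (23, 1), (24, 2), (25, 3), (26, 1), (29, 2), (30, 3), (33, 3), (35, 3), (36, 1), (38, 1), (39, 2), (40, 2), (41, 1), (42, 2), (43, 3), (44, 2), (45, 3), (46, 1), (48, 2), (50, 3), (51, 1), (52, 1), (54, 2), (56, 2), (57, 2), (58, 1), (60, 2), (61, 2), (65, 3), (66, 2), (68, 1), (70, 1), (71, 3), (73, 2), (75, 2), (76, 3), (77, 1), (78, 1), (79, 3), (81, 2), (82, 1),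 (83, 3), (84, 3), (85, 1), (86, 3), (87, 2), (88, 2), (89, 1), (90, 1), (91, 2), (92, 3), (93, 3), (95, 3), (98, 2), (99, 1), (100, 1), (101, 3), (102, 3), (104, 1), (105, 1), (106, 1), (107, 2), (110, 1), (111, 3), (112, 3), (113, 1), (116, 2), (117, 2), (118, 3), (119, 2), (121, 1), (122, 1), (123, 2), (124, 1), (125, 3), (126, 1), (127, 2), (128, 2), (129, 2), (130, 2), (131, 2), (132, 1), (133, 2), (134, 1), (137, 3), (139, 3), (142, 1), (144, 3), (146, 1)]),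
    ([], [(1, 2), (3, 1), (5, 2), (6, 3), (7, 3), (9, 3), (12, 1), (13, 1), (15, 2), (16, 3), (18, 3), (20, 3), (23, 1), (24, 2), (25, 1), (26, 3), (28, 3), (29, 2), (30, 3), (31, 2), (32, 1), (33, 3), (34, 3), (35, 1), (38, 1), (39, 2), (40, 1), (42, 3), (44, 2), (46, 1), (47, 2), (49, 3), (52, 1), (55, 2), (56, 2), (57, 1), (58, 2), (59, 2), (60, 1), (61, 1), (63, 3), (65, 2), (66, 3), (68, 1), (69, 3), (70, 3), (71, 3), (72, 3), (74, 2), (75, 2), (77, 2), (78, 3), (79, 1), (80, 1), (81, 1), (82, 3), (83, 1), (84, 1), (86, 3), (88, 1), (89, 1), (90, 3), (91, 3), (92, 2), (93, 1), (94, 3), (97, 2), (98, 1), (99, 2), (102, 2), (103, 1), (104, 1), (106, 3), (107, 1), (109, 2), (110, 1), (111, 1), (112, 1), (113, 1), (114, 3), (116, 3), (117, 2), (119, 1), (120, 1), (121, 2), (123, 2), (125, 2), (126, 2), (127, 1), (128, 3), (132, 1), (133, 2), (134, 1), (137, 3), (139, 1), (142, 1), (144, 1), (146, 1), (147, 2),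 (148, 1), (149, 1), (153, 1), (154, 3)]),
    ([(0, 2)], [(1, 3), (4, 3), (5, 2), (8, 2), (11, 2), (12, 2), (13, 1), (14, 3), (16, 2), (17, 3), (18, 1), (19, 2), (20, 1), (22, 1), (23, 2), (24, 3), (25, 2), (28, 1), (29, 2), (30, 3), (31, 2), (32, 1), (33, 2), (34, 2), (35, 1), (36, 3), (38, 3), (39, 1), (40, 3), (42, 2), (43, 2), (45, 1), (46, 3), (47, 2), (48, 2), (49, 3), (50, 1), (51, 1), (52, 1), (54, 2), (55, 2), (56, 3), (57, 3), (58, 3), (60, 1), (61, 2), (63, 2), (64, 3), (65, 2), (66, 1), (68, 3), (69, 3), (71, 3), (72, 3), (73, 2), (74, 1), (75, 2), (76, 3), (78, 3), (79, 3), (81, 2), (82, 2), (83, 1), (84, 2), (85, 3), (87, 3), (88, 2), (90, 3), (92, 1), (93, 3), (94, 3), (95, 2), (96, 1), (97, 1), (98, 1), (99, 2), (100, 3), (101, 3), (102, 3), (103, 3), (104, 2), (105, 1), (107, 2), (109, 1), (110, 1), (112, 2), (114, 1), (116, 2), (118, 2), (120, 2), (123, 3), (125, 3), (127, 2), (128, 2), (143,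 2)]),
    ([], [(1, 2), (4, 2), (8, 2), (10, 1), (11, 2), (12, 2), (13, 2), (16, 3), (17, 2), (19, 2), (21, 3), (22, 2), (24, 3), (26, 2), (27, 1), (28, 2), (29, 3), (31, 2), (32, 3), (34, 2), (35, 3), (36, 1), (38, 2), (39, 1), (40, 3), (41, 2), (43, 1), (44, 1), (45, 1), (46, 1), (47, 2), (48, 3), (49, 1), (50, 2), (51, 2), (52, 3), (53, 3), (54, 3), (55, 3), (59, 2), (60, 1), (61, 3), (62, 1), (63, 2), (64, 3), (65, 2), (66, 3), (67, 2), (68, 2), (69, 3), (71, 2), (72, 3), (73, 1), (74, 3), (77, 2), (78, 1), (81, 3), (82, 1), (84, 1), (87, 3), (88, 3), (89, 2), (90, 1), (93, 1), (94, 3), (95, 2), (96, 2), (97, 1), (98, 1), (99, 3), (100, 2), (101, 3), (103, 2), (104, 2), (106, 1), (108, 3), (110, 3), (111, 3), (113, 2), (115, 2), (116, 1), (117, 2), (120, 1), (124, 2), (125, 3), (126, 2), (127, 1), (128, 2), (132, 2), (134, 2), (143, 3), (144, 2)]),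
    ([(0, 2)], [(1, 3), (5, 1), (6, 3), (7, 3), (8, 1), (9, 1), (10, 2), (11, 2), (12, 2), (13, 3), (14, 1), (15, 2), (16, 1), (17, 2), (18, 1), (19, 2), (20, 3), (22, 3), (23, 2), (24, 1), (26, 3), (27, 1), (29, 2), (30, 1), (32, 1), (33, 1), (34, 1), (35, 1), (36, 2), (38, 1), (39, 1), (40, 3), (41, 2), (42, 1), (43, 2), (44, 2), (46, 2), (47, 2), (48, 3), (49, 2), (50, 2), (51, 1), (52, 3), (53, 3), (55, 1), (57, 2), (58, 3), (59, 1), (60, 1), (61, 1), (62, 1), (63, 1), (64, 1), (65, 3), (69, 1), (70, 2), (73, 1), (74, 1), (75, 1), (76, 3), (77, 1), (78, 3), (80, 1), (81, 2), (82, 3), (83, 2), (84, 2), (86, 3), (87, 1), (88, 1), (89, 1), (90, 3), (91, 2), (92, 3), (93, 2), (94, 3), (96, 2), (97, 2), (98, 1), (99, 1), (100, 3), (101, 3), (102, 3), (103, 3), (104, 3), (106, 1), (107, 3), (108, 2), (109, 1), (110, 1), (111, 1), (112, 3), (115, 2), (116, 3), (117, 2), (118, 2), (120, 2), (121, 3), (122, 1), (123,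 1), (124, 1), (125, 1), (126, 3), (127, 2), (128, 2), (132, 2), (133, 2), (142, 2), (146, 2)]),
    ([], [(1, 1), (2, 2), (3, 2), (4, 2), (5, 2), (7, 1), (8, 2), (10, 2), (11, 3), (12, 3), (13, 1), (14, 2), (15, 1), (16, 3), (17, 1), (18, 2), (19, 2), (20, 1), (22, 3), (23, 1), (24, 1), (25, 2), (27, 2), (28, 2), (29, 3), (30, 2), (31, 2), (32, 1), (33, 3), (34, 1), (35, 2), (36, 3), (38, 2), (39, 2), (40, 3), (43, 3), (45, 3), (46, 1), (47, 3), (49, 2), (50, 3), (51, 1), (52, 3), (54, 1), (55, 2), (56, 2), (59, 2), (60, 3), (62, 2), (63, 2), (64, 1), (66, 1), (67, 2), (68, 2), (69, 1), (70, 2), (71, 3), (72, 3), (73, 1), (74, 2), (75, 3), (77, 1), (79, 3), (83, 3), (84, 3), (85, 2), (88, 3), (89, 1), (92, 1), (94, 2), (95, 3), (96, 3), (97, 1), (98, 3), (100, 2), (101, 3), (102, 1), (103, 3), (104, 2), (105, 1), (107, 3), (108, 3), (109, 1), (110, 3), (111, 2), (112, 3), (113, 1), (114, 2), (115, 2), (117, 1),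 (118, 2), (119, 2), (120, 1), (121, 2), (123, 2), (124, 2), (125, 3), (126, 1), (127, 2), (128, 3), (132, 2), (133, 2), (137, 2)]),
    ([], [(0, 2), (1, 1), (2, 2), (3, 2), (5, 1), (6, 3), (7, 1), (8, 3), (9, 2), (12, 2), (13, 3), (14, 3), (15, 1), (16, 3), (17, 3), (18, 2), (19, 1), (20, 3), (21, 2), (22, 1), (23, 2), (24, 1), (26, 2), (27, 3), (28, 1), (29, 3), (30, 1), (31, 1), (32, 1), (33, 2), (34, 2), (36, 1), (38, 1), (39, 2), (40, 3), (41, 2), (42, 1), (43, 1), (44, 1), (46, 3), (48, 3), (49, 1), (50, 1), (51, 2), (52, 3), (54, 2), (56, 1), (58, 1), (59, 1), (61, 2), (64, 1), (65, 3), (66, 3), (68, 1), (71, 2), (72, 2), (74, 1), (75, 3), (77, 1), (78, 3), (79, 3), (80, 3), (81, 3), (82, 1), (84, 3), (85, 2), (87, 2), (88, 3), (89, 1), (90, 3), (91, 2), (92, 1), (93, 2), (94, 2), (95, 3), (96, 2), (98, 3), (99, 3), (100, 1), (101, 2), (102, 3), (105, 3), (106, 2), (107, 3), (108, 3), (109, 2), (110, 2),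 (112, 3), (113, 3), (114, 2), (116, 1), (117, 1), (118, 1), (119, 1), (120, 3), (122, 3), (123, 1), (124, 1), (126, 2), (127, 3), (128, 1), (143, 2)]),
    ([(0, 2)], [(0, 2), (1, 1), (4, 2), (5, 1), (6, 1), (7, 1), (8, 2), (10, 3), (11, 2), (12, 2), (13, 3), (14, 2), (15, 3), (16, 2), (17, 2), (19, 1), (21, 1), (22, 3), (23, 3), (24, 3), (25, 1), (26, 1), (27, 3), (29, 2), (30, 2), (31, 3), (32, 3), (33, 3), (34, 3), (35, 3), (36, 1), (38, 1), (39, 1), (40, 1), (41, 3), (43, 3), (44, 3), (45, 3), (46, 1), (47, 1), (48, 1), (49, 1), (50, 1), (51, 2), (52, 3), (53, 3), (54, 2), (55, 2), (58, 1), (59, 1), (60, 2), (61, 1), (63, 2), (64, 1), (65, 2), (66, 3), (67, 2), (68, 1), (69, 3), (70, 2), (71, 1), (72, 2), (75, 3), (77, 2), (78, 3), (80, 2), (82, 2), (84, 3), (85, 2), (86, 1), (87, 2), (88, 3), (89, 1), (90, 3), (91, 2), (92, 2), (93, 1), (94, 3), (95, 3), (98, 3), (99, 2), (100, 2), (101, 3), (102, 2), (103,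 3), (105, 2), (108, 2), (109, 1), (113, 3), (114, 1), (116, 1), (118, 2), (119, 2), (120, 3), (121, 3), (126, 3), (127, 2), (128, 2), (132, 2), (133, 2), (137, 2), (143, 2)]),
    ([(0, 3)], [(0, 1), (1, 3), (2, 3), (3, 1), (4, 3), (5, 1), (6, 1), (9, 3), (10, 2), (11, 2), (12, 2), (13, 2), (15, 2), (16, 1), (18, 1), (19, 1), (20, 3), (22, 1), (24, 2), (25, 3), (26, 2), (27, 1), (29, 3), (30, 1), (31, 1), (33, 2), (36, 1), (38, 1), (40, 3), (41, 1), (42, 1), (43, 3), (45, 1), (47, 2), (50, 3), (52, 2), (53, 1), (55, 3), (56, 3), (57, 1), (58, 3), (59, 3), (60, 1), (61, 2), (62, 2), (63, 2), (64, 3), (65, 3), (66, 3), (67, 3), (68, 3), (69, 1), (70, 2), (71, 1), (72, 3), (74, 1), (75, 2), (76, 3), (77, 1), (78, 3), (79, 1), (80, 2), (81, 3), (89, 1), (90, 1), (93, 1), (94, 3), (95, 3), (97, 2), (99, 1), (100, 1), (101, 3), (103, 3), (104, 3), (105, 3), (106, 1), (107, 2), (108, 3), (109, 1), (110, 3), (112, 2),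 (114, 1), (115, 1), (117, 2), (119, 1), (120, 1), (122, 1), (123, 3), (124, 1), (125, 1), (126, 2), (129, 2), (130, 2), (131, 2), (133, 2), (134, 2), (137, 2), (139, 2), (142, 2), (143, 3), (146, 2), (147, 2), (148, 3), (149, 3), (153, 3), (154, 1)])]

/-- A part of the certificate. -/
def tgt4 : List (List (ℕ × ℕ) × List (ℕ × ℕ)) := [
    ([(0, 1)], [(0, 3), (2, 1), (4, 2), (5, 2), (6, 3), (8, 1), (9, 3), (10, 3), (11, 3), (13, 1), (15, 1), (17, 1), (18, 3), (21, 3), (22, 3), (26, 2), (28, 1), (29, 2), (30, 2), (31, 3), (32, 2), (35, 3), (36, 1), (38, 1), (41, 1), (43, 3), (46, 1), (47, 1), (48, 3), (49, 2), (51, 3), (53, 2), (54, 2), (55, 1), (56, 2), (57, 3), (58, 2), (59, 1), (61, 2), (62, 1), (64, 2), (65, 3), (66, 2), (67, 1), (68, 3), (69, 2), (70, 3), (71, 1), (72, 1), (73, 1), (74, 1), (75, 2), (77, 1), (81, 3), (82, 1), (84, 3), (85, 3), (86, 2), (87, 1), (88, 3), (89, 2), (91, 1), (92, 2), (93, 3),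 (95, 2), (97, 1), (99, 3), (100, 2), (101, 2), (102, 1), (103, 2), (104, 2), (105, 3), (106, 3), (107, 1), (108, 3), (109, 2), (110, 2), (112, 3), (114, 3), (115, 1), (116, 2), (117, 2), (118, 2), (119, 3), (120, 1), (121, 3), (122, 1), (123, 1), (124, 1), (125, 2), (126, 2), (127, 2), (128, 1), (129, 2), (130, 2), (131, 2), (132, 1), (134, 3), (137, 1), (139, 3), (142, 3), (143, 1), (144, 3), (146, 3)]),
    ([(0, 2)], [(0, 2), (1, 2), (2, 2), (3, 3), (4, 1), (5, 2), (8, 2), (9, 3), (10, 3), (11, 3), (12, 1), (13, 3), (14, 3), (15, 1), (18, 3), (19, 2), (20, 2), (22, 2), (23, 3), (24, 2), (25, 3), (26, 2), (29, 2), (31, 3), (32, 1), (33, 2), (34, 3), (35, 2), (36, 1), (38, 2), (39, 2), (41, 2), (42, 3), (43, 1), (44, 2), (47, 3), (49, 1), (50, 2), (51, 1), (52, 2), (53, 1), (54, 1), (55, 3), (56, 2), (57, 1), (58, 2), (60, 3), (62, 3), (63, 1), (65, 2), (66, 3), (68, 3), (69, 1), (70, 2), (72, 1), (73, 3), (75,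 1), (76, 3), (77, 3), (79, 3), (80, 3), (82, 1), (83, 2), (84, 1), (85, 3), (86, 3), (87, 2), (88, 1), (91, 3), (92, 2), (93, 1), (94, 3), (95, 1), (96, 3), (99, 2), (100, 2), (101, 3), (102, 1), (104, 1), (107, 3), (108, 1), (109, 1), (110, 2), (113, 1), (114, 1), (115, 2), (117, 3), (118, 2), (119, 1), (121, 3), (122, 3), (126, 2), (127, 3), (128, 1), (132, 3), (134, 1), (137, 1), (139, 1), (142, 1), (143, 2), (144, 1), (146, 1), (147, 2), (148, 1), (149, 1), (153, 1), (154, 3)]),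
    ([(0, 2)], [(1, 1), (2, 2), (3, 2), (4, 2), (6, 3), (7, 2), (8, 2), (9, 3), (10, 2), (11, 2), (12, 3), (13, 1), (14, 1), (15, 1), (16, 3), (18, 1), (19, 2), (20, 2), (21, 3), (22, 3), (23, 3), (24, 1), (25, 3), (26, 3), (27, 2), (28, 3), (29, 1), (30, 3), (31, 2), (32, 1), (33, 3), (35, 2), (38, 1), (39, 1), (40, 2), (41, 3), (42, 3), (43, 3), (45, 1), (46, 3), (47, 1), (48, 2), (49, 1), (50, 2), (51, 2), (52, 2), (53, 2), (54, 3), (57, 2), (58, 2), (59, 3), (62, 1), (65, 2), (66, 1), (67, 2), (68, 2), (69, 2), (70, 3), (72, 1), (73, 1), (75, 3), (76, 2), (77, 1), (78, 1), (79, 1), (82, 1), (88, 2), (91, 2), (92, 1), (93, 1), (94, 3), (96, 3), (97, 2), (98, 2), (100, 3), (101, 1), (102, 3), (104, 2), (105, 3), (107, 2), (108, 2), (109, 3), (110, 1), (111, 2), (112, 1), (113, 1), (114, 2), (115, 3), (116, 2), (117, 3), (118, 2), (119, 3), (120, 1), (121, 1), (122, 2), (124, 1), (125, 1), (127, 2), (128, 3)]),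
    ([(0, 2)], [(0, 2), (1, 1), (2, 2), (3, 3), (4, 1), (5, 2), (6, 3), (8, 3), (9, 3), (10, 1), (11, 2), (12, 1), (13, 3), (15, 2), (16, 1), (18, 2), (20, 1), (21, 1), (22, 3), (23, 2), (24, 2), (25, 1), (26, 3), (27, 2), (28, 2), (29, 2), (30, 2), (31, 2), (32, 1), (33, 2), (34, 3), (35, 2), (36, 3), (39, 1), (40, 1), (41, 2), (42, 3), (43, 2), (45, 1), (46, 3), (48, 2), (50, 3), (51, 1), (52, 1), (54, 3), (55, 2), (58, 1), (61, 3), (62, 1), (63, 1), (64, 3), (65, 1), (67, 3), (68, 2), (70, 3), (71, 1), (72, 1), (73, 1), (74, 1), (75, 1), (76, 1), (77, 3), (78, 1), (79, 2), (80, 3), (81, 2), (82, 2), (83, 2), (85, 1), (86, 1), (87, 3), (88, 2), (89, 1), (90, 2), (92, 3), (93, 1), (95, 1), (96, 2), (97, 2), (98, 1), (99, 3), (100, 1), (102, 2), (103, 2), (104, 1), (106, 1), (107, 3), (108, 2), (114, 3), (115, 1), (118, 2), (119, 2), (120, 2), (122, 1), (123, 1), (124, 3), (125, 3), (126, 1), (127, 3), (128,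 2), (132, 1), (133, 2), (134, 1), (137, 3), (139, 1), (142, 3), (143, 2), (144, 1), (146, 3), (147, 2), (148, 1), (149, 1), (153, 1), (154, 3)]),
    ([(0, 2)], [(2, 2), (3, 2), (4, 1), (5, 2), (6, 2), (7, 3), (10, 1), (11, 2), (13, 1), (16, 1), (17, 3), (18, 1), (19, 2), (20, 3), (22, 1), (23, 1), (24, 3), (25, 3), (26, 1), (27, 3), (29, 1), (30, 2), (31, 3), (33, 2), (34, 1), (35, 3), (38, 2), (39, 1), (42, 3), (43, 1), (44, 1), (45, 3), (47, 1), (49, 2), (50, 2), (53, 3), (55, 2), (56, 1), (57, 1), (58, 2), (59, 2), (61, 2), (62, 3), (63, 1), (64, 3), (67, 1), (68, 1), (69, 1), (70, 3), (71, 1), (72, 3), (73, 3), (74, 2), (75, 3), (76, 2), (77, 3), (78, 3), (79, 1), (80, 3), (83, 1), (84, 1), (85, 1), (86, 3), (87, 3), (88, 2), (89, 2), (90, 1), (91, 2), (93, 1), (94, 3), (97, 1), (98, 3), (102, 2), (103, 3), (104, 2), (106, 3), (107, 1), (110, 3), (111, 2), (112, 3), (113, 3), (114, 2), (115, 3), (119, 2),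 (120, 3), (123, 3), (124, 2), (125, 3), (126, 2), (127, 1), (128, 3), (132, 2), (133, 2), (137, 2), (142, 2), (143, 2), (144, 2), (146, 2)]),
    ([(0, 2)], [(0, 2), (1, 2), (2, 2), (3, 2), (4, 1), (5, 1), (6, 3), (7, 2), (8, 2), (9, 2), (10, 3), (12, 2), (13, 3), (14, 3), (15, 3), (16, 3), (18, 1), (21, 2), (23, 2), (25, 3), (29, 1), (30, 2), (31, 2), (32, 2), (33, 1), (34, 2), (35, 1), (36, 2), (38, 3), (39, 1), (40, 1), (41, 3), (42, 2), (43, 1), (44, 2), (46, 1), (48, 2), (49, 2), (50, 3), (51, 2), (52, 1), (53, 3), (54, 3), (55, 2), (56, 1), (57, 3), (58, 2), (60, 1), (62, 3), (63, 2), (64, 3), (66, 1), (67, 1), (68, 1), (70, 3), (71, 3), (73, 1), (74, 3), (75, 3), (76, 1), (79, 2), (80, 1), (81, 3), (82, 1), (83, 1), (84, 2), (85, 3), (86, 3), (88, 1), (89, 2), (90, 2), (91, 3), (92, 2), (94, 3), (95, 2), (98, 2), (99, 1), (100, 3), (101, 3), (102, 3), (103, 2), (106, 1), (107, 3), (108, 3), (110, 3), (111,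 3), (112, 3), (113, 2), (114, 2), (116, 1), (118, 3), (119, 2), (120, 2), (122, 1), (123, 2), (124, 1), (125, 1), (127, 3), (128, 2), (133, 2), (134, 2), (142, 2), (143, 2), (146, 2)]),
    ([(0, 2)], [(0, 2), (1, 2), (4, 1), (5, 3), (6, 1), (8, 3), (9, 3), (10, 2), (12, 2), (13, 1), (17, 1), (19, 2), (23, 2), (25, 3), (26, 3), (27, 3), (28, 2), (29, 1), (30, 3), (31, 2), (32, 1), (33, 2), (34, 2), (35, 2), (38, 1), (39, 2), (40, 2), (41, 3), (42, 1), (43, 3), (44, 2), (45, 2), (46, 1), (47, 2), (49, 1), (50, 1), (51, 1), (52, 1), (53, 1), (54, 2), (55, 2), (56, 3), (57, 1), (59, 1), (60, 2), (62, 1), (63, 3), (64, 2), (65, 2), (66, 2), (67, 1), (68, 2), (69, 2), (71, 1), (72, 1), (73, 1), (74, 3), (75, 3), (76, 1), (78, 3), (79, 3), (80, 2), (81, 1), (82, 3), (83, 3), (84, 2), (85, 2), (86, 2), (87, 2), (90, 2), (91, 3), (92, 2), (93, 2), (94, 2), (95, 3), (96, 1), (97, 1), (99, 1), (100, 2), (102, 2), (103,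 1), (104, 3), (105, 1), (106, 2), (107, 1), (108, 2), (109, 1), (110, 3), (113, 3), (114, 2), (115, 3), (117, 3), (118, 1), (119, 2), (120, 3), (121, 3), (122, 3), (123, 2), (125, 2), (126, 1), (127, 2), (128, 1), (133, 2), (134, 2), (137, 2), (142, 2), (146, 2)]),
    ([(0, 2)], [(0, 1), (1, 3), (2, 3), (3, 1), (4, 1), (5, 2), (6, 1), (7, 2), (8, 1), (10, 1), (11, 3), (12, 2), (13, 1), (15, 1), (16, 3), (17, 2), (18, 1), (20, 1), (21, 1), (22, 3), (23, 1), (24, 1), (26, 3), (27, 1), (28, 1), (29, 2), (30, 1), (31, 2), (33, 3), (34, 2), (38, 1), (40, 2), (41, 3), (43, 2), (44, 3), (46, 2), (47, 2), (49, 3), (50, 2), (51, 2), (52, 1), (53, 3), (54, 3), (56, 3), (57, 2), (58, 1), (59, 2), (64, 1), (66, 3), (67, 1), (68, 1), (69, 2), (70, 1), (71, 1), (72, 1), (73, 3), (74, 3), (75, 1), (77, 1), (78, 1), (79, 2), (80, 3), (82, 2), (84, 2), (85, 1), (87, 2), (88, 1), (89, 2), (90, 2), (93, 2), (94, 2), (95, 3), (96,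 2), (97, 3), (98, 2), (99, 1), (100, 3), (101, 2), (102, 1), (103, 1), (104, 2), (105, 2), (107, 3), (109, 1), (110, 1), (111, 1), (112, 3), (113, 3), (114, 1), (117, 1), (118, 3), (119, 3), (122, 2), (123, 2), (124, 2), (125, 2), (126, 3), (127, 3), (128, 1), (133, 2), (134, 2), (137, 2), (142, 2), (144, 2), (146, 2)]),
    ([(0, 2)], [(0, 2), (1, 3), (2, 2), (3, 2), (4, 1), (6, 2), (7, 1), (8, 1), (9, 3), (10, 1), (11, 2), (13, 2), (15, 3), (16, 1), (18, 2), (20, 1), (21, 1), (22, 3), (23, 1), (24, 3), (25, 3), (26, 2), (27, 3), (28, 2), (30, 3), (31, 1), (32, 2), (33, 1), (34, 1), (35, 3), (38, 3), (41, 1), (42, 3), (43, 2), (44, 1), (45, 3), (46, 3), (47, 2), (49, 3), (51, 2), (53, 2), (54, 3), (55, 2), (56, 2), (58, 2), (59, 1), (60, 3), (61, 3), (62, 3), (63, 1), (64, 2), (65, 1), (66, 1), (67, 3), (68, 3), (69, 2), (71, 1), (72, 1), (74, 1), (75, 2), (76, 3), (77, 3), (78, 3), (79, 2), (81, 2), (82, 3),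 (83, 3), (85, 3), (88, 3), (90, 3), (91, 2), (92, 1), (95, 3), (96, 1), (97, 3), (98, 2), (103, 2), (104, 1), (105, 2), (106, 3), (107, 1), (108, 2), (111, 2), (113, 2), (114, 2), (115, 3), (116, 1), (117, 2), (118, 2), (119, 3), (120, 3), (121, 1), (122, 2), (123, 2), (124, 2), (126, 3), (127, 2), (128, 2), (133, 2), (134, 2), (142, 2), (146, 2)]),
    ([(0, 2)], [(0, 3), (1, 1), (2, 3), (3, 1), (4, 3), (7, 3), (8, 2), (10, 3), (13, 3), (14, 2), (15, 2), (16, 2), (20, 1), (21, 3), (22, 2), (23, 1), (25, 1), (26, 3), (27, 1), (28, 1), (29, 1), (31, 3), (32, 1), (33, 3), (34, 1), (35, 1), (39, 1), (40, 1), (41, 3), (42, 2), (44, 1), (45, 2), (46, 2), (47, 3), (48, 2), (49, 2), (50, 3), (51, 1), (52, 1), (54, 2), (55, 2), (56, 3), (57, 2), (58, 2), (59, 1), (60, 1), (61, 3), (62, 3), (65, 3), (67, 1), (68, 3), (69, 2), (71, 2), (73, 2), (74, 3), (75, 1), (76, 3), (80, 2), (81, 1), (83, 2), (84, 1), (85, 3), (86,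 3), (87, 1), (88, 2), (89, 2), (90, 3), (93, 2), (94, 1), (96, 2), (97, 2), (99, 3), (100, 1), (101, 3), (104, 3), (106, 2), (107, 1), (108, 1), (109, 1), (110, 1), (111, 1), (113, 2), (114, 2), (115, 1), (116, 3), (117, 1), (118, 2), (119, 2), (121, 2), (122, 2), (125, 3), (126, 3), (128, 3), (133, 2), (134, 2), (137, 2), (142, 2), (143, 2), (144, 2), (146, 2)]),
    ([(0, 2)], [(1, 1), (4, 1), (6, 1), (8, 1), (10, 2), (11, 2), (12, 1), (13, 1), (14, 2), (15, 2), (17, 2), (18, 3), (19, 2), (20, 1), (21, 3), (25, 1), (26, 1), (27, 1), (29, 3), (30, 3), (32, 3), (33, 1), (34, 1), (35, 3), (36, 1), (38, 2), (39, 1), (41, 1), (43, 1), (45, 1), (46, 1), (47, 3), (48, 2), (49, 3), (50, 3), (51, 2), (52, 2), (53, 1), (56, 1), (57, 1), (58, 3), (60, 1), (62, 2), (63, 2), (64, 2), (65, 1), (66, 1), (67, 1), (68, 2), (69, 1), (70, 1), (71, 3), (72, 3), (73, 1), (74, 2), (75, 1), (76, 1), (77, 2), (78, 3), (79, 3), (81,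 3), (82, 3), (83, 3), (84, 3), (86, 1), (88, 2), (89, 2), (92, 1), (93, 2), (94, 1), (95, 1), (97, 3), (99, 2), (100, 1), (101, 1), (102, 1), (104, 2), (105, 2), (106, 3), (107, 1), (108, 1), (109, 1), (111, 3), (112, 3), (114, 2), (115, 2), (116, 2), (119, 2), (120, 3), (123, 3), (125, 2), (126, 3), (127, 1), (132, 2), (134, 2), (137, 2), (143, 2), (144, 2)]),
    ([(0, 2)], [(0, 1), (2, 1), (3, 3), (4, 2), (5, 3), (6, 2), (7, 1), (8, 1), (9, 2), (10, 2), (12, 3), (13, 3), (14, 1), (15, 3), (16, 2), (19, 1), (20, 3), (21, 3), (23, 1), (24, 1), (25, 2), (26, 3), (27, 2), (28, 3), (29, 1), (30, 3), (31, 1), (32, 1), (34, 1), (35, 3), (36, 3), (39, 3), (40, 1), (41, 1), (42, 2), (43, 3), (44, 1), (46, 1), (47, 1), (48, 2), (49, 1), (50, 2), (51, 1), (52, 1), (53, 1), (55, 2), (56, 1), (57, 3), (58, 3), (60, 2), (61, 2), (62, 1), (63, 1), (64, 1), (65, 3), (66, 2), (70, 3), (71, 1), (73, 1), (74, 3), (75, 1), (76,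 3), (77, 3), (78, 3), (80, 3), (82, 1), (83, 2), (84, 2), (85, 3), (87, 1), (89, 2), (90, 3), (91, 2), (92, 2), (93, 3), (94, 3), (96, 2), (97, 2), (98, 3), (99, 3), (101, 1), (102, 3), (103, 2), (104, 3), (105, 2), (106, 1), (108, 3), (109, 3), (110, 3), (111, 3), (112, 2), (113, 3), (115, 2), (116, 3), (118, 3), (119, 3), (120, 2), (121, 1), (122, 3), (123, 3), (124, 3), (126, 3), (127, 1), (128, 1), (133, 2), (134, 2), (143, 2), (144, 2)]),
    ([(0, 3)], [(0, 3), (1, 3), (2, 1), (4, 3), (6, 2), (7, 1), (8, 3), (9, 1), (10, 1), (11, 2), (12, 2), (13, 1), (14, 3), (16, 1), (17, 2), (18, 2), (19, 1), (21, 3), (22, 2), (24, 2), (25, 3), (26, 3), (27, 1), (28, 1), (29, 2), (30, 2), (31, 3), (32, 3), (33, 3), (34, 2), (36, 2), (38, 2), (39, 2), (40, 1), (42, 3), (43, 2), (47, 1), (48, 3), (49, 2), (50, 1), (52, 1), (54, 1), (55, 3), (56, 2), (57, 2), (58, 2), (61, 1), (62, 2), (64, 1), (65, 3), (66, 1), (67, 3),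 (68, 3), (69, 2), (70, 3), (71, 1), (72, 3), (73, 2), (74, 2), (75, 3), (76, 1), (77, 1), (78, 1), (79, 1), (80, 1), (81, 1), (82, 1), (83, 2), (84, 2), (85, 3), (86, 3), (87, 1), (90, 3), (92, 2), (93, 1), (94, 2), (95, 1), (98, 3), (99, 2), (100, 2), (101, 2), (102, 1), (103, 2), (104, 3), (106, 1), (108, 3), (109, 1), (110, 3), (111, 2), (113, 2), (114, 3), (115, 1), (116, 2), (121, 2), (122, 2), (123, 2), (124, 3), (126, 3), (127, 2), (128, 1), (132, 3), (134, 1), (137, 1), (139, 1), (142, 3), (144, 1), (146, 3), (147, 2), (148, 1), (149, 1), (153, 1), (154, 3)]),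
    ([(0, 3)], [(0, 3), (2, 1), (4, 2), (5, 1), (6, 2), (7, 3), (11, 1), (14, 3), (15, 3), (17, 1), (18, 3), (20, 2), (21, 3), (22, 1), (25, 2), (27, 2), (28, 1), (29, 2), (30, 3), (31, 3), (32, 3), (34, 1), (36, 3), (38, 2), (40, 3), (41, 2), (42, 3), (44, 3), (47, 2), (48, 1), (50, 3), (52, 3), (54, 3), (55, 2), (56, 2), (58, 1), (59, 1), (61, 1), (62, 3), (63, 3), (64, 2), (66, 2), (67, 1), (68, 1), (69, 3), (71, 2), (72, 2), (73, 1), (75, 1), (77, 2), (78, 1), (80, 3), (81, 1), (82, 2), (83, 3), (84, 1), (85, 1), (86, 3), (87, 3), (88, 2), (90, 2), (91, 1), (92, 2), (93, 3), (96, 2), (97, 3), (98, 2), (99, 2), (101, 2), (102, 2), (103, 2), (104, 1), (105, 1), (106, 1), (107, 3), (109, 1), (113, 1), (114, 2), (115, 3), (116, 1), (117, 3), (120, 2), (121, 2), (123, 3), (124, 2), (125, 3), (126, 1), (127, 3), (132, 3), (134, 1), (137, 3), (139, 1), (142, 3), (143, 2), (144, 3), (146, 3), (147, 2), (148, 1),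 (149, 1), (153, 1), (154, 3)]),
    ([], [(0, 3), (1, 2), (2, 3), (3, 1), (4, 3), (5, 3), (6, 1), (7, 1), (9, 2), (10, 3), (13, 3), (14, 2), (15, 1), (16, 3), (17, 2), (18, 1), (19, 1), (21, 3), (23, 2), (24, 3), (25, 3), (26, 3), (27, 2), (28, 3), (29, 1), (30, 3), (31, 2), (32, 1), (33, 2), (34, 1), (35, 2), (36, 1), (39, 1), (40, 1), (41, 1), (47, 3), (48, 2), (49, 3), (50, 1), (51, 2), (53, 1), (54, 3), (55, 1), (56, 2), (57, 1), (58, 2), (59, 3), (60, 1), (62, 1), (64, 1), (66, 1), (67, 3), (69, 2), (70, 1), (71, 3), (72, 2), (74, 3), (76, 2), (77, 2), (78, 2), (81, 1), (82, 1), (83, 1), (84, 1), (85, 2), (86, 3), (87, 1), (90, 3), (91, 3), (92, 1), (93, 2), (94, 3), (97, 3), (98, 2), (99, 2), (101, 3), (103, 3), (104, 1), (106, 2), (107, 3), (108, 1), (109, 1), (110, 1), (111, 2), (112, 1), (113, 1), (114, 2), (115, 1), (116, 3), (118, 1), (121, 3), (122, 1), (123, 2), (124, 1), (125, 1), (126, 3), (132,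 2), (133, 2), (137, 2), (144, 2)]),
    ([(0, 2)], [(0, 2), (1, 1), (2, 2), (3, 2), (4, 2), (5, 3), (8, 3), (9, 1), (10, 3), (11, 2), (12, 1), (13, 2), (14, 1), (16, 3), (17, 1), (18, 3), (19, 3), (21, 1), (23, 2), (26, 2), (28, 3), (29, 3), (30, 3), (32, 3), (33, 1), (34, 3), (38, 3), (39, 3), (42, 1), (43, 3), (46, 1), (47, 2), (48, 3), (49, 2), (51, 1), (54, 2), (55, 2), (56, 1), (57, 2), (59, 2), (60, 1), (61, 2), (62, 2), (63, 1), (64, 3), (65, 1), (66, 3), (67, 3), (68, 2), (69, 2), (70, 3), (71, 2), (72, 1), (73, 3), (74, 3), (75, 2), (77, 3), (78, 2), (79, 1), (80, 3), (81, 3), (82, 2), (84, 2), (85, 2), (86, 3), (87, 2), (88, 3), (89, 3), (90, 3), (91, 3), (92, 1), (93, 1), (94, 3), (95, 3), (97, 3), (98, 1), (99, 1), (100, 1), (101, 3), (103, 2), (105, 3), (106, 3), (107, 2), (108, 1), (109, 2), (110, 3), (112, 3), (113, 1), (114, 3), (116, 2), (118, 1), (120, 1), (121, 3), (122, 3), (123, 1), (125,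 1), (126, 2), (128, 3), (137, 2), (142, 2), (144, 2), (146, 2)]),
    ([(0, 2)], [(0, 1), (1, 3), (2, 1), (3, 3), (5, 1), (6, 3), (7, 1), (9, 2), (10, 1), (12, 2), (14, 3), (15, 3), (18, 2), (19, 2), (21, 1), (22, 3), (23, 2), (24, 2), (26, 1), (28, 1), (29, 1), (30, 3), (31, 1), (32, 1), (33, 1), (34, 3), (38, 1), (39, 1), (41, 2), (42, 2), (43, 3), (44, 1), (45, 3), (46, 3), (47, 3), (48, 2), (49, 3), (50, 2), (51, 2), (52, 1), (53, 1), (55, 1), (57, 3), (58, 2), (59, 1), (60, 1), (61, 2), (63, 2), (64, 2), (65, 3), (66, 3), (68, 3), (69, 2), (71, 2), (72, 1), (73, 3), (75, 1), (76, 3), (79, 3), (81, 2), (82, 1), (84, 2), (85, 2), (86, 2), (87, 2), (88, 3), (90, 1), (91, 3), (92, 1), (93, 3), (95, 1), (96, 2), (97, 2), (98, 1), (99, 3), (100, 1), (101, 1), (103, 3), (104, 3), (105, 2), (108, 1), (110, 3), (112, 1), (113, 1), (114, 1), (115, 1), (116, 3), (119, 2), (120, 1), (121, 2), (122, 3), (123, 2), (124,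 2), (125, 2), (127, 1), (128, 3), (133, 2), (134, 2), (137, 2), (143, 2), (144, 2)]),
    ([(0, 2)], [(1, 2), (2, 2), (3, 2), (4, 3), (5, 3), (6, 2), (7, 3), (8, 3), (9, 1), (10, 3), (11, 2), (12, 3), (13, 2), (15, 2), (16, 3), (17, 3), (18, 2), (19, 2), (20, 1), (21, 1), (22, 3), (24, 3), (25, 2), (26, 1), (28, 1), (29, 2), (30, 2), (31, 2), (32, 3), (34, 2), (35, 2), (36, 3), (38, 1), (39, 1), (40, 1), (41, 3), (42, 1), (44, 2), (45, 2), (46, 1), (47, 2), (48, 2), (49, 1), (50, 1), (51, 1), (52, 2), (53, 2), (54, 2), (55, 3), (56, 3), (57, 3), (58, 2), (60, 1), (61, 2), (62, 2), (64, 1), (65, 3), (66, 1), (68, 1), (69, 3), (70, 1), (71, 1), (72, 1), (73, 1), (74, 3), (75, 2), (76, 3), (77, 1), (78, 1), (80, 3), (81, 1), (83, 3), (84, 1), (85, 1), (86, 3), (87, 3), (88, 1), (89, 1), (90, 1), (92, 3), (93, 2), (94, 3), (95, 1), (96, 1), (97, 2), (98, 1), (99, 2), (100, 1), (101, 1), (104, 3), (105, 2), (106,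 2), (107, 2), (108, 3), (109, 3), (110, 1), (111, 3), (112, 3), (114, 1), (116, 1), (117, 2), (118, 3), (119, 2), (120, 3), (122, 2), (123, 1), (124, 1), (127, 2), (142, 2), (143, 2), (146, 2)]),
    ([(0, 2)], [(1, 3), (5, 2), (6, 3), (7, 2), (8, 1), (9, 1), (10, 3), (11, 1), (12, 2), (14, 1), (17, 1), (19, 3), (20, 1), (22, 1), (23, 3), (24, 2), (25, 2), (26, 3), (27, 3), (31, 2), (33, 3), (36, 3), (39, 1), (40, 1), (41, 1), (42, 2), (43, 2), (44, 1), (45, 1), (46, 3), (47, 1), (49, 1), (50, 2), (51, 2), (52, 3), (53, 2), (54, 1), (55, 3), (56, 3), (58, 1), (62, 1), (63, 3), (64, 1), (65, 2), (67, 2), (68, 2), (69, 3), (71, 3), (72, 3), (73, 1), (74, 1), (75, 3), (76, 2), (77, 1), (80, 2), (81, 1), (84, 1), (85, 1), (86, 1), (87, 1), (88, 3), (91, 3), (92, 3), (94, 2), (95, 1), (97, 3), (98, 2), (99, 1), (100, 3), (102, 3), (104, 2), (106, 3), (108, 1), (109, 1), (112, 3), (113, 3), (114, 2), (115, 3), (117,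 3), (118, 3), (119, 2), (122, 3), (123, 2), (126, 2), (127, 3), (128, 3), (137, 2)]),
    ([], [(0, 2), (1, 2), (4, 1), (6, 2), (7, 3), (9, 1), (10, 1), (11, 1), (12, 1), (14, 3), (15, 2), (16, 3), (17, 3), (18, 3), (19, 1), (20, 3), (21, 3), (22, 1), (23, 1), (25, 2), (27, 3), (28, 3), (29, 2), (30, 3), (33, 3), (34, 3), (35, 2), (36, 1), (38, 1), (40, 3), (41, 2), (42, 3), (44, 2), (45, 1), (47, 3), (48, 3), (49, 1), (51, 1), (52, 3), (53, 3), (54, 1), (55, 3), (56, 2), (57, 1), (58, 3), (60, 2), (61, 3), (62, 1), (63, 1), (64, 1), (65, 2), (66, 2), (67, 3), (68, 3), (69, 2), (70, 3), (73, 1), (74, 1), (75, 3), (76, 3), (77, 1), (78, 1), (79, 3), (80, 2), (81, 3), (82, 1), (83, 3), (84, 2), (85, 1), (86, 1), (87, 2), (88, 2), (90, 1), (91, 2), (92, 3), (93, 2), (94, 1), (96, 1), (98, 1), (99, 3), (100, 1), (102, 1), (103, 1), (104, 1), (105, 2), (106, 1), (107, 2), (110, 3), (111, 3), (112, 2), (114, 2), (115,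 1), (116, 2), (117, 3), (118, 1), (119, 3), (120, 3), (122, 3), (123, 1), (124, 2), (125, 1), (126, 1), (127, 1), (128, 2), (132, 2), (133, 2), (137, 2), (142, 2), (144, 2), (146, 2)]),
    ([], [(0, 3), (2, 3), (3, 1), (5, 2), (6, 3), (7, 2), (8, 2), (9, 1), (10, 3), (11, 2), (12, 1), (13, 1), (14, 1), (15, 1), (17, 3), (18, 3), (19, 2), (20, 3), (21, 3), (22, 3), (23, 1), (24, 2), (25, 3), (27, 3), (28, 3), (29, 1), (31, 1), (32, 2), (33, 2), (34, 3), (35, 2), (38, 3), (39, 3), (40, 2), (41, 3), (42, 2), (43, 2), (44, 1), (48, 3), (49, 1), (50, 3), (51, 2), (52, 1), (53, 2), (56, 2), (57, 3), (58, 3), (59, 3), (60, 2), (62, 2), (63, 2), (65, 1), (66, 2), (67, 3), (68, 1), (69, 2), (72, 2), (73, 1), (74, 1), (75, 1), (76, 3), (78, 2), (79, 2), (80, 2), (82, 2), (83, 2), (84, 3), (85, 3), (86, 2), (87, 2), (88, 1), (91, 2), (92, 2), (93, 2), (95, 1), (96, 1), (97, 3), (99, 3), (100, 2), (101, 1), (102, 2), (103,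 2), (104, 2), (105, 2), (106, 1), (108, 3), (109, 1), (112, 1), (113, 3), (114, 3), (115, 1), (116, 3), (118, 3), (119, 3), (120, 1), (121, 2), (122, 2), (123, 2), (124, 2), (127, 2), (128, 2), (143, 2)]),
    ([], [(1, 3), (2, 2), (3, 2), (4, 2), (5, 1), (6, 2), (7, 3), (8, 1), (9, 2), (10, 3), (11, 3), (15, 2), (16, 1), (17, 2), (18, 2), (19, 1), (20, 3), (21, 3), (22, 1), (23, 3), (24, 2), (25, 3), (26, 3), (27, 3), (28, 2), (29, 3), (30, 3), (34, 2), (35, 2), (36, 3), (38, 3), (39, 1), (40, 1), (41, 2), (42, 2), (43, 1), (44, 1), (45, 3), (46, 3), (47, 3), (48, 2), (50, 1), (51, 3), (52, 2), (54, 3), (57, 3), (59, 3), (61, 1), (65, 2), (66, 3), (67, 2), (68, 3), (69, 3), (70, 1), (71, 1), (72, 2), (73, 3), (76, 2), (78, 2), (79, 2), (80, 2), (83, 3), (84, 2), (85, 1), (86, 3), (87, 1), (90, 2), (91, 3), (92, 1), (93, 1), (94, 1), (96, 1), (98, 3), (99, 3), (100, 1), (101, 3), (103, 2), (104, 1), (105, 3),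 (106, 3), (108, 2), (110, 3), (111, 1), (112, 1), (113, 1), (114, 3), (115, 3), (117, 2), (118, 2), (119, 2), (120, 3), (121, 1), (123, 1), (124, 2), (126, 1), (128, 3), (133, 2), (134, 2), (143, 2)]),
    ([(0, 2)], [(1, 3), (2, 2), (3, 2), (4, 2), (5, 2), (7, 1), (9, 2), (10, 1), (11, 2), (13, 2), (14, 3), (15, 2), (17, 1), (18, 1), (19, 3), (20, 3), (21, 1), (22, 1), (24, 1), (27, 1), (28, 3), (29, 3), (30, 1), (31, 3), (32, 2), (33, 2), (35, 2), (38, 2), (40, 3), (41, 2), (42, 1), (44, 2), (45, 3), (46, 2), (47, 3), (48, 1), (49, 3), (50, 1), (51, 2), (52, 1), (53, 3), (54, 3), (55, 1), (56, 3), (57, 1), (58, 1), (60, 2), (62, 1), (63, 3), (65, 1), (69, 3), (70, 1), (71, 2), (72, 1), (73, 1), (74, 1), (75, 1), (76, 3), (77, 2), (78, 2), (79, 1), (80, 1), (81, 1), (82, 3), (83, 3), (85, 2), (86, 2), (87, 1), (88, 1), (89, 2), (90, 3), (91, 2), (93, 2), (94, 1), (95, 1), (96, 3), (97, 2), (98, 2), (99, 1),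 (101, 1), (103, 3), (104, 3), (105, 3), (107, 2), (108, 2), (109, 2), (110, 2), (111, 1), (112, 3), (113, 1), (114, 3), (115, 2), (116, 1), (117, 1), (118, 2), (119, 1), (120, 2), (123, 3), (126, 1), (127, 3), (132, 2), (134, 2), (137, 2), (143, 2), (144, 2)]),
    ([], [(0, 1), (1, 1), (2, 1), (3, 3), (4, 3), (5, 2), (6, 3), (9, 3), (11, 1), (13, 1), (14, 3), (15, 2), (17, 1), (20, 1), (21, 3), (22, 1), (23, 3), (24, 1), (26, 3), (27, 1), (28, 3), (29, 1), (31, 2), (32, 1), (34, 1), (36, 3), (38, 3), (39, 2), (42, 3), (43, 1), (45, 2), (47, 1), (48, 3), (49, 2), (51, 3), (53, 3), (55, 1), (56, 1), (57, 1), (59, 1), (60, 3), (61, 2), (62, 2), (63, 3), (64, 1), (65, 1), (67, 3), (68, 3), (69, 3), (70, 2), (72, 2), (73, 2), (75, 2), (76, 1), (77, 3), (78, 2), (79, 3), (83, 2), (84, 1), (85, 3), (86, 1), (87, 2), (88, 3), (89, 3), (90, 3), (91, 2), (93, 3), (94, 2), (95, 3), (97, 3), (98, 3), (99, 1), (100, 1),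 (102, 3), (103, 3), (104, 3), (106, 1), (108, 2), (110, 1), (111, 3), (112, 3), (113, 3), (114, 2), (115, 1), (116, 2), (117, 1), (118, 1), (119, 2), (121, 2), (122, 1), (123, 1), (127, 2), (128, 1), (132, 2), (134, 2), (142, 2), (144, 2), (146, 2)])]

/-- A part of the certificate. -/
def tgt5 : List (List (ℕ × ℕ) × List (ℕ × ℕ)) := [
    ([], [(0, 2), (1, 1), (2, 2), (3, 2), (4, 1), (5, 1), (6, 3), (8, 2), (10, 3), (12, 2), (15, 3), (16, 1), (17, 3), (18, 2), (19, 1), (20, 3), (21, 2), (22, 3), (23, 2), (24, 1), (26, 1), (27, 2), (28, 3), (30, 1), (31, 3), (32, 3), (33, 2), (35, 2), (36, 1), (40, 2), (41, 1), (42, 1), (43, 2), (44, 1), (45, 1), (47, 3), (48, 2), (49, 1), (52, 3), (54, 2), (55, 3), (56, 2), (57, 3), (58, 3), (59, 2), (60, 3), (61, 2), (62, 2), (63, 3), (65, 2), (66, 2), (67, 1), (68, 3), (69, 2), (70, 3), (71, 1), (72, 2), (73, 3), (74, 2), (75, 2), (76, 1), (79, 1), (80, 1), (82, 3), (85, 3),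 (88, 1), (90, 3), (91, 1), (92, 1), (93, 3), (95, 2), (96, 3), (97, 1), (98, 1), (100, 1), (102, 2), (103, 2), (105, 2), (106, 1), (107, 1), (108, 3), (109, 3), (111, 2), (112, 2), (113, 1), (114, 2), (115, 3), (117, 1), (119, 1), (120, 2), (122, 2), (124, 1), (125, 3), (126, 3), (127, 2), (132, 2), (133, 2), (144, 2)]),
    ([(0, 2)], [(0, 2), (1, 2), (2, 2), (3, 2), (4, 2), (6, 1), (7, 3), (8, 2), (9, 3), (10, 3), (11, 3), (13, 2), (14, 1), (15, 2), (16, 1), (17, 2), (18, 2), (19, 3), (20, 1), (22, 1), (23, 2), (24, 2), (25, 2), (26, 3), (27, 3), (29, 2), (30, 2), (31, 1), (32, 2), (33, 3), (34, 2), (35, 3), (36, 2), (38, 1), (39, 2), (40, 1), (41, 2), (42, 2), (44, 3), (45, 2), (48, 1), (50, 2), (51, 1), (53, 1), (54, 3), (55, 2), (56, 3), (57, 2), (58, 3), (59, 3), (60, 1), (61, 3), (62, 1), (63, 3), (64, 1), (65, 3), (66, 1), (67, 1), (68, 1), (70, 1), (71, 3), (72, 3), (74, 3), (75, 1), (76, 3), (77, 1),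 (78, 2), (79, 1), (81, 3), (82, 2), (84, 2), (85, 3), (86, 3), (87, 2), (88, 1), (89, 1), (90, 1), (91, 2), (93, 1), (94, 1), (95, 2), (96, 3), (97, 2), (98, 3), (99, 2), (101, 1), (102, 2), (103, 1), (104, 3), (105, 3), (108, 3), (109, 2), (113, 2), (114, 3), (115, 3), (116, 1), (117, 2), (118, 1), (119, 3), (121, 3), (122, 2), (123, 1), (124, 3), (126, 2), (127, 2), (132, 2), (134, 2), (137, 2), (144, 2)]),
    ([(0, 3)], [(0, 2), (1, 3), (3, 1), (5, 3), (6, 3), (8, 1), (10, 1), (11, 2), (13, 2), (14, 1), (16, 3), (17, 1), (18, 2), (19, 3), (21, 3), (23, 3), (24, 2), (25, 2), (26, 1), (27, 3), (28, 2), (29, 2), (30, 1), (31, 2), (34, 2), (35, 1), (38, 1), (39, 1), (40, 2), (41, 2), (42, 2), (43, 2), (45, 2), (46, 3), (47, 1), (49, 2), (51, 3), (52, 2), (53, 2), (56, 1), (57, 1), (58, 3), (60, 2), (62, 1), (64, 3), (65, 2), (66, 3), (68, 2), (69, 2), (70, 1), (72, 2), (73, 1), (74, 2), (76, 2), (79, 1), (80,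 2), (81, 1), (82, 3), (83, 3), (84, 3), (85, 2), (86, 1), (87, 3), (88, 2), (90, 2), (92, 2), (95, 3), (96, 3), (98, 1), (99, 3), (101, 1), (103, 3), (105, 1), (106, 2), (107, 3), (108, 1), (109, 2), (110, 3), (111, 2), (112, 2), (113, 1), (114, 2), (118, 3), (119, 3), (123, 2), (124, 2), (125, 1), (127, 1), (128, 1), (132, 1), (133, 2), (134, 1), (137, 3), (139, 1), (142, 1), (144, 3), (146, 1), (147, 2), (148, 1), (149, 1), (153, 1), (154, 3)]),
    ([(0, 1)], []),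
    ([], [(0, 3), (1, 2), (2, 1), (4, 2), (5, 1), (7, 3), (9, 3), (10, 1), (11, 1), (14, 1), (17, 3), (18, 2), (19, 2), (20, 1), (21, 2), (22, 1), (23, 3), (25, 3), (27, 2), (28, 3), (29, 3), (31, 2), (32, 1), (33, 1), (34, 2), (38, 2), (40, 2), (41, 2), (42, 3), (43, 1), (44, 1), (45, 1), (46, 3), (48, 1), (49, 3), (50, 2), (53, 1), (54, 1), (55, 3), (56, 1), (57, 2), (58, 2), (59, 1), (60, 1), (61, 1), (62, 2), (63, 1), (64, 1), (66, 2), (67, 1), (68, 2), (70, 3), (71, 1), (72, 1), (74, 1), (75, 3), (76, 1), (79, 3), (80, 3), (81, 2), (82, 1), (83, 1), (84, 3), (85, 2), (86, 3), (87, 3), (89, 2), (91, 3), (92, 1), (94, 3), (95, 2), (96, 2), (98, 3), (99, 1), (100, 1), (101, 1), (102, 2), (104, 1), (105, 1), (106, 1), (107, 1), (108, 2), (109, 2), (110, 3), (111, 3), (112, 1), (113, 3), (114, 3), (115, 2), (116, 1), (118, 2), (119, 1), (120, 3), (122, 1), (123, 3), (125, 1), (126, 3), (127, 2), (132, 3), (133,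 2), (134, 3), (137, 3), (139, 1), (142, 3), (143, 2), (144, 3), (146, 3), (147, 2), (148, 1), (149, 1), (153, 1), (154, 3)]),
    ([], [(1, 1), (2, 2), (3, 3), (4, 2), (5, 3), (6, 3), (7, 3), (9, 1), (11, 2), (13, 3), (14, 2), (15, 1), (16, 3), (17, 3), (18, 1), (19, 2), (20, 2), (23, 1), (24, 3), (26, 3), (27, 2), (29, 3), (30, 2), (31, 2), (32, 2), (34, 1), (35, 3), (36, 2), (38, 1), (40, 1), (41, 2), (42, 2), (43, 1), (44, 3), (45, 3), (46, 3), (47, 2), (48, 1), (50, 1), (51, 3), (52, 2), (53, 2), (54, 1), (56, 1), (57, 1), (58, 3), (59, 2), (60, 3), (61, 1), (62, 3), (63, 2), (64, 2), (66, 2), (67, 3), (68, 2), (69, 3), (70, 1), (72, 1), (73, 2), (75, 2), (77, 2), (78, 3), (79, 2), (81, 2), (83, 1), (84, 3), (85, 1), (87, 2), (88, 1), (89, 1), (90, 1), (92, 1), (94, 1), (95, 2), (96, 3), (97, 1), (100, 3), (101, 2), (102, 3), (104, 3), (105, 2), (109, 2), (110, 3), (111, 2), (112, 1), (113, 1), (114, 1),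 (115, 3), (116, 2), (117, 2), (118, 1), (120, 2), (122, 2), (123, 1), (124, 2), (125, 3), (126, 2), (128, 3), (132, 3), (134, 1), (137, 3), (139, 1), (142, 1), (143, 2), (144, 1), (146, 1), (147, 2), (148, 1), (149, 1), (153, 1), (154, 3)]),
    ([], [(1, 3), (2, 2), (3, 2), (5, 2), (6, 3), (11, 2), (12, 3), (13, 1), (14, 3), (16, 2), (20, 1), (21, 3), (22, 1), (23, 3), (26, 3), (27, 3), (30, 2), (31, 1), (32, 3), (33, 1), (35, 3), (36, 1), (38, 2), (39, 2), (40, 2), (41, 1), (42, 3), (43, 2), (45, 1), (46, 1), (47, 1), (48, 1), (49, 3), (51, 1), (52, 2), (54, 1), (55, 2), (56, 2), (57, 2), (58, 3), (60, 1), (61, 2), (62, 1), (63, 2), (64, 1), (65, 3), (67, 1), (68, 3), (69, 1), (72, 2), (73, 1), (74, 3), (76, 1), (78, 3), (82, 1), (84, 3), (85, 2), (87, 2), (88, 1), (89, 2), (90, 2), (93, 3), (94, 3), (95, 3), (96, 2), (97, 2), (100, 3), (101, 2), (102, 3), (106, 1), (108, 2), (112, 3), (113, 1), (115, 2), (116,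 1), (117, 1), (118, 1), (119, 2), (120, 3), (121, 3), (122, 2), (125, 2), (126, 3), (127, 2)]),
    ([], [(0, 2), (1, 1), (4, 3), (5, 2), (7, 1), (8, 2), (9, 2), (10, 2), (11, 2), (12, 2), (13, 2), (14, 3), (16, 1), (17, 2), (18, 2), (19, 3), (20, 2), (23, 2), (24, 3), (26, 2), (27, 1), (28, 2), (31, 3), (34, 3), (35, 3), (36, 3), (39, 3), (40, 3), (41, 2), (42, 2), (43, 2), (45, 1), (46, 2), (47, 3), (49, 1), (50, 1), (52, 2), (54, 1), (55, 2), (56, 2), (58, 3), (59, 1), (61, 3), (62, 1), (63, 1), (64, 3), (65, 2), (66, 1), (67, 2), (69, 3), (70, 1), (71, 1), (72, 2), (77, 3), (78, 2), (79, 3), (80, 1), (81, 1), (82, 2), (83, 2), (85, 3), (87, 1), (91, 1), (92, 1), (95, 2), (96, 1), (97, 3), (99, 1), (100, 1), (102, 3), (103, 3), (104, 1), (105, 1), (106, 1), (107, 2), (109, 1), (110, 3), (112, 2), (113, 3), (114, 1), (115, 3), (116, 2), (117, 1), (118, 1), (119, 3), (120, 3), (121, 3), (122, 1), (123, 1), (124,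 2), (125, 2), (126, 3), (127, 1), (133, 2), (134, 2), (137, 2), (142, 2), (144, 2), (146, 2)]),
    ([], [(0, 2), (1, 2), (4, 2), (7, 1), (9, 2), (11, 1), (12, 3), (13, 2), (14, 3), (15, 1), (17, 1), (18, 2), (19, 2), (20, 1), (21, 3), (22, 1), (24, 3), (26, 1), (27, 3), (28, 3), (29, 2), (32, 1), (35, 3), (36, 3), (38, 2), (39, 1), (41, 1), (44, 2), (45, 1), (46, 1), (47, 3), (48, 2), (49, 3), (50, 1), (51, 3), (54, 2), (55, 2), (57, 3), (59, 3), (60, 2), (61, 3), (62, 2), (63, 1), (64, 3), (65, 1), (66, 1), (67, 2), (68, 3), (69, 2), (71, 1), (72, 1), (74, 3), (76, 3), (77, 2), (78, 2), (79, 2), (81, 2), (82, 3), (83, 1), (84, 1), (85, 1), (87, 2), (88, 1), (89, 1), (91, 1), (92, 3), (93, 1), (94, 1), (95, 2), (96, 2), (97, 1), (99, 3), (100, 2), (101, 2), (102, 3), (103, 2), (105, 3), (107, 2), (108, 1), (109, 1), (112, 2), (113, 3), (114, 2), (115, 1), (116, 2), (118, 2), (119, 1), (120, 3), (121, 1), (122,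 1), (123, 1), (124, 2), (126, 1), (127, 2), (132, 2), (133, 2), (137, 2), (143, 2)]),
    ([], [(0, 3), (1, 2), (2, 3), (3, 1), (4, 1), (5, 1), (6, 2), (9, 2), (10, 1), (11, 2), (12, 3), (13, 2), (15, 1), (16, 3), (17, 2), (18, 1), (19, 3), (21, 1), (22, 3), (24, 3), (25, 2), (26, 3), (28, 2), (29, 1), (30, 2), (31, 2), (32, 2), (34, 2), (35, 3), (36, 3), (39, 3), (40, 1), (43, 2), (44, 1), (46, 2), (47, 1), (48, 3), (49, 3), (50, 1), (51, 2), (52, 3), (53, 2), (55, 1), (56, 2), (57, 3), (58, 1), (59, 2), (60, 1), (61, 3), (62, 3), (63, 2), (65, 3), (66, 1), (67, 1), (68, 1), (69, 3), (70, 1), (71, 1), (72, 3), (73, 1), (76, 3), (77, 3), (80, 2), (82, 1), (83, 3), (84, 1), (85, 3), (87, 1), (88, 1), (89, 1), (91, 3), (92, 2), (93, 1), (94, 2), (96, 2), (97, 1), (98, 1), (99, 3), (101, 3), (102, 1), (103, 1), (104, 3), (105, 1), (106, 3), (107, 2), (108, 2), (111, 2), (112, 2), (113, 1), (114, 3), (115, 1), (116,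 1), (117, 3), (118, 3), (119, 2), (120, 2), (121, 2), (122, 2), (123, 2), (124, 2), (125, 1), (126, 2), (127, 3)]),
    ([(0, 2)], [(0, 2), (2, 2), (3, 2), (4, 1), (5, 3), (8, 1), (9, 1), (10, 1), (11, 2), (12, 1), (13, 3), (14, 2), (15, 2), (17, 1), (18, 1), (22, 2), (23, 1), (24, 2), (25, 1), (27, 2), (28, 1), (29, 3), (30, 3), (31, 3), (32, 2), (33, 1), (34, 3), (35, 3), (36, 3), (38, 3), (39, 2), (40, 3), (41, 3), (44, 3), (45, 2), (46, 1), (47, 2), (48, 2), (49, 2), (50, 3), (51, 3), (52, 3), (53, 3), (54, 2), (55, 1), (56, 3), (57, 1), (58, 3), (60, 2), (61, 1), (62, 2), (63, 2), (64, 3), (65, 3), (66, 3), (68, 3), (69, 1), (70, 1), (74, 1), (75, 1), (76, 3), (78, 1), (79, 2), (80, 1), (81, 1), (82, 3), (83, 2), (84, 3), (85, 1), (87, 2), (88, 3), (89, 2), (91, 3), (92, 3), (93, 3), (94, 2), (95, 1), (96, 2), (97, 1), (98, 1), (101, 1), (102, 3), (103, 1), (104, 2), (106, 3), (108, 3), (109, 2), (110, 3),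 (112, 1), (113, 3), (114, 3), (115, 2), (116, 1), (117, 3), (118, 3), (120, 1), (121, 1), (122, 1), (123, 1), (124, 1), (125, 1), (126, 1), (128, 3), (132, 2), (133, 2), (137, 2)]),
    ([], [(0, 2), (1, 2), (4, 3), (6, 3), (7, 3), (8, 1), (10, 1), (11, 1), (12, 2), (13, 2), (14, 2), (15, 1), (16, 3), (17, 2), (18, 3), (19, 1), (22, 3), (23, 3), (24, 3), (25, 2), (26, 1), (27, 2), (28, 1), (29, 1), (30, 3), (31, 2), (33, 2), (34, 2), (35, 3), (36, 1), (39, 3), (41, 3), (42, 1), (43, 2), (44, 2), (46, 3), (47, 1), (48, 2), (50, 3), (51, 2), (52, 2), (53, 2), (54, 2), (55, 3), (56, 1), (57, 3), (58, 3), (59, 2), (60, 2), (61, 3), (62, 1), (63, 1), (64, 3), (66, 3), (68, 1), (69, 2), (70, 2), (71, 3), (72, 1), (73, 3), (74, 2), (75, 3), (76, 2), (77, 1), (80, 3), (81, 1), (82, 2), (83, 2), (84, 2), (86, 2), (89, 2), (90, 1), (91, 1), (92, 2), (94, 2), (99, 2), (100, 2), (101, 1), (103, 2), (104, 3), (106, 2), (107,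 3), (108, 1), (109, 1), (110, 3), (112, 1), (113, 3), (114, 1), (117, 1), (119, 2), (120, 2), (121, 3), (123, 1), (124, 1), (125, 3), (126, 2), (128, 1), (133, 2), (134, 2), (144, 2)]),
    ([(0, 2)], [(0, 3), (1, 2), (2, 3), (3, 1), (4, 3), (5, 1), (7, 1), (8, 1), (9, 1), (12, 3), (13, 1), (14, 3), (17, 2), (18, 2), (20, 2), (21, 3), (22, 1), (23, 1), (24, 1), (26, 2), (28, 2), (29, 2), (30, 3), (32, 3), (33, 3), (36, 1), (38, 2), (39, 2), (41, 3), (42, 3), (43, 1), (44, 2), (45, 3), (46, 1), (47, 3), (48, 1), (49, 1), (50, 1), (51, 3), (54, 1), (55, 2), (56, 3), (58, 3), (59, 3), (60, 3), (62, 3), (64, 1), (65, 2), (66, 2), (67, 3), (68, 3), (70, 1), (71, 2), (72, 3), (73, 2), (74, 3), (75, 2), (76, 1), (77, 3), (78, 3), (79, 3), (80, 2), (81, 1), (82, 1), (83, 3), (85, 2), (86, 1), (87, 3), (89, 1), (91, 3), (92, 1), (93, 3), (95, 2), (96, 3), (97, 2), (99, 2), (101, 3), (102, 3), (103, 3), (104, 3), (107,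 2), (109, 3), (111, 1), (112, 3), (113, 3), (114, 1), (115, 3), (117, 3), (118, 1), (119, 2), (120, 3), (121, 3), (122, 1), (123, 2), (124, 2), (125, 1), (126, 2), (127, 3), (142, 2), (143, 2), (144, 2), (146, 2)]),
    ([], [(0, 2), (4, 2), (5, 3), (8, 2), (9, 3), (10, 3), (12, 1), (13, 1), (14, 3), (16, 3), (17, 3), (18, 1), (26, 1), (27, 2), (28, 1), (29, 1), (30, 3), (31, 2), (33, 3), (34, 3), (35, 3), (36, 1), (38, 1), (39, 2), (41, 2), (43, 2), (44, 2), (46, 3), (47, 2), (48, 3), (50, 1), (51, 2), (54, 3), (56, 2), (57, 3), (58, 3), (59, 1), (60, 3), (61, 1), (62, 3), (63, 3), (64, 2), (66, 3), (67, 1), (68, 3), (69, 3), (70, 1), (71, 2), (72, 3), (74, 1), (75, 2), (76, 1), (77, 2), (78, 2), (79, 2), (80, 2), (82, 1), (85, 2), (86, 1), (87, 2), (88, 2), (90, 3), (91, 2), (92, 3), (93, 1), (94, 1), (95, 3), (96, 1), (97, 2), (99, 1), (101, 2), (102, 3), (103, 2), (104, 3), (105, 2), (107, 1), (109, 3), (110,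 3), (111, 3), (112, 3), (115, 2), (116, 1), (117, 1), (118, 2), (119, 3), (120, 2), (121, 1), (122, 2), (125, 3), (127, 2), (128, 2)]),
    ([], [(0, 2), (1, 1), (4, 1), (5, 1), (9, 2), (10, 3), (11, 1), (12, 2), (13, 3), (14, 3), (15, 2), (16, 3), (17, 2), (18, 3), (19, 3), (20, 1), (24, 3), (25, 3), (26, 2), (27, 3), (28, 3), (30, 2), (31, 2), (33, 2), (34, 2), (35, 1), (38, 1), (39, 2), (40, 3), (42, 1), (44, 3), (45, 3), (46, 2), (48, 2), (49, 3), (51, 2), (52, 2), (54, 1), (55, 3), (57, 3), (58, 1), (59, 3), (60, 2), (61, 3), (62, 2), (64, 2), (65, 1), (67, 2), (68, 3), (69, 1), (70, 3), (71, 3), (72, 2), (73, 1), (74, 3), (76, 3), (77, 2), (78, 1), (79, 2), (80, 2), (81, 3), (82, 3), (83, 2), (84, 2), (85, 2), (86, 3), (87, 2), (88, 1), (89, 3), (91, 2), (92, 3), (93, 2), (96, 3), (97, 1), (98, 3), (99, 1), (100, 3), (101, 3), (102, 3), (103, 2), (104, 1), (105, 1), (109, 2), (111, 1), (113, 1), (114, 2),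 (115, 3), (116, 3), (119, 1), (120, 2), (121, 2), (122, 3), (123, 3), (124, 2), (125, 2), (126, 3), (128, 1), (132, 2), (133, 2), (142, 2), (146, 2)]),
    ([(0, 2)], [(0, 3), (1, 2), (2, 1), (3, 3), (6, 1), (8, 3), (9, 2), (11, 3), (14, 1), (15, 1), (16, 1), (18, 1), (19, 3), (21, 3), (22, 1), (23, 1), (24, 1), (25, 1), (28, 2), (29, 2), (30, 2), (31, 2), (32, 1), (33, 3), (35, 3), (36, 1), (38, 2), (41, 1), (42, 1), (44, 3), (45, 3), (46, 2), (47, 1), (48, 3), (50, 2), (51, 1), (54, 1), (55, 3), (56, 3), (57, 3), (58, 3), (59, 1), (60, 2), (62, 3), (63, 3), (64, 1), (65, 2), (66, 1), (67, 2), (68, 2), (70, 2), (71, 1), (73, 2), (74, 2), (75, 2), (76, 3), (77, 2), (78, 2), (80, 2), (81, 2), (84, 2), (85, 2), (86, 1), (88, 3), (89, 3), (90, 2), (91, 1), (93, 3), (94, 2), (97, 2), (98, 2), (101, 2), (102, 3), (103, 1), (104, 2), (105, 2), (107, 3), (108, 2), (109, 1), (110, 2), (115, 3), (116, 3), (117, 3), (119,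 2), (120, 3), (121, 2), (122, 2), (124, 3), (125, 2), (126, 3), (127, 1), (132, 2), (134, 2), (137, 2), (144, 2)]),
    ([], [(0, 3), (1, 1), (2, 1), (3, 3), (4, 1), (5, 3), (6, 2), (7, 1), (9, 2), (10, 1), (11, 1), (13, 1), (17, 3), (18, 1), (19, 3), (20, 2), (21, 1), (25, 2), (26, 3), (27, 1), (29, 2), (32, 1), (33, 2), (35, 2), (38, 2), (39, 1), (40, 2), (41, 1), (42, 1), (43, 2), (44, 2), (45, 2), (46, 2), (47, 3), (48, 3), (49, 2), (50, 1), (51, 2), (52, 2), (53, 1), (54, 1), (55, 3), (57, 1), (58, 3), (59, 3), (62, 3), (63, 3), (64, 2), (65, 1), (68, 2), (69, 3), (70, 2), (72, 1), (73, 1), (75, 3), (76, 1), (77, 3), (81, 2), (82, 3), (84, 1), (87, 1), (88, 2), (90, 3), (91, 2), (92, 2), (93, 1), (94, 1), (95, 3), (96, 2), (97, 3), (98, 1), (100, 1), (102, 1), (103, 2), (104, 3), (105, 3), (108, 2), (109, 1), (110, 1), (112, 2), (113, 1), (115, 3), (116, 1), (117, 1), (118, 2), (119, 2), (120, 3), (121,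 3), (123, 2), (125, 2), (126, 3), (127, 2), (128, 3), (133, 2), (134, 2), (137, 2), (142, 2), (144, 2), (146, 2)]),
    ([(0, 2)], [(0, 1), (2, 3), (3, 1), (4, 3), (5, 1), (7, 3), (8, 2), (10, 2), (11, 2), (12, 1), (13, 3), (15, 3), (16, 3), (17, 3), (18, 2), (19, 2), (23, 2), (25, 2), (26, 3), (27, 1), (28, 1), (31, 3), (33, 3), (34, 2), (35, 3), (36, 3), (39, 3), (40, 1), (41, 2), (42, 3), (44, 3), (45, 1), (47, 2), (48, 1), (49, 1), (50, 1), (51, 3), (52, 2), (54, 2), (55, 3), (56, 3), (57, 1), (58, 2), (59, 2), (60, 1), (61, 1), (62, 1), (63, 2), (64, 1), (65, 3), (66, 1), (67, 2), (69, 2), (71, 3), (73, 1), (74, 3), (75, 3), (76, 3), (77, 3), (78, 3), (79, 1), (80, 2), (84, 2), (85, 1), (88, 1), (89, 2), (90, 2), (94, 3), (96, 2), (97, 2), (98, 3), (102, 1), (105, 2), (108, 1), (110, 3), (111, 1), (112, 1), (114, 1), (115, 3), (117, 1), (118, 2), (119, 1), (120, 1), (121, 2), (123, 1), (124, 3), (127, 2),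 (128, 3), (137, 2), (142, 2), (143, 2), (146, 2)]),
    ([], [(0, 2), (1, 3), (2, 2), (3, 2), (4, 1), (7, 3), (8, 3), (9, 2), (10, 2), (12, 2), (13, 2), (14, 2), (15, 2), (16, 1), (17, 2), (18, 2), (19, 2), (20, 2), (21, 3), (23, 1), (24, 2), (25, 2), (26, 3), (27, 3), (28, 3), (29, 3), (31, 3), (32, 2), (33, 2), (34, 1), (35, 2), (36, 3), (38, 3), (40, 1), (41, 1), (42, 3), (44, 3), (45, 3), (46, 3), (47, 3), (48, 3), (49, 2), (50, 1), (52, 3), (53, 2), (54, 2), (55, 2), (56, 2), (58, 1), (59, 1), (60, 1), (62, 2), (63, 2), (64, 1), (65, 3), (66, 1), (67, 2), (69, 2), (70, 2), (74, 1), (75, 2), (77, 3), (78, 2), (79, 2), (81, 1), (82, 3), (83, 2), (85, 3), (86, 2), (87, 2), (88, 2), (89, 1), (90, 2), (91, 2), (92, 3), (93, 2), (95, 3), (96, 2), (97, 3), (98, 2), (99, 2), (101, 3), (102, 3), (103, 1), (105, 3), (106, 2), (107, 1), (108, 1), (110, 1), (111, 3), (112, 3), (113, 1), (114, 2), (115, 1), (116, 1),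 (117, 1), (118, 3), (119, 2), (120, 2), (121, 1), (122, 3), (123, 1), (124, 1), (125, 1), (126, 1), (127, 1), (128, 2), (133, 2), (134, 2), (143, 2)]),
    ([(0, 2)], [(0, 1), (1, 1), (2, 1), (3, 3), (5, 1), (6, 3), (7, 2), (8, 1), (9, 3), (10, 3), (11, 3), (12, 1), (14, 3), (15, 1), (17, 3), (18, 2), (19, 3), (20, 2), (21, 1), (22, 1), (23, 1), (24, 1), (25, 3), (26, 3), (28, 3), (29, 1), (30, 1), (31, 3), (32, 1), (34, 3), (38, 1), (40, 1), (42, 3), (43, 2), (44, 1), (45, 1), (46, 1), (47, 3), (48, 2), (49, 2), (50, 1), (51, 3), (52, 2), (53, 1), (54, 3), (55, 3), (56, 3), (57, 2), (58, 1), (60, 1), (61, 3), (63, 2), (64, 1), (65, 2), (68, 2), (69, 2), (70, 3), (71, 3), (72, 3), (74, 3), (75, 1), (77, 2), (78, 2), (79, 2), (80, 2), (81, 1), (82, 1), (83, 2), (85, 2), (86, 2), (88, 3), (89, 3), (90, 3), (91, 3), (92, 3), (94, 1), (95, 1), (96, 1), (97, 1), (98, 2), (99, 3), (101, 3), (102, 2), (103, 1), (104,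 3), (106, 2), (108, 3), (109, 2), (110, 3), (111, 1), (112, 1), (114, 1), (115, 2), (118, 2), (119, 1), (120, 3), (121, 3), (124, 3), (125, 1), (126, 3), (127, 3), (128, 2), (132, 2), (133, 2), (137, 2), (143, 2), (144, 2)]),
    ([], [(0, 3), (1, 1), (2, 3), (3, 1), (4, 1), (5, 3), (6, 3), (7, 3), (8, 2), (9, 2), (10, 2), (12, 2), (13, 2), (14, 3), (15, 1), (16, 3), (17, 2), (18, 3), (19, 1), (20, 1), (21, 1), (22, 2), (23, 3), (24, 1), (25, 1), (26, 1), (27, 2), (29, 3), (30, 1), (31, 1), (32, 2), (35, 1), (36, 1), (38, 3), (39, 2), (40, 3), (41, 3), (42, 3), (43, 3), (44, 1), (45, 3), (48, 3), (49, 2), (50, 1), (51, 3), (52, 2), (53, 3), (55, 3), (61, 1), (62, 2), (64, 1), (65, 1), (68, 2), (69, 3), (70, 1), (71, 1), (73, 3), (74, 2), (75, 2), (76, 1), (77, 1), (78, 3), (80, 2), (81, 3), (82, 3), (83, 1), (84, 1), (85, 3), (86, 1), (88, 1), (89, 1), (90, 2), (92, 1), (93, 1), (94, 1), (96, 2), (97, 2), (99,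 3), (100, 1), (101, 2), (102, 1), (103, 2), (104, 2), (105, 2), (107, 2), (108, 3), (109, 1), (110, 3), (111, 2), (112, 3), (113, 2), (115, 2), (117, 2), (118, 1), (120, 1), (121, 1), (122, 3), (123, 1), (124, 2), (125, 1), (126, 1), (127, 3), (133, 2), (134, 2), (137, 2), (143, 2)]),
    ([(0, 2)], [(0, 3), (1, 1), (2, 3), (3, 1), (4, 3), (5, 3), (6, 3), (8, 3), (11, 2), (12, 2), (13, 1), (15, 3), (17, 1), (18, 2), (19, 1), (22, 1), (23, 2), (24, 2), (25, 1), (26, 1), (27, 3), (28, 1), (29, 1), (30, 2), (31, 1), (32, 2), (34, 2), (35, 1), (39, 1), (44, 2), (45, 3), (47, 1), (48, 1), (49, 1), (50, 2), (51, 3), (53, 2), (54, 2), (55, 3), (56, 2), (57, 2), (59, 2), (61, 3), (62, 3), (66, 2), (67, 2), (68, 3), (69, 3), (70, 3), (71, 1), (72, 2), (73, 1), (74, 2), (75, 1), (76, 3), (78, 1), (80, 1), (81, 2), (82, 2), (83, 2), (84, 1), (86, 1), (87, 1), (88, 1), (91, 2), (92, 1), (94, 3), (95, 2), (96, 2), (97, 1),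 (98, 1), (101, 2), (102, 3), (103, 3), (104, 3), (105, 2), (107, 3), (108, 2), (109, 2), (110, 3), (111, 1), (113, 2), (114, 1), (115, 1), (116, 1), (117, 2), (118, 1), (119, 3), (120, 3), (121, 2), (122, 3), (123, 2), (125, 3), (126, 3), (127, 2), (132, 2), (133, 2), (137, 2), (142, 2), (143, 2), (146, 2)]),
    ([], [(0, 2), (1, 3), (2, 2), (3, 2), (5, 2), (7, 3), (8, 1), (9, 1), (10, 2), (11, 2), (13, 2), (14, 2), (15, 1), (16, 1), (17, 1), (18, 2), (19, 2), (20, 1), (21, 2), (22, 3), (23, 1), (24, 2), (25, 3), (26, 3), (28, 3), (30, 1), (31, 1), (34, 2), (35, 3), (38, 2), (39, 1), (40, 3), (41, 1), (42, 2), (45, 1), (46, 3), (48, 1), (49, 1), (50, 2), (52, 1), (53, 3), (54, 1), (55, 2), (57, 1), (58, 1), (59, 1), (60, 2), (62, 1), (63, 2), (64, 2), (65, 3), (66, 1), (68, 2), (69, 2), (70, 2), (71, 2), (72, 2), (73, 2), (75, 3), (76, 1), (77, 2), (79, 3), (80, 2), (83, 3), (84, 1), (85, 1), (86, 2), (87, 3),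 (88, 1), (89, 1), (90, 3), (91, 3), (92, 2), (93, 2), (94, 2), (96, 1), (97, 1), (98, 1), (99, 1), (101, 3), (102, 3), (103, 3), (104, 1), (106, 2), (107, 3), (108, 2), (109, 2), (110, 2), (111, 1), (112, 3), (113, 3), (114, 2), (115, 1), (118, 2), (119, 1), (121, 3), (122, 1), (123, 2), (124, 1), (126, 1), (133, 2), (134, 2), (142, 2), (143, 2), (146, 2)]),
    ([(0, 2)], [(0, 2), (1, 3), (4, 2), (5, 2), (6, 1), (7, 1), (8, 3), (9, 1), (10, 1), (11, 2), (12, 3), (13, 2), (15, 3), (17, 2), (18, 2), (19, 3), (20, 2), (21, 1), (22, 2), (23, 1), (24, 3), (25, 2), (27, 2), (28, 1), (29, 2), (31, 2), (32, 3), (33, 1), (35, 1), (36, 2), (38, 2), (39, 2), (40, 3), (41, 2), (42, 2), (43, 2), (44, 1), (45, 2), (48, 2), (50, 1), (51, 3), (52, 1), (53, 2), (54, 2), (55, 3), (56, 1), (57, 1), (58, 3), (59, 1), (60, 2), (61, 1), (62, 1), (65, 1), (66, 3), (68, 3), (69, 3), (73, 3), (75, 1), (76, 3), (77, 1), (78, 2), (79,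 2), (80, 2), (81, 1), (82, 1), (83, 3), (84, 2), (85, 2), (86, 3), (87, 1), (89, 3), (92, 2), (93, 3), (94, 1), (95, 1), (96, 2), (98, 2), (100, 3), (101, 2), (102, 2), (103, 2), (104, 2), (105, 1), (106, 1), (107, 2), (108, 2), (109, 2), (112, 3), (113, 2), (116, 2), (117, 1), (118, 3), (119, 1), (120, 1), (121, 3), (123, 1), (124, 2), (126, 1), (127, 3), (128, 1), (132, 2), (133, 2), (143, 2)])]

/-- A part of the certificate. -/
def tgt6 : List (List (ℕ × ℕ) × List (ℕ × ℕ)) := [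
    ([], [(0, 3), (1, 2), (2, 1), (3, 3), (4, 2), (5, 2), (6, 2), (7, 2), (9, 3), (10, 3), (11, 1), (12, 1), (15, 2), (16, 3), (17, 1), (18, 2), (19, 3), (20, 1), (21, 1), (24, 3), (25, 3), (26, 3), (27, 2), (28, 3), (29, 3), (30, 2), (31, 2), (32, 1), (33, 3), (35, 1), (36, 2), (38, 2), (40, 3), (43, 2), (44, 2), (45, 1), (47, 1), (48, 1), (49, 3), (50, 3), (52, 3), (54, 1), (55, 3), (56, 1), (61, 1), (62, 2), (63, 2), (64, 1), (65, 3), (67, 2), (68, 3), (69, 1), (70, 2), (71, 1), (73, 1), (74, 2), (75, 2), (79, 3), (80, 2), (81, 1), (82, 2), (84, 1), (85, 1), (88, 1), (89, 3), (90, 3), (91, 1), (92, 3), (93, 1), (95, 3), (96, 3), (97, 3), (99, 2), (100, 1), (101, 3), (102, 2), (104, 1), (106, 1), (107, 1), (108, 1), (109, 2), (110, 3), (111, 1), (113, 1), (114, 1), (115, 2), (116, 2), (117, 1), (118, 2), (119, 3), (120, 1), (121, 2), (122, 3), (123, 3), (124, 2), (126, 3), (127, 1), (132, 2), (133, 2), (143,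 2), (144, 2)]),
    ([], [(0, 2), (1, 2), (4, 3), (6, 1), (9, 1), (10, 1), (11, 2), (12, 3), (13, 2), (14, 2), (15, 3), (16, 3), (17, 3), (18, 3), (21, 2), (22, 1), (23, 3), (24, 1), (25, 3), (26, 1), (27, 2), (28, 1), (29, 3), (30, 1), (31, 2), (33, 1), (34, 3), (35, 1), (36, 2), (38, 3), (39, 1), (40, 1), (41, 2), (44, 3), (46, 1), (47, 1), (48, 2), (49, 3), (50, 1), (52, 2), (53, 2), (56, 3), (57, 1), (58, 3), (59, 3), (60, 3), (62, 3), (63, 1), (64, 1), (65, 3), (66, 3), (67, 3), (68, 1), (69, 3), (71, 3), (72, 3), (73, 3), (74, 3), (76, 1), (78, 2), (79, 3), (80, 2), (81, 3), (82, 2), (83, 2), (84, 3), (87, 2), (89, 1), (90, 3), (92, 2), (93, 3), (96, 1), (98, 2), (99, 3), (100, 1), (102, 2), (103, 1), (105, 1), (106, 3), (107, 3), (108, 3), (109, 3), (111, 2), (113, 1), (114, 3), (118, 3), (119, 1), (121, 3), (124, 3), (126, 1), (127, 1), (128, 3), (132, 2), (133, 2), (142, 2), (143, 2), (144, 2), (146,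 2)]),
    ([(0, 2)], [(0, 3), (1, 1), (2, 1), (3, 3), (5, 3), (6, 2), (7, 1), (8, 2), (9, 3), (10, 2), (11, 3), (13, 3), (14, 2), (15, 3), (18, 3), (19, 1), (20, 2), (21, 2), (22, 3), (23, 2), (25, 3), (26, 2), (28, 2), (29, 3), (31, 2), (32, 1), (33, 3), (34, 1), (38, 2), (39, 3), (40, 2), (41, 1), (42, 2), (43, 2), (44, 1), (45, 3), (46, 3), (47, 1), (49, 1), (50, 1), (51, 3), (53, 1), (54, 2), (55, 1), (56, 2), (57, 2), (58, 2), (59, 1), (60, 1), (61, 1), (62, 2), (63, 2), (64, 3), (65, 3), (66, 3), (67, 1), (69, 1), (70, 1), (71, 1), (72, 1), (73, 2), (74, 2), (76, 3), (77, 2), (78, 3), (80, 1), (81, 3), (82, 2), (83, 1), (84, 2), (85, 1), (86, 2), (87, 1), (88, 1), (89, 3), (90, 2), (91, 3), (92, 3), (94, 1), (96, 3), (97, 1), (98, 1), (99, 2), (100, 1), (101, 2), (102, 3), (103, 2), (104, 1), (105, 1), (106, 3), (107, 3), (108, 3), (109, 2), (110, 2), (111, 3), (112, 3), (113, 3), (114, 2), (117, 1), (118,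 2), (119, 1), (120, 3), (121, 1), (122, 1), (123, 3), (124, 3), (125, 1), (126, 2), (133, 2), (134, 2), (137, 2), (142, 2), (143, 2), (146, 2)]),
    ([(0, 2)], [(1, 2), (4, 2), (5, 2), (6, 1), (7, 1), (8, 2), (9, 3), (10, 3), (11, 1), (12, 2), (14, 3), (16, 3), (18, 3), (19, 3), (21, 3), (23, 2), (24, 2), (25, 2), (26, 2), (27, 3), (28, 2), (29, 3), (30, 3), (31, 1), (32, 1), (33, 2), (35, 2), (38, 3), (39, 1), (40, 1), (42, 1), (44, 3), (45, 3), (46, 1), (48, 1), (49, 2), (50, 1), (51, 1), (52, 3), (53, 1), (54, 1), (57, 1), (58, 1), (60, 2), (61, 2), (65, 3), (67, 2), (68, 3), (69, 1), (70, 1), (71, 2), (72, 2), (73, 3), (74, 1), (75, 1), (78, 2), (79, 2), (80, 2), (81, 3), (82, 3), (83, 1), (84, 3), (85, 2), (86, 1), (87, 1), (88, 1), (91, 1), (92, 1), (94, 1), (95, 1), (96, 2), (97, 1), (99, 2), (100, 3), (101, 3), (102, 3), (105, 2), (106, 1), (108, 2), (109, 1), (110, 2), (111, 2), (112, 3), (113, 1),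 (116, 3), (117, 2), (118, 1), (120, 2), (121, 3), (122, 1), (123, 1), (124, 2), (126, 1), (127, 1), (128, 3), (132, 2), (133, 2), (137, 2), (144, 2)]),
    ([(0, 2)], [(0, 2), (1, 3), (4, 1), (6, 3), (8, 2), (9, 2), (10, 3), (11, 3), (12, 2), (13, 2), (14, 2), (15, 1), (16, 1), (17, 3), (18, 2), (19, 1), (20, 3), (21, 2), (23, 3), (25, 2), (27, 3), (28, 3), (29, 2), (30, 3), (31, 1), (33, 1), (34, 3), (35, 1), (36, 3), (40, 3), (41, 2), (42, 3), (43, 2), (45, 1), (47, 1), (49, 1), (50, 2), (52, 2), (53, 1), (54, 3), (55, 2), (56, 2), (57, 3), (58, 3), (61, 1), (62, 2), (64, 2), (65, 2), (67, 2), (68, 1), (69, 2), (70, 1), (72, 1), (73, 1), (77, 3), (78, 1), (79, 1), (82, 2), (83, 1), (84, 3), (85, 2), (87, 1), (88, 2), (89, 1), (90, 2), (91, 3), (92, 2), (93, 2), (95, 1), (97, 3), (99, 2), (101, 3), (103, 2), (104, 1), (105, 2), (107, 2), (109, 2), (110, 3), (112, 3), (113, 3), (114, 1), (115, 1), (116, 2), (117,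 2), (120, 1), (121, 1), (123, 2), (124, 2), (125, 2), (126, 1), (127, 3), (128, 2), (132, 2), (134, 2)]),
    ([(0, 2)], [(1, 2), (6, 1), (7, 1), (8, 2), (9, 1), (10, 1), (11, 3), (14, 1), (15, 2), (16, 2), (17, 2), (19, 1), (20, 3), (21, 1), (22, 3), (23, 3), (24, 3), (26, 2), (27, 1), (29, 2), (32, 1), (33, 1), (35, 1), (36, 1), (38, 2), (39, 1), (40, 2), (42, 3), (43, 1), (44, 3), (47, 3), (48, 3), (49, 1), (50, 2), (51, 3), (53, 2), (54, 1), (58, 1), (62, 1), (63, 1), (64, 2), (65, 3), (66, 3), (67, 2), (68, 3), (69, 2), (70, 3), (72, 2), (73, 1), (76, 3), (77, 2), (78, 2), (79, 1), (80, 1), (82, 3), (83, 2), (84, 3), (85, 1), (86, 1), (87, 3), (89, 3), (90, 2), (91, 3), (94, 3), (96, 3), (97, 1), (98, 2), (99, 1), (100, 3), (103, 3), (104, 1), (105, 1), (106, 3), (107, 1), (108, 2), (109, 3), (111, 2), (112, 3), (113, 2), (115, 1), (116, 3), (117, 3), (118, 3), (120, 2), (121, 1), (123, 1), (124, 2), (125,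 2), (127, 3), (128, 2), (133, 2), (134, 2), (137, 2), (142, 2), (143, 2), (146, 2)]),
    ([], [(0, 3), (1, 3), (2, 1), (3, 3), (4, 3), (5, 3), (7, 2), (8, 1), (9, 2), (11, 3), (12, 2), (14, 1), (17, 1), (18, 3), (20, 1), (21, 3), (24, 2), (25, 1), (26, 1), (27, 2), (28, 2), (29, 2), (31, 2), (32, 3), (33, 1), (36, 2), (38, 3), (39, 3), (40, 3), (41, 1), (43, 2), (46, 1), (47, 3), (48, 3), (49, 1), (51, 1), (52, 3), (53, 2), (54, 1), (55, 1), (56, 1), (57, 1), (58, 3), (60, 1), (61, 3), (63, 1), (64, 2), (65, 1), (66, 1), (67, 3), (68, 1), (69, 2), (71, 2), (73, 1), (74, 3), (75, 3), (76, 3), (79, 1), (82, 3), (84, 1), (85, 2), (86, 1), (88, 2), (89, 3), (90, 1), (91, 3), (92, 2), (94, 1), (95, 2), (96, 3), (97, 3), (98, 1), (99, 2), (101, 2), (102, 2), (103, 1), (104, 1), (105, 1), (106, 3), (107, 3), (108, 2), (110, 1), (111, 3), (114, 1), (115, 2), (116, 1), (119, 1), (121, 3), (122, 2), (123, 2), (125, 2),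 (126, 3), (127, 2), (132, 2), (134, 2), (137, 2), (142, 2), (143, 2), (144, 2), (146, 2)]),
    ([(0, 2)], [(0, 2), (1, 3), (4, 1), (5, 1), (6, 1), (8, 1), (10, 3), (11, 3), (12, 1), (13, 1), (14, 2), (16, 3), (21, 3), (23, 1), (24, 2), (25, 1), (26, 2), (27, 2), (28, 3), (32, 1), (33, 3), (34, 2), (38, 2), (39, 2), (40, 1), (41, 3), (44, 2), (46, 1), (47, 1), (48, 2), (52, 2), (54, 1), (56, 3), (57, 3), (59, 1), (61, 1), (62, 2), (63, 1), (64, 1), (65, 3), (68, 3), (70, 1), (73, 3), (74, 2), (75, 3), (76, 3), (77, 1), (78, 2), (79, 2), (80, 3), (81, 3), (83, 1), (84, 3), (85, 3), (86, 1), (87, 1), (89, 2), (90, 3), (91, 3), (92, 2), (93, 1), (95, 3), (98, 3), (99, 1), (100, 1), (101, 1), (102, 3), (103, 2), (104, 1), (105, 2), (107, 2), (109, 2), (112, 2), (113, 2), (114, 2), (115, 3), (119, 3), (120, 1), (122, 1), (123, 3), (124, 1), (125, 2), (126, 3), (127, 3), (128, 3), (132, 2), (133, 2), (137, 2), (143,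 2)]),
    ([(0, 2)], [(1, 1), (2, 2), (3, 2), (4, 3), (5, 1), (6, 3), (8, 3), (10, 1), (11, 3), (12, 1), (13, 3), (17, 2), (18, 1), (19, 2), (20, 3), (21, 3), (22, 1), (24, 1), (25, 3), (28, 1), (29, 3), (30, 2), (31, 3), (32, 3), (33, 2), (34, 2), (35, 3), (36, 3), (38, 3), (39, 2), (41, 1), (42, 2), (43, 1), (44, 3), (45, 1), (46, 2), (49, 1), (50, 3), (51, 2), (52, 1), (53, 2), (54, 3), (55, 2), (56, 1), (58, 2), (59, 3), (61, 1), (62, 1), (63, 2), (64, 3), (65, 3), (66, 3), (68, 1), (69, 3), (71, 2), (72, 2), (73, 3), (74, 1), (75, 2), (76, 1), (77, 1), (79, 1), (81, 1), (82, 2), (83, 2), (84, 1), (86, 3), (87, 3), (88, 3), (89, 1), (90, 3), (91, 3), (92, 3), (93, 3), (94, 2), (95, 2), (96, 3), (97, 1), (98, 1), (100, 3), (101, 2), (102, 2), (103, 2), (105, 1), (106, 2), (107, 1), (108, 1), (111, 2), (113, 3), (116, 2), (117, 1), (119, 3), (120, 1), (123, 3), (124, 1), (125, 2), (127, 1), (137, 2), (142,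 2), (144, 2), (146, 2)])]

end CfsgLib.Spor.Fi22Mult.P2
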