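import Cfsg.Agent.Lib.Spor.SchurCert.ActBridge

/-!
A part of the certificate at the prime 2.
-/

set_option autoImplicit false
set_option maxRecDepth 100000
set_option maxHeartbeats 0
set_option Elab.async false

namespace CfsgLib.Spor.Fi22Mult.P2

open CfsgLib.Spor.TC CfsgLib.Spor.ActCert CfsgLib.Spor.SchurCert

/-- A part of the orbits. -/
def orb0_0 : List (ℕ × List ℕ) := [
    (0, []),
    (7, [0, 5, 12]),
    (13, [11, 16]),
    (17, [0, 4, 5, 13]),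
    (19, [0, 5, 12, 16]),
    (25, [6, 10]),
    (29, [5, 6, 15, 16]),
    (30, [2, 5, 12, 13]),
    (44, [2, 5, 12, 14]),
    (52, [5, 6, 15]),
    (54, [2, 5, 16]),
    (70, [5, 6, 10, 16]),
    (73, [8]),
    (99, [2, 6, 10]),
    (112, [12, 13]),
    (123, [0, 5, 9]),
    (126, [0, 5, 6, 10, 14]),
    (128, [2, 5, 10, 13]),
    (129, [2, 5, 10, 12]),
    (130, [0, 13, 15]),
    (136, [0, 2, 5, 9]),
    (139, [0, 5, 16]),
    (146, [5, 6, 12, 14]),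
    (150, [0, 2, 5, 10, 14]),
    (159, [2, 10, 16]),
    (163, [5, 6, 9]),
    (175, [0, 5, 6, 10, 15]),
    (183, [0, 13]),
    (185, [1, 2, 6, 12]),
    (186, [0, 5]),
    (193, [5, 6, 10, 11]),
    (198, [0, 2, 5]),
    (201, [0, 2, 4, 10, 11]),
    (203, [0, 1, 2, 16]),
    (204, [5, 6, 13]),
    (205, [4, 10]),
    (210, [9]),
    (215, [0, 2, 5, 10, 16]),
    (217, [2, 10, 13]),
    (249, [2, 11]),
    (261, [0, 2, 13]),
    (271, [0, 2, 4, 14]),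
    (274, [0, 1, 2, 8]),
    (278, [0, 5, 6, 12]),
    (282, [13, 15]),
    (287, [0, 5, 13]),
    (300, [2, 5]),
    (308, [2, 5, 14])]

/-- A part of the orbits. -/
def orb0_1 : List (ℕ × List ℕ) := [
    (318, [0, 1, 2, 12, 15]),
    (324, [10, 16]),
    (331, [2, 6, 12, 14]),
    (333, [5, 6, 8, 16]),
    (339, [2, 9, 15]),
    (342, [2, 5, 13, 16]),
    (346, [0, 5, 6, 9]),
    (350, [3, 12]),
    (359, [10, 11]),
    (367, [0, 2, 10, 15]),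
    (370, [6, 12]),
    (374, [0, 5, 12, 14]),
    (375, [5, 6, 9, 15]),
    (382, [3, 9]),
    (393, [0, 2, 5, 11, 12]),
    (399, [5, 10, 14, 15]),
    (404, [0, 12]),
    (405, [0, 2, 5, 6, 10]),
    (430, [5, 6, 9, 13]),
    (434, [0, 5, 10, 15]),
    (435, [0, 2, 5, 6]),
    (436, [0, 10, 16]),
    (437, [0, 4, 5, 11]),
    (438, [2, 3, 11]),
    (439, [1, 9]),
    (441, [0, 5, 15, 16]),
    (449, [0, 12, 15]),
    (463, [0, 5, 10]),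
    (472, [2, 5, 11]),
    (475, [1, 2, 3, 12]),
    (485, [0, 5, 6, 14]),
    (489, [0, 5, 12, 13, 14]),
    (491, [3, 5, 8]),
    (494, [1, 3, 5]),
    (498, [5, 6, 12]),
    (501, [3, 11]),
    (512, [2, 15]),
    (513, [0, 2, 5, 12, 16]),
    (515, [0, 2, 4, 5, 13]),
    (535, [0, 2, 4, 8]),
    (537, [2, 5, 10, 11]),
    (538, [2, 5, 6, 15]),
    (542, [2, 6, 12]),
    (543, [5, 10, 13]),
    (549, [5, 6]),
    (554, [2, 5, 14, 15]),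
    (556, [2, 6, 14]),
    (557, [6, 8])]

/-- A part of the orbits. -/
def orb0_2 : List (ℕ × List ℕ) := [
    (560, [4, 8]),
    (565, [0, 2, 5, 10, 12]),
    (567, [0, 2, 5, 6, 10, 11]),
    (575, [1, 2, 11, 12]),
    (583, [0, 1, 3, 5]),
    (587, [2, 4, 16]),
    (589, [0, 5, 6, 10, 16]),
    (590, [4, 5, 11]),
    (591, [0, 2, 6, 13]),
    (595, [0, 2, 4, 13]),
    (596, [0, 5, 10, 11]),
    (601, [2, 5, 10, 15]),
    (606, [0, 5, 12, 13]),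
    (607, [2, 5, 9]),
    (610, [0, 5, 6]),
    (621, [0, 4, 5, 10]),
    (625, [0, 5, 6, 9, 13]),
    (653, [0, 2, 5, 12]),
    (666, [0, 2, 5, 15, 16]),
    (685, [5, 12, 13]),
    (690, [5, 6, 16]),
    (692, [2, 6, 8, 16]),
    (698, [2, 6, 9]),
    (716, [12, 15]),
    (719, [0, 2, 6, 8, 16]),
    (725, [5, 10]),
    (731, [0, 2, 5, 10, 15]),
    (737, [6, 12, 13]),
    (759, [6, 12, 14]),
    (764, [3]),
    (782, [0, 5, 13, 14]),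
    (804, [0, 4, 10]),
    (805, [0, 2, 10, 12]),
    (825, [0, 2, 5, 14]),
    (829, [5, 6, 13, 14]),
    (837, [2, 5, 10, 14]),
    (838, [0, 5, 6, 8, 16]),
    (841, [0, 12, 13]),
    (849, [0, 4, 12, 14]),
    (868, [0, 2, 10, 16]),
    (875, [0, 1, 2, 15]),
    (882, [5, 10, 11]),
    (890, [0, 2, 6]),
    (893, [9, 13]),
    (903, [2, 5, 15]),
    (907, [2, 3]),
    (912, [0, 2, 13, 14]),
    (927, [0, 2, 5, 16])]

/-- A part of the orbits. -/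
def orb0_3 : List (ℕ × List ℕ) := [
    (944, [0, 2, 5, 10]),
    (956, [2, 3, 5]),
    (959, [14]),
    (968, [15, 16]),
    (972, [2, 12, 16]),
    (984, [0, 1, 2, 3, 12]),
    (988, [0, 5, 12, 15]),
    (990, [2, 4, 12]),
    (1003, [5, 6, 11]),
    (1005, [4, 16]),
    (1008, [0]),
    (1012, [2, 3, 9]),
    (1026, [0, 2, 6, 9]),
    (1031, [10, 12]),
    (1040, [0, 10, 12]),
    (1041, [13, 14]),
    (1043, [2, 10, 12]),
    (1045, [2, 12, 13]),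
    (1050, [15]),
    (1053, [0, 2, 5, 6, 11]),
    (1057, [0, 5, 13, 16]),
    (1066, [1, 2, 12]),
    (1067, [0, 4, 8]),
    (1068, [0, 2, 5, 13, 15]),
    (1077, [0, 10]),
    (1078, [2, 14, 15]),
    (1079, [0, 1, 2, 6]),
    (1091, [0, 5, 6, 10, 13]),
    (1092, [0, 2, 3, 12]),
    (1113, [2, 13, 15]),
    (1122, [1, 3]),
    (1143, [0, 4, 16]),
    (1144, [2, 14]),
    (1151, [2, 15, 16]),
    (1152, [5, 12, 14]),
    (1165, [6, 10, 14]),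
    (1167, [0, 5, 10, 13]),
    (1168, [0, 5, 6, 13, 14]),
    (1172, [2, 5, 6, 11]),
    (1173, [2, 5, 8]),
    (1175, [2, 3, 12]),
    (1176, [2, 5, 12]),
    (1181, [5, 8, 16]),
    (1183, [0, 5, 6, 8]),
    (1186, [4, 12]),
    (1189, [0, 1, 2, 10]),
    (1194, [6, 14]),
    (1196, [0, 2, 4, 10])]

/-- A part of the orbits. -/
def orb0_4 : List (ℕ × List ℕ) := [
    (1219, [0, 3]),
    (1227, [16]),
    (1228, [5, 10, 16]),
    (1236, [1, 2, 12, 16]),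
    (1243, [0, 15]),
    (1250, [4, 13]),
    (1253, [5, 6, 8]),
    (1258, [14, 15]),
    (1267, [8, 16]),
    (1277, [3, 5, 16]),
    (1284, [0, 5, 14]),
    (1290, [0, 5, 6, 12, 14]),
    (1319, [6, 14, 15]),
    (1334, [1, 2, 11, 16]),
    (1337, [0, 2, 4, 5, 11]),
    (1342, [0, 1, 2]),
    (1348, [2, 4, 14]),
    (1352, [0, 5, 13, 15]),
    (1358, [2, 6, 10, 14]),
    (1364, [1, 13]),
    (1365, [0, 3, 11]),
    (1375, [0, 1, 2, 10, 11]),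
    (1381, [5, 12, 16]),
    (1392, [0, 2, 11, 16]),
    (1393, [2, 10, 14, 15]),
    (1399, [2, 3, 5, 16]),
    (1401, [0, 2, 6, 10]),
    (1406, [0, 3, 5]),
    (1408, [0, 1]),
    (1412, [0, 6, 16]),
    (1413, [0, 6, 10, 11]),
    (1422, [2, 10]),
    (1428, [2, 6, 12, 15]),
    (1437, [2, 4, 5, 13]),
    (1439, [2, 6, 14, 15]),
    (1445, [0, 5, 10, 14, 15]),
    (1446, [2, 4, 8]),
    (1455, [2, 3, 16]),
    (1459, [0, 5, 6, 10, 11]),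
    (1464, [0, 1, 2, 12]),
    (1466, [0, 2, 12, 15]),
    (1471, [0, 2, 10, 14, 15]),
    (1474, [0, 2, 5, 14, 15]),
    (1475, [4]),
    (1481, [0, 6, 12]),
    (1502, [2, 9, 13]),
    (1506, [0, 13, 16]),
    (1509, [5, 14])]

/-- A part of the orbits. -/
def orb0_5 : List (ℕ × List ℕ) := [
    (1523, [0, 5, 10, 14]),
    (1530, [5, 12, 15]),
    (1537, [0, 2, 4, 12]),
    (1546, [2, 4, 12, 14]),
    (1552, [1, 2, 15, 16]),
    (1556, [0, 5, 11, 12]),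
    (1563, [10, 13]),
    (1566, [2, 5, 8, 16]),
    (1570, [0, 5, 6, 10]),
    (1571, [5, 6, 10, 14]),
    (1574, [2, 12, 14]),
    (1575, [0, 2, 11, 12]),
    (1580, [0, 10, 15]),
    (1581, [2, 11, 16]),
    (1584, [5, 13, 14]),
    (1590, [5, 10, 15]),
    (1595, [0, 5, 10, 12]),
    (1602, [0, 2, 6, 12, 14]),
    (1626, [2, 5, 10]),
    (1628, [11]),
    (1638, [2, 16]),
    (1639, [2, 5, 13, 14]),
    (1640, [0, 5, 6, 16]),
    (1642, [5, 10, 14]),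
    (1647, [2, 13, 16]),
    (1658, [6, 16]),
    (1684, [0, 1, 2, 8, 16]),
    (1685, [0, 1, 2, 10, 16]),
    (1689, [1, 2, 16]),
    (1698, [5, 13, 15]),
    (1706, [0, 5, 6, 15]),
    (1708, [2, 3, 5, 8]),
    (1709, [0, 2, 5, 8]),
    (1714, [2, 5, 6]),
    (1715, [1, 2, 8]),
    (1722, [4, 5, 13]),
    (1725, [1, 2, 10, 16]),
    (1730, [5, 12]),
    (1753, [0, 5, 6, 15, 16]),
    (1756, [0, 5, 8]),
    (1764, [0, 2, 8, 16]),
    (1772, [13, 16]),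
    (1774, [0, 2, 5, 6, 12, 14]),
    (1775, [11, 12]),
    (1778, [10, 15]),
    (1784, [0, 3, 16]),
    (1799, [5, 6, 12, 13]),
    (1801, [0, 5, 6, 13])]

/-- A part of the orbits. -/
def orb0_6 : List (ℕ × List ℕ) := [
    (1811, [1, 2, 9, 15]),
    (1812, [0, 2, 3, 16]),
    (1817, [0, 1, 5]),
    (1820, [0, 3, 12]),
    (1833, [0, 6, 15]),
    (1834, [0, 1, 9]),
    (1837, [0, 1, 2, 12, 16]),
    (1840, [5, 6, 11, 12]),
    (1842, [2, 4, 9]),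
    (1843, [2, 12, 15]),
    (1848, [0, 1, 2, 9]),
    (1859, [0, 2, 12, 14]),
    (1868, [0, 5, 9, 13]),
    (1878, [0, 5, 6, 12, 15]),
    (1882, [0, 1, 2, 6, 12]),
    (1883, [2, 6, 15]),
    (1898, [0, 6]),
    (1906, [0, 3, 5, 8]),
    (1907, [2, 5, 12, 16]),
    (1908, [1, 2, 8, 16]),
    (1911, [0, 6, 12, 14]),
    (1931, [4, 5, 10, 16]),
    (1934, [2, 4, 10, 11]),
    (1938, [0, 2, 6, 12, 15]),
    (1941, [0, 15, 16]),
    (1943, [9, 15]),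
    (1946, [0, 3, 5, 16]),
    (1950, [5, 12, 13, 14]),
    (1963, [0, 2, 4, 16]),
    (1968, [0, 2, 8]),
    (1993, [2, 10, 14]),
    (1998, [0, 2, 5, 6, 15]),
    (2000, [0, 2, 15, 16]),
    (2001, [2, 6, 8]),
    (2002, [5, 6, 10]),
    (2011, [0, 3, 9]),
    (2016, [2, 5, 6, 8]),
    (2022, [0, 1, 2, 9, 15]),
    (2040, [12, 14]),
    (2041, [0, 1, 2, 11, 16]),
    (2042, [5, 15]),
    (2045, [5, 8]),
    (2053, [0, 5, 14, 15]),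
    (2055, [2, 11, 12]),
    (2063, [0, 2, 6, 15]),
    (2073, [5, 9]),
    (2074, [2, 4]),
    (2086, [2])]

/-- A part of the orbits. -/
def orb0_7 : List (ℕ × List ℕ) := [
    (2142, [6, 13]),
    (2143, [2, 5, 15, 16]),
    (2146, [2, 5, 6, 10, 11]),
    (2154, [0, 1, 2, 15, 16]),
    (2157, [0, 2, 14, 15]),
    (2162, [1, 2, 3]),
    (2172, [0, 4, 12]),
    (2175, [0, 6, 10, 14]),
    (2176, [0, 1, 2, 11, 12]),
    (2178, [0, 2, 5, 13]),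
    (2181, [2, 6, 10, 11]),
    (2183, [6, 10, 11]),
    (2186, [2, 5, 6, 13]),
    (2187, [2, 5, 6, 12]),
    (2194, [0, 10, 13]),
    (2195, [2, 6, 16]),
    (2201, [2, 5, 6, 10]),
    (2208, [5, 11, 12]),
    (2209, [0, 9, 13]),
    (2214, [12, 16]),
    (2218, [1, 2]),
    (2220, [5, 15, 16]),
    (2234, [0, 4, 9]),
    (2247, [2, 5, 11, 12]),
    (2248, [2, 5, 13, 15]),
    (2249, [0, 5, 15]),
    (2266, [0, 4]),
    (2267, [1, 2, 9]),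
    (2315, [0, 11, 12]),
    (2333, [0, 2, 9]),
    (2340, [2, 5, 13]),
    (2344, [0, 2, 15]),
    (2352, [2, 8, 16]),
    (2360, [0, 2, 4, 5, 10]),
    (2363, [0, 2, 5, 6, 13]),
    (2365, [0, 1, 2, 3]),
    (2369, [5, 6, 12, 15]),
    (2371, [1, 5]),
    (2372, [6, 15]),
    (2381, [2, 10, 11]),
    (2385, [0, 5, 9, 15]),
    (2393, [2, 6, 12, 13]),
    (2397, [12, 13, 14]),
    (2423, [0, 14]),
    (2427, [0, 2, 5, 12, 14]),
    (2432, [0, 2]),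
    (2447, [0, 2, 5, 13, 14]),
    (2453, [2, 4, 5, 11])]

/-- A part of the orbits. -/
def orb0_8 : List (ℕ × List ℕ) := [
    (2458, [0, 2, 6, 14]),
    (2459, [2, 6]),
    (2464, [13]),
    (2473, [4, 9]),
    (2474, [2, 13, 14]),
    (2478, [0, 2, 4, 12, 14]),
    (2490, [4, 12, 14]),
    (2495, [0, 2, 4]),
    (2508, [5, 6, 10, 15]),
    (2516, [2, 8]),
    (2521, [2, 13]),
    (2527, [10]),
    (2531, [0, 5, 11]),
    (2533, [4, 5, 10]),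
    (2553, [0, 4, 14]),
    (2557, [1, 2, 4]),
    (2568, [2, 10, 15]),
    (2570, [0, 2, 3, 9]),
    (2575, [0, 6, 10]),
    (2584, [5, 6, 14]),
    (2585, [0, 12, 13, 14]),
    (2588, [0, 2, 5, 11]),
    (2597, [0, 2, 6, 10, 11]),
    (2609, [0, 6, 8]),
    (2613, [0, 11, 16]),
    (2621, [0, 11]),
    (2626, [5, 9, 13]),
    (2631, [1]),
    (2641, [6]),
    (2650, [0, 2, 9, 15]),
    (2652, [0, 4, 5, 10, 16]),
    (2655, [0, 5, 6, 11]),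
    (2656, [0, 5, 8, 16]),
    (2665, [0, 2, 12]),
    (2683, [0, 12, 16]),
    (2694, [5, 16]),
    (2697, [2, 4, 5, 10]),
    (2702, [3, 16]),
    (2706, [2, 12]),
    (2707, [0, 9, 15]),
    (2708, [0, 1, 13]),
    (2717, [0, 6, 10, 16]),
    (2720, [3, 5]),
    (2722, [0, 2, 3, 5]),
    (2735, [0, 2, 5, 15]),
    (2752, [1, 2, 6]),
    (2766, [0, 5, 6, 9, 15]),
    (2767, [2, 4, 13])]

/-- A part of the orbits. -/
def orb0_9 : List (ℕ × List ℕ) := [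
    (2784, [0, 2, 6, 12, 13]),
    (2790, [5, 9, 15]),
    (2792, [2, 5, 12, 15]),
    (2799, [5]),
    (2800, [0, 2, 6, 14, 15]),
    (2810, [0, 2, 3]),
    (2816, [1, 2, 10]),
    (2823, [0, 2, 5, 8, 16]),
    (2839, [0, 6, 13]),
    (2863, [0, 2, 10, 13]),
    (2874, [0, 2, 10, 11]),
    (2877, [10, 14]),
    (2880, [5, 13]),
    (2883, [0, 2, 12, 13, 14]),
    (2892, [0, 5, 6, 12, 13]),
    (2904, [0, 5, 10, 16]),
    (2905, [6, 9]),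
    (2908, [6, 10, 16]),
    (2912, [0, 2, 5, 12, 13]),
    (2915, [1, 2, 11]),
    (2918, [2, 6, 10, 16]),
    (2925, [12]),
    (2931, [0, 2, 9, 13]),
    (2933, [0, 16]),
    (2945, [0, 13, 14]),
    (2951, [0, 5, 6, 11, 12]),
    (2959, [2, 12, 13, 14]),
    (2960, [0, 2, 14]),
    (2964, [0, 14, 15]),
    (2971, [0, 2, 16]),
    (2986, [0, 2, 6, 8]),
    (2991, [0, 2, 13, 15]),
    (2994, [5, 13, 16]),
    (3014, [2, 5, 10, 16]),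
    (3046, [0, 6, 14, 15]),
    (3049, [0, 2, 5, 6, 12]),
    (3065, [0, 9]),
    (3067, [5, 11]),
    (3095, [0, 2, 3, 11]),
    (3112, [5, 6, 10, 13]),
    (3123, [2, 9]),
    (3140, [5, 10, 12]),
    (3141, [0, 2, 4, 9]),
    (3143, [5, 14, 15]),
    (3150, [0, 2, 6, 10, 14]),
    (3157, [0, 2, 5, 12, 15]),
    (3169, [2, 4, 10]),
    (3170, [0, 6, 12, 13])]

/-- A part of the orbits. -/
def orb0_10 : List (ℕ × List ℕ) := [
    (3177, [0, 2, 10]),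
    (3206, [0, 2, 5, 13, 16]),
    (3209, [0, 2, 10, 14]),
    (3211, [0, 2, 6, 10, 16]),
    (3212, [2, 5, 6, 12, 14]),
    (3219, [0, 2, 5, 6, 8]),
    (3221, [0, 1, 2, 4]),
    (3222, [4, 14]),
    (3240, [0, 12, 14]),
    (3260, [0, 6, 9]),
    (3269, [0, 10, 14]),
    (3271, [1, 2, 15]),
    (3288, [0, 1, 2, 11]),
    (3290, [1, 2, 12, 15]),
    (3323, [0, 1, 3]),
    (3325, [0, 2, 12, 16]),
    (3328, [2, 6, 13]),
    (3337, [0, 2, 5, 10, 13]),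
    (3341, [1, 2, 10, 11]),
    (3349, [0, 2, 6, 12]),
    (3351, [0, 8, 16]),
    (3359, [0, 2, 3, 5, 16]),
    (3376, [0, 2, 5, 10, 11]),
    (3395, [0, 2, 11]),
    (3417, [0, 2, 6, 16]),
    (3428, [0, 2, 3, 5, 8]),
    (3443, [0, 6, 14]),
    (3444, [0, 2, 12, 13]),
    (3455, [0, 10, 11]),
    (3478, [0, 2, 13, 16]),
    (3486, [0, 8]),
    (3504, [0, 4, 13])]

/-- A part of the orbits. -/
def orb1_0 : List (ℕ × List ℕ) := [
    (1, []),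
    (42, [7, 8, 11, 12, 16]),
    (43, [3, 4, 7, 10, 11, 12, 13, 15, 16]),
    (64, [1, 6, 8, 9, 10, 11, 12, 13, 15, 16]),
    (72, [9, 10, 12, 13, 14, 15]),
    (74, [9, 10, 11, 12]),
    (75, [8, 9, 12, 15]),
    (102, [3, 4, 7, 8, 11, 12, 14, 15, 16]),
    (117, [1, 3, 10, 11, 13]),
    (132, [8, 9, 11, 12, 13, 14]),
    (160, [1, 6, 8, 13, 15, 16]),
    (166, [1, 6, 9, 11, 12, 14, 15, 16]),
    (202, [1, 3, 8, 9, 10, 11, 12, 13, 15]),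
    (208, [1, 3, 8, 10, 12, 16]),
    (209, [3, 4, 7, 13, 14, 15]),
    (239, [3, 4, 8, 11, 12, 13, 14, 15, 16]),
    (247, [1, 6, 7, 12, 14]),
    (252, [1, 6, 9, 12, 13, 16]),
    (253, [7, 9, 11, 15, 16]),
    (254, [3, 4, 7, 8, 9, 11, 12, 15]),
    (255, [1, 3, 4, 6, 8, 9, 10, 11, 12, 13, 14]),
    (307, [4, 6, 8, 10, 11, 15]),
    (314, [7, 8, 9, 10, 11, 13, 14, 15, 16]),
    (315, [1, 3, 9, 12, 13]),
    (316, [3, 4, 7, 9, 13, 15, 16]),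
    (330, [7, 9, 13, 14, 16]),
    (396, [1, 3, 7, 8, 9, 10, 12, 13, 14]),
    (406, [1, 6, 8, 11, 14, 16]),
    (408, [1, 3, 4, 6, 7, 8, 9, 10, 11, 12, 14]),
    (418, [1, 3, 11, 12, 15, 16]),
    (476, [1, 3, 4, 6, 8, 11, 15]),
    (496, [7, 8, 12, 13, 14, 15, 16]),
    (500, [3, 4, 7, 10, 12, 14, 16]),
    (516, [1, 6, 7, 8, 10, 12, 13]),
    (520, [3, 6, 8, 9, 11, 12, 14]),
    (523, [3, 6, 7, 8, 9, 12, 15]),
    (528, [3, 6, 8, 9, 10, 11, 13, 14, 15, 16]),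
    (588, [4, 6, 7, 8, 10, 14]),
    (640, [1, 3, 4, 6, 12, 13, 15, 16]),
    (642, [1, 3, 4, 6, 10, 11, 13, 14, 15]),
    (644, [3, 6, 9, 10, 11, 12, 13]),
    (646, [1, 3, 7, 9, 10, 11, 14, 16]),
    (654, [3, 4, 8, 10, 13, 15]),
    (661, [1, 4, 9, 10, 11, 14, 16]),
    (674, [1, 6, 7, 9, 10, 13, 15]),
    (675, [1, 3, 4, 6, 7, 12, 15, 16]),
    (677, [3, 4, 9, 10, 11, 12, 14, 15]),
    (722, [1, 4, 7, 9, 10, 11, 13, 14, 16])]

/-- A part of the orbits. -/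
def orb1_1 : List (ℕ × List ℕ) := [
    (723, [9, 11, 13, 15, 16]),
    (751, [1, 4, 7, 8, 10, 12, 16]),
    (757, [3, 6, 10, 11, 12, 13, 14, 16]),
    (813, [1, 6, 7, 8, 10, 11, 12, 14, 15]),
    (816, [7, 8, 9, 10, 16]),
    (817, [3, 6, 7, 8, 10, 13, 14]),
    (819, [3, 6, 7, 8, 9, 10, 13, 16]),
    (822, [1, 3, 7, 8, 11, 13, 14]),
    (850, [1, 3, 9, 11, 12, 14, 15]),
    (851, [3, 4, 7, 9, 11, 14, 16]),
    (859, [1, 3, 4, 6, 7, 8, 11, 13, 15]),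
    (894, [3, 6, 8, 10, 11, 13, 15]),
    (895, [10, 12, 13, 15, 16]),
    (908, [1, 6, 8, 10, 11, 12, 13, 14, 15]),
    (918, [3, 4, 7, 8, 12, 13, 16]),
    (950, [7, 10, 11, 12, 13, 14, 16]),
    (961, [1, 3, 4, 6, 7, 10, 11, 14, 15]),
    (963, [1, 3, 7, 8, 9, 14, 15, 16]),
    (966, [3, 6, 7, 9, 10, 12, 13, 14, 15]),
    (967, [3, 6, 7, 9, 14, 16]),
    (973, [1, 3, 4, 6, 8, 9, 13, 16]),
    (975, [3, 4, 10, 11, 12, 15, 16]),
    (978, [3, 4, 8, 9, 10, 13, 14, 15, 16]),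
    (1000, [7, 8, 9, 11, 12, 14]),
    (1010, [1, 6, 8, 9, 10, 12, 14, 16]),
    (1011, [11, 13, 14, 15]),
    (1018, [8, 12, 14, 15, 16]),
    (1022, [1, 6, 12, 13, 14]),
    (1023, [1, 3, 10, 14, 15]),
    (1073, [1, 6, 7, 11, 12, 13, 15]),
    (1112, [3, 4, 8, 9, 12, 14]),
    (1120, [4, 6, 7, 11, 14, 15]),
    (1121, [3, 4, 8, 9, 11, 12, 13, 15]),
    (1126, [3, 4, 9, 10, 12, 13]),
    (1145, [3, 6, 9, 11, 15, 16]),
    (1146, [1, 6, 7, 9, 10, 11, 14]),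
    (1162, [1, 3, 7, 10, 13, 14, 15]),
    (1170, [1, 6, 8, 9, 13, 14, 15]),
    (1213, [1, 4, 8, 10, 12, 13, 16]),
    (1225, [3, 6, 7, 10, 12, 13, 15, 16]),
    (1273, [3, 4, 7, 8, 9, 12, 13, 14]),
    (1274, [7, 8, 10, 14]),
    (1296, [7, 10, 12, 15, 16]),
    (1315, [1, 3, 4, 6, 7, 9, 10, 13, 14, 16]),
    (1362, [3, 4, 7, 9, 10, 12]),
    (1363, [4, 6, 7, 8, 9, 11, 12, 14]),
    (1390, [10, 11, 12, 14, 16]),
    (1418, [1, 3, 4, 6, 7, 8, 10, 12, 13, 14, 15, 16])]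

/-- A part of the orbits. -/
def orb1_2 : List (ℕ × List ℕ) := [
    (1424, [1, 6, 7, 9, 11, 12, 13, 14, 15, 16]),
    (1430, [1, 4, 11, 12, 13, 15, 16]),
    (1442, [9, 14, 16]),
    (1450, [1, 3, 7, 12, 14, 16]),
    (1517, [1, 3, 4, 6, 7, 8, 9, 16]),
    (1522, [3, 4, 8, 10, 11, 14]),
    (1527, [4, 6, 8, 9, 12, 15]),
    (1532, [1, 3, 8, 11, 14]),
    (1541, [1, 3, 8, 9, 11, 16]),
    (1542, [8, 9, 10, 13, 16]),
    (1569, [3, 4, 7, 9, 10, 11, 12, 13, 14, 15]),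
    (1585, [1, 3, 4, 6, 8, 10, 12, 14, 15, 16]),
    (1597, [1, 4, 7, 11, 12, 15, 16]),
    (1623, [1, 3, 4, 6, 9, 11, 12]),
    (1630, [1, 3, 4, 6, 8, 13, 14]),
    (1648, [1, 6, 8, 9, 11]),
    (1651, [1, 3, 9, 10, 11, 13, 14, 16]),
    (1661, [1, 4, 7, 10, 11, 13]),
    (1662, [1, 4, 7, 12, 13, 14, 16]),
    (1663, [8, 10, 13, 14]),
    (1665, [8, 9, 10, 11, 14, 15, 16]),
    (1666, [8, 11, 12, 13, 16]),
    (1677, [4, 6]),
    (1692, [1, 6, 7, 10, 13, 14, 15, 16]),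
    (1704, [1, 6, 7, 8, 9, 10, 12, 13, 14, 16]),
    (1705, [1, 3, 7, 9, 12]),
    (1717, [1, 3, 8, 9, 10, 12, 14]),
    (1742, [1, 4, 8, 11, 13, 14]),
    (1747, [1, 6, 7, 8, 9, 10, 11, 12, 15, 16]),
    (1751, [4, 6, 7, 10, 11, 12, 13, 14, 16]),
    (1768, [8, 10, 11, 15]),
    (1802, [1, 3, 4, 6, 7, 8, 14]),
    (1813, [7, 11, 14, 15]),
    (1825, [3, 6, 8, 10, 14]),
    (1860, [1, 3, 9, 10, 15, 16]),
    (1877, [3, 4, 7, 8, 10, 11, 13, 14]),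
    (1888, [1, 3, 4, 6, 9, 10, 14, 16]),
    (1909, [1, 3, 7, 9, 11, 12, 13, 14, 15]),
    (1920, [1, 4, 7, 8, 11, 14]),
    (1926, [1, 4, 7, 9, 11, 12, 14, 15]),
    (1949, [1, 6, 8, 10, 12]),
    (1951, [1, 3, 4, 6, 8, 9, 10, 12, 15]),
    (1965, [3, 4, 8, 9, 10, 11, 16]),
    (1984, [4, 6, 7, 8, 10, 11, 13, 15]),
    (2008, [3, 6, 7, 8, 10, 11, 15]),
    (2021, [1, 4, 7, 8, 9, 10, 12, 14]),
    (2030, [1, 4, 10, 11]),
    (2031, [1, 4, 12, 14, 16])]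

/-- A part of the orbits. -/
def orb1_3 : List (ℕ × List ℕ) := [
    (2052, [1, 3, 4, 6, 7, 9, 11, 12, 13]),
    (2058, [4, 6, 7, 8, 9, 12, 13, 15]),
    (2065, [1, 3, 8, 10, 11, 12, 13, 14, 15, 16]),
    (2070, [1, 6, 7, 9, 12, 16]),
    (2098, [4, 6, 7, 13]),
    (2135, [1, 6, 7, 10, 11, 16]),
    (2137, [1, 3, 7, 11, 12, 13, 15, 16]),
    (2165, [1, 3, 7, 10, 11]),
    (2168, [1, 3, 7, 8, 9, 11, 13, 16]),
    (2173, [4, 6, 8, 10, 13, 14]),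
    (2189, [3, 4, 7, 8, 10, 15]),
    (2191, [3, 6, 9, 10, 12, 14, 15]),
    (2197, [1, 6, 9, 10, 15]),
    (2202, [4, 6, 10, 12, 13, 15, 16]),
    (2204, [1, 3, 7, 8, 10, 11, 12, 14, 15, 16]),
    (2205, [7, 8, 9, 12, 13, 15]),
    (2254, [4, 6, 8, 9, 11, 12, 13, 14]),
    (2263, [1, 6, 11, 12, 15]),
    (2296, [1, 3, 7, 8, 9, 10, 11, 12, 15]),
    (2299, [1, 3, 7, 8, 15]),
    (2320, [3, 6, 11, 14, 15]),
    (2326, [1, 6, 9, 10, 11, 13, 14]),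
    (2335, [4, 6, 7, 9, 11, 15, 16]),
    (2339, [1, 6, 10, 14, 15, 16]),
    (2350, [1, 4, 7, 8, 9, 10, 11, 12, 13, 15]),
    (2367, [1, 6, 7, 8, 9, 14, 15]),
    (2390, [1, 4, 9, 11, 12, 13, 14, 15]),
    (2398, [3, 4, 10, 12, 13, 14, 16]),
    (2400, [3, 4, 9, 15, 16]),
    (2412, [1, 4, 8, 9, 14, 15, 16]),
    (2425, [1, 4, 10, 13, 14, 15]),
    (2434, [3, 6, 7, 8, 12, 14, 15, 16]),
    (2438, [1, 3, 4, 6, 7, 8, 9, 10, 12, 13, 15]),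
    (2460, [3, 4, 8, 12, 16]),
    (2462, [3, 4, 14, 15]),
    (2477, [4, 6, 7, 9, 10, 12, 14, 15]),
    (2496, [7, 9, 10, 11, 12, 13]),
    (2514, [1, 4, 8, 9, 10, 12, 13, 14]),
    (2517, [3, 4, 7, 11]),
    (2519, [1, 4, 8, 15]),
    (2534, [3, 6, 7]),
    (2567, [1, 6, 7, 8, 9, 11, 13]),
    (2580, [1, 3, 8, 9, 13, 14, 15, 16]),
    (2594, [4, 6, 11, 13, 14, 15]),
    (2605, [3, 6, 8, 12, 13, 14, 15, 16]),
    (2612, [3, 6, 8, 11, 12, 16]),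
    (2634, [4, 6, 8, 9, 10, 13, 16]),
    (2651, [7, 13])]

/-- A part of the orbits. -/
def orb1_4 : List (ℕ × List ℕ) := [
    (2674, [1, 3, 8, 13, 15]),
    (2679, [1, 3, 4, 6, 8, 10, 11, 12, 13, 16]),
    (2689, [1, 4, 7, 10, 14, 15]),
    (2696, [4, 6, 7, 8, 9, 10, 11, 13, 14, 15, 16]),
    (2698, [3, 6, 7, 9, 10, 11, 12]),
    (2700, [1, 3, 7, 9, 10, 13, 15, 16]),
    (2705, [1, 3, 7, 8, 10, 12, 13, 16]),
    (2736, [3, 6, 7, 8, 9, 11, 12, 13, 14]),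
    (2737, [1, 4, 7, 8, 9, 13, 14, 15, 16]),
    (2746, [1, 3, 4, 6, 7, 9, 10, 11, 15, 16]),
    (2754, [4, 6, 7, 8, 9, 10, 16]),
    (2764, [1, 4, 7, 8, 10, 11, 12, 13, 14, 15, 16]),
    (2770, [1, 3, 4, 6, 9, 10, 11, 13, 15, 16]),
    (2778, [1, 3, 4, 6, 11, 12, 14, 16]),
    (2805, [3, 6, 7, 11, 13, 14, 15]),
    (2806, [7, 8, 10, 11, 13, 15]),
    (2820, [1, 4, 7, 8, 9, 11, 16]),
    (2842, [4, 6, 9, 14, 16]),
    (2849, [1, 4, 8, 9, 10, 11, 12, 15]),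
    (2851, [3, 4, 7, 8, 9, 10, 11, 13, 16]),
    (2886, [3, 6, 13]),
    (2897, [3, 6, 7, 8, 11, 12, 13, 16]),
    (2900, [3, 4, 11, 13]),
    (2903, [1, 4, 9, 10, 13, 15, 16]),
    (2924, [4, 6, 7, 8, 12, 13, 14, 15, 16]),
    (2927, [1, 6, 7, 8, 11, 13, 14, 16]),
    (2930, [1, 6, 7, 8, 15, 16]),
    (2938, [1, 3, 4, 6, 7, 8, 10, 11, 12, 16]),
    (2957, [1, 3, 12, 13, 14, 16]),
    (3002, [4, 6, 9, 10, 12, 13, 14, 15]),
    (3008, [1, 3, 4, 6, 7, 10, 13]),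
    (3035, [1, 4, 8, 10, 11, 12, 14, 15, 16]),
    (3062, [1, 3, 4, 6, 7, 11, 12, 13, 14, 16]),
    (3077, [3, 6, 8, 9, 10, 16]),
    (3084, [4, 6, 10, 11, 12, 14, 16]),
    (3105, [1, 4, 7, 8, 13, 15]),
    (3113, [4, 6, 9, 10, 11, 12]),
    (3122, [4, 6, 8, 9, 10, 11, 14, 15, 16]),
    (3144, [1, 3, 4, 6, 10]),
    (3174, [3, 4, 7, 8, 9, 10, 14, 15, 16]),
    (3175, [3, 6, 7, 9, 11, 13, 15, 16]),
    (3176, [7, 9, 10, 12, 14, 15]),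
    (3181, [1, 4, 7, 9, 10, 15, 16]),
    (3196, [4, 6, 9, 11, 13, 15, 16]),
    (3203, [4, 6, 8, 11, 12, 13, 16]),
    (3234, [1, 6, 10, 11, 13, 16]),
    (3258, [4, 6, 7, 8, 11, 12, 16]),
    (3275, [4, 6, 7, 9, 10, 11, 12, 13])]

/-- A part of the orbits. -/
def orb1_5 : List (ℕ × List ℕ) := [
    (3277, [3, 4, 9, 11, 13, 14, 16]),
    (3294, [3, 6, 8, 9, 12, 13, 15]),
    (3313, [3, 6, 10, 12, 15, 16]),
    (3319, [4, 6, 8, 12, 14, 15, 16]),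
    (3330, [4, 6, 7, 9, 13, 14, 16]),
    (3354, [1, 3, 4, 6, 9, 12, 13, 14, 15]),
    (3374, [1, 4, 9, 12]),
    (3380, [1, 4, 8, 9, 11, 13, 16]),
    (3429, [3, 6, 7, 10, 11, 12, 14, 16]),
    (3449, [3, 6, 7, 8, 9, 10, 11, 14, 15, 16]),
    (3458, [1, 4, 7, 9, 12, 13]),
    (3463, [4, 6, 7, 10, 12, 15, 16]),
    (3470, [1, 3, 4, 6, 7, 8, 9, 11, 13, 14, 15, 16]),
    (3474, [1, 3, 4, 6, 7, 9, 12, 14, 15]),
    (3477, [1, 3, 4, 6, 8, 9, 11, 14, 15, 16]),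
    (3481, [3, 6, 9, 13, 14, 16])]

end CfsgLib.Spor.Fi22Mult.P2
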