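import Cfsg.Agent.Lib.Spor.SchurCert.ActBridge
import Cfsg.Agent.Lib.Spor.Fi22.ActH.Data
import Cfsg.Agent.Lib.Spor.Fi22Mult.ChainData
import Cfsg.Agent.Lib.Spor.SchurCert.LinPacked
import Cfsg.Agent.Lib.Spor.SchurCert.StrictSplit
import Cfsg.Agent.Lib.Spor.SchurCert.LinSplit
import Cfsg.Agent.Lib.Spor.Fi22Mult.P2DataA
import Cfsg.Agent.Lib.Spor.Fi22Mult.P2DataB
import Cfsg.Agent.Lib.Spor.Fi22Mult.P2DataC
import Cfsg.Agent.Lib.Spor.Fi22Mult.P2DataD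
import Cfsg.Agent.Lib.Spor.Fi22Mult.P2DataE
import Cfsg.Agent.Lib.Spor.Fi22Mult.P2DataF

/-!
A part of the certificate at the prime 2.
-/

set_option autoImplicit false
set_option maxRecDepth 100000
set_option maxHeartbeats 0
set_option Elab.async false

namespace CfsgLib.Spor.Fi22Mult.P2

open CfsgLib.Spor.TC CfsgLib.Spor.ActCert CfsgLib.Spor.SchurCert

/-- The certificate. -/
def cert : SchurCert.Cert where
  p := 2
  m := 17
  N := 4
  rules := rules0 ++ rules1 ++ rules2 ++ rules3 ++ rules4 ++ rules5 ++ rules6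
  maps := maps0
  overlaps := overlaps0 ++ overlaps1 ++ overlaps2 ++ overlaps3 ++ overlaps4 ++ overlaps5
  fuses := fuses0 ++ fuses1
  adj := adj0
  base := [
    ([(123, 1)], 2, [(0, 2), (2, 2), (3, 2), (7, 2), (9, 2), (11, 2), (13, 2), (14, 2), (15, 2), (16, 2), (17, 2), (18, 2), (22, 2), (24, 2), (25, 2), (26, 2), (27, 2), (28, 2), (29, 2), (30, 2), (31, 2), (33, 2), (34, 2), (35, 3), (37, 1), (39, 2), (41, 2), (42, 2), (44, 2), (45, 2), (46, 2), (47, 2), (49, 2), (51, 2), (52, 2), (53, 2), (58, 2), (60, 2), (61, 2), (62, 2), (63, 2), (65, 2), (66, 2), (67, 2), (72, 2), (73, 2), (76, 2), (81, 2), (82, 2), (83, 2), (84, 2), (85, 2), (88, 2), (92, 2), (94, 2), (96, 2), (97, 2), (98, 2), (99, 2), (100, 2), (101, 2), (103, 2), (106, 2), (107, 2), (109, 2), (111, 2), (112, 2), (113, 2), (114, 2), (115, 2), (116, 2), (117, 2), (120, 2), (124, 2), (126, 2), (128, 2)])]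
  dense := dense0 ++ dense1 ++ dense2 ++ dense3 ++ dense4 ++ dense5 ++ dense6 ++ dense7
  tgt := tgt0 ++ tgt1 ++ tgt2 ++ tgt3 ++ tgt4 ++ tgt5 ++ tgt6

/-- Orbits inside the subgroup. -/
def orbits : List (ℕ × List (ℕ × List ℕ)) := [(0, orb0_0 ++ orb0_1 ++ orb0_2 ++ orb0_3 ++ orb0_4 ++ orb0_5 ++ orb0_6 ++ orb0_7 ++ orb0_8 ++ orb0_9 ++ orb0_10), (1, orb1_0 ++ orb1_1 ++ orb1_2 ++ orb1_3 ++ orb1_4 ++ orb1_5)]

end CfsgLib.Spor.Fi22Mult.P2
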