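import Cfsg.Agent.Lib.Spor.Fi22Mult.P2Cert

/-!
A part of the certificate at the prime 2.
-/

set_option autoImplicit false
set_option maxRecDepth 100000
set_option maxHeartbeats 0
set_option Elab.async false

namespace CfsgLib.Spor.Fi22Mult.P2

open CfsgLib.Spor.TC CfsgLib.Spor.ActCert CfsgLib.Spor.SchurCert

theorem rules_ok0 : rulesS CfsgLib.Spor.Fi22.ActH.act cert sw CfsgLib.Spor.Fi22Mult.levs 0 20 = true := by decide +kernel

theorem rules_ok1 : rulesS CfsgLib.Spor.Fi22.ActH.act cert sw CfsgLib.Spor.Fi22Mult.levs 20 20 = true := by decide +kernel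

theorem rules_ok2 : rulesS CfsgLib.Spor.Fi22.ActH.act cert sw CfsgLib.Spor.Fi22Mult.levs 40 20 = true := by decide +kernel

theorem rules_ok3 : rulesS CfsgLib.Spor.Fi22.ActH.act cert sw CfsgLib.Spor.Fi22Mult.levs 60 20 = true := by decide +kernel

theorem rules_ok4 : rulesS CfsgLib.Spor.Fi22.ActH.act cert sw CfsgLib.Spor.Fi22Mult.levs 80 20 = true := by decide +kernel

theorem rules_ok5 : rulesS CfsgLib.Spor.Fi22.ActH.act cert sw CfsgLib.Spor.Fi22Mult.levs 100 20 = true := by decide +kernel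

theorem rules_ok6 : rulesS CfsgLib.Spor.Fi22.ActH.act cert sw CfsgLib.Spor.Fi22Mult.levs 120 20 = true := by decide +kernel

theorem rules_ok7 : rulesS CfsgLib.Spor.Fi22.ActH.act cert sw CfsgLib.Spor.Fi22Mult.levs 140 20 = true := by decide +kernel

theorem maps_ok : ∀ f < cert.maps.length, mapS CfsgLib.Spor.Fi22.ActH.act cert sw gw CfsgLib.Spor.Fi22Mult.levs f = true := by decide +kernel

end CfsgLib.Spor.Fi22Mult.P2
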