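import Cfsg.Agent.Lib.Spor.Fi22Mult.ThreeData

/-!
The test of the labels on a range of points.
-/

set_option autoImplicit false
set_option maxRecDepth 100000
set_option maxHeartbeats 0
set_option Elab.async false

namespace CfsgLib.Spor.Fi22Mult.Three

open CfsgLib.Spor.TC CfsgLib.Spor.MonoCover

theorem range0 : dat.RangeOK 0 858 := Dat.RangeOK.of_test _ (by decide +kernel)

theorem range858 : dat.RangeOK 858 1716 := Dat.RangeOK.of_test _ (by decide +kernel)

theorem range1716 : dat.RangeOK 1716 2574 := Dat.RangeOK.of_test _ (by decide +kernel)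

theorem range2574 : dat.RangeOK 2574 3432 := Dat.RangeOK.of_test _ (by decide +kernel)

theorem range3432 : dat.RangeOK 3432 4290 := Dat.RangeOK.of_test _ (by decide +kernel)

theorem range4290 : dat.RangeOK 4290 5148 := Dat.RangeOK.of_test _ (by decide +kernel)

theorem range5148 : dat.RangeOK 5148 6006 := Dat.RangeOK.of_test _ (by decide +kernel)

theorem range6006 : dat.RangeOK 6006 6864 := Dat.RangeOK.of_test _ (by decide +kernel)

theorem range6864 : dat.RangeOK 6864 7722 := Dat.RangeOK.of_test _ (by decide +kernel)

theorem file0 : dat.RangeOK 0 7722 :=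
  (Dat.RangeOK.append _ (Dat.RangeOK.append _ (Dat.RangeOK.append _ (Dat.RangeOK.append _ (Dat.RangeOK.append _ (Dat.RangeOK.append _ (Dat.RangeOK.append _ (Dat.RangeOK.append _ range0 range858) range1716) range2574) range3432) range4290) range5148) range6006) range6864)

end CfsgLib.Spor.Fi22Mult.Three
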