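import Cfsg.Agent.Lib.Spor.Fi22Mult.TwoRange0
import Cfsg.Agent.Lib.Spor.MonoCover.Group

/-!
The tables pass the tests.
-/

set_option autoImplicit false
set_option maxRecDepth 100000
set_option maxHeartbeats 0
set_option Elab.async false

namespace CfsgLib.Spor.Fi22Mult.Two

open CfsgLib.Spor.TC CfsgLib.Spor.MonoCover

theorem checked : dat.Checked :=
  ⟨file0, by decide +kernel⟩

end CfsgLib.Spor.Fi22Mult.Two
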