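import Cfsg.Agent.Lib.Spor.Fi22Mult.TwoData

/-!
The test of the labels on a range of points.
-/

set_option autoImplicit false
set_option maxRecDepth 100000
set_option maxHeartbeats 0
set_option Elab.async false

namespace CfsgLib.Spor.Fi22Mult.Two

open CfsgLib.Spor.TC CfsgLib.Spor.MonoCover

theorem range0 : dat.RangeOK 0 1760 := Dat.RangeOK.of_test _ (by decide +kernel)

theorem range1760 : dat.RangeOK 1760 3520 := Dat.RangeOK.of_test _ (by decide +kernel)

theorem range3520 : dat.RangeOK 3520 5280 := Dat.RangeOK.of_test _ (by decide +kernel)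

theorem range5280 : dat.RangeOK 5280 7040 := Dat.RangeOK.of_test _ (by decide +kernel)

theorem range7040 : dat.RangeOK 7040 8800 := Dat.RangeOK.of_test _ (by decide +kernel)

theorem range8800 : dat.RangeOK 8800 10560 := Dat.RangeOK.of_test _ (by decide +kernel)

theorem range10560 : dat.RangeOK 10560 12320 := Dat.RangeOK.of_test _ (by decide +kernel)

theorem range12320 : dat.RangeOK 12320 14080 := Dat.RangeOK.of_test _ (by decide +kernel)

theorem file0 : dat.RangeOK 0 14080 :=
  (Dat.RangeOK.append _ (Dat.RangeOK.append _ (Dat.RangeOK.append _ (Dat.RangeOK.append _ (Dat.RangeOK.append _ (Dat.RangeOK.append _ (Dat.RangeOK.append _ range0 range1760) range3520) range5280) range7040) range8800) range10560) range12320)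

end CfsgLib.Spor.Fi22Mult.Two
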